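import Mathlib
import Cfsg.Prelude.Def_Perm
import Cfsg.Agent.S0673

set_option autoImplicit false

namespace Cfsg.Agent.Helper12

namespace PrimeDeg

open Equiv
open scoped commutatorElement

section label

variable {α : Type*} [Fintype α] [DecidableEq α] {p : ℕ} [hp : Fact p.Prime]

/-- A permutation of order `p` on `p` points admits a labelling of the points by `ZMod p` turning
it into the translation `j ↦ j + 1`. -/
theorem exists_labelling (hα : Fintype.card α = p) (σ : Equiv.Perm α) (hσ : orderOf σ = p) :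
    ∃ e : ZMod p ≃ α, ∀ j, e (j + 1) = σ (e j) := by
  have hpp : p.Prime := hp.out
  haveI : NeZero p := ⟨hpp.ne_zero⟩
  have hcyc : σ.IsCycle := Equiv.Perm.isCycle_of_prime_order'' (hα ▸ hpp) (hσ.trans hα.symm)
  have hsupp : σ.support = Finset.univ := by
    apply Finset.eq_univ_of_card
    rw [← hcyc.orderOf, hσ, hα]
  have hmoved : ∀ x, σ x ≠ x := by
    intro x
    have : x ∈ σ.support := by rw [hsupp]; exact Finset.mem_univ x
    exact Equiv.Perm.mem_support.mp this
  have hne : Nonempty α := by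
    rw [← Fintype.card_pos_iff, hα]
    exact hpp.pos
  obtain ⟨a⟩ := hne
  have hpow : σ ^ p = 1 := by rw [← hσ]; exact pow_orderOf_eq_one σ
  let f : ZMod p → α := fun j => (σ ^ j.val) a
  have hf_succ : ∀ j, f (j + 1) = σ (f j) := by
    intro j
    show (σ ^ (j + 1).val) a = σ ((σ ^ j.val) a)
    have h1 : σ ^ (j + 1).val = σ ^ (j.val + 1) := by
      rw [pow_eq_pow_iff_modEq, hσ, ZMod.val_add]
      have : (1 : ZMod p).val = 1 % p := by
        rw [ZMod.val_one_eq_one_mod]
      rw [this]
      exact (Nat.mod_modEq _ _).trans (Nat.ModEq.add_left _ (Nat.mod_modEq _ _))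
    rw [h1, pow_succ']
    rfl
  have hsurj : Function.Surjective f := by
    intro y
    obtain ⟨i, hi⟩ := hcyc.exists_pow_eq (hmoved a) (hmoved y)
    refine ⟨(i : ZMod p), ?_⟩
    show (σ ^ ((i : ZMod p)).val) a = y
    rw [← hi]
    congr 1
    rw [pow_eq_pow_iff_modEq, hσ, ZMod.val_natCast]
    exact Nat.mod_modEq _ _
  have hbij : Function.Bijective f := by
    rw [Fintype.bijective_iff_surjective_and_card]
    exact ⟨hsurj, by rw [ZMod.card, hα]⟩
  exact ⟨Equiv.ofBijective f hbij, hf_succ⟩

end label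

section affine

variable {α : Type*} {p : ℕ}

/-- the action of a permutation on labels -/
def lab (e : ZMod p ≃ α) (g : Equiv.Perm α) (j : ZMod p) : ZMod p := e.symm (g (e j))

theorem lab_mul (e : ZMod p ≃ α) (g h : Equiv.Perm α) (j : ZMod p) :
    lab e (g * h) j = lab e g (lab e h j) := by
  simp [lab]

theorem lab_one (e : ZMod p ≃ α) (j : ZMod p) : lab e 1 j = j := by
  simp [lab]

theorem e_lab (e : ZMod p ≃ α) (g : Equiv.Perm α) (j : ZMod p) : e (lab e g j) = g (e j) := by
  simp [lab]

theorem lab_injective (e : ZMod p ≃ α) (g : Equiv.Perm α) : Function.Injective (lab e g) := by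
  intro x y h
  have := congrArg e h
  rw [e_lab, e_lab] at this
  exact e.injective (g.injective this)

theorem lab_surjective (e : ZMod p ≃ α) (g : Equiv.Perm α) : Function.Surjective (lab e g) := by
  intro y
  refine ⟨lab e g⁻¹ y, ?_⟩
  rw [← lab_mul, mul_inv_cancel, lab_one]

/-- A permutation group all of whose elements act on the labels by affine maps is solvable. -/
theorem solvable_of_affine (e : ZMod p ≃ α) (G : Subgroup (Equiv.Perm α))
    (haff : ∀ g ∈ G, ∃ a b : ZMod p, ∀ j, lab e g j = a * j + b) : Group.IsSolvable G := by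
  let T : Subgroup G :=
    { carrier := {g | ∃ b : ZMod p, ∀ j, lab e g.1 j = j + b}
      one_mem' := ⟨0, fun j => by rw [Subgroup.coe_one, lab_one, add_zero]⟩
      mul_mem' := by
        rintro g h ⟨b, hb⟩ ⟨c, hc⟩
        refine ⟨c + b, fun j => ?_⟩
        rw [Subgroup.coe_mul, lab_mul, hc, hb]
        ring
      inv_mem' := by
        rintro g ⟨b, hb⟩
        refine ⟨-b, fun j => ?_⟩
        apply lab_injective e g.1
        rw [Subgroup.coe_inv, ← lab_mul, mul_inv_cancel, lab_one, hb]
        ring }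
  have hcomm : ∀ g h : G, ⁅g, h⁆ ∈ T := by
    intro g h
    obtain ⟨a, b, hg⟩ := haff g.1 g.2
    obtain ⟨a', b', hh⟩ := haff h.1 h.2
    refine ⟨(a * b' + b) - (a' * b + b'), fun k => ?_⟩
    obtain ⟨j, rfl⟩ := lab_surjective e (h * g).1 k
    have h1 : ⁅g, h⁆ * (h * g) = g * h := by
      rw [commutatorElement_def]
      group
    have h2 : lab e (⁅g, h⁆).1 (lab e (h * g).1 j) = lab e (g * h).1 j := by
      rw [← lab_mul, ← Subgroup.coe_mul, h1]
    rw [h2, Subgroup.coe_mul, Subgroup.coe_mul, lab_mul, lab_mul, hg, hh, hg, hh]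
    ring
  have hTcomm : ∀ s ∈ T, ∀ t ∈ T, s * t = t * s := by
    rintro s ⟨b, hb⟩ t ⟨c, hc⟩
    apply Subtype.ext
    apply Equiv.ext
    intro x
    obtain ⟨j, rfl⟩ := e.surjective x
    rw [Subgroup.coe_mul, Subgroup.coe_mul, ← e_lab, ← e_lab, lab_mul, lab_mul, hb, hc, hb, hc]
    ring_nf
  rw [Group.isSolvable_def]
  refine ⟨2, ?_⟩
  have h1 : derivedSeries G 1 ≤ T := by
    rw [derivedSeries_one, commutator_def, Subgroup.commutator_le]
    intro g _ h _
    exact hcomm g h
  rw [derivedSeries_succ, eq_bot_iff]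
  refine le_trans (Subgroup.commutator_mono h1 h1) ?_
  rw [Subgroup.commutator_le]
  intro s hs t ht
  rw [Subgroup.mem_bot, commutatorElement_eq_one_iff_mul_comm]
  exact hTcomm s hs t ht

end affine

section main

open Polynomial

variable {α : Type*} [Fintype α] [DecidableEq α] {p : ℕ} [hp : Fact p.Prime]
  {K : Type*} [Field K] [CharP K p]

/-- **Key lemma** (after P. Müller). Let `G` be a permutation group on `p` points labelled by
`ZMod p` so that `σ ∈ G` is the translation. If a subspace `U` of the functions, of dimension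
between `2` and `(p+1)/2`, is invariant under composition with the elements of `G`, then every
element of `G` acts on the labels as an affine map. -/
theorem affine_of_invariant (e : ZMod p ≃ α) (σ : Equiv.Perm α) (he : ∀ j, e (j + 1) = σ (e j))
    (G : Subgroup (Equiv.Perm α)) (hσ : σ ∈ G)
    (U : Submodule K (α → K)) (hU : ∀ g ∈ G, ∀ f ∈ U, (fun x => f (g x)) ∈ U)
    (h2 : 2 ≤ Module.finrank K U) (hsmall : 2 * Module.finrank K U ≤ p + 1) :
    ∀ g ∈ G, ∃ a b : ZMod p, ∀ j, lab e g j = a * j + b := by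
  have hpp : p.Prime := hp.out
  -- transport
  let Φ : (α → K) ≃ₗ[K] (ZMod p → K) := LinearEquiv.funCongrLeft K K e
  have hΦ : ∀ f : α → K, ∀ j, Φ f j = f (e j) := fun f j => rfl
  let U' : Submodule K (ZMod p → K) := U.map Φ.toLinearMap
  have hmem : ∀ f ∈ U, (fun j => f (e j)) ∈ U' := by
    intro f hf
    exact ⟨f, hf, rfl⟩
  have hmem' : ∀ f' ∈ U', ∃ f ∈ U, ∀ j, f' j = f (e j) := by
    rintro f' ⟨f, hf, rfl⟩
    exact ⟨f, hf, fun j => rfl⟩
  -- translation invariance
  have hinv : ∀ f' ∈ U', (fun j => f' (j - 1)) ∈ U' := by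
    intro f' hf'
    obtain ⟨f, hf, hff⟩ := hmem' f' hf'
    have h1 := hmem _ (hU σ⁻¹ (G.inv_mem hσ) f hf)
    convert h1 using 1
    funext j
    rw [hff]
    congr 1
    have := he (j - 1)
    rw [sub_add_cancel] at this
    rw [this]
    simp
  obtain ⟨r, hrp, hfin, hchar⟩ := Cfsg.Agent.S0673.result U' hinv
  have hfinU : Module.finrank K U' = Module.finrank K U := LinearEquiv.finrank_map_eq Φ U
  rw [hfinU] at hfin
  rw [hfin] at h2 hsmall
  -- composition invariance
  have hcomp : ∀ g ∈ G, ∀ f' ∈ U', (fun j => f' (lab e g j)) ∈ U' := by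
    intro g hg f' hf'
    obtain ⟨f, hf, hff⟩ := hmem' f' hf'
    have h1 := hmem _ (hU g hg f hf)
    convert h1 using 1
    funext j
    rw [hff, e_lab]
  -- powers of the coordinate function
  have hpowmem : ∀ i : ℕ, i < r → (fun j : ZMod p => (ZMod.cast j : K) ^ i) ∈ U' := by
    intro i hi
    rw [hchar]
    refine ⟨X ^ i, ?_, fun j => by simp⟩
    rw [degree_X_pow]
    exact_mod_cast hi
  intro g hg
  -- the coordinate function composed with g
  have h1 := hcomp g hg _ (hpowmem 1 (by omega))
  rw [hchar] at h1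
  obtain ⟨Q, hQdeg, hQ⟩ := h1
  simp only [pow_one] at hQ
  have hQne : Q ≠ 0 := by
    intro h0
    have ha := hQ 0
    have hb := hQ 1
    rw [h0, eval_zero] at ha hb
    have : lab e g 0 = lab e g 1 := by
      apply Cfsg.Agent.S0673.cast_injective (p := p) (K := K)
      show (ZMod.cast (lab e g 0) : K) = ZMod.cast (lab e g 1)
      rw [ha, hb]
    have h01 := lab_injective e g this
    haveI : Fact (1 < p) := ⟨hpp.one_lt⟩
    exact zero_ne_one h01
  have hQnat : Q.natDegree < r := (natDegree_lt_iff_degree_lt hQne).mpr hQdeg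
  have hd1 : Q.natDegree ≤ 1 := by
    by_contra hcon
    push Not at hcon
    set d := Q.natDegree with hd
    set ρ := r - 1 with hρ
    have hdρ : d ≤ ρ := by omega
    set i := ρ / d + 1 with hi
    have hi1 : i ≤ ρ := by
      have : ρ / d ≤ ρ / 2 := Nat.div_le_div_left hcon (by norm_num)
      omega
    have hi2 : ρ < i * d := by
      rw [hi, mul_comm]
      exact Nat.lt_mul_div_succ ρ (by omega)
    have hi3 : i * d ≤ ρ + d := by
      rw [hi, add_mul, one_mul]
      exact Nat.add_le_add_right (Nat.div_mul_le_self ρ d) d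
    have h2' := hcomp g hg _ (hpowmem i (by omega))
    rw [hchar] at h2'
    obtain ⟨R, hRdeg, hR⟩ := h2'
    have hev : Cfsg.Agent.S0673.ev p K (Q ^ i - R) = 0 := by
      funext j
      rw [Cfsg.Agent.S0673.ev_apply, eval_sub, eval_pow, ← hQ j, ← hR j, sub_self]
      rfl
    have hQi : (Q ^ i).natDegree = i * d := by rw [natDegree_pow]
    have hdegQi : (Q ^ i).degree < p := by
      rw [degree_eq_natDegree (pow_ne_zero i hQne), hQi]
      exact_mod_cast (by omega : i * d < p)
    have hdegR : R.degree < p := lt_of_lt_of_le hRdeg (by exact_mod_cast hrp)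
    have hzero := Cfsg.Agent.S0673.eq_zero_of_ev_eq_zero (p := p) (K := K) (Q ^ i - R)
      (lt_of_le_of_lt (degree_sub_le _ _) (max_lt hdegQi hdegR)) hev
    have hEq : Q ^ i = R := sub_eq_zero.mp hzero
    have : (Q ^ i).degree < r := hEq ▸ hRdeg
    rw [degree_eq_natDegree (pow_ne_zero i hQne), hQi] at this
    have : i * d < r := by exact_mod_cast this
    omega
  -- Q is affine
  obtain ⟨c1, c0, hQform⟩ := exists_eq_X_add_C_of_natDegree_le_one hd1
  have hval : ∀ j, (ZMod.cast (lab e g j) : K) = c1 * ZMod.cast j + c0 := by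
    intro j
    rw [hQ j, hQform]
    simp
  refine ⟨lab e g 1 - lab e g 0, lab e g 0, fun j => ?_⟩
  apply Cfsg.Agent.S0673.cast_injective (p := p) (K := K)
  show (ZMod.cast (lab e g j) : K) = ZMod.cast ((lab e g 1 - lab e g 0) * j + lab e g 0)
  rw [ZMod.cast_add', ZMod.cast_mul', ZMod.cast_sub', hval j, hval 1, hval 0, ZMod.cast_one',
    ZMod.cast_zero]
  ring

end main

end PrimeDeg

end Cfsg.Agent.Helper12
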