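import Mathlib
import Cfsg.Agent.Helper12.PrimeDegree

set_option autoImplicit false

namespace Cfsg.Agent.Helper12

namespace IndexP

open Equiv PrimeDeg

section parity

variable {p : ℕ} [hp : Fact p.Prime]

/-- A symmetric "difference set" in `ZMod p`: all points away from the centre of symmetry
behave alike. -/
theorem diffset_parity (hp2 : p ≠ 2) (D : Finset (ZMod p)) (c : ZMod p)
    (hsym : ∀ d, d ∈ D ↔ c - d ∈ D) (lam : ℕ)
    (hN : ∀ t : ZMod p, t ≠ 0 → (D.filter (fun d => d + t ∈ D)).card = lam) :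
    ∀ u : ZMod p, 2 * u ≠ c → (u ∈ D ↔ Odd lam) := by
  have hpp : p.Prime := hp.out
  have h2 : (2 : ZMod p) ≠ 0 := by
    intro h
    have h2' : ((2 : ℕ) : ZMod p) = 0 := by exact_mod_cast h
    rw [ZMod.natCast_eq_zero_iff] at h2'
    have := (Nat.prime_dvd_prime_iff_eq hpp Nat.prime_two).mp h2'
    exact hp2 this
  intro u hu
  set s := 2 * u with hs
  set A := D.filter (fun d => s - d ∈ D) with hA
  have hAcard : A.card = lam := by
    rw [← hN (c - s) (sub_ne_zero.mpr (Ne.symm hu))]
    congr 1
    apply Finset.filter_congr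
    intro d _
    rw [hsym (s - d)]
    have : c - (s - d) = d + (c - s) := by ring
    rw [this]
  have heven : Even (A.erase u).card := by
    have h0 : ((A.erase u).card : ZMod 2) = 0 := by
      rw [Finset.card_eq_sum_ones, Nat.cast_sum]
      simp only [Nat.cast_one]
      refine Finset.sum_involution (fun d _ => s - d) ?_ ?_ ?_ ?_
      · intro d _
        decide
      · intro d hd _ heq
        have hdu : d ≠ u := (Finset.mem_erase.mp hd).1
        apply hdu
        have h3 : 2 * d = 2 * u := by
          rw [← hs, two_mul]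
          nth_rewrite 1 [← heq]
          ring
        exact mul_left_cancel₀ h2 h3
      · intro d hd
        have hdu : d ≠ u := (Finset.mem_erase.mp hd).1
        have hdA : d ∈ A := (Finset.mem_erase.mp hd).2
        rw [hA, Finset.mem_filter] at hdA
        rw [Finset.mem_erase, hA, Finset.mem_filter]
        refine ⟨?_, hdA.2, ?_⟩
        · intro heq
          apply hdu
          have : d = s - u := by rw [← heq]; ring
          rw [this, hs]
          ring
        · have : s - (s - d) = d := by ring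
          rw [this]
          exact hdA.1
      · intro d _
        ring
    exact ZMod.natCast_eq_zero_iff_even.mp h0
  constructor
  · intro huD
    have huA : u ∈ A := by
      rw [hA, Finset.mem_filter]
      refine ⟨huD, ?_⟩
      have : s - u = u := by rw [hs]; ring
      rw [this]
      exact huD
    rw [← hAcard, ← Finset.card_erase_add_one huA]
    exact heven.add_one
  · intro hodd
    by_contra huD
    have huA : u ∉ A := fun h => huD (Finset.mem_filter.mp h).1
    rw [Finset.erase_eq_of_notMem huA, hAcard] at heven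
    exact (Nat.not_even_iff_odd.mpr hodd) heven

end parity

section affine

variable {α : Type*} [Fintype α] [DecidableEq α] {p : ℕ} [hp : Fact p.Prime]

/-- A `p'`-group of affine maps has a fixed point (average the orbit of `0`). -/
theorem fixed_of_affine (e : ZMod p ≃ α) (G : Subgroup (Equiv.Perm α)) (H : Subgroup G)
    (hpH : ¬ p ∣ Nat.card H)
    (haff : ∀ g ∈ G, ∃ a b : ZMod p, ∀ j, lab e g j = a * j + b) :
    ∃ x : α, ∀ h : G, h ∈ H → h.1 x = x := by
  classical
  haveI : Fintype H := Fintype.ofFinite H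
  set n : ZMod p := (Fintype.card H : ZMod p) with hn
  have hn0 : n ≠ 0 := by
    rw [hn, Ne, ZMod.natCast_eq_zero_iff]
    rwa [← Nat.card_eq_fintype_card]
  set j0 : ZMod p := n⁻¹ * ∑ h : H, lab e h.1.1 0 with hj0
  refine ⟨e j0, fun h hh => ?_⟩
  obtain ⟨a, b, hab⟩ := haff h.1 h.2
  have hfix : lab e h.1 j0 = j0 := by
    have h1 : ∑ k : H, lab e k.1.1 0 = ∑ k : H, lab e ((⟨h, hh⟩ : H) * k).1.1 0 :=
      (Equiv.sum_comp (Equiv.mulLeft (⟨h, hh⟩ : H)) (fun k : H => lab e k.1.1 0)).symm
    have h2 : ∀ k : H, lab e ((⟨h, hh⟩ : H) * k).1.1 0 = a * lab e k.1.1 0 + b := by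
      intro k
      rw [Subgroup.coe_mul, Subgroup.coe_mul, lab_mul, hab]
    rw [hab]
    nth_rewrite 2 [hj0]
    rw [h1]
    simp only [h2]
    rw [Finset.sum_add_distrib, ← Finset.mul_sum, Finset.sum_const, Finset.card_univ,
      nsmul_eq_mul, ← hn, mul_add, ← mul_assoc n⁻¹ n b, inv_mul_cancel₀ hn0, one_mul, hj0]
    ring
  rw [← e_lab, hfix]

theorem lab_pow_trans (e : ZMod p ≃ α) (g : Equiv.Perm α) (c : ZMod p)
    (hg : ∀ j, lab e g j = j + c) (n : ℕ) : ∀ j, lab e (g ^ n) j = j + n * c := by
  induction n with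
  | zero => intro j; rw [pow_zero, lab_one]; simp
  | succ n ih =>
    intro j
    rw [pow_succ, lab_mul, hg, ih]
    push_cast
    ring

end affine

section twotrans

variable {α : Type*} [Fintype α] [DecidableEq α] {p : ℕ} [hp : Fact p.Prime]

/-- The doubly transitive case: a subgroup of index `p` and order prime to `p` containing an
involution which normalises a subgroup of order `p` fixes a point. -/
theorem two_trans_case (hα : Fintype.card α = p) (hp2 : p ≠ 2) (G : Subgroup (Equiv.Perm α))
    (h2t : MulAction.IsMultiplyPretransitive G α 2) (H : Subgroup G) (hH : H.index = p)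
    (hpH : ¬ p ∣ Nat.card H) (σ τ : G) (hσ : orderOf σ = p) (hτH : τ ∈ H) (hτ2 : τ * τ = 1)
    (hτ1 : τ ≠ 1) (k : ℕ) (hτσ : τ * σ * τ⁻¹ = σ ^ k) :
    ∃ x : α, ∀ h : G, h ∈ H → h.1 x = x := by
  classical
  have hpp : p.Prime := hp.out
  haveI : NeZero p := ⟨hpp.ne_zero⟩
  haveI : Fact (1 < p) := ⟨hpp.one_lt⟩
  have h2 : (2 : ZMod p) ≠ 0 := by
    intro h
    have h2' : ((2 : ℕ) : ZMod p) = 0 := by exact_mod_cast h
    rw [ZMod.natCast_eq_zero_iff] at h2'
    have := (Nat.prime_dvd_prime_iff_eq hpp Nat.prime_two).mp h2'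
    exact hp2 this
  haveI : Fintype G := Fintype.ofFinite G
  haveI : Fintype H := Fintype.ofFinite H
  have hσ' : orderOf σ.1 = p := by
    rw [← hσ]
    exact Subgroup.orderOf_coe σ
  obtain ⟨e, he⟩ := exists_labelling hα σ.1 hσ'
  have hσlab : ∀ j, lab e σ.1 j = j + 1 := by
    intro j
    show e.symm (σ.1 (e j)) = j + 1
    rw [← he j, Equiv.symm_apply_apply]
  -- the labels of τ
  have hτrec : ∀ j, lab e τ.1 (j + 1) = lab e τ.1 j + k := by
    intro j
    have h1 : τ * σ = σ ^ k * τ := by rw [← hτσ]; group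
    have h3 := congrArg (fun g : G => lab e g.1 j) h1
    simp only [Subgroup.coe_mul, Subgroup.coe_pow, lab_mul] at h3
    rw [hσlab, lab_pow_trans e σ.1 1 hσlab k, mul_one] at h3
    exact h3
  set c := lab e τ.1 0 with hc
  have hτform : ∀ j, lab e τ.1 j = (k : ZMod p) * j + c := by
    intro j
    have hnat : ∀ n : ℕ, lab e τ.1 (n : ZMod p) = (k : ZMod p) * n + c := by
      intro n
      induction n with
      | zero => simp [hc]
      | succ n ih => push_cast; rw [hτrec, ih]; ring
    have := hnat j.val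
    rwa [ZMod.natCast_zmod_val] at this
  have hτinv : ∀ j, lab e τ.1 (lab e τ.1 j) = j := by
    intro j
    rw [← lab_mul, ← Subgroup.coe_mul, hτ2, Subgroup.coe_one, lab_one]
  have hk : (k : ZMod p) = -1 := by
    have h0 := hτinv 0
    have h1 := hτinv 1
    rw [hτform 0, hτform] at h0
    rw [hτform 1, hτform] at h1
    have hk2 : ((k : ZMod p) - 1) * (k + 1) = 0 := by linear_combination h1 - h0
    rcases mul_eq_zero.mp hk2 with hk1 | hk1
    · exfalso
      have hk1' : (k : ZMod p) = 1 := sub_eq_zero.mp hk1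
      rw [hk1'] at h0
      have hc0 : c = 0 := by
        have : 2 * c = 0 := by linear_combination h0
        rcases mul_eq_zero.mp this with h | h
        · exact absurd h h2
        · exact h
      apply hτ1
      apply Subtype.ext
      apply Equiv.ext
      intro x
      obtain ⟨j, rfl⟩ := e.surjective x
      rw [← e_lab, hτform, hk1', hc0]
      simp
    · exact eq_neg_of_add_eq_zero_left hk1
  have hτlab : ∀ j, lab e τ.1 j = c - j := by
    intro j
    rw [hτform, hk]
    ring
  -- base point
  set m : ZMod p := c * 2⁻¹ with hm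
  have hm2 : 2 * m = c := by
    rw [hm, mul_comm c, ← mul_assoc, mul_inv_cancel₀ h2, one_mul]
  -- the labels of an orbit of H
  set D : Finset (ZMod p) :=
    Finset.univ.filter (fun j => ∃ h : G, h ∈ H ∧ lab e h.1 m = j) with hD
  have hmD : m ∈ D := by
    rw [hD, Finset.mem_filter]
    exact ⟨Finset.mem_univ _, 1, H.one_mem, by rw [Subgroup.coe_one, lab_one]⟩
  have hDinv : ∀ h : G, h ∈ H → ∀ j, lab e h.1 j ∈ D ↔ j ∈ D := by
    intro h hh j
    simp only [hD, Finset.mem_filter, Finset.mem_univ, true_and]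
    constructor
    · rintro ⟨h', hh', heq⟩
      refine ⟨h⁻¹ * h', H.mul_mem (H.inv_mem hh) hh', ?_⟩
      rw [Subgroup.coe_mul, lab_mul, heq, ← lab_mul, Subgroup.coe_inv, inv_mul_cancel, lab_one]
    · rintro ⟨h', hh', heq⟩
      refine ⟨h * h', H.mul_mem hh hh', ?_⟩
      rw [Subgroup.coe_mul, lab_mul, heq]
  have hsym : ∀ d, d ∈ D ↔ c - d ∈ D := by
    intro d
    rw [← hτlab d, hDinv τ hτH]
  -- the counting function
  set M : ZMod p → ZMod p → ℕ := fun a b =>
    (Finset.univ.filter (fun g : G => lab e g.1 a ∈ D ∧ lab e g.1 b ∈ D)).card with hM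
  have hMinv : ∀ (k' : G) (a b : ZMod p), M (lab e k'.1 a) (lab e k'.1 b) = M a b := by
    intro k' a b
    simp only [hM]
    apply Finset.card_equiv (Equiv.mulRight k')
    intro g
    simp only [Finset.mem_filter, Finset.mem_univ, true_and, Equiv.coe_mulRight,
      Subgroup.coe_mul, lab_mul]
  have hMconst : ∀ t : ZMod p, t ≠ 0 → M 0 t = M 0 1 := by
    intro t ht
    rw [MulAction.is_two_pretransitive_iff] at h2t
    have h01 : e 0 ≠ e 1 := fun h => zero_ne_one (e.injective h)
    have h0t : e 0 ≠ e t := fun h => ht (e.injective h).symm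
    obtain ⟨g, hg0, hg1⟩ := h2t h01 h0t
    have e0 : lab e g.1 0 = 0 := by
      show e.symm (g.1 (e 0)) = 0
      have : g.1 (e 0) = e 0 := hg0
      rw [this, Equiv.symm_apply_apply]
    have e1 : lab e g.1 1 = t := by
      show e.symm (g.1 (e 1)) = t
      have : g.1 (e 1) = e t := hg1
      rw [this, Equiv.symm_apply_apply]
    rw [← hMinv g 0 1, e0, e1]
  -- the factorisation `G = H ⟨σ⟩`
  let φ : ZMod p × H → G := fun x => x.2.1 * σ ^ x.1.val
  have hφinj : Function.Injective φ := by
    rintro ⟨i, h⟩ ⟨i', h'⟩ heq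
    have heq' : h.1 * σ ^ i.val = h'.1 * σ ^ i'.val := heq
    have hmem : σ ^ i.val * (σ ^ i'.val)⁻¹ ∈ H ⊓ Subgroup.zpowers σ := by
      refine ⟨?_, ?_⟩
      · have : σ ^ i.val * (σ ^ i'.val)⁻¹ = h.1⁻¹ * h'.1 := by
          rw [eq_inv_mul_iff_mul_eq, ← mul_assoc, heq', mul_assoc, mul_inv_cancel, mul_one]
        rw [this]
        exact H.mul_mem (H.inv_mem h.2) h'.2
      · exact Subgroup.mul_mem _ (Subgroup.pow_mem _ (Subgroup.mem_zpowers σ) _)
          (Subgroup.inv_mem _ (Subgroup.pow_mem _ (Subgroup.mem_zpowers σ) _))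
    have hbot : H ⊓ Subgroup.zpowers σ = ⊥ := by
      apply Subgroup.inf_eq_bot_of_coprime
      rw [Nat.card_zpowers, hσ]
      exact (Nat.Coprime.symm ((Nat.Prime.coprime_iff_not_dvd hpp).mpr hpH))
    rw [hbot, Subgroup.mem_bot, mul_inv_eq_one] at hmem
    have hii : i = i' := by
      rw [pow_eq_pow_iff_modEq, hσ] at hmem
      apply ZMod.val_injective
      exact Nat.ModEq.eq_of_lt_of_lt hmem (ZMod.val_lt i) (ZMod.val_lt i')
    subst hii
    have : h.1 = h'.1 := mul_right_cancel heq'
    rw [Subtype.ext this]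
  have hφbij : Function.Bijective φ := by
    rw [Fintype.bijective_iff_injective_and_card]
    refine ⟨hφinj, ?_⟩
    rw [Fintype.card_prod, ZMod.card, ← Nat.card_eq_fintype_card (α := H),
      ← Nat.card_eq_fintype_card (α := G), mul_comm]
    nth_rewrite 1 [← hH]
    exact H.card_mul_index
  let Φ : ZMod p × H ≃ G := Equiv.ofBijective φ hφbij
  set N : ZMod p → ℕ := fun t => (D.filter (fun d => d + t ∈ D)).card with hN
  have hMN : ∀ t, M 0 t = Fintype.card H * N t := by
    intro t
    simp only [hM, hN]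
    have hlabΦ : ∀ (i : ZMod p) (h : H) (a : ZMod p),
        lab e (Φ (i, h)).1 a ∈ D ↔ a + i ∈ D := by
      intro i h a
      show lab e (h.1 * σ ^ i.val).1 a ∈ D ↔ _
      rw [Subgroup.coe_mul, Subgroup.coe_pow, lab_mul, hDinv h.1 h.2,
        lab_pow_trans e σ.1 1 hσlab, mul_one, ZMod.natCast_zmod_val]
    rw [Finset.card_filter, ← Equiv.sum_comp Φ, Fintype.sum_prod_type]
    simp only [hlabΦ]
    rw [Finset.sum_congr rfl (fun i _ => Finset.sum_const _)]
    simp only [Finset.card_univ, smul_eq_mul]
    rw [← Finset.mul_sum, ← Finset.card_filter]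
    congr 2
    ext i
    simp only [Finset.mem_filter, Finset.mem_univ, true_and, zero_add]
    rw [add_comm t i]
  have hHpos : 0 < Fintype.card H := Fintype.card_pos
  have hNconst : ∀ t : ZMod p, t ≠ 0 → N t = N 1 := by
    intro t ht
    have h1 := hMN t
    rw [hMconst t ht, hMN 1] at h1
    exact (Nat.eq_of_mul_eq_mul_left hHpos h1).symm
  have hpar := diffset_parity hp2 D c hsym (N 1) hNconst
  by_cases hodd : Odd (N 1)
  · -- D is everything: contradiction
    exfalso
    apply hpH
    have hDall : ∀ j : ZMod p, j ∈ D := by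
      intro j
      by_cases hj : j = m
      · rw [hj]; exact hmD
      · apply (hpar j _).mpr hodd
        intro h
        apply hj
        apply mul_left_cancel₀ h2
        rw [h, hm2]
    have horb : MulAction.orbit H (e m) = Set.univ := by
      rw [Set.eq_univ_iff_forall]
      intro y
      obtain ⟨j, rfl⟩ := e.surjective y
      have := hDall j
      rw [hD, Finset.mem_filter] at this
      obtain ⟨_, h, hh, hj⟩ := this
      refine ⟨⟨h, hh⟩, ?_⟩
      show h.1 (e m) = e j
      rw [← e_lab, hj]
    have hidx := MulAction.index_stabilizer H (e m)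
    rw [horb, Set.ncard_univ, Nat.card_eq_fintype_card, hα] at hidx
    rw [← hidx]
    exact Subgroup.index_dvd_card _
  · refine ⟨e m, fun h hh => ?_⟩
    have hmem : lab e h.1 m ∈ D := by
      rw [hD, Finset.mem_filter]
      exact ⟨Finset.mem_univ _, h, hh, rfl⟩
    have : lab e h.1 m = m := by
      by_contra hne
      apply hodd
      apply (hpar (lab e h.1 m) _).mp hmem
      intro h'
      apply hne
      apply mul_left_cancel₀ h2
      rw [h', hm2]
    rw [← e_lab, this]

end twotrans

end IndexP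

end Cfsg.Agent.Helper12
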