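import Mathlib
import Cfsg.Agent.Helper12.IndexP

set_option autoImplicit false

namespace Cfsg.Agent.Helper12

namespace SylowInvol

open Equiv PrimeDeg IndexP

variable {α : Type*} [Fintype α] [DecidableEq α] {p : ℕ} [hp : Fact p.Prime]

/-- A transitive group of prime degree `p` has order not divisible by `p ^ 2`. -/
theorem not_sq_dvd_card (hα : Fintype.card α = p) (G : Subgroup (Equiv.Perm α)) :
    ¬ p ^ 2 ∣ Nat.card G := by
  have hpp : p.Prime := hp.out
  have hG_dvd : Nat.card G ∣ p.factorial := by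
    have := Subgroup.card_subgroup_dvd_card G
    rwa [Nat.card_eq_fintype_card (α := Equiv.Perm α), Fintype.card_perm, hα] at this
  intro h
  have h1 := dvd_trans h hG_dvd
  rw [← Nat.mul_factorial_pred hpp.ne_zero, pow_two] at h1
  have h2 : p ∣ (p - 1).factorial := Nat.dvd_of_mul_dvd_mul_left hpp.pos h1
  rw [hpp.dvd_factorial] at h2
  have := hpp.pos
  omega

theorem dvd_card_of_transitive (hα : Fintype.card α = p) (G : Subgroup (Equiv.Perm α))
    [MulAction.IsPretransitive G α] : p ∣ Nat.card G := by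
  have hpp : p.Prime := hp.out
  have hne : Nonempty α := by
    rw [← Fintype.card_pos_iff, hα]
    exact hpp.pos
  obtain ⟨a⟩ := hne
  have := MulAction.index_stabilizer_of_transitive G a
  rw [Nat.card_eq_fintype_card, hα] at this
  rw [← this]
  exact Subgroup.index_dvd_card _

/-- An element of order `p` and an involution normalising it, from a Sylow `p`-normaliser of even
order. -/
theorem sylow_invol (hα : Fintype.card α = p) (G : Subgroup (Equiv.Perm α))
    [MulAction.IsPretransitive G α] (P : Sylow p G)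
    (heven : Even (Nat.card (Subgroup.normalizer ((P : Subgroup G) : Set G)))) :
    ∃ σ τ : G, orderOf σ = p ∧ τ * τ = 1 ∧ τ ≠ 1 ∧ ∃ k : ℕ, τ * σ * τ⁻¹ = σ ^ k := by
  have hpp : p.Prime := hp.out
  have hp2G := not_sq_dvd_card hα G
  have hpG := dvd_card_of_transitive hα G
  have hPcard : Nat.card P = p := by
    obtain ⟨n, hn⟩ := IsPGroup.iff_card.mp P.isPGroup'
    have h1 : p ∣ Nat.card P := P.dvd_card_of_dvd_card hpG
    have h2 : Nat.card P ∣ Nat.card G := Subgroup.card_subgroup_dvd_card _
    rw [hn] at h1 h2 ⊢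
    have hn1 : n ≠ 0 := by
      rintro rfl
      rw [pow_zero] at h1
      exact hpp.one_lt.ne' (Nat.dvd_one.mp h1)
    have hn2 : n < 2 := by
      by_contra hcon
      push Not at hcon
      exact hp2G (dvd_trans (pow_dvd_pow p hcon) h2)
    have : n = 1 := by omega
    rw [this, pow_one]
  obtain ⟨s0, hs0⟩ := exists_prime_orderOf_dvd_card' p (dvd_of_eq hPcard.symm : p ∣ Nat.card P)
  set σ0 : G := s0.1 with hσ0
  have hσ0ord : orderOf σ0 = p := by
    rw [← hs0]
    exact Subgroup.orderOf_coe s0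
  have hPz : Subgroup.zpowers σ0 = (P : Subgroup G) := by
    apply Subgroup.eq_of_le_of_card_ge
    · rw [Subgroup.zpowers_le]
      exact s0.2
    · rw [Nat.card_zpowers, hσ0ord]
      exact hPcard.le
  obtain ⟨t0, ht0⟩ := exists_prime_orderOf_dvd_card' 2 heven.two_dvd
  set τ0 : G := t0.1 with hτ0
  have hτ0ord : orderOf τ0 = 2 := by
    rw [← ht0]
    exact Subgroup.orderOf_coe t0
  have hτ0norm : τ0 * σ0 * τ0⁻¹ ∈ Subgroup.zpowers σ0 := by
    rw [hPz]
    exact (Subgroup.mem_normalizer_iff.mp t0.2 σ0).mp s0.2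
  have hτ0sq : τ0 * τ0 = 1 := by
    rw [← pow_two, ← hτ0ord]
    exact pow_orderOf_eq_one τ0
  have hτ01 : τ0 ≠ 1 := by
    intro h
    rw [h, orderOf_one] at hτ0ord
    omega
  obtain ⟨k, hk⟩ : ∃ k : ℕ, σ0 ^ k = τ0 * σ0 * τ0⁻¹ :=
    (mem_powers_iff_mem_zpowers).mpr hτ0norm
  exact ⟨σ0, τ0, hσ0ord, hτ0sq, hτ01, k, hk.symm⟩

/-- A labelling in which an element of order `p` is the translation and an involution normalising it
is a reflection. -/
theorem exists_label_invol (hα : Fintype.card α = p) (hp2 : p ≠ 2) (σ τ : Equiv.Perm α)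
    (hσ : orderOf σ = p) (hτ2 : τ * τ = 1) (hτ1 : τ ≠ 1) (k : ℕ) (hτσ : τ * σ * τ⁻¹ = σ ^ k) :
    ∃ (e : ZMod p ≃ α) (c : ZMod p), (∀ j, lab e σ j = j + 1) ∧ (∀ j, lab e τ j = c - j) := by
  have hpp : p.Prime := hp.out
  haveI : NeZero p := ⟨hpp.ne_zero⟩
  have h2 : (2 : ZMod p) ≠ 0 := by
    intro h
    have h2' : ((2 : ℕ) : ZMod p) = 0 := by exact_mod_cast h
    rw [ZMod.natCast_eq_zero_iff] at h2'
    have := (Nat.prime_dvd_prime_iff_eq hpp Nat.prime_two).mp h2'
    exact hp2 this
  obtain ⟨e, he⟩ := exists_labelling hα σ hσ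
  have hσlab : ∀ j, lab e σ j = j + 1 := by
    intro j
    show e.symm (σ (e j)) = j + 1
    rw [← he j, Equiv.symm_apply_apply]
  have hτrec : ∀ j, lab e τ (j + 1) = lab e τ j + k := by
    intro j
    have h1 : τ * σ = σ ^ k * τ := by rw [← hτσ]; group
    have h3 := congrArg (fun g : Equiv.Perm α => lab e g j) h1
    simp only [lab_mul] at h3
    rw [hσlab, lab_pow_trans e σ 1 hσlab k, mul_one] at h3
    exact h3
  set c := lab e τ 0 with hc
  have hτform : ∀ j, lab e τ j = (k : ZMod p) * j + c := by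
    intro j
    have hnat : ∀ n : ℕ, lab e τ (n : ZMod p) = (k : ZMod p) * n + c := by
      intro n
      induction n with
      | zero => simp [hc]
      | succ n ih => push_cast; rw [hτrec, ih]; ring
    have := hnat j.val
    rwa [ZMod.natCast_zmod_val] at this
  have hτinv : ∀ j, lab e τ (lab e τ j) = j := by
    intro j
    rw [← lab_mul, hτ2, lab_one]
  have hk : (k : ZMod p) = -1 := by
    have h0 := hτinv 0
    have h1 := hτinv 1
    rw [hτform 0, hτform] at h0
    rw [hτform 1, hτform] at h1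
    have hk2 : ((k : ZMod p) - 1) * (k + 1) = 0 := by linear_combination h1 - h0
    rcases mul_eq_zero.mp hk2 with hk1 | hk1
    · exfalso
      have hk1' : (k : ZMod p) = 1 := sub_eq_zero.mp hk1
      rw [hk1'] at h0
      have hc0 : c = 0 := by
        have : 2 * c = 0 := by linear_combination h0
        rcases mul_eq_zero.mp this with h | h
        · exact absurd h h2
        · exact h
      apply hτ1
      apply Equiv.ext
      intro x
      obtain ⟨j, rfl⟩ := e.surjective x
      rw [← e_lab, hτform, hk1', hc0]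
      simp
    · exact eq_neg_of_add_eq_zero_left hk1
  refine ⟨e, c, hσlab, fun j => ?_⟩
  rw [hτform, hk]
  ring

end SylowInvol

end Cfsg.Agent.Helper12
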