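import Mathlib

set_option autoImplicit false

namespace Cfsg.Agent.Helper12

open MulAction

/-- Orbits of a Sylow `p`-subgroup of a transitive group: if `p ^ a` divides the degree, it divides
the size of every orbit of the Sylow subgroup. (Same proof as helper95's lemma in
`Helper95/Derangement.lean`; repeated here to keep this file self-contained.) -/
lemma pow_dvd_ncard_orbit_sylow' {G Ω : Type*} [Group G] [Finite G] [MulAction G Ω]
    [IsPretransitive G Ω] {p : ℕ} [Fact p.Prime] (P : Sylow p G) (a : ℕ)
    (h : p ^ a ∣ Nat.card Ω) (ω : Ω) : p ^ a ∣ (orbit (P : Subgroup G) ω).ncard := by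
  rw [← index_stabilizer]
  have key : (stabilizer G ω).subgroupOf (P : Subgroup G) = stabilizer (P : Subgroup G) ω := by
    ext; rfl
  rw [← key]
  change p ^ a ∣ (stabilizer G ω).relIndex (P : Subgroup G)
  have h1 : ((stabilizer G ω) ⊓ P).relIndex P * (P : Subgroup G).index =
      ((stabilizer G ω) ⊓ P).index := Subgroup.relIndex_mul_index inf_le_right
  have h2 : ((stabilizer G ω) ⊓ P).relIndex (stabilizer G ω) * (stabilizer G ω).index =
      ((stabilizer G ω) ⊓ P).index := Subgroup.relIndex_mul_index inf_le_left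
  rw [index_stabilizer_of_transitive] at h2
  have h3 : p ^ a ∣ ((stabilizer G ω) ⊓ P).relIndex P * (P : Subgroup G).index := by
    rw [h1, ← h2]; exact Dvd.dvd.mul_left h _
  have hcop : Nat.Coprime (p ^ a) (P : Subgroup G).index := by
    apply Nat.Coprime.pow_left
    exact (Nat.Prime.coprime_iff_not_dvd Fact.out).mpr P.not_dvd_index
  rw [← Subgroup.inf_relIndex_right]
  exact hcop.dvd_of_dvd_mul_right h3

/-- A Sylow `p`-subgroup of a transitive group of degree `p ^ f` is transitive. -/
theorem sylow_orbit_eq_univ {G Ω : Type*} [Group G] [Finite G] [MulAction G Ω] [Finite Ω]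
    [IsPretransitive G Ω] {p f : ℕ} [Fact p.Prime] (hΩ : Nat.card Ω = p ^ f) (P : Sylow p G)
    (ω : Ω) : orbit (P : Subgroup G) ω = Set.univ := by
  have hdvd := pow_dvd_ncard_orbit_sylow' P f (by rw [hΩ]) ω
  apply Set.eq_of_subset_of_ncard_le (Set.subset_univ _) ?_ Set.finite_univ
  rw [Set.ncard_univ, hΩ]
  refine Nat.le_of_dvd ?_ hdvd
  exact (Set.ncard_pos (Set.toFinite _)).mpr (nonempty_orbit ω)

/-- A finite `p`-group acting by automorphisms on an abelian group of exponent `p` and stabilising
a non-trivial finite subgroup `S` has a non-zero fixed point in `S`. -/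
theorem exists_fixed_ne_zero {P M : Type*} [Group P] [Finite P] {p : ℕ} [Fact p.Prime]
    (hP : IsPGroup p P) [AddCommGroup M] (hM : ∀ x : M, p • x = 0)
    (act : P →* AddMonoid.End M) (S : AddSubgroup M) (hS : ∀ g, ∀ x ∈ S, act g x ∈ S)
    [hSfin : Finite S] (hne : S ≠ ⊥) : ∃ v ∈ S, v ≠ 0 ∧ ∀ g, act g v = v := by
  let _ : MulAction P S :=
    { smul := fun g x => ⟨act g x, hS g x x.2⟩
      one_smul := by
        intro x
        apply Subtype.ext
        change act 1 (x : M) = x
        rw [map_one]; rfl
      mul_smul := by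
        intro g h x
        apply Subtype.ext
        change act (g * h) (x : M) = act g (act h (x : M))
        rw [map_mul]; rfl }
  have hsmul : ∀ (g : P) (x : S), ((g • x : S) : M) = act g (x : M) := fun _ _ => rfl
  -- `S` is a `p`-group
  have hPG : IsPGroup p (Multiplicative S) := by
    intro g
    refine ⟨1, ?_⟩
    rw [pow_one]
    have : g ^ p = Multiplicative.ofAdd (p • Multiplicative.toAdd g) := rfl
    rw [this]
    have h0 : p • Multiplicative.toAdd g = 0 := by
      apply Subtype.ext
      rw [AddSubgroup.coe_nsmul, hM]; rfl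
    rw [h0]; rfl
  obtain ⟨j, hj⟩ := (IsPGroup.iff_card (p := p) (G := Multiplicative S)).mp hPG
  have hj' : Nat.card S = p ^ j := hj
  have hnt : Nontrivial S := (AddSubgroup.nontrivial_iff_ne_bot S).mpr hne
  have hj0 : j ≠ 0 := by
    rintro rfl
    rw [pow_zero] at hj'
    have := Finite.one_lt_card_iff_nontrivial.mpr hnt
    omega
  have hdvd : p ∣ Nat.card S := by rw [hj']; exact dvd_pow_self p hj0
  have h0 : (0 : S) ∈ fixedPoints P S := by
    intro g
    apply Subtype.ext
    rw [hsmul]
    exact map_zero _
  obtain ⟨b, hb, hb0⟩ := hP.exists_fixed_point_of_prime_dvd_card_of_fixed_point S hdvd h0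
  refine ⟨b, b.2, ?_, ?_⟩
  · intro h
    apply hb0
    apply Subtype.ext
    exact h.symm
  · intro g
    have := hb g
    rw [← hsmul, this]

/-- Version with the subgroup generated by the orbit of a non-zero vector. -/
theorem exists_fixed_ne_zero_closure {P M : Type*} [Group P] [Finite P] {p : ℕ} [Fact p.Prime]
    (hP : IsPGroup p P) [AddCommGroup M] (hM : ∀ x : M, p • x = 0)
    (act : P →* AddMonoid.End M) (w : M) (hw : w ≠ 0) :
    ∃ v ∈ AddSubgroup.closure (Set.range fun g : P => act g w), v ≠ 0 ∧ ∀ g, act g v = v := by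
  set S := AddSubgroup.closure (Set.range fun g : P => act g w) with hS_def
  have hwS : w ∈ S := by
    apply AddSubgroup.subset_closure
    refine ⟨1, ?_⟩
    change act 1 w = w
    rw [map_one]; rfl
  have hne : S ≠ ⊥ := by
    intro h
    rw [h, AddSubgroup.mem_bot] at hwS
    exact hw hwS
  have hinv : ∀ g, ∀ x ∈ S, act g x ∈ S := by
    intro g x hx
    induction hx using AddSubgroup.closure_induction with
    | mem y hy =>
      obtain ⟨h, rfl⟩ := hy
      apply AddSubgroup.subset_closure
      refine ⟨g * h, ?_⟩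
      change act (g * h) w = act g (act h w)
      rw [map_mul]; rfl
    | zero => rw [map_zero]; exact S.zero_mem
    | add a b _ _ ha hb => rw [map_add]; exact S.add_mem ha hb
    | neg a _ ha => rw [map_neg]; exact S.neg_mem ha
  have hfg : AddGroup.FG S := by
    rw [AddGroup.fg_iff_addSubgroup_fg, AddSubgroup.fg_iff]
    exact ⟨_, rfl, Set.finite_range _⟩
  have htors : IsAddTorsion S := by
    intro x
    rw [isOfFinAddOrder_iff_nsmul_eq_zero]
    refine ⟨p, (Fact.out : p.Prime).pos, ?_⟩
    apply Subtype.ext
    rw [AddSubgroup.coe_nsmul, hM]; rfl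
  have hfin : Finite S := AddCommGroup.finite_of_fg_isAddTorsion S htors
  exact exists_fixed_ne_zero hP hM act S hinv hne

end Cfsg.Agent.Helper12
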