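import Mathlib

/-!
# Traces on Hom spaces and twisted character inner products (helper12)

For representations `ρ` on `V`, `σ` on `M` of a finite group and an endomorphism `A` of `M`
commuting with `σ`, the number `|G|⁻¹ ∑ g, tr (A ∘ σ g) * χ_ρ(g⁻¹)` is the trace of `φ ↦ A ∘ φ`
on the space of `G`-invariants of `Hom(V, M)`.  In particular it is an algebraic integer when
`A` is integral over `ℤ`.
-/

set_option autoImplicit false

namespace Cfsg.Agent.Helper12.HomTrace

open Module LinearMap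

section sandwich

variable {V M : Type*} [AddCommGroup V] [Module ℂ V] [FiniteDimensional ℂ V]
  [AddCommGroup M] [Module ℂ M] [FiniteDimensional ℂ M]

/-- The operator `φ ↦ X ∘ φ ∘ Y` on `Hom(V, M)`. -/
noncomputable def sandwich (X : End ℂ M) (Y : End ℂ V) : End ℂ (V →ₗ[ℂ] M) where
  toFun φ := X ∘ₗ φ ∘ₗ Y
  map_add' φ ψ := by ext v; simp
  map_smul' c φ := by ext v; simp

@[simp] theorem sandwich_apply (X : End ℂ M) (Y : End ℂ V) (φ : V →ₗ[ℂ] M) :
    sandwich X Y φ = X ∘ₗ φ ∘ₗ Y := rfl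

theorem trace_sandwich (X : End ℂ M) (Y : End ℂ V) :
    trace ℂ (V →ₗ[ℂ] M) (sandwich X Y) = trace ℂ M X * trace ℂ V Y := by
  classical
  let e := dualTensorHomEquiv ℂ V M
  have h : sandwich X Y = e.conj (TensorProduct.map (Module.Dual.transpose (R := ℂ) Y) X) := by
    have h1 : sandwich X Y ∘ₗ e.toLinearMap =
        e.toLinearMap ∘ₗ TensorProduct.map (Module.Dual.transpose (R := ℂ) Y) X := by
      apply TensorProduct.ext'
      intro f m
      ext v
      simp [e, dualTensorHomEquiv, dualTensorHom_apply, Module.Dual.transpose_apply]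
    ext φ v
    have := congrArg (fun F => F (e.symm φ) v) h1
    simpa [LinearEquiv.conj_apply] using this
  rw [h, trace_conj', trace_tensorProduct', trace_transpose', mul_comm]

end sandwich

section integrality

variable {U : Type*} [AddCommGroup U] [Module ℂ U] [FiniteDimensional ℂ U]

/-- If all eigenvalues of an endomorphism are algebraic integers, so is its trace. -/
theorem isIntegral_trace_of_eigenvalues (T : End ℂ U)
    (h : ∀ μ : ℂ, T.HasEigenvalue μ → IsIntegral ℤ μ) : IsIntegral ℤ (trace ℂ U T) := by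
  rw [Module.End.trace_eq_sum_roots_charpoly_of_splits (IsAlgClosed.splits _)]
  refine IsIntegral.multiset_sum fun r hr => h r ?_
  rw [Module.End.hasEigenvalue_iff_isRoot_charpoly]
  exact (Polynomial.mem_roots'.mp hr).2

/-- Eigenvalues of an endomorphism integral over `ℤ` are algebraic integers. -/
theorem isIntegral_of_hasEigenvalue {A : End ℂ U} (hA : IsIntegral ℤ A) {μ : ℂ}
    (hμ : A.HasEigenvalue μ) : IsIntegral ℤ μ := by
  obtain ⟨p, hp, hpA⟩ := hA
  obtain ⟨x, hx⟩ := hμ.exists_hasEigenvector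
  refine ⟨p, hp, ?_⟩
  have h1 : Polynomial.aeval A (p.map (algebraMap ℤ ℂ)) = 0 := by
    rw [Polynomial.aeval_map_algebraMap]
    exact hpA
  have h2 := Module.End.aeval_apply_of_hasEigenvector (p := p.map (algebraMap ℤ ℂ)) hx
  rw [h1, LinearMap.zero_apply] at h2
  have h3 : (p.map (algebraMap ℤ ℂ)).eval μ = 0 := by
    rcases smul_eq_zero.mp h2.symm with h | h
    · exact h
    · exact absurd h hx.2
  rwa [Polynomial.eval_map] at h3

end integrality

section key

variable {G : Type*} [Group G] [Fintype G]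
variable {V M : Type*} [AddCommGroup V] [Module ℂ V] [FiniteDimensional ℂ V]
  [AddCommGroup M] [Module ℂ M] [FiniteDimensional ℂ M]
variable (ρ : Representation ℂ G V) (σ : Representation ℂ G M)

/-- Averaging operator on `Hom(V, M)`. -/
noncomputable def avg : End ℂ (V →ₗ[ℂ] M) :=
  (Nat.card G : ℂ)⁻¹ • ∑ g : G, Representation.linHom ρ σ g

theorem avg_apply (φ : V →ₗ[ℂ] M) :
    avg ρ σ φ = (Nat.card G : ℂ)⁻¹ • ∑ g : G, σ g ∘ₗ φ ∘ₗ ρ g⁻¹ := by
  simp [avg, LinearMap.sum_apply, Representation.linHom_apply]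

theorem avg_mem (φ : V →ₗ[ℂ] M) : avg ρ σ φ ∈ (Representation.linHom ρ σ).invariants := by
  intro h
  rw [avg_apply, map_smul, map_sum]
  congr 1
  simp only [Representation.linHom_apply]
  refine Fintype.sum_equiv (Equiv.mulLeft h) _ _ fun g => ?_
  ext v
  simp [map_mul, mul_inv_rev]

theorem avg_of_mem {φ : V →ₗ[ℂ] M} (hφ : φ ∈ (Representation.linHom ρ σ).invariants) :
    avg ρ σ φ = φ := by
  rw [avg_apply]
  have : ∀ g : G, σ g ∘ₗ φ ∘ₗ ρ g⁻¹ = φ := fun g => by
    have := hφ g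
    rwa [Representation.linHom_apply] at this
  simp only [this, Finset.sum_const, Finset.card_univ, Nat.card_eq_fintype_card]
  rw [← Nat.cast_smul_eq_nsmul ℂ, smul_smul, inv_mul_cancel₀, one_smul]
  exact_mod_cast Fintype.card_ne_zero

variable (A : End ℂ M)

theorem comp_mem_invariants (hA : ∀ g, A ∘ₗ σ g = σ g ∘ₗ A) {φ : V →ₗ[ℂ] M}
    (hφ : φ ∈ (Representation.linHom ρ σ).invariants) :
    A ∘ₗ φ ∈ (Representation.linHom ρ σ).invariants := by
  intro g
  have h1 := hφ g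
  rw [Representation.linHom_apply] at h1 ⊢
  ext v
  have h2 := congrArg (fun F => F v) h1
  have h3 := congrArg (fun F => F (φ (ρ g⁻¹ v))) (hA g)
  simp only [LinearMap.comp_apply] at h2 h3 ⊢
  rw [← h3, h2]

/-- The operator `φ ↦ A ∘ avg φ`. -/
noncomputable def Phi : End ℂ (V →ₗ[ℂ] M) := sandwich A 1 ∘ₗ avg ρ σ

theorem Phi_apply (φ : V →ₗ[ℂ] M) : Phi ρ σ A φ = A ∘ₗ avg ρ σ φ := by
  simp [Phi]
  rfl

theorem trace_Phi :
    trace ℂ _ (Phi ρ σ A) =
      (Nat.card G : ℂ)⁻¹ * ∑ g : G, trace ℂ M (A ∘ₗ σ g) * ρ.character g⁻¹ := by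
  have h : Phi ρ σ A = (Nat.card G : ℂ)⁻¹ • ∑ g : G, sandwich (A ∘ₗ σ g) (ρ g⁻¹) := by
    ext φ v
    simp [Phi, avg, LinearMap.sum_apply, Representation.linHom_apply]
  rw [h, map_smul, map_sum, smul_eq_mul]
  simp only [trace_sandwich, Representation.character]

theorem Phi_mem (hA : ∀ g, A ∘ₗ σ g = σ g ∘ₗ A) (φ : V →ₗ[ℂ] M) :
    Phi ρ σ A φ ∈ (Representation.linHom ρ σ).invariants := by
  rw [Phi_apply]
  exact comp_mem_invariants ρ σ A hA (avg_mem ρ σ φ)

/-- The restriction of `φ ↦ A ∘ φ` to the invariants of `Hom(V, M)`. -/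
noncomputable def T (hA : ∀ g, A ∘ₗ σ g = σ g ∘ₗ A) :
    End ℂ (Representation.linHom ρ σ).invariants :=
  (Phi ρ σ A).restrict (fun φ _ => Phi_mem ρ σ A hA φ)

theorem T_apply (hA : ∀ g, A ∘ₗ σ g = σ g ∘ₗ A) (φ : (Representation.linHom ρ σ).invariants) :
    ((T ρ σ A hA φ : (Representation.linHom ρ σ).invariants) : V →ₗ[ℂ] M) = A ∘ₗ (φ : V →ₗ[ℂ] M) := by
  simp only [T, LinearMap.restrict_coe_apply, Phi_apply, avg_of_mem ρ σ φ.2]

theorem trace_T (hA : ∀ g, A ∘ₗ σ g = σ g ∘ₗ A) :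
    trace ℂ _ (T ρ σ A hA) =
      (Nat.card G : ℂ)⁻¹ * ∑ g : G, trace ℂ M (A ∘ₗ σ g) * ρ.character g⁻¹ := by
  rw [← trace_Phi]
  exact LinearMap.trace_restrict_eq_of_forall_mem _ _ (Phi_mem ρ σ A hA) _

/-- The twisted inner product is an algebraic integer when `A` is integral over `ℤ`. -/
theorem isIntegral_twisted (hA : ∀ g, A ∘ₗ σ g = σ g ∘ₗ A) (hint : IsIntegral ℤ A) :
    IsIntegral ℤ ((Nat.card G : ℂ)⁻¹ * ∑ g : G, trace ℂ M (A ∘ₗ σ g) * ρ.character g⁻¹) := by
  rw [← trace_T ρ σ A hA]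
  refine isIntegral_trace_of_eigenvalues _ fun μ hμ => ?_
  obtain ⟨φ, hφ⟩ := hμ.exists_hasEigenvector
  have h1 : A ∘ₗ (φ : V →ₗ[ℂ] M) = μ • (φ : V →ₗ[ℂ] M) := by
    rw [← T_apply ρ σ A hA φ, hφ.apply_eq_smul]
    rfl
  have hne : (φ : V →ₗ[ℂ] M) ≠ 0 := fun h => hφ.2 (Subtype.ext h)
  obtain ⟨v, hv⟩ : ∃ v, (φ : V →ₗ[ℂ] M) v ≠ 0 := by
    by_contra hcon
    push Not at hcon
    exact hne (LinearMap.ext hcon)
  refine isIntegral_of_hasEigenvalue hint (μ := μ) ?_
  refine Module.End.hasEigenvalue_of_hasEigenvector (x := (φ : V →ₗ[ℂ] M) v) ⟨?_, hv⟩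
  rw [Module.End.mem_eigenspace_iff]
  have := congrArg (fun F => F v) h1
  simpa using this

/-- The twisted inner product vanishes when there are no intertwiners. -/
theorem twisted_eq_zero (hA : ∀ g, A ∘ₗ σ g = σ g ∘ₗ A)
    (h0 : Module.finrank ℂ (Representation.linHom ρ σ).invariants = 0) :
    (Nat.card G : ℂ)⁻¹ * ∑ g : G, trace ℂ M (A ∘ₗ σ g) * ρ.character g⁻¹ = 0 := by
  rw [← trace_T ρ σ A hA]
  have : Subsingleton (Representation.linHom ρ σ).invariants :=
    Module.finrank_zero_iff.mp h0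
  have : T ρ σ A hA = 0 := Subsingleton.elim _ _
  rw [this, map_zero]

end key

end Cfsg.Agent.Helper12.HomTrace
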