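import Mathlib
import Cfsg.Prelude.Def_Characters
import Cfsg.Prelude.Def_Perm
import Cfsg.Agent.Helper12.HomTrace
import Cfsg.Agent.Helper74.CharComplete

/-!
# Orbital class functions of a permutation group (helper12)

For a `G`-invariant relation `R` on `Ω`, the class function `θ_R g = #{x | R x (g • x)}`
has algebraic-integer inner products with the irreducible characters, and these vanish
outside the constituents of the permutation character.
-/

set_option autoImplicit false

namespace Cfsg.Agent.Helper12.Orbital

open Cfsg Module LinearMap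
open scoped ComplexConjugate

variable {G : Type*} [Group G] {Ω : Type*} [Fintype Ω] [DecidableEq Ω] [MulAction G Ω]

theorem trace_pi (f : End ℂ (Ω → ℂ)) : trace ℂ _ f = ∑ x, f (Pi.single x 1) x := by
  rw [LinearMap.trace_eq_matrix_trace ℂ (Pi.basisFun ℂ Ω)]
  simp [Matrix.trace]

theorem permRep_apply (g : G) (F : Ω → ℂ) (x : Ω) : permRep ℂ G Ω g F x = F (g⁻¹ • x) := rfl

/-- The permutation character counts fixed points. -/
theorem permRep_character (g : G) :
    (permRep ℂ G Ω).character g = (Nat.card (MulAction.fixedBy Ω g) : ℂ) := by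
  classical
  rw [Representation.character, trace_pi]
  simp only [permRep_apply, Pi.single_apply]
  rw [Finset.sum_boole, Nat.card_eq_fintype_card, Fintype.card_subtype]
  congr 2
  ext x
  simp only [Finset.mem_filter, Finset.mem_univ, true_and, MulAction.mem_fixedBy]
  rw [inv_smul_eq_iff, eq_comm]

section adj

variable (R : Ω → Ω → Prop) [DecidableRel R]

/-- Integer adjacency matrix of a relation. -/
def adjZ : Matrix Ω Ω ℤ := fun x y => if R x y then 1 else 0

/-- Adjacency operator of a relation on the complex permutation module. -/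
noncomputable def adj : End ℂ (Ω → ℂ) :=
  Matrix.toLin' ((adjZ R).map (Int.cast : ℤ → ℂ))

theorem adj_apply (F : Ω → ℂ) (x : Ω) : adj R F x = ∑ y, if R x y then F y else 0 := by
  simp only [adj, Matrix.toLin'_apply, Matrix.mulVec, dotProduct, Matrix.map_apply, adjZ]
  refine Finset.sum_congr rfl fun y _ => ?_
  split_ifs <;> simp

theorem isIntegral_adj : IsIntegral ℤ (adj R) := by
  have h1 : IsIntegral ℤ (adjZ R) := Matrix.isIntegral _
  have h2 := h1.map ((Int.castRingHom ℂ).mapMatrix (m := Ω)).toIntAlgHom
  have h3 := h2.map ((Matrix.toLinAlgEquiv' (R := ℂ) (n := Ω)).toAlgHom.toRingHom.toIntAlgHom)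
  exact h3

variable (G) in
theorem adj_comm (hR : ∀ (g : G) x y, R (g • x) (g • y) ↔ R x y) (g : G) :
    adj R ∘ₗ permRep ℂ G Ω g = permRep ℂ G Ω g ∘ₗ adj R := by
  ext F x
  simp only [LinearMap.comp_apply, adj_apply, permRep_apply]
  refine Fintype.sum_equiv (MulAction.toPerm g⁻¹) _ _ fun y => ?_
  simp only [MulAction.toPerm_apply]
  have : R (g⁻¹ • x) (g⁻¹ • y) ↔ R x y := hR g⁻¹ x y
  simp only [this]

theorem trace_adj_comp (g : G) :
    trace ℂ _ (adj R ∘ₗ permRep ℂ G Ω g) =
      ((Finset.univ.filter fun x => R x (g • x)).card : ℂ) := by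
  rw [trace_pi]
  simp only [LinearMap.comp_apply, adj_apply, permRep_apply, Pi.single_apply]
  rw [Finset.card_filter, Nat.cast_sum]
  refine Finset.sum_congr rfl fun x _ => ?_
  rw [Finset.sum_eq_single (g • x)]
  · simp
  · intro y _ hy
    have : g⁻¹ • y ≠ x := fun h => hy (by rw [← h, smul_inv_smul])
    simp [this]
  · intro h; exact absurd (Finset.mem_univ _) h

/-- The orbital class function. -/
noncomputable def theta (g : G) : ℂ := ((Finset.univ.filter fun x => R x (g • x)).card : ℂ)

variable (G) in
theorem theta_isClassFunction (hR : ∀ (g : G) x y, R (g • x) (g • y) ↔ R x y) :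
    IsClassFunction G (theta (G := G) R) := by
  intro g h
  unfold theta
  congr 1
  refine Finset.card_bij (fun x _ => h⁻¹ • x) ?_ ?_ ?_
  · intro x hx
    simp only [Finset.mem_filter, Finset.mem_univ, true_and] at hx ⊢
    rw [← hR h]
    simpa [mul_smul] using hx
  · intro x _ y _ hxy
    exact smul_left_cancel _ hxy
  · intro y hy
    simp only [Finset.mem_filter, Finset.mem_univ, true_and] at hy
    refine ⟨h • y, ?_, by simp⟩
    simp only [Finset.mem_filter, Finset.mem_univ, true_and]
    rw [← hR h] at hy
    simpa [mul_smul] using hy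

end adj

section inner

variable [Fintype G] (R : Ω → Ω → Prop) [DecidableRel R]

theorem classInner_theta_rep {n : ℕ} (ρ : Representation ℂ G (Fin n → ℂ)) :
    classInner (theta (G := G) R) ρ.character =
      (Nat.card G : ℂ)⁻¹ *
        ∑ g : G, trace ℂ _ (adj R ∘ₗ permRep ℂ G Ω g) * ρ.character g⁻¹ := by
  unfold classInner
  congr 1
  refine Finset.sum_congr rfl fun g _ => ?_
  rw [trace_adj_comp, Helper74.char_inv_rep]
  rfl

theorem isIntegral_classInner_theta (hR : ∀ (g : G) x y, R (g • x) (g • y) ↔ R x y)
    {χ : G → ℂ} (hχ : IsIrrCharacter G χ) : IsIntegral ℤ (classInner (theta (G := G) R) χ) := by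
  obtain ⟨n, ρ, -, rfl⟩ := hχ
  rw [classInner_theta_rep]
  exact HomTrace.isIntegral_twisted ρ (permRep ℂ G Ω) (adj R) (adj_comm G R hR) (isIntegral_adj R)

theorem classInner_perm_rep {n : ℕ} (ρ : Representation ℂ G (Fin n → ℂ)) :
    classInner (fun g : G => (Nat.card (MulAction.fixedBy Ω g) : ℂ)) ρ.character =
      (Module.finrank ℂ (Representation.linHom ρ (permRep ℂ G Ω)).invariants : ℂ) := by
  have hne : (Nat.card G : ℂ) ≠ 0 := by exact_mod_cast Nat.card_pos.ne'
  let _ : Invertible (Nat.card G : ℂ) := invertibleOfNonzero hne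
  rw [(Representation.invariantsEquivIntertwiningMap ρ (permRep ℂ G Ω)).finrank_eq,
    ← Representation.card_inv_mul_sum_char_mul_char_eq_finrank]
  unfold classInner
  congr 1
  refine Finset.sum_congr rfl fun g _ => ?_
  rw [permRep_character, Helper74.char_inv_rep]

theorem classInner_theta_eq_zero (hR : ∀ (g : G) x y, R (g • x) (g • y) ↔ R x y)
    {χ : G → ℂ} (hχ : IsIrrCharacter G χ)
    (h0 : classInner (fun g : G => (Nat.card (MulAction.fixedBy Ω g) : ℂ)) χ = 0) :
    classInner (theta (G := G) R) χ = 0 := by
  obtain ⟨n, ρ, -, rfl⟩ := hχ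
  rw [classInner_theta_rep]
  rw [classInner_perm_rep] at h0
  exact HomTrace.twisted_eq_zero ρ (permRep ℂ G Ω) (adj R) (adj_comm G R hR)
    (by exact_mod_cast h0)

end inner

section count

variable [Fintype G]

/-- The orbital of the pair `(a, b)`, as a relation. -/
def orbRel (G : Type*) [Group G] {Ω : Type*} [MulAction G Ω] (a b : Ω) : Ω → Ω → Prop :=
  fun x y => ∃ g : G, g • a = x ∧ g • b = y

theorem orbRel_smul (a b : Ω) (h : G) (x y : Ω) :
    orbRel G a b (h • x) (h • y) ↔ orbRel G a b x y := by
  constructor
  · rintro ⟨g, h1, h2⟩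
    refine ⟨h⁻¹ * g, ?_, ?_⟩
    · rw [mul_smul, h1, inv_smul_smul]
    · rw [mul_smul, h2, inv_smul_smul]
  · rintro ⟨g, rfl, rfl⟩
    exact ⟨h * g, mul_smul _ _ _, mul_smul _ _ _⟩

theorem orbRel_irrefl {a b : Ω} (hab : b ≠ a) (x : Ω) : ¬ orbRel G a b x x := by
  rintro ⟨g, h1, h2⟩
  exact hab (smul_left_cancel g (h2.trans h1.symm))

variable [MulAction.IsPretransitive G Ω]

theorem card_smul_eq (x y : Ω) :
    (Finset.univ.filter fun g : G => g • x = y).card * Fintype.card Ω = Fintype.card G := by
  classical
  obtain ⟨u, rfl⟩ := MulAction.exists_smul_eq G x y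
  have h1 : (Finset.univ.filter fun g : G => g • x = u • x).card =
      Nat.card (MulAction.stabilizer G x) := by
    rw [Nat.card_eq_fintype_card, Fintype.card_subtype]
    refine Finset.card_bij (fun g _ => u⁻¹ * g) ?_ ?_ ?_
    · intro g hg
      simp only [Finset.mem_filter, Finset.mem_univ, true_and] at hg ⊢
      rw [MulAction.mem_stabilizer_iff, mul_smul, hg, inv_smul_smul]
    · intro g _ g' _ h
      exact mul_left_cancel h
    · intro g hg
      simp only [Finset.mem_filter, Finset.mem_univ, true_and] at hg
      refine ⟨u * g, ?_, by simp⟩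
      simp only [Finset.mem_filter, Finset.mem_univ, true_and]
      rw [mul_smul, MulAction.mem_stabilizer_iff.mp hg]
  rw [h1, ← Nat.card_eq_fintype_card (α := Ω), ← MulAction.index_stabilizer_of_transitive G x,
    Subgroup.card_mul_index, Nat.card_eq_fintype_card]

open Classical in
theorem card_orbRel_row (a b x : Ω) :
    (Finset.univ.filter fun y => orbRel G a b x y).card =
      Nat.card (MulAction.orbit (MulAction.stabilizer G a) b) := by
  classical
  obtain ⟨u, rfl⟩ := MulAction.exists_smul_eq G a x
  rw [← Fintype.card_subtype, ← Nat.card_eq_fintype_card]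
  symm
  refine Nat.card_congr ⟨fun z => ⟨u • (z : Ω), ?_⟩, fun y => ⟨u⁻¹ • (y : Ω), ?_⟩, ?_, ?_⟩
  · obtain ⟨h, hh⟩ := z.2
    refine ⟨u * (h : G), ?_, ?_⟩
    · rw [mul_smul, MulAction.mem_stabilizer_iff.mp h.2]
    · rw [mul_smul, ← hh]; rfl
  · obtain ⟨g, h1, h2⟩ := y.2
    refine ⟨⟨u⁻¹ * g, ?_⟩, ?_⟩
    · rw [MulAction.mem_stabilizer_iff, mul_smul, h1, inv_smul_smul]
    · show (u⁻¹ * g) • b = u⁻¹ • (y : Ω)
      rw [mul_smul, h2]
  · intro z; simp
  · intro y; simp

open Classical in
theorem sum_card_orbRel (a b : Ω) :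
    (∑ g : G, (Finset.univ.filter fun x => orbRel G a b x (g • x)).card) =
      Fintype.card G * Nat.card (MulAction.orbit (MulAction.stabilizer G a) b) := by
  classical
  set k := Nat.card (MulAction.orbit (MulAction.stabilizer G a) b) with hk
  have hn : 0 < Fintype.card Ω := Fintype.card_pos_iff.mpr ⟨a⟩
  have hx : ∀ x : Ω, (Finset.univ.filter fun g : G => orbRel G a b x (g • x)).card *
      Fintype.card Ω = k * Fintype.card G := by
    intro x
    have hmaps : ∀ g ∈ (Finset.univ.filter fun g : G => orbRel G a b x (g • x)),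
        g • x ∈ (Finset.univ.filter fun y => orbRel G a b x y) := by
      intro g hg
      simpa using hg
    rw [Finset.card_eq_sum_card_fiberwise hmaps, Finset.sum_mul]
    have : ∀ y ∈ (Finset.univ.filter fun y => orbRel G a b x y),
        ((Finset.univ.filter fun g : G => orbRel G a b x (g • x)).filter
          fun g => g • x = y).card * Fintype.card Ω = Fintype.card G := by
      intro y hy
      have heq : ((Finset.univ.filter fun g : G => orbRel G a b x (g • x)).filter
          fun g => g • x = y) = Finset.univ.filter fun g : G => g • x = y := by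
        ext g
        simp only [Finset.mem_filter, Finset.mem_univ, true_and] at hy ⊢
        constructor
        · exact fun h => h.2
        · intro h; exact ⟨by rw [h]; exact hy, h⟩
      rw [heq, card_smul_eq (G := G) x y]
    rw [Finset.sum_congr rfl this, Finset.sum_const, card_orbRel_row, smul_eq_mul]
  have hT : (∑ g : G, (Finset.univ.filter fun x => orbRel G a b x (g • x)).card) =
      ∑ x : Ω, (Finset.univ.filter fun g : G => orbRel G a b x (g • x)).card := by
    simp only [Finset.card_filter]
    exact Finset.sum_comm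
  have h2 : (∑ g : G, (Finset.univ.filter fun x => orbRel G a b x (g • x)).card) *
      Fintype.card Ω = (Fintype.card G * k) * Fintype.card Ω := by
    rw [hT, Finset.sum_mul, Finset.sum_congr rfl (fun x _ => hx x), Finset.sum_const,
      Finset.card_univ, smul_eq_mul]
    ring
  exact Nat.eq_of_mul_eq_mul_right hn h2

open Classical in
/-- The inner product of the orbital class function with the trivial character is the
subdegree. -/
theorem classInner_theta_one (a b : Ω) :
    classInner (theta (G := G) (orbRel G a b)) (fun _ => 1) =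
      (Nat.card (MulAction.orbit (MulAction.stabilizer G a) b) : ℂ) := by
  have hne : (Nat.card G : ℂ) ≠ 0 := by exact_mod_cast Nat.card_pos.ne'
  unfold classInner theta
  simp only [map_one, mul_one]
  rw [← Nat.cast_sum, sum_card_orbRel, Nat.cast_mul, Nat.card_eq_fintype_card,
    ← mul_assoc, inv_mul_cancel₀ (by rwa [Nat.card_eq_fintype_card] at hne), one_mul]

end count

end Cfsg.Agent.Helper12.Orbital
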