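import Mathlib
import Cfsg.Prelude.Def_Characters
import Cfsg.Prelude.Def_Perm
import Cfsg.Agent.Helper12.Orbital
import Cfsg.Agent.Helper74.FSCount
import Cfsg.Agent.Helper78.IrrBasic
import Cfsg.Agent.S0669

/-!
# Basic facts on the permutation character of a transitive group (helper12)

Multiplicities, `⟨π, 1⟩ = 1`, `⟨π, π⟩ = rank`, and the decomposition of the degree into
subdegrees.
-/

set_option autoImplicit false

namespace Cfsg.Agent.Helper12.PermCharBasics

open Cfsg
open scoped ComplexConjugate

variable {G : Type*} [Group G] [Fintype G] {Ω : Type*} [Fintype Ω] [MulAction G Ω]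

/-- The permutation character. -/
noncomputable abbrev permChar (G : Type*) [Group G] (Ω : Type*) [MulAction G Ω] : G → ℂ :=
  fun g => (Nat.card (MulAction.fixedBy Ω g) : ℂ)

theorem permChar_isCharacter : IsCharacter G (permChar G Ω) := by
  classical
  have : permChar G Ω = (permRep ℂ G Ω).character :=
    funext fun g => (Orbital.permRep_character g).symm
  rw [this]
  exact Helper74.isCharacter_of_rep _

theorem permChar_one : permChar G Ω 1 = (Fintype.card Ω : ℂ) := by
  show ((Nat.card (MulAction.fixedBy Ω (1 : G)) : ℕ) : ℂ) = _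
  rw [MulAction.fixedBy_one_eq_univ, Nat.card_eq_fintype_card]
  simp

/-- Burnside's lemma, `Nat.card` form. -/
theorem burnside (X : Type*) [Fintype X] [MulAction G X] :
    ∑ g : G, Nat.card (MulAction.fixedBy X g) =
      Nat.card (MulAction.orbitRel.Quotient G X) * Nat.card G := by
  classical
  have := MulAction.sum_card_fixedBy_eq_card_orbits_mul_card_group G X
  simp only [← Nat.card_eq_fintype_card] at this
  exact this

theorem classInner_permChar_one [MulAction.IsPretransitive G Ω] (a : Ω) :
    classInner (permChar G Ω) (fun _ => 1) = 1 := by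
  have hne : (Nat.card G : ℂ) ≠ 0 := by exact_mod_cast Nat.card_pos.ne'
  unfold classInner
  simp only [map_one, mul_one]
  rw [← Nat.cast_sum, burnside]
  have h1 : Nat.card (MulAction.orbitRel.Quotient G Ω) = 1 := by
    have : Subsingleton (MulAction.orbitRel.Quotient G Ω) :=
      (MulAction.pretransitive_iff_subsingleton_quotient G Ω).mp inferInstance
    have : Nonempty (MulAction.orbitRel.Quotient G Ω) := ⟨Quotient.mk'' a⟩
    exact Nat.card_unique
  rw [h1, one_mul, inv_mul_cancel₀ hne]

theorem card_fixedBy_prod (g : G) :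
    Nat.card (MulAction.fixedBy (Ω × Ω) g) = Nat.card (MulAction.fixedBy Ω g) ^ 2 := by
  rw [sq, ← Nat.card_prod]
  refine Nat.card_congr ⟨fun p => (⟨p.1.1, ?_⟩, ⟨p.1.2, ?_⟩), fun q => ⟨(q.1.1, q.2.1), ?_⟩, ?_, ?_⟩
  · have := p.2
    rw [MulAction.mem_fixedBy] at this ⊢
    exact congrArg Prod.fst this
  · have := p.2
    rw [MulAction.mem_fixedBy] at this ⊢
    exact congrArg Prod.snd this
  · rw [MulAction.mem_fixedBy]
    exact Prod.ext q.1.2 q.2.2
  · intro p; rfl
  · intro q; rfl

theorem classInner_permChar_self [MulAction.IsPretransitive G Ω] (a : Ω) :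
    classInner (permChar G Ω) (permChar G Ω) =
      (Nat.card (MulAction.orbitRel.Quotient (MulAction.stabilizer G a) Ω) : ℂ) := by
  have hne : (Nat.card G : ℂ) ≠ 0 := by exact_mod_cast Nat.card_pos.ne'
  unfold classInner
  have : ∀ g : G, permChar G Ω g * conj (permChar G Ω g) =
      ((Nat.card (MulAction.fixedBy (Ω × Ω) g) : ℕ) : ℂ) := by
    intro g
    rw [card_fixedBy_prod]
    simp [permChar, sq]
  simp only [this]
  rw [← Nat.cast_sum, burnside, Cfsg.Agent.S0669.result a, Nat.cast_mul, mul_comm,
    mul_assoc, mul_inv_cancel₀ hne, mul_one]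

/-- Multiplicity of an irreducible character in the permutation character. -/
noncomputable def mult (Ω : Type*) [Fintype Ω] [MulAction G Ω] (ψ : IrrCharacter G) : ℕ :=
  Classical.choose (Helper74.isCharacter_inner_irr_nat (permChar_isCharacter (G := G) (Ω := Ω)) ψ)

theorem mult_spec (ψ : IrrCharacter G) :
    classInner (permChar G Ω) (ψ : G → ℂ) = (mult Ω ψ : ℂ) :=
  Classical.choose_spec
    (Helper74.isCharacter_inner_irr_nat (permChar_isCharacter (G := G) (Ω := Ω)) ψ)

/-- Degree of an irreducible character as a natural number. -/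
noncomputable def deg (ψ : IrrCharacter G) : ℕ :=
  Classical.choose (Helper74.isCharacter_apply_one (Helper74.irr_isCharacter ψ))

theorem deg_spec (ψ : IrrCharacter G) : (ψ : G → ℂ) 1 = (deg ψ : ℂ) :=
  Classical.choose_spec (Helper74.isCharacter_apply_one (Helper74.irr_isCharacter ψ))

theorem deg_pos (ψ : IrrCharacter G) : 0 < deg ψ := by
  rcases Nat.eq_zero_or_pos (deg ψ) with h | h
  · exfalso
    have := deg_spec ψ
    rw [h, Nat.cast_zero] at this
    exact Helper78.irrChar_one_ne_zero ψ.2 this
  · exact h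

theorem deg_irrTriv : deg (Helper74.irrTriv G) = 1 := by
  have := deg_spec (Helper74.irrTriv G)
  rw [Helper74.irrTriv_apply] at this
  exact_mod_cast this.symm

theorem mult_irrTriv [MulAction.IsPretransitive G Ω] (a : Ω) :
    mult Ω (Helper74.irrTriv G) = 1 := by
  have h1 := mult_spec (Ω := Ω) (Helper74.irrTriv G)
  have h2 : classInner (permChar G Ω) (Helper74.irrTriv G : G → ℂ) = 1 :=
    classInner_permChar_one a
  rw [h2] at h1
  exact_mod_cast h1.symm

theorem sum_mult_sq [Fintype (IrrCharacter G)] [MulAction.IsPretransitive G Ω] (a : Ω) :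
    ∑ ψ : IrrCharacter G, mult Ω ψ ^ 2 =
      Nat.card (MulAction.orbitRel.Quotient (MulAction.stabilizer G a) Ω) := by
  have h := Helper74.classInner_self_eq_sum_sq (permChar_isCharacter (G := G) (Ω := Ω))
  rw [classInner_permChar_self a] at h
  simp only [mult_spec] at h
  have : (∑ ψ : IrrCharacter G, (mult Ω ψ : ℂ) * (mult Ω ψ : ℂ)) =
      ((∑ ψ : IrrCharacter G, mult Ω ψ ^ 2 : ℕ) : ℂ) := by
    push_cast
    refine Finset.sum_congr rfl fun ψ _ => by ring
  rw [this] at h
  exact_mod_cast h.symm

theorem sum_mult_deg [Fintype (IrrCharacter G)] :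
    ∑ ψ : IrrCharacter G, mult Ω ψ * deg ψ = Fintype.card Ω := by
  have h := congrFun (Helper74.isCharacter_eq_sum_irr (permChar_isCharacter (G := G) (Ω := Ω))) 1
  rw [permChar_one] at h
  simp only [Finset.sum_apply, Pi.smul_apply, smul_eq_mul, mult_spec, deg_spec] at h
  have : (∑ ψ : IrrCharacter G, (mult Ω ψ : ℂ) * (deg ψ : ℂ)) =
      ((∑ ψ : IrrCharacter G, mult Ω ψ * deg ψ : ℕ) : ℂ) := by
    push_cast; rfl
  rw [this] at h
  exact_mod_cast h.symm

section suborbits

variable (a : Ω)

theorem card_eq_sum_suborbits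
    [Fintype (MulAction.orbitRel.Quotient (MulAction.stabilizer G a) Ω)] :
    Fintype.card Ω =
      ∑ q : MulAction.orbitRel.Quotient (MulAction.stabilizer G a) Ω, Nat.card q.orbit := by
  rw [← Nat.card_eq_fintype_card,
    Nat.card_congr (MulAction.selfEquivSigmaOrbits' (MulAction.stabilizer G a) Ω), Nat.card_sigma]

theorem card_orbit_base :
    Nat.card (MulAction.orbit (MulAction.stabilizer G a) a) = 1 := by
  have : MulAction.orbit (MulAction.stabilizer G a) a = {a} := by
    ext x
    simp only [MulAction.mem_orbit_iff, Set.mem_singleton_iff]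
    constructor
    · rintro ⟨h, rfl⟩
      exact MulAction.mem_stabilizer_iff.mp h.2
    · rintro rfl
      exact ⟨1, one_smul _ _⟩
  rw [this]
  simp

theorem mk_ne_of_ne {b : Ω} (hb : b ≠ a) :
    (Quotient.mk'' b : MulAction.orbitRel.Quotient (MulAction.stabilizer G a) Ω) ≠
      Quotient.mk'' a := by
  intro h
  have h1 : b ∈ MulAction.orbit (MulAction.stabilizer G a) a := by
    rw [← MulAction.orbitRel.Quotient.orbit_mk, ← h, MulAction.orbitRel.Quotient.orbit_mk]
    exact MulAction.mem_orbit_self b
  obtain ⟨g, hg⟩ := h1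
  apply hb
  rw [← hg]
  exact MulAction.mem_stabilizer_iff.mp g.2

theorem exists_rep (q : MulAction.orbitRel.Quotient (MulAction.stabilizer G a) Ω)
    (hq : q ≠ Quotient.mk'' a) :
    ∃ b : Ω, b ≠ a ∧ q.orbit = MulAction.orbit (MulAction.stabilizer G a) b := by
  induction q using Quotient.inductionOn' with
  | h b =>
    refine ⟨b, ?_, MulAction.orbitRel.Quotient.orbit_mk b⟩
    rintro rfl
    exact hq rfl

end suborbits

end Cfsg.Agent.Helper12.PermCharBasics
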