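import Mathlib
import Cfsg.Agent.Helper1.HKK.Basic

/-!
# (K3) Kreknin's theorem for graded families, from the key step (K2) (for helper1, S3779)
-/

set_option autoImplicit false
open Cfsg.Agent.Helper1.HKK

namespace Cfsg.Agent.Helper12.HKKK3

variable {L : Type*} [LieRing L] {n : ℕ}

/-- If all generator sets are contained in `{0}`, the graded closure is zero. -/
theorem grCl_eq_zero {T : ZMod n → Set L} (hT : ∀ d, T d ⊆ {0}) {d : ZMod n} {a : L}
    (h : GrCl T d a) : a = 0 := by
  induction h with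
  | base hx => exact hT _ hx
  | zero d => rfl
  | add _ _ ih1 ih2 => rw [ih1, ih2, add_zero]
  | neg _ ih => rw [ih, neg_zero]
  | lie _ _ ih1 ih2 => rw [ih1, ih2, lie_zero]

/-- The induction behind Kreknin's theorem. -/
theorem kreknin_aux [NeZero n]
    (hstep : ∀ (k : ℕ), 1 ≤ k → k < n → ∀ (M : ZMod n → AddSubgroup L), IsGradedFam M →
      ∀ u ∈ (der^[2 ^ (k - 1)] M) (k : ZMod n), GrCl (above M k) (k : ZMod n) u)
    (M : ZMod n → AddSubgroup L) (hM : IsGradedFam M) (s : ℕ) (hs : s ≤ n - 1) :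
    ∀ d : ZMod n, n - s ≤ d.val → (der^[2 ^ (n - 1) - 2 ^ (n - 1 - s)] M) d = ⊥ := by
  induction s with
  | zero =>
    intro d hd
    have := ZMod.val_lt d
    omega
  | succ s ih =>
    have ih' := ih (by omega)
    intro d hd
    have hNg : IsGradedFam (der^[2 ^ (n - 1) - 2 ^ (n - 1 - s)] M) := isGradedFam_iter M hM _
    have hk1 : 1 ≤ n - (s + 1) := by omega
    have hkn : n - (s + 1) < n := by omega
    have hpow : 2 ^ (n - 1 - s) = 2 * 2 ^ (n - 1 - (s + 1)) := by
      have : n - 1 - s = (n - 1 - (s + 1)) + 1 := by omega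
      rw [this, pow_succ]; ring
    have hle : 2 ^ (n - 1 - s) ≤ 2 ^ (n - 1) := Nat.pow_le_pow_right (by norm_num) (by omega)
    have hexp : 2 ^ (n - 1) - 2 ^ (n - 1 - (s + 1)) =
        2 ^ (n - (s + 1) - 1) + (2 ^ (n - 1) - 2 ^ (n - 1 - s)) := by
      have : n - (s + 1) - 1 = n - 1 - (s + 1) := by omega
      rw [this]
      omega
    by_cases hdk : d.val = n - (s + 1)
    · have hd' : d = ((n - (s + 1) : ℕ) : ZMod n) := by
        rw [← hdk, ZMod.natCast_zmod_val]
      rw [hexp, iter_add, hd', eq_bot_iff]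
      intro u hu
      have h1 := hstep (n - (s + 1)) hk1 hkn _ hNg u hu
      have h2 : u = 0 := by
        refine grCl_eq_zero (fun e x hx => ?_) h1
        obtain ⟨hke, hxe⟩ := hx
        have he : n - s ≤ e.val := by omega
        rw [ih' e he] at hxe
        exact (AddSubgroup.mem_bot.mp hxe)
      rw [h2]
      exact AddSubgroup.zero_mem _
    · have hd2 : n - s ≤ d.val := by omega
      have hanti := iter_anti M hM (m := 2 ^ (n - 1) - 2 ^ (n - 1 - s))
        (m' := 2 ^ (n - 1) - 2 ^ (n - 1 - (s + 1))) (by omega) d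
      rw [ih' d hd2] at hanti
      exact le_bot_iff.mp hanti

/-- (K3), primed version: Kreknin's theorem for graded families, with the key step (K2) as an
explicit hypothesis. -/
theorem kreknin' [NeZero n]
    (hstep : ∀ (k : ℕ), 1 ≤ k → k < n → ∀ (M : ZMod n → AddSubgroup L), IsGradedFam M →
      ∀ u ∈ (der^[2 ^ (k - 1)] M) (k : ZMod n), GrCl (above M k) (k : ZMod n) u)
    (M : ZMod n → AddSubgroup L) (hM : IsGradedFam M) :
    ∀ d : ZMod n, (der^[2 ^ (n - 1) - 1] M) d = ⊥ := by
  intro d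
  have hn : 0 < n := Nat.pos_of_ne_zero (NeZero.ne n)
  have h := kreknin_aux hstep M hM (n - 1) le_rfl
  have h0 : n - 1 - (n - 1) = 0 := by omega
  rw [h0, pow_zero] at h
  by_cases hd : d.val = 0
  · have hd0 : d = 0 := (ZMod.val_eq_zero d).mp hd
    have hle := iter_le M hM (2 ^ (n - 1) - 1) d
    rw [hd0, hM.zero_eq] at hle
    rw [hd0]
    exact le_bot_iff.mp hle
  · exact h d (by omega)

end Cfsg.Agent.Helper12.HKKK3
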