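import Mathlib
import Cfsg.Agent.Helper12.SylowInvol

set_option autoImplicit false

namespace Cfsg.Agent.Helper12

namespace PDNorm

open Equiv PrimeDeg IndexP SylowInvol

variable {α : Type*} [Fintype α] [DecidableEq α] {p : ℕ} [hp : Fact p.Prime]

/-- In the symmetric group of prime degree, a permutation commuting with an element of order `p`
is a power of it. -/
theorem comm_mem_zpowers (hα : Fintype.card α = p) (σ g : Equiv.Perm α) (hσ : orderOf σ = p)
    (h : g * σ = σ * g) : g ∈ Subgroup.zpowers σ := by
  have hpp : p.Prime := hp.out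
  haveI : NeZero p := ⟨hpp.ne_zero⟩
  obtain ⟨e, he⟩ := exists_labelling hα σ hσ
  have hσlab : ∀ j, lab e σ j = j + 1 := by
    intro j
    show e.symm (σ (e j)) = j + 1
    rw [← he j, Equiv.symm_apply_apply]
  have hrec : ∀ j, lab e g (j + 1) = lab e g j + 1 := by
    intro j
    have h3 := congrArg (fun x : Equiv.Perm α => lab e x j) h
    simp only [lab_mul] at h3
    rw [hσlab, hσlab] at h3
    exact h3
  set c := lab e g 0 with hc
  have hform : ∀ j, lab e g j = j + c := by
    intro j
    have hnat : ∀ n : ℕ, lab e g (n : ZMod p) = n + c := by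
      intro n
      induction n with
      | zero => simp [hc]
      | succ n ih => push_cast; rw [hrec, ih]; ring
    have := hnat j.val
    rwa [ZMod.natCast_zmod_val] at this
  have hg : g = σ ^ c.val := by
    apply Equiv.ext
    intro x
    obtain ⟨j, rfl⟩ := e.surjective x
    rw [← e_lab, ← e_lab, hform, lab_pow_trans e σ 1 hσlab, mul_one, ZMod.natCast_zmod_val]
  rw [hg]
  exact Subgroup.pow_mem _ (Subgroup.mem_zpowers σ) _

/-- The Sylow `p`-normaliser of a transitive group of prime degree `p` has order `p * d` with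
`d ∣ p - 1`, where `d` is the index of the Sylow subgroup in its normaliser. -/
theorem card_normalizer (hα : Fintype.card α = p) (G : Subgroup (Equiv.Perm α))
    [MulAction.IsPretransitive G α] (P : Sylow p G) :
    Nat.card (P : Subgroup G) = p ∧
    ((P : Subgroup G).subgroupOf (Subgroup.normalizer ((P : Subgroup G) : Set G))).index ∣ p - 1 ∧
    Nat.card (Subgroup.normalizer ((P : Subgroup G) : Set G)) =
      p * ((P : Subgroup G).subgroupOf (Subgroup.normalizer ((P : Subgroup G) : Set G))).index := by
  have hpp : p.Prime := hp.out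
  have hp2G := not_sq_dvd_card hα G
  have hpG := dvd_card_of_transitive hα G
  have hPcard : Nat.card P = p := by
    obtain ⟨n, hn⟩ := IsPGroup.iff_card.mp P.isPGroup'
    have h1 : p ∣ Nat.card P := P.dvd_card_of_dvd_card hpG
    have h2 : Nat.card P ∣ Nat.card G := Subgroup.card_subgroup_dvd_card _
    rw [hn] at h1 h2 ⊢
    have hn1 : n ≠ 0 := by
      rintro rfl
      rw [pow_zero] at h1
      exact hpp.one_lt.ne' (Nat.dvd_one.mp h1)
    have hn2 : n < 2 := by
      by_contra hcon
      push Not at hcon
      exact hp2G (dvd_trans (pow_dvd_pow p hcon) h2)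
    have : n = 1 := by omega
    rw [this, pow_one]
  obtain ⟨s0, hs0⟩ := exists_prime_orderOf_dvd_card' p (dvd_of_eq hPcard.symm : p ∣ Nat.card P)
  set σ0 : G := s0.1 with hσ0
  have hσ0ord : orderOf σ0 = p := by
    rw [← hs0]
    exact Subgroup.orderOf_coe s0
  have hPz : Subgroup.zpowers σ0 = (P : Subgroup G) := by
    apply Subgroup.eq_of_le_of_card_ge
    · rw [Subgroup.zpowers_le]
      exact s0.2
    · rw [Nat.card_zpowers, hσ0ord]
      exact hPcard.le
  -- the centraliser of `P` is `P`
  have hcent : Subgroup.centralizer ((P : Subgroup G) : Set G) = (P : Subgroup G) := by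
    apply le_antisymm
    · intro g hg
      rw [Subgroup.mem_centralizer_iff] at hg
      have h1 : g * σ0 = σ0 * g := (hg σ0 s0.2).symm
      have h2 : g.1 * σ0.1 = σ0.1 * g.1 := by
        rw [← Subgroup.coe_mul, h1, Subgroup.coe_mul]
      have hσ0ord' : orderOf σ0.1 = p := by
        rw [← hσ0ord]
        exact Subgroup.orderOf_coe σ0
      have h3 := comm_mem_zpowers hα σ0.1 g.1 hσ0ord' h2
      obtain ⟨k, hk⟩ := Subgroup.mem_zpowers_iff.mp h3
      rw [← hPz]
      refine Subgroup.mem_zpowers_iff.mpr ⟨k, ?_⟩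
      apply Subtype.ext
      rw [Subgroup.coe_zpow]
      exact hk
    · haveI : IsCyclic (P : Subgroup G) := isCyclic_of_prime_card hPcard
      intro g hg
      rw [Subgroup.mem_centralizer_iff]
      intro h hh
      have := mul_comm' (⟨h, hh⟩ : (P : Subgroup G)) ⟨g, hg⟩
      exact congrArg Subtype.val this
  haveI hcyc : IsCyclic (P : Subgroup G) := isCyclic_of_prime_card hPcard
  have key := Subgroup.card_dvd_of_injective _
    (QuotientGroup.kerLift_injective (P : Subgroup G).normalizerMonoidHom)
  rw [Subgroup.normalizerMonoidHom_ker, ← Subgroup.index, hcent, hcyc.card_mulAut, hPcard,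
    Nat.totient_prime hpp] at key
  refine ⟨hPcard, key, ?_⟩
  have h1 := ((P : Subgroup G).subgroupOf
    (Subgroup.normalizer ((P : Subgroup G) : Set G))).card_mul_index
  have h2 : Nat.card ((P : Subgroup G).subgroupOf
      (Subgroup.normalizer ((P : Subgroup G) : Set G))) = p := by
    refine Eq.trans ?_ hPcard
    exact Nat.card_congr (Subgroup.subgroupOfEquivOfLe Subgroup.le_normalizer).toEquiv
  rw [h2] at h1
  exact h1.symm

/-- The reflection `j ↦ c - j` is a product of `(p - 1) / 2` transpositions. -/
theorem sign_reflection (hα : Fintype.card α = p) (hp2 : p ≠ 2) (e : ZMod p ≃ α) (c : ZMod p)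
    (τ : Equiv.Perm α) (hτ : ∀ j, lab e τ j = c - j) :
    Equiv.Perm.sign τ = (-1) ^ ((p - 1) / 2) := by
  have hpp : p.Prime := hp.out
  haveI : NeZero p := ⟨hpp.ne_zero⟩
  have h2 : (2 : ZMod p) ≠ 0 := by
    intro h
    have h2' : ((2 : ℕ) : ZMod p) = 0 := by exact_mod_cast h
    rw [ZMod.natCast_eq_zero_iff] at h2'
    have := (Nat.prime_dvd_prime_iff_eq hpp Nat.prime_two).mp h2'
    exact hp2 this
  set m : ZMod p := c * 2⁻¹ with hm
  have hm2 : 2 * m = c := by
    rw [hm, mul_comm c, ← mul_assoc, mul_inv_cancel₀ h2, one_mul]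
  have hτe : ∀ j, τ (e j) = e (c - j) := by
    intro j
    rw [← e_lab, hτ]
  have hsupp : τ.support = Finset.univ.erase (e m) := by
    ext x
    obtain ⟨j, rfl⟩ := e.surjective x
    rw [Equiv.Perm.mem_support, hτe, Finset.mem_erase]
    simp only [Finset.mem_univ, and_true, ne_eq, EmbeddingLike.apply_eq_iff_eq]
    constructor
    · intro h hj
      apply h
      rw [hj, ← hm2]
      ring
    · intro h hj
      apply h
      apply mul_left_cancel₀ h2
      rw [hm2, two_mul]
      nth_rewrite 1 [← hj]
      ring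
  have hsuppcard : τ.support.card = p - 1 := by
    rw [hsupp, Finset.card_erase_of_mem (Finset.mem_univ _), Finset.card_univ, hα]
  have hτ2 : τ ^ 2 = 1 := by
    apply Equiv.ext
    intro x
    obtain ⟨j, rfl⟩ := e.surjective x
    rw [pow_two, Equiv.Perm.mul_apply, hτe, hτe]
    simp
  have hp3 : 3 ≤ p := by
    have := hpp.two_le
    omega
  have hτ1 : τ ≠ 1 := by
    intro h
    rw [h, Equiv.Perm.support_one, Finset.card_empty] at hsuppcard
    omega
  have hord : orderOf τ = 2 := orderOf_eq_prime hτ2 hτ1
  obtain ⟨n, hn⟩ := Equiv.Perm.cycleType_prime_order (σ := τ) (by rw [hord]; exact Nat.prime_two)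
  rw [hord] at hn
  have hsum : τ.cycleType.sum = p - 1 := by rw [Equiv.Perm.sum_cycleType, hsuppcard]
  rw [hn, Multiset.sum_replicate, smul_eq_mul] at hsum
  rw [Equiv.Perm.sign_of_cycleType, hn, Multiset.sum_replicate, Multiset.card_replicate,
    smul_eq_mul, hsum]
  have hn1 : n + 1 = (p - 1) / 2 := by omega
  rw [hn1, pow_add]
  have heven : Even (p - 1) := ⟨n + 1, by omega⟩
  rw [heven.neg_one_pow, one_mul]

end PDNorm

end Cfsg.Agent.Helper12
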