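import Mathlib
import Cfsg.Agent.Helper99.QSpDefs
import Cfsg.Agent.Helper94.TnB
import Cfsg.Agent.Helper44.OrthRealizeC

/-!
# (QA1) hyperbolic = type `+`, characteristic free

A nondegenerate quadratic space of dimension `2e` contains a totally singular subspace of
dimension `e` iff it has type `+` (zero count).
-/

set_option autoImplicit false
set_option linter.unusedSectionVars false
set_option linter.style.haveILetI false

namespace Cfsg.Agent.Helper12.QSp

open Module
open Cfsg.Agent.Helper99.SpStruct Cfsg.Agent.Helper99.RDecomp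
open Cfsg.Agent.Helper44 Cfsg.Agent.Helper44.QType
open Cfsg.Agent.Helper99.QSp

universe u v

variable {F : Type u} [Field F] [Fintype F]

/-- a nondegenerate quadratic `2e`-space with a totally singular `e`-subspace has type `+` -/
theorem hasType_of_ts {V : Type v} [AddCommGroup V] [Module F V] [FiniteDimensional F V]
    (Q : QuadraticForm F V) (hnd : ∀ x : V, (∀ y, QuadraticMap.polar Q x y = 0) → x = 0) {e : ℕ}
    (hdim : finrank F V = 2 * e) (U : Submodule F V) (hU : ∀ u ∈ U, Q u = 0)
    (hUdim : finrank F ↥U = e) : HasType (⇑Q) e 1 := by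
  classical
  haveI : Finite V := Module.finite_of_finite F
  rcases Nat.eq_zero_or_pos e with he0 | hepos
  · subst he0
    unfold HasType fc
    have hV0 : finrank F V = 0 := by simpa using hdim
    haveI : Subsingleton V := (Module.finrank_zero_iff (R := F)).mp hV0
    have hone : Nat.card {v : V // Q v = 0} = 1 := by
      haveI : Unique {v : V // Q v = 0} :=
        ⟨⟨⟨0, by simp⟩⟩, fun x => Subtype.ext (Subsingleton.elim _ _)⟩
      exact Nat.card_unique
    rw [hone]
    simp
  · obtain ⟨e', rfl⟩ : ∃ e', e = e' + 1 := ⟨e - 1, by omega⟩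
    have hndB : (pB Q).Nondegenerate := (nondeg_iff Q).mpr hnd
    have hUU : ∀ u ∈ U, ∀ u' ∈ U, QuadraticMap.polar Q u u' = 0 := by
      intro u hu u' hu'
      unfold QuadraticMap.polar
      rw [hU _ (U.add_mem hu hu'), hU u hu, hU u' hu']
      simp
    have hperp : (pB Q).orthogonal U = U := by
      symm
      apply Submodule.eq_of_le_of_finrank_eq
      · intro u hu
        rw [LinearMap.BilinForm.mem_orthogonal_iff]
        intro u' hu'
        exact hUU u' hu' u hu
      · rw [LinearMap.BilinForm.finrank_orthogonal hndB U, hdim, hUdim]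
        omega
    obtain ⟨C, hC⟩ := Submodule.exists_isCompl U
    have hdisj : Disjoint U C := hC.disjoint
    have hCdim : finrank F ↥C = e' + 1 := by
      have := finrank_sup_of_disjoint hdisj
      rw [hC.sup_eq_top, finrank_top, hdim, hUdim] at this
      omega
    have hkey : ∀ u ∈ U, ∀ c : V, Q (u + c) = Q c + QuadraticMap.polar Q c u := by
      intro u hu c
      rw [QuadraticMap.polar_comm]
      unfold QuadraticMap.polar
      rw [hU u hu]
      ring
    -- the zero set as a sigma type
    let ψ : (Σ c : ↥C, {u : ↥U // Q (c : V) + QuadraticMap.polar Q (c : V) u = 0}) →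
        {w : V // Q w = 0} :=
      fun p => ⟨(p.2.1 : V) + p.1, by
        rw [hkey _ p.2.1.2]
        exact p.2.2⟩
    have hψ : Function.Bijective ψ := by
      constructor
      · rintro ⟨c, u, hu⟩ ⟨c', u', hu'⟩ h
        have h1 : (u : V) + c = (u' : V) + c' := congrArg (fun z => (z.1 : V)) h
        have h3 : (u : V) - (u' : V) = (c' : V) - c := by
          rw [sub_eq_sub_iff_add_eq_add, h1, add_comm]
        have h4 : (u : V) - (u' : V) ∈ U ⊓ C :=
          ⟨U.sub_mem u.2 u'.2, by rw [h3]; exact C.sub_mem c'.2 c.2⟩
        rw [hdisj.eq_bot, Submodule.mem_bot] at h4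
        have h5 : (u : V) = u' := sub_eq_zero.mp h4
        have h6 : (c : V) = c' := by
          rw [h5] at h1
          exact add_left_cancel h1
        have h7 : c = c' := Subtype.ext h6
        subst h7
        have h8 : u = u' := Subtype.ext h5
        subst h8
        rfl
      · rintro ⟨w, hw0⟩
        have hw' : w ∈ U ⊔ C := by
          rw [hC.sup_eq_top]
          trivial
        obtain ⟨u, hu, c, hc, rfl⟩ := Submodule.mem_sup.mp hw'
        refine ⟨⟨⟨c, hc⟩, ⟨⟨u, hu⟩, ?_⟩⟩, rfl⟩
        have := hkey u hu c
        show Q c + QuadraticMap.polar Q c u = 0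
        rw [← this]
        exact hw0
    have hq : 0 < Fintype.card F := Fintype.card_pos
    -- fibre sizes
    have hfib : ∀ c : ↥C, Nat.card {u : ↥U // Q (c : V) + QuadraticMap.polar Q (c : V) u = 0} =
        if c = 0 then Fintype.card F ^ (e' + 1) else Fintype.card F ^ e' := by
      intro c
      split_ifs with hc
      · subst hc
        have e1 : {u : ↥U // Q ((0 : ↥C) : V) + QuadraticMap.polar Q ((0 : ↥C) : V) u = 0} ≃ ↥U :=
          Equiv.subtypeUnivEquiv (fun u => by simp)
        rw [Nat.card_congr e1, Module.natCard_eq_pow_finrank (K := F) (V := ↥U), hUdim,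
          Nat.card_eq_fintype_card]
      · set φ : ↥U →ₗ[F] F := ((QuadraticMap.polarBilin Q) (c : V)).comp U.subtype with hφ
        have hφapp : ∀ u : ↥U, φ u = QuadraticMap.polar Q (c : V) u := fun u => rfl
        have hφne : φ ≠ 0 := by
          intro h0
          apply hc
          have hcU : (c : V) ∈ (pB Q).orthogonal U := by
            rw [LinearMap.BilinForm.mem_orthogonal_iff]
            intro u hu
            show QuadraticMap.polar Q u c = 0
            rw [QuadraticMap.polar_comm]
            have := hφapp ⟨u, hu⟩
            rw [h0] at this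
            exact this.symm
          rw [hperp] at hcU
          have : (c : V) ∈ U ⊓ C := ⟨hcU, c.2⟩
          rw [hdisj.eq_bot, Submodule.mem_bot] at this
          exact Subtype.ext this
        have e1 : {u : ↥U // Q (c : V) + QuadraticMap.polar Q (c : V) u = 0} ≃
            {u : ↥U // φ u = -(Q (c : V))} :=
          Equiv.subtypeEquivRight (fun u => by
            rw [hφapp]
            constructor
            · intro h
              linear_combination h
            · intro h
              rw [h]
              ring)
        rw [Nat.card_congr e1]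
        exact Cfsg.Agent.Helper94.Tn.card_fiber_linear φ hφne _ hUdim
    have hcard : Nat.card {w : V // Q w = 0} =
        Fintype.card F ^ (e' + 1) + (Fintype.card F ^ (e' + 1) - 1) * Fintype.card F ^ e' := by
      rw [← Nat.card_congr (Equiv.ofBijective ψ hψ)]
      haveI : Fintype ↥C := Fintype.ofFinite _
      rw [Nat.card_sigma, Finset.sum_congr rfl (fun c _ => hfib c),
        ← Finset.add_sum_erase Finset.univ _ (Finset.mem_univ (0 : ↥C)), if_pos rfl]
      congr 1
      rw [Finset.sum_congr rfl (fun c hc => if_neg (Finset.ne_of_mem_erase hc)), Finset.sum_const,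
        Finset.card_erase_of_mem (Finset.mem_univ _), Finset.card_univ, smul_eq_mul,
        ← Nat.card_eq_fintype_card (α := ↥C), Module.natCard_eq_pow_finrank (K := F) (V := ↥C),
        hCdim, Nat.card_eq_fintype_card]
    unfold HasType fc
    rw [hcard, Nat.card_eq_fintype_card]
    have hpos : 1 ≤ Fintype.card F ^ (e' + 1) := Nat.one_le_pow _ _ hq
    push_cast [Nat.cast_sub hpos]
    ring

variable {V : Type v} [AddCommGroup V] [Module F V] [FiniteDimensional F V]

/-- (QA1) hyperbolic = type `+` -/
theorem hyp_iff_qType (Q : QuadraticForm F V) {W : Submodule F V} (hW : Nd (pB Q) W) {e : ℕ}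
    (hdim : finrank F ↥W = 2 * e) : Hyp Q W ↔ QType Q W e 1 := by
  constructor
  · rintro ⟨U, hUW, hU, hUdim⟩
    unfold QType
    apply hasType_of_ts (qSub Q W) (qSub_nd Q hW) hdim (Submodule.comap W.subtype U)
    · intro u hu
      rw [qSub_apply]
      exact hU _ hu
    · rw [LinearEquiv.finrank_eq (Submodule.comapSubtypeEquivOfLe hUW)]
      omega
  · intro h
    have hfr : finrank F (Fin e ⊕ Fin e → F) = 2 * e := by
      rw [Module.finrank_fintype_fun_eq_card, Fintype.card_sum, Fintype.card_fin]
      ring
    obtain ⟨g, hg⟩ := exists_isometry_of_hasType (plusForm e F) (qSub Q W) hfr hdim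
      ((nondeg_iff _).mp (nondegenerate_plusForm e)) (qSub_nd Q hW)
      (by rw [plusForm_coe]; exact hasType_plus e) h
    refine ⟨((stdSing e F).map g.toLinearMap).map W.subtype, Submodule.map_subtype_le _ _, ?_, ?_⟩
    · rintro _ ⟨w, ⟨t, ht, rfl⟩, rfl⟩
      have h1 := hg t
      rw [qSub_apply, isTotSing_stdSing e t ht] at h1
      exact h1
    · rw [Submodule.finrank_map_subtype_eq, LinearEquiv.finrank_map_eq, finrank_stdSing, hdim]

end Cfsg.Agent.Helper12.QSp
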