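import Mathlib
import Cfsg.Agent.Helper44.PlusEmbed

/-!
# (QH1d) an element of `Ω⁺_{2d}(F)` with square `-1`, `d` even, `2 ≠ 0`

`x = diag(A, A⁻ᵀ)` with `A` the block matrix `[[0, 1], [-1, 0]]` (blocks of size `d/2`), which has
determinant one.
-/

set_option autoImplicit false

namespace Cfsg.Agent.Helper12.QSp

open Matrix Cfsg.Agent.Helper44

variable {F : Type*} [Field F]

/-- the block matrix `[[0, 1], [-1, 0]]` -/
def jMat (k : ℕ) (F : Type*) [Field F] : Matrix (Fin k ⊕ Fin k) (Fin k ⊕ Fin k) F :=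
  Matrix.fromBlocks 0 1 (-1) 0

theorem jMat_mul_self (k : ℕ) : jMat k F * jMat k F = -1 := by
  unfold jMat
  rw [Matrix.fromBlocks_multiply, ← Matrix.fromBlocks_one, Matrix.fromBlocks_neg]
  simp

theorem det_jMat (k : ℕ) : (jMat k F).det = 1 := by
  have h : jMat k F = Matrix.fromBlocks (1 : Matrix (Fin k) (Fin k) F) 1 0 1
      * Matrix.fromBlocks (1 : Matrix (Fin k) (Fin k) F) 0 (-1) 1
      * Matrix.fromBlocks (1 : Matrix (Fin k) (Fin k) F) 1 0 1 := by
    unfold jMat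
    rw [Matrix.fromBlocks_multiply, Matrix.fromBlocks_multiply]
    simp
  rw [h, Matrix.det_mul, Matrix.det_mul, Matrix.det_fromBlocks_zero₂₁,
    Matrix.det_fromBlocks_zero₁₂, Matrix.det_one]
  simp

/-- (QH1d) an element of `Ω⁺_{2d}(F)` with square `-1` (`d` even) -/
theorem exists_omega_sq_neg_one [Fintype F] (h2 : (2 : F) ≠ 0) (d : ℕ) (hd : Even d)
    (hd2 : 2 ≤ d) :
    ∃ x : ↥(Cfsg.isometryGroup F (Cfsg.quadFormPlus d F)),
      x ∈ Cfsg.Omega F (Cfsg.quadFormPlus d F) ∧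
      ((x : GL (Fin d ⊕ Fin d) F) : Matrix (Fin d ⊕ Fin d) (Fin d ⊕ Fin d) F) *
        ((x : GL (Fin d ⊕ Fin d) F) : Matrix (Fin d ⊕ Fin d) (Fin d ⊕ Fin d) F) = -1 := by
  obtain ⟨k, hk⟩ := hd
  set e : Fin k ⊕ Fin k ≃ Fin d := finSumFinEquiv.trans (finCongr hk.symm) with he
  set M : Matrix (Fin d) (Fin d) F := Matrix.reindex e e (jMat k F) with hM
  have hMM : M * M = -1 := by
    rw [hM, Matrix.reindex_apply, Matrix.submatrix_mul_equiv, jMat_mul_self]
    ext i j
    simp [Matrix.one_apply]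
  have hdet : M.det = 1 := by
    rw [hM, Matrix.det_reindex_self, det_jMat]
  set A : GL (Fin d) F := ⟨M, -M, by rw [mul_neg, hMM, neg_neg], by rw [neg_mul, hMM, neg_neg]⟩
    with hA
  have hAA : A * A = -1 := by
    apply Units.ext
    rw [Units.val_mul, Units.val_neg, Units.val_one]
    exact hMM
  have hcard : Fintype.card F ≠ 2 := by
    intro h
    apply h2
    have := Nat.cast_card_eq_zero F
    rw [h] at this
    exact_mod_cast this
  refine ⟨plusEmbed A, plusEmbed_mem_Omega_of_det_eq_one (Or.inl hcard) A hdet, ?_⟩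
  rw [plusEmbed_coe, ← plusEmbedMat_mul, hAA]
  unfold plusEmbedMat
  rw [inv_neg, inv_one, Units.val_neg, Units.val_one, Matrix.transpose_neg, Matrix.transpose_one,
    ← Matrix.fromBlocks_one, Matrix.fromBlocks_neg, neg_zero]

end Cfsg.Agent.Helper12.QSp
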