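import Cfsg.Agent.Helper11.Spec5.Defs
import Cfsg.Agent.Helper93.BCA3

/-!
# S2512 (helper11) piece (BLK): the order of a block element `(s₁, -u₂)` in `PSp`
-/

set_option autoImplicit false

namespace Cfsg.Agent.Helper12.Spec5

open Matrix Polynomial Cfsg.Agent.Helper43.SpReg Cfsg.Agent.Helper11.Spec5 Cfsg.Agent.S0246

variable {F : Type*} [Field F] [Fintype F] {n : ℕ}

omit [Fintype F] in
theorem negOne_ne_one (a : ℕ) (ha : 1 ≤ a) (h2 : (2 : F) ≠ 0) : negOne a F ≠ 1 := by
  intro h
  have := congrArg (fun g : Matrix.symplecticGroup (Fin a) F =>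
    (g : Matrix (Fin a ⊕ Fin a) (Fin a ⊕ Fin a) F) (Sum.inl ⟨0, ha⟩) (Sum.inl ⟨0, ha⟩)) h
  simp [negOne] at this
  apply h2
  linear_combination -this

omit [Fintype F] in
theorem negOne_mul_self (a : ℕ) : negOne a F * negOne a F = 1 := by
  apply Subtype.ext
  change (-1 : Matrix (Fin a ⊕ Fin a) (Fin a ⊕ Fin a) F) * (-1) = 1
  simp

omit [Fintype F] in
theorem orderOf_negOne (a : ℕ) (ha : 1 ≤ a) (h2 : (2 : F) ≠ 0) : orderOf (negOne a F) = 2 := by
  apply orderOf_eq_prime
  · rw [pow_two, negOne_mul_self]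
  · exact negOne_ne_one a ha h2

/-- (BLK) -/
theorem orderOf_block (a b : ℕ) (ha : 1 ≤ a) (hb : 1 ≤ b) (h2 : (2 : F) ≠ 0)
    (ι : Sp a F × Sp b F →* Sp (a + b) F) (hι : Function.Injective ι)
    (hneg : ι (negOne a F, negOne b F) = negOne (a + b) F) (s₁ : Sp a F) (u₂ : Sp b F) (k P : ℕ)
    (hk : Odd k) (hP : Odd P) (hcop : Nat.Coprime k P) (hs : orderOf s₁ = k) (hu : orderOf u₂ = P) :
    orderOf (QuotientGroup.mk (ι (s₁, negOne b F * u₂)) : Cfsg.PSp (a + b) F) = 2 * (P * k) := by
  have hcomm : Commute (negOne b F) u₂ :=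
    (Subgroup.mem_center_iff.1 negOne_mem_center u₂).symm
  have hcop2 : Nat.Coprime (orderOf (negOne b F)) (orderOf u₂) := by
    rw [orderOf_negOne b hb h2, hu, Nat.Prime.coprime_iff_not_dvd Nat.prime_two]
    intro h
    exact (Nat.not_even_iff_odd.2 hP) (even_iff_two_dvd.2 h)
  have hord2 : orderOf (negOne b F * u₂) = 2 * P := by
    rw [hcomm.orderOf_mul_eq_mul_orderOf_of_coprime hcop2, orderOf_negOne b hb h2, hu]
  have hkpos : 0 < k := hk.pos
  have hPpos : 0 < P := hP.pos
  have hpow : ∀ j : ℕ, (ι (s₁, negOne b F * u₂)) ^ j = ι (s₁ ^ j, (negOne b F * u₂) ^ j) := by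
    intro j
    rw [← map_pow, Prod.pow_mk]
  apply Cfsg.Agent.Helper93.BC.orderOf_mk_PSp (a + b) (2 * (P * k)) (by omega)
    (by positivity)
  · rw [hpow]
    have h1 : s₁ ^ (2 * (P * k)) = 1 := by
      rw [← hs]
      exact (orderOf_dvd_iff_pow_eq_one).1 ⟨2 * P, by ring⟩
    have h3 : (negOne b F * u₂) ^ (2 * (P * k)) = 1 := by
      apply (orderOf_dvd_iff_pow_eq_one).1
      rw [hord2]
      exact ⟨k, by ring⟩
    rw [h1, h3]
    exact map_one ι
  · intro j hj
    rw [hpow] at hj
    have hsj : s₁ ^ j = 1 ∧ (negOne b F * u₂) ^ j = 1 := by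
      rcases hj with hj | hj
      · have h1 : (s₁ ^ j, (negOne b F * u₂) ^ j) = (1 : Sp a F × Sp b F) := by
          apply hι
          rw [hj, map_one]
        exact ⟨congrArg Prod.fst h1, congrArg Prod.snd h1⟩
      · exfalso
        have h1 : (s₁ ^ j, (negOne b F * u₂) ^ j) = (negOne a F, negOne b F) := by
          apply hι
          rw [hj, hneg]
        have h3 : s₁ ^ j = negOne a F := congrArg Prod.fst h1
        have h4 : s₁ ^ (2 * j) = 1 := by
          rw [mul_comm, pow_mul, h3, pow_two, negOne_mul_self]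
        have h5 : k ∣ 2 * j := by
          rw [← hs]
          exact orderOf_dvd_of_pow_eq_one h4
        have h6 : k ∣ j := by
          apply (Nat.Coprime.dvd_mul_left ?_).1 h5
          rw [Nat.coprime_comm, Nat.Prime.coprime_iff_not_dvd Nat.prime_two]
          intro h
          exact (Nat.not_even_iff_odd.2 hk) (even_iff_two_dvd.2 h)
        have h7 : s₁ ^ j = 1 := by
          apply (orderOf_dvd_iff_pow_eq_one).1
          rw [hs]
          exact h6
        rw [h7] at h3
        exact negOne_ne_one a ha h2 h3.symm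
    have hkj : k ∣ j := by
      rw [← hs]
      exact orderOf_dvd_of_pow_eq_one hsj.1
    have hPj : 2 * P ∣ j := by
      rw [← hord2]
      exact orderOf_dvd_of_pow_eq_one hsj.2
    have hcop3 : Nat.Coprime (2 * P) k := by
      apply Nat.Coprime.mul_left
      · rw [Nat.Prime.coprime_iff_not_dvd Nat.prime_two]
        intro h
        exact (Nat.not_even_iff_odd.2 hk) (even_iff_two_dvd.2 h)
      · exact hcop.symm
    have := Nat.Coprime.mul_dvd_of_dvd_of_dvd hcop3 hPj hkj
    rwa [mul_assoc] at this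

end Cfsg.Agent.Helper12.Spec5
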