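import Cfsg.Agent.Helper11.Spec5.Defs
import Cfsg.Agent.Helper38.PSLLift
import Cfsg.Agent.Helper40.SylowSp

/-!
# S2512 (helper11) piece (TM): the split torus of `Sp_{2e}(q)`
-/

set_option autoImplicit false

namespace Cfsg.Agent.Helper12.Spec5

open Matrix Polynomial Cfsg.Agent.Helper43.SpReg Cfsg.Agent.Helper11.Spec5 Cfsg.Agent.S0246

variable {F : Type*} [Field F] [Fintype F] {n : ℕ}

/-- (TM) `Sp_{2e}(q)` has an element of order `q^e - 1`. -/
theorem torus_minus (e : ℕ) (he : 1 ≤ e) : ∃ g : Sp e F, orderOf g = Fintype.card F ^ e - 1 := by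
  obtain ⟨A, hA⟩ := Cfsg.Agent.Helper38.exists_matrix_orderOf (F := F) e he
    (Fintype.card F ^ e - 1) dvd_rfl
  have hA1 : A ^ (Fintype.card F ^ e - 1) = 1 := by
    rw [← hA]
    exact pow_orderOf_eq_one A
  have hpos : Fintype.card F ^ e - 1 ≠ 0 := by
    have h1 : 1 < Fintype.card F := Fintype.one_lt_card
    have h2 : 1 < Fintype.card F ^ e := Nat.one_lt_pow (by omega) h1
    omega
  have hu : IsUnit A := IsUnit.of_pow_eq_one hA1 hpos
  obtain ⟨u, rfl⟩ := hu
  refine ⟨Cfsg.Agent.Helper40.glToSp e u, ?_⟩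
  rw [orderOf_injective _ (Cfsg.Agent.Helper40.glToSp_injective e), ← hA, orderOf_units]

end Cfsg.Agent.Helper12.Spec5
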