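import Mathlib
import Cfsg.Agent.Helper21.A6Defs

/-!
# S3341 piece (GC1): fusion of `3`-elements in the `C₂` case
(helper12 for helper21, board #7060)
-/

set_option autoImplicit false

namespace Cfsg.Agent.Helper12.A6

open Cfsg.Agent.Helper21.A6

universe u
variable {G : Type u} [Group G]

/-- in a group, `a ^ 3 = 1` gives `a⁻¹ * a⁻¹ = a` -/
theorem inv_mul_inv_of_pow_three {a : G} (h : a ^ 3 = 1) : a⁻¹ * a⁻¹ = a := by
  calc a⁻¹ * a⁻¹ = a⁻¹ * a⁻¹ * a ^ 3 := by rw [h, mul_one]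
    _ = a := by
        rw [pow_succ, pow_two, mul_assoc a a a, mul_assoc, inv_mul_cancel_left,
          inv_mul_cancel_left]

/-- in a group, `a ^ 3 = 1` gives `a * a = a⁻¹` -/
theorem mul_self_of_pow_three {a : G} (h : a ^ 3 = 1) : a * a = a⁻¹ := by
  calc a * a = a⁻¹ * a ^ 3 := by
        rw [pow_succ, pow_two, mul_assoc, inv_mul_cancel_left]
    _ = a⁻¹ := by rw [h, mul_one]

/-- `a ^ 3 = 1` and `a = a⁻¹` give `a = 1` -/
theorem eq_one_of_pow_three_of_eq_inv {a : G} (h : a ^ 3 = 1) (h2 : a = a⁻¹) : a = 1 := by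
  have h3 : a * a = 1 := by
    calc a * a = a * a⁻¹ := by rw [← h2]
      _ = 1 := mul_inv_cancel a
  calc a = (a * a)⁻¹ * a ^ 3 := by
        rw [pow_succ, pow_two, inv_mul_cancel_left]
    _ = 1 := by rw [h3, h, inv_one, mul_one]

section fusion2

variable {T : Subgroup G} {x y t : G}

theorem nd2_x_ne_y (hd : NData2 T x y t) : x ≠ y := by
  intro h
  apply hd.x1
  have := hd.indep 1 1 (by rw [pow_one, pow_one]; exact h)
  rwa [pow_one] at this

theorem nd2_x_ne_y_inv (hd : NData2 T x y t) : x ≠ y⁻¹ := by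
  intro h
  apply hd.x1
  have h2 : x ^ 1 = y ^ 2 := by
    rw [pow_one, h, pow_two, mul_self_of_pow_three hd.y3]
  have := hd.indep 1 2 h2
  rwa [pow_one] at this

theorem nd2_inverts (hd : NData2 T x y t) : ∀ s ∈ T, t * s * t⁻¹ = s⁻¹ := by
  intro s hs
  obtain ⟨i, k, rfl⟩ := hd.memT s hs
  have h1 : t * (x ^ i * y ^ k) * t⁻¹ = (t * x * t⁻¹) ^ i * (t * y * t⁻¹) ^ k := by
    rw [conj_pow, conj_pow]; group
  rw [h1, hd.tx, hd.ty, inv_pow, inv_pow, ← mul_inv_rev]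
  congr 1
  exact (Commute.pow_pow (show Commute x y from hd.comm) i k).symm.eq

theorem nd2_conj (hd : NData2 T x y t)
    (hTI : ∀ g s : G, s ∈ T → s ≠ 1 → g * s * g⁻¹ ∈ T → g ∈ Subgroup.normalizer (T : Set G))
    {s s' : G} (hs : s ∈ T) (hs1 : s ≠ 1) (hs' : s' ∈ T) (hc : IsConj s s') :
    s' = s ∨ s' = s⁻¹ := by
  obtain ⟨g, hg⟩ := isConj_iff.mp hc
  have hgN := hTI g s hs hs1 (by rw [hg]; exact hs')
  obtain ⟨u, hu, h | h⟩ := hd.memN g hgN
  · left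
    rw [← hg, h, hd.commT u hu s hs, mul_inv_cancel_right]
  · right
    have h2 : u * t * s * (u * t)⁻¹ = u * (t * s * t⁻¹) * u⁻¹ := by group
    rw [← hg, h, h2, nd2_inverts hd s hs, hd.commT u hu s⁻¹ (T.inv_mem hs), mul_inv_cancel_right]

/-- (GC1) -/
theorem fusion2 [Finite G] (T : Subgroup G) (x y t : G) (hd : NData2 T x y t)
    (hTI : ∀ g s : G, s ∈ T → s ≠ 1 → g * s * g⁻¹ ∈ T → g ∈ Subgroup.normalizer (T : Set G)) :
    x * y ≠ 1 ∧ x * y⁻¹ ≠ 1 ∧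
    IsConj x x⁻¹ ∧ IsConj y y⁻¹ ∧ IsConj (x * y) (x * y)⁻¹ ∧ IsConj (x * y⁻¹) (x * y⁻¹)⁻¹ ∧
    ¬ IsConj x y ∧ ¬ IsConj x (x * y) ∧ ¬ IsConj x (x * y⁻¹) ∧
    ¬ IsConj y (x * y) ∧ ¬ IsConj y (x * y⁻¹) ∧ ¬ IsConj (x * y) (x * y⁻¹) := by
  have hxy := nd2_x_ne_y hd
  have hxyi := nd2_x_ne_y_inv hd
  have hx1 := hd.x1
  have hy1 := hd.y1
  have hxT := hd.xT
  have hyT := hd.yT
  have hyiT : y⁻¹ ∈ T := T.inv_mem hyT
  have hzT : x * y ∈ T := T.mul_mem hxT hyT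
  have hwT : x * y⁻¹ ∈ T := T.mul_mem hxT hyiT
  have hz1 : x * y ≠ 1 := by
    intro h
    exact hxyi (eq_inv_of_mul_eq_one_left h)
  have hw1 : x * y⁻¹ ≠ 1 := by
    intro h
    apply hxy
    have := eq_inv_of_mul_eq_one_left h
    rwa [inv_inv] at this
  have hcomm' : y⁻¹ * x = x * y⁻¹ := by
    calc y⁻¹ * x = y⁻¹ * (x * y) * y⁻¹ := by group
      _ = y⁻¹ * (y * x) * y⁻¹ := by rw [hd.comm]
      _ = x * y⁻¹ := by group
  refine ⟨hz1, hw1, isConj_iff.mpr ⟨t, hd.tx⟩, isConj_iff.mpr ⟨t, hd.ty⟩,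
    isConj_iff.mpr ⟨t, nd2_inverts hd _ hzT⟩, isConj_iff.mpr ⟨t, nd2_inverts hd _ hwT⟩,
    ?_, ?_, ?_, ?_, ?_, ?_⟩
  · -- x, y
    intro hc
    rcases nd2_conj hd hTI hxT hx1 hyT hc with h | h
    · exact hxy h.symm
    · apply hxyi
      rw [h, inv_inv]
  · -- x, x*y
    intro hc
    rcases nd2_conj hd hTI hxT hx1 hzT hc with h | h
    · exact hy1 (mul_eq_left.mp h)
    · apply hxy
      have : y = x⁻¹ * x⁻¹ := by
        calc y = x⁻¹ * (x * y) := by group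
          _ = x⁻¹ * x⁻¹ := by rw [h]
      rw [this, inv_mul_inv_of_pow_three hd.x3]
  · -- x, x*y⁻¹
    intro hc
    rcases nd2_conj hd hTI hxT hx1 hwT hc with h | h
    · apply hy1
      have := mul_eq_left.mp h
      exact inv_eq_one.mp this
    · apply hxyi
      have : y⁻¹ = x⁻¹ * x⁻¹ := by
        calc y⁻¹ = x⁻¹ * (x * y⁻¹) := by group
          _ = x⁻¹ * x⁻¹ := by rw [h]
      rw [this, inv_mul_inv_of_pow_three hd.x3]
  · -- y, x*y
    intro hc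
    rcases nd2_conj hd hTI hyT hy1 hzT hc with h | h
    · exact hx1 (mul_eq_right.mp h)
    · apply hxy
      have : x = y⁻¹ * y⁻¹ := by
        calc x = (x * y) * y⁻¹ := by group
          _ = y⁻¹ * y⁻¹ := by rw [h]
      rw [this, inv_mul_inv_of_pow_three hd.y3]
  · -- y, x*y⁻¹
    intro hc
    rcases nd2_conj hd hTI hyT hy1 hwT hc with h | h
    · apply hxyi
      have : x = y * y := by
        calc x = (x * y⁻¹) * y := by group
          _ = y * y := by rw [h]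
      rw [this, mul_self_of_pow_three hd.y3]
    · exact hx1 (mul_eq_right.mp h)
  · -- x*y, x*y⁻¹
    intro hc
    rcases nd2_conj hd hTI hzT hz1 hwT hc with h | h
    · apply hy1
      have h2 : y⁻¹ = y := mul_left_cancel h
      exact eq_one_of_pow_three_of_eq_inv hd.y3 h2.symm
    · apply hx1
      have h2 : x * y⁻¹ = x⁻¹ * y⁻¹ := by
        rw [h, mul_inv_rev]
        calc y⁻¹ * x⁻¹ = (x * y)⁻¹ := by group
          _ = (y * x)⁻¹ := by rw [hd.comm]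
          _ = x⁻¹ * y⁻¹ := by group
      have h3 : x = x⁻¹ := mul_right_cancel h2
      exact eq_one_of_pow_three_of_eq_inv hd.x3 h3

end fusion2

end Cfsg.Agent.Helper12.A6
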