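import Mathlib
import Cfsg.Agent.Helper21.A6Defs
import Cfsg.Agent.Helper12.A6_GC1

/-!
# S3341 piece (GB1): fusion of `3`-elements in the `C₄` case
(helper12 for helper21, board #7060)
-/

set_option autoImplicit false

namespace Cfsg.Agent.Helper12.A6

open Cfsg.Agent.Helper21.A6

universe u
variable {G : Type u} [Group G]

section fusion4

variable {T : Subgroup G} {x y j : G}

theorem nd4_x_ne_y (hd : NData4 T x y j) : x ≠ y := by
  intro h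
  apply hd.x1
  have := hd.indep 1 1 (by rw [pow_one, pow_one]; exact h)
  rwa [pow_one] at this

theorem nd4_x_ne_y_inv (hd : NData4 T x y j) : x ≠ y⁻¹ := by
  intro h
  apply hd.x1
  have h2 : x ^ 1 = y ^ 2 := by
    rw [pow_one, h, pow_two, mul_self_of_pow_three hd.y3]
  have := hd.indep 1 2 h2
  rwa [pow_one] at this

theorem nd4_jy_inv (hd : NData4 T x y j) : j * x⁻¹ * j⁻¹ = y⁻¹ := by
  calc j * x⁻¹ * j⁻¹ = (j * x * j⁻¹)⁻¹ := by group
    _ = y⁻¹ := by rw [hd.jx]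

theorem nd4_j2x (hd : NData4 T x y j) : j ^ 2 * x * (j ^ 2)⁻¹ = x⁻¹ := by
  calc j ^ 2 * x * (j ^ 2)⁻¹ = j * (j * x * j⁻¹) * j⁻¹ := by
        simp only [pow_two, mul_inv_rev, mul_assoc]
    _ = x⁻¹ := by rw [hd.jx, hd.jy]

theorem nd4_j2y (hd : NData4 T x y j) : j ^ 2 * y * (j ^ 2)⁻¹ = y⁻¹ := by
  calc j ^ 2 * y * (j ^ 2)⁻¹ = j * (j * y * j⁻¹) * j⁻¹ := by
        simp only [pow_two, mul_inv_rev, mul_assoc]
    _ = y⁻¹ := by rw [hd.jy, nd4_jy_inv hd]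

theorem nd4_j3x (hd : NData4 T x y j) : j ^ 3 * x * (j ^ 3)⁻¹ = y⁻¹ := by
  calc j ^ 3 * x * (j ^ 3)⁻¹ = j * (j ^ 2 * x * (j ^ 2)⁻¹) * j⁻¹ := by
        simp only [pow_succ, pow_zero, one_mul, mul_inv_rev, mul_assoc]
    _ = y⁻¹ := by rw [nd4_j2x hd, nd4_jy_inv hd]

/-- (GB1) -/
theorem fusion4 [Finite G] (T : Subgroup G) (x y j : G) (hd : NData4 T x y j)
    (hTI : ∀ g s : G, s ∈ T → s ≠ 1 → g * s * g⁻¹ ∈ T → g ∈ Subgroup.normalizer (T : Set G)) :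
    x * y ≠ 1 ∧ IsConj x x⁻¹ ∧ IsConj (x * y) (x * y)⁻¹ ∧ ¬ IsConj x (x * y) := by
  have hxy := nd4_x_ne_y hd
  have hxyi := nd4_x_ne_y_inv hd
  have hx1 := hd.x1
  have hy1 := hd.y1
  have hxT := hd.xT
  have hyT := hd.yT
  have hzT : x * y ∈ T := T.mul_mem hxT hyT
  have hz1 : x * y ≠ 1 := by
    intro h
    exact hxyi (eq_inv_of_mul_eq_one_left h)
  refine ⟨hz1, isConj_iff.mpr ⟨j ^ 2, nd4_j2x hd⟩, isConj_iff.mpr ⟨j ^ 2, ?_⟩, ?_⟩
  · calc j ^ 2 * (x * y) * (j ^ 2)⁻¹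
        = (j ^ 2 * x * (j ^ 2)⁻¹) * (j ^ 2 * y * (j ^ 2)⁻¹) := by rw [conj_mul]
      _ = x⁻¹ * y⁻¹ := by rw [nd4_j2x hd, nd4_j2y hd]
      _ = (y * x)⁻¹ := by group
      _ = (x * y)⁻¹ := by rw [hd.comm]
  · intro hc
    obtain ⟨g, hg⟩ := isConj_iff.mp hc
    have hgN := hTI g x hxT hx1 (by rw [hg]; exact hzT)
    -- conjugation by `u * w` with `u ∈ T` and `w x w⁻¹ ∈ T`
    have key : ∀ u ∈ T, ∀ w v : G, v ∈ T → w * x * w⁻¹ = v → g = u * w → x * y = v := by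
      intro u hu w v hv hw hgw
      have h2 : u * w * x * (u * w)⁻¹ = u * (w * x * w⁻¹) * u⁻¹ := by group
      rw [← hg, hgw, h2, hw, hd.commT u hu v hv, mul_inv_cancel_right]
    obtain ⟨u, hu, h | h | h | h⟩ := hd.memN g hgN
    · -- g = u
      have := key u hu 1 x hxT (by group) (by rw [mul_one]; exact h)
      exact hy1 (mul_eq_left.mp this)
    · -- g = u * j
      have := key u hu j y hyT hd.jx h
      exact hx1 (mul_eq_right.mp this)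
    · -- g = u * j ^ 2
      have := key u hu (j ^ 2) x⁻¹ (T.inv_mem hxT) (nd4_j2x hd) h
      apply hxy
      have h3 : y = x⁻¹ * x⁻¹ := by
        calc y = x⁻¹ * (x * y) := by group
          _ = x⁻¹ * x⁻¹ := by rw [this]
      rw [h3, inv_mul_inv_of_pow_three hd.x3]
    · -- g = u * j ^ 3
      have := key u hu (j ^ 3) y⁻¹ (T.inv_mem hyT) (nd4_j3x hd) h
      apply hxy
      have h3 : x = y⁻¹ * y⁻¹ := by
        calc x = (x * y) * y⁻¹ := by group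
          _ = y⁻¹ * y⁻¹ := by rw [this]
      rw [h3, inv_mul_inv_of_pow_three hd.y3]

end fusion4

end Cfsg.Agent.Helper12.A6
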