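import Cfsg.Agent.Helper74.A7Defs
import Cfsg.Agent.Helper17.SylowKit
import Cfsg.Agent.Helper17.LemmaR

/-!
# Pieces (N7a), (N7b), (N7c), (N7e), (N7f) of S0984 (helper74's plan, board #9405):
Sylow 7-subgroups of a simple group of order 2520
-/

set_option autoImplicit false

namespace Cfsg.Agent.Helper12.A7

open Cfsg Cfsg.Agent.Helper74.A7
open scoped ComplexConjugate

universe u

variable {G : Type u} [Group G]

omit [Group G] in
theorem card_eq_7_mul (hcard : Nat.card G = 2520) : Nat.card G = 7 ^ 1 * 360 := by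
  rw [hcard]
  norm_num

/-- a Sylow 7-subgroup has order 7 -/
theorem card_sylow7 [Finite G] [Fact (Nat.Prime 7)] (hcard : Nat.card G = 2520) (P : Sylow 7 G) :
    Nat.card (P : Subgroup G) = 7 := by
  have h := Cfsg.Agent.Helper17.card_sylow_subgroup_of_card_eq (card_eq_7_mul hcard)
    (by norm_num) P
  rw [h, pow_one]

/-- `P ≤ C_G(P)` -/
theorem sylow7_le_centralizer [Finite G] [Fact (Nat.Prime 7)] (hcard : Nat.card G = 2520)
    (P : Sylow 7 G) : (P : Subgroup G) ≤ Subgroup.centralizer ((P : Subgroup G) : Set G) := by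
  have hP := card_sylow7 hcard P
  have : Fact (Nat.card (P : Subgroup G)).Prime := ⟨hP.symm ▸ (Fact.out : Nat.Prime 7)⟩
  have hcyc : IsCyclic (P : Subgroup G) :=
    isCyclic_of_prime_card (p := Nat.card (P : Subgroup G)) rfl
  have : IsMulCommutative (P : Subgroup G) := ⟨⟨fun a b => by
    let := hcyc.commGroup; exact mul_comm a b⟩⟩
  exact Subgroup.le_centralizer _

/-- the numerical data of `N_G(P) / C_G(P)` -/
theorem sylow7_data [Finite G] [IsSimpleGroup G] [Fact (Nat.Prime 7)]
    (hcard : Nat.card G = 2520) (P : Sylow 7 G) :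
    Nat.card (Subgroup.normalizer ((P : Subgroup G) : Set G)) * Nat.card (Sylow 7 G) = 2520 ∧
    (Subgroup.centralizer ((P : Subgroup G) : Set G)).relIndex
      (Subgroup.normalizer ((P : Subgroup G) : Set G)) ∣ 6 ∧
    7 * (Subgroup.centralizer ((P : Subgroup G) : Set G)).relIndex
      (Subgroup.normalizer ((P : Subgroup G) : Set G)) ∣
        Nat.card (Subgroup.normalizer ((P : Subgroup G) : Set G)) ∧
    Nat.card (Subgroup.centralizer ((P : Subgroup G) : Set G)) *
      (Subgroup.centralizer ((P : Subgroup G) : Set G)).relIndex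
        (Subgroup.normalizer ((P : Subgroup G) : Set G)) =
      Nat.card (Subgroup.normalizer ((P : Subgroup G) : Set G)) ∧
    (Subgroup.centralizer ((P : Subgroup G) : Set G)).relIndex
      (Subgroup.normalizer ((P : Subgroup G) : Set G)) ≠ 1 := by
  have hP := card_sylow7 hcard P
  obtain ⟨h1, h2⟩ := Cfsg.Agent.Helper17.relIndex_dvd_of_card_sylow_prime P hP
  refine ⟨?_, h1, h2, Cfsg.Agent.Helper17.card_centralizer_mul_relIndex _, ?_⟩
  · rw [Cfsg.Agent.Helper17.card_normalizer_mul_card_sylow P, hcard]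
  · intro h
    have hle := Subgroup.relIndex_eq_one.mp h
    exact Cfsg.Agent.Helper17.not_normalizer_le_centralizer_of_simple P (by rw [hP]; norm_num)
      (by rw [hP, hcard]; norm_num) hle

/-- (N7a) `n_7 ∈ {8, 15, 36, 120}` -/
theorem card_sylow7_cases [Finite G] [IsSimpleGroup G] [Fact (Nat.Prime 7)]
    (hcard : Nat.card G = 2520) :
    Nat.card (Sylow 7 G) = 8 ∨ Nat.card (Sylow 7 G) = 15 ∨ Nat.card (Sylow 7 G) = 36 ∨
      Nat.card (Sylow 7 G) = 120 := by
  have h1 : Nat.card (Sylow 7 G) ∣ 360 :=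
    Cfsg.Agent.Helper17.card_sylow_dvd_of_card_eq (card_eq_7_mul hcard) (by norm_num)
  have h2 : Nat.card (Sylow 7 G) ≡ 1 [MOD 7] := card_sylow_modEq_one 7 G
  have h3 : Nat.card (Sylow 7 G) ≠ 1 :=
    Cfsg.Agent.Helper17.card_sylow_ne_one_of_simple (card_eq_7_mul hcard) (by norm_num)
      (by norm_num) (by norm_num)
  have key : ∀ n ∈ Nat.divisors 360, n % 7 = 1 → n ≠ 1 → n = 8 ∨ n = 15 ∨ n = 36 ∨ n = 120 := by
    decide
  exact key _ (Nat.mem_divisors.mpr ⟨h1, by norm_num⟩) h2 h3

end Cfsg.Agent.Helper12.A7
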