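import Cfsg.Agent.Helper74.A7Defs
import Cfsg.Agent.Helper17.SylowKit
import Cfsg.Agent.Helper17.LemmaR
import Cfsg.Agent.Helper12.A7N7a

/-!
# Piece (N7b) of S0984 (helper74's plan, board #9405): `n_7 ≠ 8`
-/

set_option autoImplicit false

namespace Cfsg.Agent.Helper12.A7

open Cfsg Cfsg.Agent.Helper74.A7
open scoped ComplexConjugate

universe u

variable {G : Type u} [Group G]

/-- (N7b) `n_7 ≠ 8` -/
theorem card_sylow7_ne_8 [Finite G] [IsSimpleGroup G] [Fact (Nat.Prime 7)]
    (hcard : Nat.card G = 2520) : Nat.card (Sylow 7 G) ≠ 8 := by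
  intro h8
  obtain ⟨P⟩ : Nonempty (Sylow 7 G) := inferInstance
  obtain ⟨hN, he6, he7, hCe, he1⟩ := sylow7_data hcard P
  rw [h8] at hN
  have hN315 : Nat.card (Subgroup.normalizer ((P : Subgroup G) : Set G)) = 315 := by omega
  rw [hN315] at he7 hCe
  have h5 : 5 ∣ Nat.card (Subgroup.centralizer ((P : Subgroup G) : Set G)) := by
    generalize (Subgroup.centralizer ((P : Subgroup G) : Set G)).relIndex
      (Subgroup.normalizer ((P : Subgroup G) : Set G)) = e at *
    have hle : e ≤ 6 := Nat.le_of_dvd (by norm_num) he6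
    interval_cases e <;> omega
  have : Fact (Nat.Prime 5) := ⟨by norm_num⟩
  obtain ⟨c, hc⟩ := exists_prime_orderOf_dvd_card' 5 h5
  have hc5 : orderOf (c : G) = 5 := by rw [Subgroup.orderOf_coe, hc]
  have h1 := Cfsg.Agent.Helper17.card_fixSyl_modEq_one P (c : G) c.2
  have h2 := Cfsg.Agent.Helper17.card_fixSyl_modEq_card (p := 7) (c : G) hc5
  have h3 := Cfsg.Agent.Helper17.card_fixSyl_le (p := 7) (c : G)
  rw [h8] at h2 h3
  unfold Nat.ModEq at h1 h2
  have hfix : (Cfsg.Agent.Helper17.fixSyl 7 (c : G)).card = Nat.card (Sylow 7 G) := by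
    rw [h8]
    omega
  have hc1 := Cfsg.Agent.Helper17.eq_one_of_card_fixSyl (p := 7) (by rw [h8]; norm_num) (c : G) hfix
  rw [hc1, orderOf_one] at hc5
  norm_num at hc5

end Cfsg.Agent.Helper12.A7
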