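import Cfsg.Agent.Helper74.A7Defs
import Cfsg.Agent.Helper17.SylowKit
import Cfsg.Agent.Helper17.LemmaR
import Cfsg.Agent.Helper12.A7N7a

/-!
# Piece (N7c) of S0984 (helper74's plan, board #9405): `n_7 ≠ 15`
-/

set_option autoImplicit false

namespace Cfsg.Agent.Helper12.A7

open Cfsg Cfsg.Agent.Helper74.A7
open scoped ComplexConjugate

universe u

variable {G : Type u} [Group G]

/-- (N7c) `n_7 ≠ 15` -/
theorem card_sylow7_ne_15 [Finite G] [IsSimpleGroup G] [Fact (Nat.Prime 7)]
    (hcard : Nat.card G = 2520) : Nat.card (Sylow 7 G) ≠ 15 := by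
  intro h15
  obtain ⟨P⟩ : Nonempty (Sylow 7 G) := inferInstance
  obtain ⟨hN, he6, he7, hCe, he1⟩ := sylow7_data hcard P
  rw [h15] at hN
  have hN168 : Nat.card (Subgroup.normalizer ((P : Subgroup G) : Set G)) = 168 := by omega
  rw [hN168] at he7 hCe
  have h4 : 2 ^ 2 ∣ Nat.card (Subgroup.centralizer ((P : Subgroup G) : Set G)) := by
    generalize (Subgroup.centralizer ((P : Subgroup G) : Set G)).relIndex
      (Subgroup.normalizer ((P : Subgroup G) : Set G)) = e at *
    have hle : e ≤ 6 := Nat.le_of_dvd (by norm_num) he6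
    interval_cases e <;> omega
  have : Fact (Nat.Prime 2) := ⟨Nat.prime_two⟩
  obtain ⟨K, hK⟩ := Sylow.exists_subgroup_card_pow_prime 2 h4
  have hW4 : Nat.card (K.map (Subgroup.centralizer ((P : Subgroup G) : Set G)).subtype) = 2 ^ 2 := by
    rw [Subgroup.card_subtype, hK]
  have hWp : IsPGroup 2 (K.map (Subgroup.centralizer ((P : Subgroup G) : Set G)).subtype) :=
    IsPGroup.of_card hW4
  have hWC : K.map (Subgroup.centralizer ((P : Subgroup G) : Set G)).subtype ≤
      Subgroup.centralizer ((P : Subgroup G) : Set G) := Subgroup.map_subtype_le K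
  have hd := Cfsg.Agent.Helper17.card_dvd_of_le_centralizer_sylow P (q := 2) (by norm_num)
    (by rw [h15]) _ hWp hWC
  rw [hW4] at hd
  norm_num at hd

end Cfsg.Agent.Helper12.A7
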