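import Cfsg.Agent.Helper74.A7Defs
import Cfsg.Agent.Helper17.SylowKit
import Cfsg.Agent.Helper17.LemmaR
import Cfsg.Agent.Helper12.A7N7a

/-!
# Piece (N7e) of S0984 (helper74's plan, board #9405): the structure when `n_7 = 120`
-/

set_option autoImplicit false

namespace Cfsg.Agent.Helper12.A7

open Cfsg Cfsg.Agent.Helper74.A7
open scoped ComplexConjugate

universe u

variable {G : Type u} [Group G]

/-- (N7e) if `n_7 = 120` then `C_G(P) = P` and `|N_G(P) : P| = 3` -/
theorem sylow7_120_structure [Finite G] [IsSimpleGroup G] [Fact (Nat.Prime 7)]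
    (hcard : Nat.card G = 2520) (h120 : Nat.card (Sylow 7 G) = 120) (P : Sylow 7 G) :
    Nat.card (P : Subgroup G) = 7 ∧
    Subgroup.centralizer ((P : Subgroup G) : Set G) = (P : Subgroup G) ∧
    (Subgroup.centralizer ((P : Subgroup G) : Set G)).relIndex
      (Subgroup.normalizer ((P : Subgroup G) : Set G)) = 3 ∧
    (Subgroup.normalizer ((P : Subgroup G) : Set G)).index = 120 := by
  have hP := card_sylow7 hcard P
  obtain ⟨hN, he6, he7, hCe, he1⟩ := sylow7_data hcard P
  rw [h120] at hN
  have hN21 : Nat.card (Subgroup.normalizer ((P : Subgroup G) : Set G)) = 21 := by omega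
  rw [hN21] at he7 hCe
  generalize (Subgroup.centralizer ((P : Subgroup G) : Set G)).relIndex
      (Subgroup.normalizer ((P : Subgroup G) : Set G)) = e at *
  have he : e = 3 := by
    have hle : e ≤ 6 := Nat.le_of_dvd (by norm_num) he6
    interval_cases e <;> omega
  subst he
  have hC7 : Nat.card (Subgroup.centralizer ((P : Subgroup G) : Set G)) = 7 := by omega
  refine ⟨hP, ?_, rfl, ?_⟩
  · symm
    apply Subgroup.eq_of_le_of_card_ge (sylow7_le_centralizer hcard P)
    rw [hC7, hP]
  · have h := P.card_eq_index_normalizer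
    rw [h120] at h
    exact h.symm

end Cfsg.Agent.Helper12.A7
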