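import Cfsg.Agent.Helper74.A7Defs
import Cfsg.Agent.Helper17.SylowKit
import Cfsg.Agent.Helper17.LemmaR
import Cfsg.Agent.Helper12.A7N7a

/-!
# Piece (N7f) of S0984 (helper74's plan, board #9405): elements of order 7 are self-centralizing
-/

set_option autoImplicit false

namespace Cfsg.Agent.Helper12.A7

open Cfsg Cfsg.Agent.Helper74.A7
open scoped ComplexConjugate

universe u

variable {G : Type u} [Group G]

/-- (N7f) elements of order 7 are self-centralizing -/
theorem centralizer_of_order_seven [Finite G] [Fact (Nat.Prime 7)] (hcard : Nat.card G = 2520)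
    (hself : ∀ P : Sylow 7 G, Subgroup.centralizer ((P : Subgroup G) : Set G) = (P : Subgroup G))
    (x : G) (hx : orderOf x = 7) :
    Subgroup.centralizer ({x} : Set G) = Subgroup.zpowers x := by
  have hZ : IsPGroup 7 (Subgroup.zpowers x) := by
    apply IsPGroup.of_card (n := 1)
    rw [Nat.card_zpowers, hx, pow_one]
  obtain ⟨Q, hQ⟩ := hZ.exists_le_sylow
  have hQ7 := card_sylow7 hcard Q
  have hZQ : Subgroup.zpowers x = (Q : Subgroup G) := by
    apply Subgroup.eq_of_le_of_card_ge hQ
    rw [hQ7, Nat.card_zpowers, hx]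
  rw [Subgroup.zpowers_eq_closure] at hZQ ⊢
  rw [← Subgroup.centralizer_closure, hZQ]
  exact hself Q

end Cfsg.Agent.Helper12.A7
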