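import Mathlib
import Cfsg.Agent.S0671
import Cfsg.Agent.S0674
import Cfsg.Agent.Helper12.PrimeDegree

set_option autoImplicit false

namespace Cfsg.Agent.Helper12

namespace AffTT

open Equiv PrimeDeg Cfsg.Agent.S0674

theorem affine_three : ∀ x y z : ZMod 3, x ≠ y → x ≠ z → y ≠ z → z = (y - x) * 2 + x := by
  decide

theorem zmod2_cases : ∀ j : ZMod 2, j = 0 ∨ j = 1 := by decide

theorem zmod3_cases : ∀ j : ZMod 3, j = 0 ∨ j = 1 ∨ j = 2 := by decide

theorem zmod3_ne : (0 : ZMod 3) ≠ 1 ∧ (0 : ZMod 3) ≠ 2 ∧ (1 : ZMod 3) ≠ 2 := by decide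

variable {α : Type*} [Fintype α] [DecidableEq α] {p : ℕ} [hp : Fact p.Prime]

/-- Either the group is affine in a suitable labelling, or the heart of the permutation module in
characteristic `p` is irreducible. -/
theorem affine_or_irred (hα : Fintype.card α = p) (G : Subgroup (Equiv.Perm α))
    [MulAction.IsPretransitive G α] (K : Type*) [Field K] [CharP K p] :
    (∃ e : ZMod p ≃ α, ∀ g ∈ G, ∃ a b : ZMod p, ∀ j, lab e g j = a * j + b) ∨
    (∀ W : Subrepresentation (Cfsg.permRep K G α),
      (Cfsg.permConstants K G α).toSubmodule ≤ W.toSubmodule →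
      W.toSubmodule ≤ (Cfsg.permSumZero K G α).toSubmodule →
      W = Cfsg.permConstants K G α ∨ W = Cfsg.permSumZero K G α) := by
  by_cases haff : ∃ e : ZMod p ≃ α, ∀ g ∈ G, ∃ a b : ZMod p, ∀ j, lab e g j = a * j + b
  · exact Or.inl haff
  right
  intro W h₁ h₂
  by_contra hcon
  push Not at hcon
  obtain ⟨hWC, hWS⟩ := hcon
  apply haff
  have hpp : p.Prime := Fact.out
  have hne : Nonempty α := by
    rw [← Fintype.card_pos_iff, hα]
    exact hpp.pos
  set r := Module.finrank K W.toSubmodule with hr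
  have hr1 : 1 < r := by
    have hlt : (Cfsg.permConstants K G α).toSubmodule < W.toSubmodule :=
      lt_of_le_of_ne h₁ (fun h => hWC (Subrepresentation.toSubmodule_injective h).symm)
    have := Submodule.finrank_lt_finrank_of_lt hlt
    rwa [finrank_constants] at this
  have hr2 : r + 1 < p := by
    have hlt : W.toSubmodule < (Cfsg.permSumZero K G α).toSubmodule :=
      lt_of_le_of_ne h₂ (fun h => hWS (Subrepresentation.toSubmodule_injective h))
    have := Submodule.finrank_lt_finrank_of_lt hlt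
    have h2 := finrank_sumZero (α := α) (K := K) (G := G)
    rw [hα] at h2
    omega
  obtain ⟨a⟩ := hne
  have hdvd : p ∣ Nat.card G := by
    have := MulAction.index_stabilizer_of_transitive G a
    rw [Nat.card_eq_fintype_card, hα] at this
    rw [← this]
    exact Subgroup.index_dvd_card _
  obtain ⟨x, hx⟩ := exists_prime_orderOf_dvd_card' p hdvd
  have hσ : orderOf x.1 = p := by
    rw [← hx]
    exact Subgroup.orderOf_coe x
  obtain ⟨e, he⟩ := exists_labelling hα x.1 hσ
  have hinvW : ∀ g ∈ G, ∀ f ∈ W.toSubmodule, (fun y => f (g y)) ∈ W.toSubmodule := by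
    intro g hg f hf
    have := W.apply_mem_toSubmodule ((⟨g, hg⟩ : G)⁻¹) hf
    convert this using 1
    funext y
    show f (g y) = f (((⟨g, hg⟩ : G)⁻¹)⁻¹ • y)
    rw [inv_inv]
    rfl
  by_cases hsm : 2 * r ≤ p + 1
  · exact ⟨e, affine_of_invariant e x.1 he G x.2 W.toSubmodule hinvW hr1 hsm⟩
  · have hinvP : ∀ g ∈ G, ∀ h ∈ perp W.toSubmodule, (fun y => h (g y)) ∈ perp W.toSubmodule := by
      intro g hg h hh
      rw [mem_perp] at hh ⊢
      intro f hf
      have h0 := hh _ (hinvW g⁻¹ (G.inv_mem hg) f hf)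
      rw [← h0, ← Equiv.sum_comp g (fun y => h y * f (g⁻¹ y))]
      apply Finset.sum_congr rfl
      intro y _
      simp
    have hfp := finrank_perp W.toSubmodule
    rw [hα] at hfp
    exact ⟨e, affine_of_invariant e x.1 he G x.2 (perp W.toSubmodule) hinvP (by omega) (by omega)⟩

/-- For `p < 5` every permutation of `ZMod p` is affine. -/
theorem affine_of_small (hp5 : p < 5) (f : ZMod p → ZMod p) (hf : Function.Injective f) :
    ∀ j, f j = (f 1 - f 0) * j + f 0 := by
  have hpp : p.Prime := hp.out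
  have h23 : p = 2 ∨ p = 3 := by
    interval_cases p
    · exact absurd hpp (by norm_num)
    · exact absurd hpp (by norm_num)
    · exact Or.inl rfl
    · exact Or.inr rfl
    · exact absurd hpp (by norm_num)
  rcases h23 with rfl | rfl
  · intro j
    have hj : j = 0 ∨ j = 1 := zmod2_cases j
    rcases hj with rfl | rfl
    · ring
    · ring
  · intro j
    have h01 : f 0 ≠ f 1 := fun h => zmod3_ne.1 (hf h)
    have h02 : f 0 ≠ f 2 := fun h => zmod3_ne.2.1 (hf h)
    have h12 : f 1 ≠ f 2 := fun h => zmod3_ne.2.2 (hf h)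
    have key := affine_three (f 0) (f 1) (f 2) h01 h02 h12
    have hj : j = 0 ∨ j = 1 ∨ j = 2 := zmod3_cases j
    rcases hj with rfl | rfl | rfl
    · ring
    · ring
    · exact key

/-- A transitive group of prime degree is affine in a suitable labelling or doubly transitive. -/
theorem affine_or_two_trans (hα : Fintype.card α = p) (G : Subgroup (Equiv.Perm α))
    [MulAction.IsPretransitive G α] :
    (∃ e : ZMod p ≃ α, ∀ g ∈ G, ∃ a b : ZMod p, ∀ j, lab e g j = a * j + b) ∨
    MulAction.IsMultiplyPretransitive G α 2 := by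
  have hpp : p.Prime := hp.out
  haveI : NeZero p := ⟨hpp.ne_zero⟩
  by_cases hp5 : p < 5
  · left
    have hc : Fintype.card (ZMod p) = Fintype.card α := by rw [ZMod.card, hα]
    let e : ZMod p ≃ α := Fintype.equivOfCardEq hc
    refine ⟨e, fun g _ => ⟨lab e g 1 - lab e g 0, lab e g 0, ?_⟩⟩
    exact affine_of_small hp5 (lab e g) (lab_injective e g)
  push Not at hp5
  rcases affine_or_irred hα G (ZMod p) with haff | hirr
  · exact Or.inl haff
  right
  apply Cfsg.Agent.S0671.result (K := ZMod p) (p := p) (f := 1) (le_refl 1)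
    (by rw [pow_one]; exact hα)
  intro W W' hCW hlt hW'S
  have hW := hirr W hCW (le_trans hlt.le hW'S)
  have hW' := hirr W' (le_trans hCW hlt.le) hW'S
  have hWC : W = Cfsg.permConstants (ZMod p) G α := by
    rcases hW with h | h
    · exact h
    · exfalso
      rw [h] at hlt
      exact absurd hlt (not_lt_of_ge hW'S)
  have hW'S' : W' = Cfsg.permSumZero (ZMod p) G α := by
    rcases hW' with h | h
    · exfalso
      rw [h] at hlt
      exact absurd hlt (not_lt_of_ge hCW)
    · exact h
  subst hWC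
  subst hW'S'
  -- two distinct points
  have hcard2 : 1 < Fintype.card α := by omega
  obtain ⟨x, y, hxy⟩ := Fintype.exists_pair_of_one_lt_card hcard2
  obtain ⟨g, hg⟩ := MulAction.exists_smul_eq G x y
  -- a point outside {x, y, g • y}
  obtain ⟨z, hz⟩ : ∃ z : α, z ∉ ({x, y, g • y} : Finset α) := by
    by_contra hcon
    push Not at hcon
    have : ({x, y, g • y} : Finset α) = Finset.univ := Finset.eq_univ_iff_forall.mpr hcon
    have h1 := Finset.card_le_three (a := x) (b := y) (c := g • y)
    rw [this, Finset.card_univ] at h1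
    omega
  simp only [Finset.mem_insert, Finset.mem_singleton, not_or] at hz
  obtain ⟨hzx, hzy, hzgy⟩ := hz
  let v : α → ZMod p := Pi.single x 1 - Pi.single y 1
  have hvS : v ∈ (Cfsg.permSumZero (ZMod p) G α).toSubmodule := by
    show ∑ w, v w = 0
    simp only [v, Pi.sub_apply, Finset.sum_sub_distrib, Finset.sum_pi_single', Finset.mem_univ,
      if_true, sub_self]
  refine ⟨g, v, hvS, ?_⟩
  intro hmem
  have hmem' : Cfsg.permRep (ZMod p) G α g v - v ∈
      Submodule.span (ZMod p) {(fun _ => 1 : α → ZMod p)} := hmem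
  rw [Submodule.mem_span_singleton] at hmem'
  obtain ⟨c, hc⟩ := hmem'
  have hval : ∀ w : α, (Cfsg.permRep (ZMod p) G α g v - v) w =
      ((Pi.single x 1 : α → ZMod p) (g⁻¹ • w) - (Pi.single y 1 : α → ZMod p) (g⁻¹ • w)) -
        ((Pi.single x 1 : α → ZMod p) w - (Pi.single y 1 : α → ZMod p) w) := fun w => rfl
  have hgz1 : g⁻¹ • z ≠ x := by
    intro h
    rw [inv_smul_eq_iff, hg] at h
    exact hzy h
  have hgz2 : g⁻¹ • z ≠ y := by
    intro h
    rw [inv_smul_eq_iff] at h
    exact hzgy h
  have hz0 := congrFun hc z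
  rw [hval, Pi.single_eq_of_ne hgz1, Pi.single_eq_of_ne hgz2, Pi.single_eq_of_ne hzx,
    Pi.single_eq_of_ne hzy] at hz0
  simp only [Pi.smul_apply, smul_eq_mul, mul_one, sub_self] at hz0
  have hy0 := congrFun hc y
  have hgy1 : g⁻¹ • y = x := by
    rw [inv_smul_eq_iff, hg]
  rw [hval, hgy1, Pi.single_eq_same, Pi.single_eq_of_ne hxy, Pi.single_eq_of_ne (Ne.symm hxy),
    Pi.single_eq_same] at hy0
  simp only [Pi.smul_apply, smul_eq_mul, mul_one, hz0] at hy0
  have h2 : (2 : ZMod p) = 0 := by
    have : (1 : ZMod p) - 0 - (0 - 1) = 2 := by ring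
    rw [← this]
    exact hy0.symm
  have h2' : ((2 : ℕ) : ZMod p) = 0 := by exact_mod_cast h2
  rw [ZMod.natCast_eq_zero_iff] at h2'
  have := Nat.le_of_dvd (by norm_num) h2'
  omega

end AffTT

end Cfsg.Agent.Helper12
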