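import Mathlib

/-!
# (DIH1), (DIH2) for helper58's S0508: cyclic subgroups of index two in a dihedral group
-/

set_option autoImplicit false

namespace Cfsg.Agent.Helper12.BSWD

open Subgroup DihedralGroup

/-- in `ZMod n`, the solutions of `2 j = 0` are `0` and the unique nonzero one. -/
theorem two_mul_eq_zero_cases {n : ℕ} [NeZero n] (j k : ZMod n) (hj : 2 * j = 0) (hk : 2 * k = 0)
    (hk0 : k ≠ 0) : j = 0 ∨ j = k := by
  have key : ∀ x : ZMod n, 2 * x = 0 → x ≠ 0 → 2 * x.val = n := by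
    intro x hx hx0
    have h1 : ((2 * x.val : ℕ) : ZMod n) = 0 := by
      push_cast
      rw [ZMod.natCast_zmod_val]
      exact hx
    rw [ZMod.natCast_eq_zero_iff] at h1
    have h2 : x.val < n := ZMod.val_lt x
    have h3 : 0 < x.val := by
      rcases Nat.eq_zero_or_pos x.val with h | h
      · exact absurd ((ZMod.val_eq_zero x).mp h) hx0
      · exact h
    obtain ⟨m, hm⟩ := h1
    have hm1 : m = 1 := by
      have hn : 0 < n := Nat.pos_of_ne_zero (NeZero.ne n)
      rcases Nat.lt_or_ge m 1 with h | h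
      · have : m = 0 := by omega
        subst this
        omega
      · rcases Nat.lt_or_ge m 2 with h' | h'
        · omega
        · have : n * 2 ≤ n * m := Nat.mul_le_mul_left n h'
          omega
    subst hm1
    omega
  by_cases hj0 : j = 0
  · exact Or.inl hj0
  · right
    have h1 := key j hj hj0
    have h2 := key k hk hk0
    apply ZMod.val_injective n
    omega

/-- the rotations are exactly the powers of a rotation of full order. -/
theorem r_mem_zpowers_of_orderOf {n : ℕ} [NeZero n] (a : ZMod n) (ha : orderOf (r a) = n)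
    (j : ZMod n) : r j ∈ zpowers (r a) := by
  rw [orderOf_r] at ha
  have hn : 0 < n := Nat.pos_of_ne_zero (NeZero.ne n)
  have hg : Nat.gcd n a.val = 1 := by
    have h1 : Nat.gcd n a.val ∣ n := Nat.gcd_dvd_left _ _
    have h2 : 0 < Nat.gcd n a.val := Nat.gcd_pos_of_pos_left _ hn
    have h3 := Nat.div_mul_cancel h1
    rw [ha] at h3
    have : n * Nat.gcd n a.val = n * 1 := by rw [h3, mul_one]
    exact Nat.eq_of_mul_eq_mul_left hn this
  have hu : IsUnit a := by
    rw [← ZMod.natCast_zmod_val a]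
    exact (ZMod.isUnit_iff_coprime a.val n).mpr (Nat.Coprime.symm hg)
  obtain ⟨u, hu⟩ := hu
  refine ⟨((↑(u⁻¹ : (ZMod n)ˣ) * j : ZMod n).val : ℤ), ?_⟩
  simp only [zpow_natCast, r_pow]
  congr 1
  rw [ZMod.natCast_zmod_val, ← hu, ← mul_assoc, Units.mul_inv, one_mul]

theorem mem_zpowers_r_iff {n : ℕ} [NeZero n] (a : ZMod n) (x : DihedralGroup n)
    (hx : x ∈ zpowers (r a)) : ∃ j, x = r j := by
  obtain ⟨m, rfl⟩ := hx
  exact ⟨a * m, by simp only [r_zpow]⟩

theorem sr_not_mem_zpowers_r {n : ℕ} [NeZero n] (a i : ZMod n) : sr i ∉ zpowers (r a) := by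
  intro h
  obtain ⟨j, hj⟩ := mem_zpowers_r_iff a _ h
  cases hj

/-- core computation in the dihedral group. -/
theorem dih_core {n : ℕ} [NeZero n] (γ τ σ : DihedralGroup n) (hγ : orderOf γ = n)
    (hτ : orderOf τ = 2) (hτγ : τ ∈ zpowers γ) (hσ : σ ∉ zpowers γ) :
    orderOf σ = 2 ∧ (∀ c ∈ zpowers γ, σ * c * σ⁻¹ = c⁻¹) ∧
      (∀ c ∈ zpowers γ, σ * c = c * σ → c = 1 ∨ c = τ) := by
  cases γ with
  | r a =>
    cases σ with
    | r i => exact absurd (r_mem_zpowers_of_orderOf a hγ i) hσ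
    | sr i =>
      obtain ⟨k, hk⟩ := mem_zpowers_r_iff a _ hτγ
      subst hk
      refine ⟨orderOf_sr i, ?_, ?_⟩
      · intro c hc
        obtain ⟨j, rfl⟩ := mem_zpowers_r_iff a _ hc
        rw [inv_sr, inv_r, sr_mul_r, sr_mul_sr]
        congr 1
        ring
      · intro c hc hcomm
        obtain ⟨j, rfl⟩ := mem_zpowers_r_iff a _ hc
        rw [sr_mul_r, r_mul_sr] at hcomm
        have h1 : i + j = i - j := by
          injection hcomm
        have hj : 2 * j = 0 := by
          have : (i + j) - (i - j) = 0 := by rw [h1, sub_self]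
          rw [← this]; ring
        have hk2 : 2 * k = 0 := by
          have h2 : (r k : DihedralGroup n) ^ 2 = 1 := by
            rw [← hτ]; exact pow_orderOf_eq_one _
          rw [r_pow, one_def] at h2
          have : k * ((2 : ℕ) : ZMod n) = 0 := by injection h2
          rw [← this]; push_cast; ring
        have hk0 : k ≠ 0 := by
          intro h0
          rw [h0, r_zero, orderOf_one] at hτ
          omega
        rcases two_mul_eq_zero_cases j k hj hk2 hk0 with h | h
        · left; rw [h, r_zero]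
        · right; rw [h]
  | sr a =>
    rw [orderOf_sr] at hγ
    subst hγ
    have hsq : ∀ x : DihedralGroup 2, x * x = 1 := by decide
    have hinv : ∀ x c : DihedralGroup 2, x * c * x⁻¹ = c⁻¹ := by decide
    have hmem : ∀ c ∈ zpowers (sr a : DihedralGroup 2), c = 1 ∨ c = sr a := by
      intro c hc
      obtain ⟨m, rfl⟩ := hc
      show (sr a : DihedralGroup 2) ^ m = 1 ∨ (sr a : DihedralGroup 2) ^ m = sr a
      rcases Int.even_or_odd m with ⟨l, hl⟩ | ⟨l, hl⟩
      · left
        rw [hl, zpow_add, hsq]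
      · right
        rw [hl, zpow_add, zpow_one, two_mul, zpow_add, hsq, one_mul]
    have hτe : τ = sr a := by
      rcases hmem τ hτγ with h | h
      · rw [h, orderOf_one] at hτ; omega
      · exact h
    refine ⟨?_, fun c _ => hinv σ c, ?_⟩
    · apply orderOf_eq_prime
      · rw [pow_two]; exact hsq σ
      · intro h; apply hσ; rw [h]; exact one_mem _
    · intro c hc _
      rw [hτe]
      exact hmem c hc

/-- (DIH1) -/
theorem exists_cyclic_index_two {G : Type*} [Group G] (S : Subgroup G) (n : ℕ) (hn : 2 ≤ n)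
    (hS : Nonempty (↥S ≃* DihedralGroup n)) (t : G) (ht : orderOf t = 2) (htS : t ∈ S)
    (htZ : ∀ s ∈ S, s * t = t * s) :
    ∃ C : Subgroup G, C ≤ S ∧ IsCyclic ↥C ∧ C.relIndex S = 2 ∧ t ∈ C := by
  obtain ⟨e⟩ := hS
  have : NeZero n := ⟨by omega⟩
  have hτ : orderOf (e ⟨t, htS⟩) = 2 := by
    rw [MulEquiv.orderOf_eq, ← Subgroup.orderOf_coe]
    exact ht
  have hτZ : ∀ x : DihedralGroup n, x * e ⟨t, htS⟩ = e ⟨t, htS⟩ * x := by
    intro x
    obtain ⟨y, rfl⟩ := e.surjective x
    rw [← map_mul, ← map_mul]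
    congr 1
    exact Subtype.ext (htZ y y.2)
  obtain ⟨γ, hγ, hτγ⟩ : ∃ γ : DihedralGroup n, orderOf γ = n ∧ e ⟨t, htS⟩ ∈ zpowers γ := by
    cases hτe : e ⟨t, htS⟩ with
    | r k => exact ⟨r 1, orderOf_r_one, r_mem_zpowers_of_orderOf 1 orderOf_r_one k⟩
    | sr i =>
      have h := hτZ (r 1)
      rw [hτe, r_mul_sr, sr_mul_r] at h
      have h1 : i - 1 = i + 1 := by injection h
      have h2 : ((2 : ℕ) : ZMod n) = 0 := by
        have : (i + 1) - (i - 1) = 0 := by rw [h1, sub_self]
        rw [← this]; push_cast; ring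
      rw [ZMod.natCast_eq_zero_iff] at h2
      have hn2 : n = 2 := le_antisymm (Nat.le_of_dvd (by norm_num) h2) hn
      subst hn2
      exact ⟨sr i, orderOf_sr i, mem_zpowers _⟩
  refine ⟨zpowers ((e.symm γ : ↥S) : G), ?_, ?_, ?_, ?_⟩
  · rw [zpowers_le]; exact (e.symm γ).2
  · infer_instance
  · have hcard : Nat.card ↥(zpowers ((e.symm γ : ↥S) : G)) = n := by
      rw [Nat.card_zpowers, Subgroup.orderOf_coe, MulEquiv.orderOf_eq]
      exact hγ
    have hle : zpowers ((e.symm γ : ↥S) : G) ≤ S := by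
      rw [zpowers_le]; exact (e.symm γ).2
    have h1 := Subgroup.relIndex_mul_relIndex ⊥ (zpowers ((e.symm γ : ↥S) : G)) S bot_le hle
    rw [Subgroup.relIndex_bot_left, Subgroup.relIndex_bot_left, hcard,
      Nat.card_congr e.toEquiv, DihedralGroup.nat_card] at h1
    have hn0 : 0 < n := by omega
    have : n * (zpowers ((e.symm γ : ↥S) : G)).relIndex S = n * 2 := by rw [h1]; ring
    exact Nat.eq_of_mul_eq_mul_left hn0 this
  · obtain ⟨m, hm⟩ := hτγ
    refine ⟨m, ?_⟩
    have h2 : (e.symm γ) ^ m = ⟨t, htS⟩ := by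
      apply e.injective
      rw [map_zpow, MulEquiv.apply_symm_apply]
      exact hm
    have h3 := congrArg Subtype.val h2
    simpa using h3

/-- (DIH2) -/
theorem outside_cyclic_index_two {G : Type*} [Group G] (S : Subgroup G) (n : ℕ) (hn : 2 ≤ n)
    (hS : Nonempty (↥S ≃* DihedralGroup n)) (t : G) (ht : orderOf t = 2) (htS : t ∈ S)
    (htZ : ∀ s ∈ S, s * t = t * s) (C : Subgroup G) (hCS : C ≤ S) (hC : IsCyclic ↥C)
    (hidx : C.relIndex S = 2) (htC : t ∈ C) (s : G) (hsS : s ∈ S) (hsC : s ∉ C) :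
    orderOf s = 2 ∧ (∀ c ∈ C, s * c * s⁻¹ = c⁻¹) ∧ (∀ c ∈ C, s * c = c * s → c = 1 ∨ c = t) ∧
      C ⊔ zpowers s = S := by
  obtain ⟨e⟩ := hS
  have : NeZero n := ⟨by omega⟩
  obtain ⟨g, hg⟩ := hC.exists_generator
  have hτ : orderOf (e ⟨t, htS⟩) = 2 := by
    rw [MulEquiv.orderOf_eq, ← Subgroup.orderOf_coe]
    exact ht
  have hcardS : Nat.card ↥S = 2 * n := by
    rw [Nat.card_congr e.toEquiv, DihedralGroup.nat_card]
  have hcardC : Nat.card ↥C = n := by
    have h1 := Subgroup.relIndex_mul_relIndex ⊥ C S bot_le hCS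
    rw [Subgroup.relIndex_bot_left, Subgroup.relIndex_bot_left, hidx, hcardS] at h1
    omega
  have hγ : orderOf (e ⟨(g : G), hCS g.2⟩) = n := by
    rw [MulEquiv.orderOf_eq, ← Subgroup.orderOf_coe]
    show orderOf (g : G) = n
    rw [Subgroup.orderOf_coe, orderOf_eq_card_of_forall_mem_zpowers hg]
    exact hcardC
  have hmemC : ∀ (c : G) (hc : c ∈ S), c ∈ C ↔ e ⟨c, hc⟩ ∈ zpowers (e ⟨(g : G), hCS g.2⟩) := by
    intro c hc
    constructor
    · intro hcC
      obtain ⟨m, hm⟩ := hg ⟨c, hcC⟩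
      refine ⟨m, ?_⟩
      show (e ⟨(g : G), hCS g.2⟩) ^ m = e ⟨c, hc⟩
      rw [← map_zpow]
      congr 1
      apply Subtype.ext
      have h3 := congrArg Subtype.val hm
      simpa using h3
    · rintro ⟨m, hm⟩
      have hm' : (e ⟨(g : G), hCS g.2⟩) ^ m = e ⟨c, hc⟩ := hm
      rw [← map_zpow] at hm'
      have h2 := e.injective hm'
      have h3 := congrArg Subtype.val h2
      have h4 : (g : G) ^ m = c := by simpa using h3
      rw [← h4]
      exact C.zpow_mem g.2 m
  have hσ : e ⟨s, hsS⟩ ∉ zpowers (e ⟨(g : G), hCS g.2⟩) := fun h => hsC ((hmemC s hsS).mpr h)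
  have hτγ : e ⟨t, htS⟩ ∈ zpowers (e ⟨(g : G), hCS g.2⟩) := (hmemC t htS).mp htC
  obtain ⟨h1, h2, h3⟩ := dih_core _ _ _ hγ hτ hτγ hσ
  refine ⟨?_, ?_, ?_, ?_⟩
  · rw [MulEquiv.orderOf_eq, ← Subgroup.orderOf_coe] at h1
    exact h1
  · intro c hc
    have h := h2 (e ⟨c, hCS hc⟩) ((hmemC c (hCS hc)).mp hc)
    rw [← map_inv, ← map_inv, ← map_mul, ← map_mul] at h
    have h' := congrArg Subtype.val (e.injective h)
    simpa using h'
  · intro c hc hcomm
    have h := h3 (e ⟨c, hCS hc⟩) ((hmemC c (hCS hc)).mp hc) (by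
      rw [← map_mul, ← map_mul]
      congr 1
      exact Subtype.ext hcomm)
    rcases h with h | h
    · left
      rw [← map_one e] at h
      exact congrArg Subtype.val (e.injective h)
    · right
      exact congrArg Subtype.val (e.injective h)
  · apply le_antisymm
    · exact sup_le hCS (by rw [zpowers_le]; exact hsS)
    · intro x hx
      by_cases hxC : x ∈ C
      · exact (le_sup_left : C ≤ C ⊔ zpowers s) hxC
      · have hi : (C.subgroupOf S).index = 2 := hidx
        have hmul := (Subgroup.mul_mem_iff_of_index_two hi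
          (a := (⟨x, hx⟩ : ↥S)) (b := (⟨s, hsS⟩ : ↥S)⁻¹)).mpr (by
            rw [inv_mem_iff, mem_subgroupOf, mem_subgroupOf]
            exact ⟨fun h => absurd h hxC, fun h => absurd h hsC⟩)
        rw [mem_subgroupOf] at hmul
        have hxs : x * s⁻¹ ∈ C := by simpa using hmul
        have : x = (x * s⁻¹) * s := by group
        rw [this]
        exact mul_mem ((le_sup_left : C ≤ C ⊔ zpowers s) hxs)
          ((le_sup_right : zpowers s ≤ C ⊔ zpowers s) (mem_zpowers s))

end Cfsg.Agent.Helper12.BSWD
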