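import Cfsg.Agent.Helper39.C320.Defs

/-! (NF) piece for helper39's S1903: the multiplication table bounds the order by 320. -/

set_option autoImplicit false
set_option linter.unusedSimpArgs false
set_option linter.unusedVariables false

namespace Cfsg.Agent.Helper12.C320

open Cfsg.Agent.Helper39.C320

section NF
variable {H : Type*} [Group H]

/-- `a` if the bit is set, `1` otherwise -/
def pw (a : H) (e : Bool) : H := cond e a 1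

@[simp] theorem pw_true (a : H) : pw a true = a := rfl
@[simp] theorem pw_false (a : H) : pw a false = 1 := rfl

/-- the word `a0^e0 a1^e1 a2^e2 a3^e3` -/
def wd (a0 a1 a2 a3 : H) (e0 e1 e2 e3 : Bool) : H :=
  pw a0 e0 * (pw a1 e1 * (pw a2 e2 * pw a3 e3))

variable {x a0 a1 a2 a3 c1 c2 : H}

/-- right multiplication of a sorted word by a generator: the four collection formulas -/
theorem wd_mul (h : Tab x a0 a1 a2 a3 c1 c2) (e0 e1 e2 e3 : Bool) :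
    (wd a0 a1 a2 a3 e0 e1 e2 e3 * a0 =
      pw c1 e1 * (pw c2 e2 * (pw c2 e3 * (pw (c1 * c2) e0 * wd a0 a1 a2 a3 (!e0) e1 e2 e3)))) ∧
    (wd a0 a1 a2 a3 e0 e1 e2 e3 * a1 =
      pw c1 e2 * (pw c2 e3 * (pw (c1 * c2) e1 * wd a0 a1 a2 a3 e0 (!e1) e2 e3))) ∧
    (wd a0 a1 a2 a3 e0 e1 e2 e3 * a2 =
      pw c1 e3 * (pw (c1 * c2) e2 * wd a0 a1 a2 a3 e0 e1 (!e2) e3)) ∧
    (wd a0 a1 a2 a3 e0 e1 e2 e3 * a3 =
      pw (c1 * c2) e3 * wd a0 a1 a2 a3 e0 e1 e2 (!e3)) := by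
  obtain ⟨x5, c1sq, c2sq, c21, xc1, xc2, a0c1, a1c1, a2c1, a3c1, a0c2, a1c2, a2c2, a3c2,
    sq0, sq1, sq2, sq3, r10, r20, r30, r21, r31, r32, xa0, xa1, xa2, xa3⟩ := h
  have c1sq' : ∀ w, c1 * (c1 * w) = w := fun w => by rw [← mul_assoc, c1sq, one_mul]
  have c2sq' : ∀ w, c2 * (c2 * w) = w := fun w => by rw [← mul_assoc, c2sq, one_mul]
  have c21' : ∀ w, c2 * (c1 * w) = c1 * (c2 * w) := fun w => by
    rw [← mul_assoc, c21, mul_assoc]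
  have a0c1' : ∀ w, a0 * (c1 * w) = c1 * (a0 * w) := fun w => by rw [← mul_assoc, a0c1, mul_assoc]
  have a1c1' : ∀ w, a1 * (c1 * w) = c1 * (a1 * w) := fun w => by rw [← mul_assoc, a1c1, mul_assoc]
  have a2c1' : ∀ w, a2 * (c1 * w) = c1 * (a2 * w) := fun w => by rw [← mul_assoc, a2c1, mul_assoc]
  have a3c1' : ∀ w, a3 * (c1 * w) = c1 * (a3 * w) := fun w => by rw [← mul_assoc, a3c1, mul_assoc]
  have a0c2' : ∀ w, a0 * (c2 * w) = c2 * (a0 * w) := fun w => by rw [← mul_assoc, a0c2, mul_assoc]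
  have a1c2' : ∀ w, a1 * (c2 * w) = c2 * (a1 * w) := fun w => by rw [← mul_assoc, a1c2, mul_assoc]
  have a2c2' : ∀ w, a2 * (c2 * w) = c2 * (a2 * w) := fun w => by rw [← mul_assoc, a2c2, mul_assoc]
  have a3c2' : ∀ w, a3 * (c2 * w) = c2 * (a3 * w) := fun w => by rw [← mul_assoc, a3c2, mul_assoc]
  have sq0' : ∀ w, a0 * (a0 * w) = c1 * (c2 * w) := fun w => by
    rw [← mul_assoc, sq0, mul_assoc]
  have sq1' : ∀ w, a1 * (a1 * w) = c1 * (c2 * w) := fun w => by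
    rw [← mul_assoc, sq1, mul_assoc]
  have sq2' : ∀ w, a2 * (a2 * w) = c1 * (c2 * w) := fun w => by
    rw [← mul_assoc, sq2, mul_assoc]
  have sq3' : ∀ w, a3 * (a3 * w) = c1 * (c2 * w) := fun w => by
    rw [← mul_assoc, sq3, mul_assoc]
  have r10' : ∀ w, a1 * (a0 * w) = c1 * (a0 * (a1 * w)) := fun w => by
    rw [← mul_assoc, r10, mul_assoc, mul_assoc]
  have r20' : ∀ w, a2 * (a0 * w) = c2 * (a0 * (a2 * w)) := fun w => by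
    rw [← mul_assoc, r20, mul_assoc, mul_assoc]
  have r30' : ∀ w, a3 * (a0 * w) = c2 * (a0 * (a3 * w)) := fun w => by
    rw [← mul_assoc, r30, mul_assoc, mul_assoc]
  have r21' : ∀ w, a2 * (a1 * w) = c1 * (a1 * (a2 * w)) := fun w => by
    rw [← mul_assoc, r21, mul_assoc, mul_assoc]
  have r31' : ∀ w, a3 * (a1 * w) = c2 * (a1 * (a3 * w)) := fun w => by
    rw [← mul_assoc, r31, mul_assoc, mul_assoc]
  have r32' : ∀ w, a3 * (a2 * w) = c1 * (a2 * (a3 * w)) := fun w => by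
    rw [← mul_assoc, r32, mul_assoc, mul_assoc]
  refine ⟨?_, ?_, ?_, ?_⟩ <;>
  cases e0 <;> cases e1 <;> cases e2 <;> cases e3 <;>
    simp only [wd, pw_true, pw_false, Bool.not_true, Bool.not_false, mul_one, one_mul, mul_assoc,
      c1sq, c2sq, c21, a0c1, a1c1, a2c1, a3c1, a0c2, a1c2, a2c2, a3c2, sq0, sq1, sq2, sq3,
      r10, r20, r30, r21, r31, r32,
      c1sq', c2sq', c21', a0c1', a1c1', a2c1', a3c1', a0c2', a1c2', a2c2', a3c2',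
      sq0', sq1', sq2', sq3', r10', r20', r30', r21', r31', r32']

/-- the set `Z · a0^e0 a1^e1 a2^e2 a3^e3` -/
def QQ (a0 a1 a2 a3 c1 c2 : H) : Set H :=
  {y | ∃ i j e0 e1 e2 e3 : Bool, y = pw c1 i * (pw c2 j * wd a0 a1 a2 a3 e0 e1 e2 e3)}

theorem QQ_c1_mul (h : Tab x a0 a1 a2 a3 c1 c2) {y : H} (hy : y ∈ QQ a0 a1 a2 a3 c1 c2) :
    c1 * y ∈ QQ a0 a1 a2 a3 c1 c2 := by
  obtain ⟨i, j, e0, e1, e2, e3, rfl⟩ := hy
  refine ⟨!i, j, e0, e1, e2, e3, ?_⟩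
  cases i
  · simp
  · simp only [pw_true, Bool.not_true, pw_false, one_mul]
    rw [← mul_assoc, h.c1sq, one_mul]

theorem QQ_c2_mul (h : Tab x a0 a1 a2 a3 c1 c2) {y : H} (hy : y ∈ QQ a0 a1 a2 a3 c1 c2) :
    c2 * y ∈ QQ a0 a1 a2 a3 c1 c2 := by
  obtain ⟨i, j, e0, e1, e2, e3, rfl⟩ := hy
  refine ⟨i, !j, e0, e1, e2, e3, ?_⟩
  have hc : c2 * pw c1 i = pw c1 i * c2 := by
    cases i
    · simp
    · simpa using h.c21
  rw [← mul_assoc, hc, mul_assoc]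
  congr 1
  cases j
  · simp
  · simp only [pw_true, Bool.not_true, pw_false, one_mul]
    rw [← mul_assoc, h.c2sq, one_mul]

theorem QQ_pw_c1_mul (h : Tab x a0 a1 a2 a3 c1 c2) (e : Bool) {y : H}
    (hy : y ∈ QQ a0 a1 a2 a3 c1 c2) : pw c1 e * y ∈ QQ a0 a1 a2 a3 c1 c2 := by
  cases e
  · simpa using hy
  · simpa using QQ_c1_mul h hy

theorem QQ_pw_c2_mul (h : Tab x a0 a1 a2 a3 c1 c2) (e : Bool) {y : H}
    (hy : y ∈ QQ a0 a1 a2 a3 c1 c2) : pw c2 e * y ∈ QQ a0 a1 a2 a3 c1 c2 := by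
  cases e
  · simpa using hy
  · simpa using QQ_c2_mul h hy

theorem QQ_pw_c12_mul (h : Tab x a0 a1 a2 a3 c1 c2) (e : Bool) {y : H}
    (hy : y ∈ QQ a0 a1 a2 a3 c1 c2) : pw (c1 * c2) e * y ∈ QQ a0 a1 a2 a3 c1 c2 := by
  cases e
  · simpa using hy
  · simp only [pw_true]
    rw [mul_assoc]
    exact QQ_c1_mul h (QQ_c2_mul h hy)

theorem wd_mem_QQ (e0 e1 e2 e3 : Bool) :
    wd a0 a1 a2 a3 e0 e1 e2 e3 ∈ QQ a0 a1 a2 a3 c1 c2 :=
  ⟨false, false, e0, e1, e2, e3, by simp⟩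

theorem QQ_mul_a0 (h : Tab x a0 a1 a2 a3 c1 c2) {y : H} (hy : y ∈ QQ a0 a1 a2 a3 c1 c2) :
    y * a0 ∈ QQ a0 a1 a2 a3 c1 c2 := by
  obtain ⟨i, j, e0, e1, e2, e3, rfl⟩ := hy
  rw [mul_assoc, mul_assoc, (wd_mul h e0 e1 e2 e3).1]
  exact QQ_pw_c1_mul h _ (QQ_pw_c2_mul h _ (QQ_pw_c1_mul h _ (QQ_pw_c2_mul h _
    (QQ_pw_c2_mul h _ (QQ_pw_c12_mul h _ (wd_mem_QQ _ _ _ _))))))

theorem QQ_mul_a1 (h : Tab x a0 a1 a2 a3 c1 c2) {y : H} (hy : y ∈ QQ a0 a1 a2 a3 c1 c2) :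
    y * a1 ∈ QQ a0 a1 a2 a3 c1 c2 := by
  obtain ⟨i, j, e0, e1, e2, e3, rfl⟩ := hy
  rw [mul_assoc, mul_assoc, (wd_mul h e0 e1 e2 e3).2.1]
  exact QQ_pw_c1_mul h _ (QQ_pw_c2_mul h _ (QQ_pw_c1_mul h _ (QQ_pw_c2_mul h _
    (QQ_pw_c12_mul h _ (wd_mem_QQ _ _ _ _)))))

theorem QQ_mul_a2 (h : Tab x a0 a1 a2 a3 c1 c2) {y : H} (hy : y ∈ QQ a0 a1 a2 a3 c1 c2) :
    y * a2 ∈ QQ a0 a1 a2 a3 c1 c2 := by
  obtain ⟨i, j, e0, e1, e2, e3, rfl⟩ := hy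
  rw [mul_assoc, mul_assoc, (wd_mul h e0 e1 e2 e3).2.2.1]
  exact QQ_pw_c1_mul h _ (QQ_pw_c2_mul h _ (QQ_pw_c1_mul h _
    (QQ_pw_c12_mul h _ (wd_mem_QQ _ _ _ _))))

theorem QQ_mul_a3 (h : Tab x a0 a1 a2 a3 c1 c2) {y : H} (hy : y ∈ QQ a0 a1 a2 a3 c1 c2) :
    y * a3 ∈ QQ a0 a1 a2 a3 c1 c2 := by
  obtain ⟨i, j, e0, e1, e2, e3, rfl⟩ := hy
  rw [mul_assoc, mul_assoc, (wd_mul h e0 e1 e2 e3).2.2.2]
  exact QQ_pw_c1_mul h _ (QQ_pw_c2_mul h _ (QQ_pw_c12_mul h _ (wd_mem_QQ _ _ _ _)))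

/-- `c1` commutes with every element of `QQ` -/
theorem QQ_comm_c1 (h : Tab x a0 a1 a2 a3 c1 c2) {y : H} (hy : y ∈ QQ a0 a1 a2 a3 c1 c2) :
    y * c1 = c1 * y := by
  obtain ⟨i, j, e0, e1, e2, e3, rfl⟩ := hy
  obtain ⟨x5, c1sq, c2sq, c21, xc1, xc2, a0c1, a1c1, a2c1, a3c1, a0c2, a1c2, a2c2, a3c2,
    sq0, sq1, sq2, sq3, r10, r20, r30, r21, r31, r32, xa0, xa1, xa2, xa3⟩ := h
  have c21' : ∀ w, c2 * (c1 * w) = c1 * (c2 * w) := fun w => by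
    rw [← mul_assoc, c21, mul_assoc]
  have a0c1' : ∀ w, a0 * (c1 * w) = c1 * (a0 * w) := fun w => by rw [← mul_assoc, a0c1, mul_assoc]
  have a1c1' : ∀ w, a1 * (c1 * w) = c1 * (a1 * w) := fun w => by rw [← mul_assoc, a1c1, mul_assoc]
  have a2c1' : ∀ w, a2 * (c1 * w) = c1 * (a2 * w) := fun w => by rw [← mul_assoc, a2c1, mul_assoc]
  cases i <;> cases j <;> cases e0 <;> cases e1 <;> cases e2 <;> cases e3 <;>
    simp only [wd, pw_true, pw_false, mul_one, one_mul, mul_assoc, c21, a0c1, a1c1, a2c1, a3c1,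
      c21', a0c1', a1c1', a2c1']

/-- `c2` commutes with every element of `QQ` -/
theorem QQ_comm_c2 (h : Tab x a0 a1 a2 a3 c1 c2) {y : H} (hy : y ∈ QQ a0 a1 a2 a3 c1 c2) :
    y * c2 = c2 * y := by
  obtain ⟨i, j, e0, e1, e2, e3, rfl⟩ := hy
  obtain ⟨x5, c1sq, c2sq, c21, xc1, xc2, a0c1, a1c1, a2c1, a3c1, a0c2, a1c2, a2c2, a3c2,
    sq0, sq1, sq2, sq3, r10, r20, r30, r21, r31, r32, xa0, xa1, xa2, xa3⟩ := h
  have c12' : ∀ w, c1 * (c2 * w) = c2 * (c1 * w) := fun w => by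
    rw [← mul_assoc, ← c21, mul_assoc]
  have a0c2' : ∀ w, a0 * (c2 * w) = c2 * (a0 * w) := fun w => by rw [← mul_assoc, a0c2, mul_assoc]
  have a1c2' : ∀ w, a1 * (c2 * w) = c2 * (a1 * w) := fun w => by rw [← mul_assoc, a1c2, mul_assoc]
  have a2c2' : ∀ w, a2 * (c2 * w) = c2 * (a2 * w) := fun w => by rw [← mul_assoc, a2c2, mul_assoc]
  cases i <;> cases j <;> cases e0 <;> cases e1 <;> cases e2 <;> cases e3 <;>
    simp only [wd, pw_true, pw_false, mul_one, one_mul, mul_assoc, ← c21, a0c2, a1c2, a2c2, a3c2,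
      c12', a0c2', a1c2', a2c2']

theorem QQ_mul_c1 (h : Tab x a0 a1 a2 a3 c1 c2) {y : H} (hy : y ∈ QQ a0 a1 a2 a3 c1 c2) :
    y * c1 ∈ QQ a0 a1 a2 a3 c1 c2 := by
  rw [QQ_comm_c1 h hy]; exact QQ_c1_mul h hy

theorem QQ_mul_c2 (h : Tab x a0 a1 a2 a3 c1 c2) {y : H} (hy : y ∈ QQ a0 a1 a2 a3 c1 c2) :
    y * c2 ∈ QQ a0 a1 a2 a3 c1 c2 := by
  rw [QQ_comm_c2 h hy]; exact QQ_c2_mul h hy

/-- the normal forms -/
def SS (x a0 a1 a2 a3 c1 c2 : H) : Set H :=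
  {y | ∃ q ∈ QQ a0 a1 a2 a3 c1 c2, ∃ k : Fin 5, y = q * x ^ (k : ℕ)}

theorem one_mem_SS : (1 : H) ∈ SS x a0 a1 a2 a3 c1 c2 :=
  ⟨1, ⟨false, false, false, false, false, false, by simp [wd]⟩, 0, by simp⟩

theorem SS_mul_x (h : Tab x a0 a1 a2 a3 c1 c2) {y : H} (hy : y ∈ SS x a0 a1 a2 a3 c1 c2) :
    y * x ∈ SS x a0 a1 a2 a3 c1 c2 := by
  obtain ⟨q, hq, k, rfl⟩ := hy
  by_cases hk : (k : ℕ) + 1 < 5
  · exact ⟨q, hq, ⟨k + 1, hk⟩, by rw [mul_assoc, ← pow_succ]⟩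
  · have hk4 : (k : ℕ) = 4 := by have := k.2; omega
    exact ⟨q, hq, 0, by rw [mul_assoc, ← pow_succ, hk4, h.x5]; simp⟩

theorem pow_mul_a0 (h : Tab x a0 a1 a2 a3 c1 c2) :
    x ^ 1 * a0 = a1 * x ^ 1 ∧ x ^ 2 * a0 = a2 * x ^ 2 ∧ x ^ 3 * a0 = a3 * x ^ 3 ∧
      x ^ 4 * a0 = c1 * (c2 * (a0 * (a1 * (a2 * a3)))) * x ^ 4 := by
  have e1 : x ^ 1 * a0 = a1 * x ^ 1 := by rw [pow_one]; exact h.xa0
  have e2 : x ^ 2 * a0 = a2 * x ^ 2 := by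
    rw [pow_two, mul_assoc, h.xa0, ← mul_assoc, h.xa1, mul_assoc]
  have e3 : x ^ 3 * a0 = a3 * x ^ 3 := by
    rw [pow_succ' x 2, mul_assoc, e2, ← mul_assoc, h.xa2, mul_assoc]
  refine ⟨e1, e2, e3, ?_⟩
  rw [pow_succ' x 3, mul_assoc, e3, ← mul_assoc, h.xa3]
  simp only [mul_assoc]

theorem SS_mul_a0 (h : Tab x a0 a1 a2 a3 c1 c2) {y : H} (hy : y ∈ SS x a0 a1 a2 a3 c1 c2) :
    y * a0 ∈ SS x a0 a1 a2 a3 c1 c2 := by
  obtain ⟨q, hq, k, rfl⟩ := hy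
  obtain ⟨p1, p2, p3, p4⟩ := pow_mul_a0 h
  have hk : (k : ℕ) = 0 ∨ (k : ℕ) = 1 ∨ (k : ℕ) = 2 ∨ (k : ℕ) = 3 ∨ (k : ℕ) = 4 := by
    have := k.2; omega
  rcases hk with hk | hk | hk | hk | hk
  · refine ⟨q * a0, QQ_mul_a0 h hq, k, ?_⟩
    rw [hk]; simp
  · refine ⟨q * a1, QQ_mul_a1 h hq, k, ?_⟩
    rw [hk, mul_assoc, p1, mul_assoc]
  · refine ⟨q * a2, QQ_mul_a2 h hq, k, ?_⟩
    rw [hk, mul_assoc, p2, mul_assoc]
  · refine ⟨q * a3, QQ_mul_a3 h hq, k, ?_⟩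
    rw [hk, mul_assoc, p3, mul_assoc]
  · refine ⟨q * c1 * c2 * a0 * a1 * a2 * a3, QQ_mul_a3 h (QQ_mul_a2 h (QQ_mul_a1 h (QQ_mul_a0 h
      (QQ_mul_c2 h (QQ_mul_c1 h hq))))), k, ?_⟩
    rw [hk, mul_assoc, p4]
    simp only [mul_assoc]

/-- (NF) normal forms `c1^i c2^j a0^e0 a1^e1 a2^e2 a3^e3 x^k` cover the group -/
theorem card_le_of_tab [Finite H] (x a0 a1 a2 a3 c1 c2 : H) (h : Tab x a0 a1 a2 a3 c1 c2)
    (hgen : Subgroup.closure {x, a0} = ⊤) : Nat.card H ≤ 320 := by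
  -- inverses of the generators
  have hxinv : x⁻¹ = x * x * x * x := by
    rw [inv_eq_iff_mul_eq_one]
    have := h.x5
    simpa [pow_succ, mul_assoc] using this
  have ha0inv : a0⁻¹ = a0 * a0 * a0 := by
    rw [inv_eq_iff_mul_eq_one]
    have h1 : a0 * (a0 * a0 * a0) = (a0 * a0) * (a0 * a0) := by simp only [mul_assoc]
    rw [h1, h.sq0]
    calc c1 * c2 * (c1 * c2) = c1 * (c2 * c1) * c2 := by simp only [mul_assoc]
      _ = c1 * (c1 * c2) * c2 := by rw [h.c21]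
      _ = (c1 * c1) * (c2 * c2) := by simp only [mul_assoc]
      _ = 1 := by rw [h.c1sq, h.c2sq, one_mul]
  have hall : ∀ y : H, y ∈ SS x a0 a1 a2 a3 c1 c2 := by
    intro y
    have hy : y ∈ Subgroup.closure ({x, a0} : Set H) := by rw [hgen]; trivial
    induction hy using Subgroup.closure_induction_right with
    | one => exact one_mem_SS
    | mul_right u v hu hv ih =>
      rcases hv with rfl | rfl
      · exact SS_mul_x h ih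
      · exact SS_mul_a0 h ih
    | mul_inv_cancel u v hu hv ih =>
      rcases hv with rfl | rfl
      · rw [hxinv]
        simp only [← mul_assoc]
        exact SS_mul_x h (SS_mul_x h (SS_mul_x h (SS_mul_x h ih)))
      · rw [ha0inv]
        simp only [← mul_assoc]
        exact SS_mul_a0 h (SS_mul_a0 h (SS_mul_a0 h ih))
  -- the parametrisation
  let f : (Bool × Bool × Bool × Bool × Bool × Bool) × Fin 5 → H := fun t =>
    pw c1 t.1.1 * (pw c2 t.1.2.1 * wd a0 a1 a2 a3 t.1.2.2.1 t.1.2.2.2.1 t.1.2.2.2.2.1 t.1.2.2.2.2.2)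
      * x ^ (t.2 : ℕ)
  have hf : Function.Surjective f := by
    intro y
    obtain ⟨q, ⟨i, j, e0, e1, e2, e3, rfl⟩, k, rfl⟩ := hall y
    exact ⟨((i, j, e0, e1, e2, e3), k), rfl⟩
  have hcard := Nat.card_le_card_of_surjective f hf
  have h320 : Nat.card ((Bool × Bool × Bool × Bool × Bool × Bool) × Fin 5) = 320 := by
    rw [Nat.card_eq_fintype_card]
    simp [Fintype.card_prod]
  omega

end NF

end Cfsg.Agent.Helper12.C320
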