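import Cfsg.Agent.Helper39.C320.Defs

/-! (TB) piece for helper39's S1903: the multiplication table follows from the relations. -/

set_option autoImplicit false
set_option linter.unusedSimpArgs false
set_option linter.unusedVariables false

namespace Cfsg.Agent.Helper12.C320

open Cfsg.Agent.Helper39.C320

section TB
variable {H : Type*} [Group H]

/-- from a commutator identity to a swap rule -/
theorem swap_of_comm {u v c : H} (hc : u * v * u⁻¹ * v⁻¹ = c) (hcc : c * c = 1)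
    (hcu : Commute c u) (hcv : Commute c v) : v * u = c * (u * v) := by
  have h1 : u * v = c * (v * u) := by
    rw [← hc]; group
  rw [h1, ← mul_assoc, hcc, one_mul]

/-- the two collection identities in the abstract table algebra -/
theorem collect_aux {a0 a1 a2 a3 c1 c2 s : H}
    (c1sq : c1 * c1 = 1) (c2sq : c2 * c2 = 1) (ssq : s * s = 1) (c21 : c2 * c1 = c1 * c2)
    (sc1 : s * c1 = c1 * s) (sc2 : s * c2 = c2 * s)
    (a0c1 : a0 * c1 = c1 * a0) (a1c1 : a1 * c1 = c1 * a1) (a2c1 : a2 * c1 = c1 * a2)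
    (a3c1 : a3 * c1 = c1 * a3) (a0c2 : a0 * c2 = c2 * a0) (a1c2 : a1 * c2 = c2 * a1)
    (a2c2 : a2 * c2 = c2 * a2) (a3c2 : a3 * c2 = c2 * a3)
    (a0s : a0 * s = s * a0) (a1s : a1 * s = s * a1) (a2s : a2 * s = s * a2)
    (a3s : a3 * s = s * a3)
    (sq0 : a0 * a0 = s) (sq1 : a1 * a1 = s) (sq2 : a2 * a2 = s) (sq3 : a3 * a3 = s)
    (r10 : a1 * a0 = c1 * (a0 * a1)) (r20 : a2 * a0 = c2 * (a0 * a2))
    (r30 : a3 * a0 = c2 * (a0 * a3)) (r21 : a2 * a1 = c1 * (a1 * a2))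
    (r31 : a3 * a1 = c2 * (a1 * a3)) (r32 : a3 * a2 = c1 * (a2 * a3)) :
    (a0 * (a1 * (a2 * a3))) * (c1 * (c2 * (a0 * (a1 * (a2 * a3))))) = 1 ∧
    (c1 * (c2 * (a0 * (a1 * (a2 * a3))))) * (c1 * (c2 * (a0 * (a1 * (a2 * a3))))) = c1 * c2 := by
  have c1sq' : ∀ w, c1 * (c1 * w) = w := fun w => by rw [← mul_assoc, c1sq, one_mul]
  have c2sq' : ∀ w, c2 * (c2 * w) = w := fun w => by rw [← mul_assoc, c2sq, one_mul]
  have ssq' : ∀ w, s * (s * w) = w := fun w => by rw [← mul_assoc, ssq, one_mul]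
  have c21' : ∀ w, c2 * (c1 * w) = c1 * (c2 * w) := fun w => by
    rw [← mul_assoc, c21, mul_assoc]
  have sc1' : ∀ w, s * (c1 * w) = c1 * (s * w) := fun w => by rw [← mul_assoc, sc1, mul_assoc]
  have sc2' : ∀ w, s * (c2 * w) = c2 * (s * w) := fun w => by rw [← mul_assoc, sc2, mul_assoc]
  have a0c1' : ∀ w, a0 * (c1 * w) = c1 * (a0 * w) := fun w => by rw [← mul_assoc, a0c1, mul_assoc]
  have a1c1' : ∀ w, a1 * (c1 * w) = c1 * (a1 * w) := fun w => by rw [← mul_assoc, a1c1, mul_assoc]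
  have a2c1' : ∀ w, a2 * (c1 * w) = c1 * (a2 * w) := fun w => by rw [← mul_assoc, a2c1, mul_assoc]
  have a3c1' : ∀ w, a3 * (c1 * w) = c1 * (a3 * w) := fun w => by rw [← mul_assoc, a3c1, mul_assoc]
  have a0c2' : ∀ w, a0 * (c2 * w) = c2 * (a0 * w) := fun w => by rw [← mul_assoc, a0c2, mul_assoc]
  have a1c2' : ∀ w, a1 * (c2 * w) = c2 * (a1 * w) := fun w => by rw [← mul_assoc, a1c2, mul_assoc]
  have a2c2' : ∀ w, a2 * (c2 * w) = c2 * (a2 * w) := fun w => by rw [← mul_assoc, a2c2, mul_assoc]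
  have a3c2' : ∀ w, a3 * (c2 * w) = c2 * (a3 * w) := fun w => by rw [← mul_assoc, a3c2, mul_assoc]
  have a0s' : ∀ w, a0 * (s * w) = s * (a0 * w) := fun w => by rw [← mul_assoc, a0s, mul_assoc]
  have a1s' : ∀ w, a1 * (s * w) = s * (a1 * w) := fun w => by rw [← mul_assoc, a1s, mul_assoc]
  have a2s' : ∀ w, a2 * (s * w) = s * (a2 * w) := fun w => by rw [← mul_assoc, a2s, mul_assoc]
  have a3s' : ∀ w, a3 * (s * w) = s * (a3 * w) := fun w => by rw [← mul_assoc, a3s, mul_assoc]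
  have sq0' : ∀ w, a0 * (a0 * w) = s * w := fun w => by rw [← mul_assoc, sq0]
  have sq1' : ∀ w, a1 * (a1 * w) = s * w := fun w => by rw [← mul_assoc, sq1]
  have sq2' : ∀ w, a2 * (a2 * w) = s * w := fun w => by rw [← mul_assoc, sq2]
  have sq3' : ∀ w, a3 * (a3 * w) = s * w := fun w => by rw [← mul_assoc, sq3]
  have r10' : ∀ w, a1 * (a0 * w) = c1 * (a0 * (a1 * w)) := fun w => by
    rw [← mul_assoc, r10, mul_assoc, mul_assoc]
  have r20' : ∀ w, a2 * (a0 * w) = c2 * (a0 * (a2 * w)) := fun w => by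
    rw [← mul_assoc, r20, mul_assoc, mul_assoc]
  have r30' : ∀ w, a3 * (a0 * w) = c2 * (a0 * (a3 * w)) := fun w => by
    rw [← mul_assoc, r30, mul_assoc, mul_assoc]
  have r21' : ∀ w, a2 * (a1 * w) = c1 * (a1 * (a2 * w)) := fun w => by
    rw [← mul_assoc, r21, mul_assoc, mul_assoc]
  have r31' : ∀ w, a3 * (a1 * w) = c2 * (a1 * (a3 * w)) := fun w => by
    rw [← mul_assoc, r31, mul_assoc, mul_assoc]
  have r32' : ∀ w, a3 * (a2 * w) = c1 * (a2 * (a3 * w)) := fun w => by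
    rw [← mul_assoc, r32, mul_assoc, mul_assoc]
  constructor <;>
    simp only [mul_one, one_mul, mul_assoc,
      c1sq, c2sq, ssq, c21, sc1, sc2, a0c1, a1c1, a2c1, a3c1, a0c2, a1c2, a2c2, a3c2,
      a0s, a1s, a2s, a3s, sq0, sq1, sq2, sq3, r10, r20, r30, r21, r31, r32,
      c1sq', c2sq', ssq', c21', sc1', sc2', a0c1', a1c1', a2c1', a3c1', a0c2', a1c2', a2c2',
      a3c2', a0s', a1s', a2s', a3s', sq0', sq1', sq2', sq3', r10', r20', r30', r21', r31', r32']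

/-- an element commuting with `x` and `a` commutes with the conjugates and commutators -/
theorem commute_words {g x a : H} (hx : Commute g x) (ha : Commute g a) :
    Commute g (cj1 x a) ∧ Commute g (cj2 x a) ∧ Commute g (cj3 x a) ∧
      Commute g (k1 x a) ∧ Commute g (k2 x a) := by
  have h1 : Commute g (cj1 x a) := by
    unfold cj1
    exact (hx.mul_right ha).mul_right hx.inv_right
  have h2 : Commute g (cj2 x a) := by
    unfold cj2
    exact ((hx.pow_right 2).mul_right ha).mul_right (hx.pow_right 2).inv_right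
  have h3 : Commute g (cj3 x a) := by
    unfold cj3
    exact ((hx.pow_right 3).mul_right ha).mul_right (hx.pow_right 3).inv_right
  refine ⟨h1, h2, h3, ?_, ?_⟩
  · unfold k1
    exact ((ha.mul_right h1).mul_right ha.inv_right).mul_right h1.inv_right
  · unfold k2
    exact ((ha.mul_right h2).mul_right ha.inv_right).mul_right h2.inv_right

/-- (TB) the multiplication table follows from the relations -/
theorem tab_of_rel (x a : H) (h : Rel x a) :
    Tab x a (cj1 x a) (cj2 x a) (cj3 x a) (k1 x a) (k2 x a) := by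
  obtain ⟨x5, ax5, a4, sx', k1a', k1x', k2a', k2x', k1sq, k2sq⟩ := h
  have sx : Commute (a * a) x := sx'
  have k1a : Commute (k1 x a) a := k1a'
  have k1x : Commute (k1 x a) x := k1x'
  have k2a : Commute (k2 x a) a := k2a'
  have k2x : Commute (k2 x a) x := k2x'
  -- centrality of k1, k2, s = a * a
  obtain ⟨k1c1, k1c2, k1c3, -, k1k2⟩ := commute_words (g := k1 x a) (x := x) (a := a) k1x k1a
  obtain ⟨k2c1, k2c2, k2c3, -, -⟩ := commute_words (g := k2 x a) (x := x) (a := a) k2x k2a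
  have sa : Commute (a * a) a := by
    change a * a * a = a * (a * a); rw [mul_assoc]
  obtain ⟨sc1, sc2, sc3, sk1, sk2⟩ := commute_words (g := a * a) (x := x) (a := a) sx sa
  have ssq : (a * a) * (a * a) = 1 := by
    rw [← a4]; simp only [pow_succ, pow_zero, one_mul, mul_assoc]
  -- conjugation by x fixes central elements
  have conj_fix : ∀ g : H, Commute g x → x * g * x⁻¹ = g := fun g hg => by
    rw [← hg.eq, mul_assoc, mul_inv_cancel, mul_one]
  have conj_fix2 : ∀ g : H, Commute g x → x ^ 2 * g * (x ^ 2)⁻¹ = g := fun g hg => by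
    rw [← (hg.pow_right 2).eq, mul_assoc, mul_inv_cancel, mul_one]
  have conj_fix3 : ∀ g : H, Commute g x → x ^ 3 * g * (x ^ 3)⁻¹ = g := fun g hg => by
    rw [← (hg.pow_right 3).eq, mul_assoc, mul_inv_cancel, mul_one]
  have conj_fix4 : ∀ g : H, Commute g x → x ^ 4 * g * (x ^ 4)⁻¹ = g := fun g hg => by
    rw [← (hg.pow_right 4).eq, mul_assoc, mul_inv_cancel, mul_one]
  -- squares
  have q1 : cj1 x a * cj1 x a = a * a := by
    have : cj1 x a * cj1 x a = x * (a * a) * x⁻¹ := by unfold cj1; group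
    rw [this, conj_fix _ sx]
  have q2 : cj2 x a * cj2 x a = a * a := by
    have : cj2 x a * cj2 x a = x ^ 2 * (a * a) * (x ^ 2)⁻¹ := by unfold cj2; group
    rw [this, conj_fix2 _ sx]
  have q3 : cj3 x a * cj3 x a = a * a := by
    have : cj3 x a * cj3 x a = x ^ 3 * (a * a) * (x ^ 3)⁻¹ := by unfold cj3; group
    rw [this, conj_fix3 _ sx]
  -- commutators
  have m10 : a * cj1 x a * a⁻¹ * (cj1 x a)⁻¹ = k1 x a := rfl
  have m20 : a * cj2 x a * a⁻¹ * (cj2 x a)⁻¹ = k2 x a := rfl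
  have m21 : cj1 x a * cj2 x a * (cj1 x a)⁻¹ * (cj2 x a)⁻¹ = k1 x a := by
    have : cj1 x a * cj2 x a * (cj1 x a)⁻¹ * (cj2 x a)⁻¹ = x * k1 x a * x⁻¹ := by
      unfold k1 cj1 cj2; group
    rw [this, conj_fix _ k1x]
  have m32 : cj2 x a * cj3 x a * (cj2 x a)⁻¹ * (cj3 x a)⁻¹ = k1 x a := by
    have : cj2 x a * cj3 x a * (cj2 x a)⁻¹ * (cj3 x a)⁻¹ = x ^ 2 * k1 x a * (x ^ 2)⁻¹ := by
      unfold k1 cj1 cj2 cj3; group
    rw [this, conj_fix2 _ k1x]
  have m31 : cj1 x a * cj3 x a * (cj1 x a)⁻¹ * (cj3 x a)⁻¹ = k2 x a := by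
    have : cj1 x a * cj3 x a * (cj1 x a)⁻¹ * (cj3 x a)⁻¹ = x * k2 x a * x⁻¹ := by
      unfold k2 cj1 cj2 cj3; group
    rw [this, conj_fix _ k2x]
  have k2inv : (k2 x a)⁻¹ = k2 x a := by
    rw [inv_eq_iff_mul_eq_one]; exact k2sq
  have m30 : a * cj3 x a * a⁻¹ * (cj3 x a)⁻¹ = k2 x a := by
    have e1 : x ^ 3 * (a * cj3 x a * a⁻¹ * (cj3 x a)⁻¹) * (x ^ 3)⁻¹
        = cj3 x a * (x ^ 5 * x * a * x⁻¹ * (x ^ 5)⁻¹) * (cj3 x a)⁻¹
          * (x ^ 5 * x * a * x⁻¹ * (x ^ 5)⁻¹)⁻¹ := by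
      unfold cj3; group
    rw [x5] at e1
    have e2 : cj3 x a * (1 * x * a * x⁻¹ * (1 : H)⁻¹) * (cj3 x a)⁻¹
          * (1 * x * a * x⁻¹ * (1 : H)⁻¹)⁻¹
        = x * (cj2 x a * a * (cj2 x a)⁻¹ * a⁻¹) * x⁻¹ := by
      unfold cj3 cj2; group
    have e3 : cj2 x a * a * (cj2 x a)⁻¹ * a⁻¹ = (k2 x a)⁻¹ := by
      unfold k2; group
    rw [e2, e3, k2inv, conj_fix _ k2x] at e1
    -- conjugate back
    have e4 : a * cj3 x a * a⁻¹ * (cj3 x a)⁻¹
        = (x ^ 3)⁻¹ * (x ^ 3 * (a * cj3 x a * a⁻¹ * (cj3 x a)⁻¹) * (x ^ 3)⁻¹) * x ^ 3 := by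
      group
    rw [e4, e1, mul_assoc, (k2x.pow_right 3).eq, ← mul_assoc, inv_mul_cancel, one_mul]
  -- swap rules
  have r10 := swap_of_comm m10 k1sq k1a k1c1
  have r20 := swap_of_comm m20 k2sq k2a k2c2
  have r30 := swap_of_comm m30 k2sq k2a k2c3
  have r21 := swap_of_comm m21 k1sq k1c1 k1c2
  have r31 := swap_of_comm m31 k2sq k2c1 k2c3
  have r32 := swap_of_comm m32 k1sq k1c2 k1c3
  -- collection identities
  obtain ⟨I1, I2⟩ := collect_aux (a0 := a) (a1 := cj1 x a) (a2 := cj2 x a) (a3 := cj3 x a)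
    (c1 := k1 x a) (c2 := k2 x a) (s := a * a) k1sq k2sq ssq k1k2.eq.symm
    sk1.eq sk2.eq k1a.eq.symm k1c1.eq.symm k1c2.eq.symm k1c3.eq.symm
    k2a.eq.symm k2c1.eq.symm k2c2.eq.symm k2c3.eq.symm
    sa.eq.symm sc1.eq.symm sc2.eq.symm sc3.eq.symm rfl q1 q2 q3 r10 r20 r30 r21 r31 r32
  -- the norm relation
  have N : a * (cj1 x a * (cj2 x a * cj3 x a)) * (x * cj3 x a * x⁻¹) = 1 := by
    have hp : (a * x) ^ 5 = a * x * (a * x) * (a * x) * (a * x) * (a * x) := by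
      simp only [pow_succ, pow_zero, one_mul]
    have : a * (cj1 x a * (cj2 x a * cj3 x a)) * (x * cj3 x a * x⁻¹)
        = a * x * (a * x) * (a * x) * (a * x) * (a * x) * (x ^ 5)⁻¹ := by
      unfold cj1 cj2 cj3; group
    rw [this, ← hp, ax5, x5]; simp
  -- a4 = k1 k2 a0 a1 a2 a3
  have A4 : x * cj3 x a * x⁻¹ = k1 x a * (k2 x a * (a * (cj1 x a * (cj2 x a * cj3 x a)))) := by
    have h1 : x * cj3 x a * x⁻¹ = (a * (cj1 x a * (cj2 x a * cj3 x a)))⁻¹ :=
      (inv_eq_of_mul_eq_one_right N).symm ▸ rfl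
    rw [h1, inv_eq_iff_mul_eq_one]
    exact I1
  -- s = k1 k2
  have S : a * a = k1 x a * k2 x a := by
    have h1 : (x * cj3 x a * x⁻¹) * (x * cj3 x a * x⁻¹) = a * a := by
      have : (x * cj3 x a * x⁻¹) * (x * cj3 x a * x⁻¹) = x * (cj3 x a * cj3 x a) * x⁻¹ := by group
      rw [this, q3, conj_fix _ sx]
    rw [← h1, A4]
    exact I2
  refine ⟨x5, k1sq, k2sq, k1k2.eq.symm, k1x.eq.symm, k2x.eq.symm,
    k1a.eq.symm, k1c1.eq.symm, k1c2.eq.symm, k1c3.eq.symm,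
    k2a.eq.symm, k2c1.eq.symm, k2c2.eq.symm, k2c3.eq.symm,
    S, q1.trans S, q2.trans S, q3.trans S, r10, r20, r30, r21, r31, r32, ?_, ?_, ?_, ?_⟩
  · simp only [cj1, mul_assoc, inv_mul_cancel, mul_one]
  · simp only [cj1, cj2, pow_succ, pow_zero, one_mul, mul_inv_rev, mul_assoc, inv_mul_cancel,
      mul_one]
  · simp only [cj2, cj3, pow_succ, pow_zero, one_mul, mul_inv_rev, mul_assoc, inv_mul_cancel,
      mul_one]
  · have : x * cj3 x a = (x * cj3 x a * x⁻¹) * x := by group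
    rw [this, A4]
    simp only [mul_assoc]

end TB

end Cfsg.Agent.Helper12.C320
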