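import Mathlib
import Cfsg.Agent.Helper15.CSGDefs

/-!
# (D2) for helper15's S4257: splitting off an abelian Hall subgroup for a set of "good" primes
-/

set_option autoImplicit false
set_option linter.style.haveILetI false
set_option linter.unusedSectionVars false

namespace Cfsg.Agent.Helper12.CSG

open Subgroup Cfsg.Agent.Helper15.CSG
open scoped commutatorElement

variable {G : Type*} [Group G] [Finite G]

/-- Burnside's transfer kernel for a good prime `b`. -/
theorem exists_transfer_kernel {b : ℕ} (hb : b.Prime) (hg : Good G b) :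
    ∃ Kb : Subgroup G, Kb.Normal ∧ commutator G ≤ Kb ∧ ¬ b ∣ Nat.card Kb ∧
      ∀ r : ℕ, r.Prime → r ≠ b → ∀ R : Sylow r G, (R : Subgroup G) ≤ Kb := by
  classical
  haveI : Fact b.Prime := ⟨hb⟩
  obtain ⟨P⟩ : Nonempty (Sylow b G) := inferInstance
  have hP := hg P
  set f : G →* (P : Subgroup G) := MonoidHom.transferSylow P hP with hf
  have hcommP : ∀ x y : (P : Subgroup G), x * y = y * x := by
    intro x y
    apply Subtype.ext
    have hy : (y : G) ∈ centralizer ((P : Subgroup G) : Set G) := hP (le_normalizer y.2)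
    exact (mem_centralizer_iff.mp hy) x x.2
  refine ⟨f.ker, MonoidHom.normal_ker f, ?_, ?_, ?_⟩
  · rw [commutator_eq_closure, Subgroup.closure_le]
    rintro g ⟨x, y, rfl⟩
    rw [SetLike.mem_coe, MonoidHom.mem_ker, map_commutatorElement,
      commutatorElement_eq_one_iff_commute]
    exact hcommP (f x) (f y)
  · have hcomp := MonoidHom.ker_transferSylow_isComplement' P hP
    have h1 : Nat.card f.ker * Nat.card (P : Subgroup G) = Nat.card G := hcomp.card_mul_card
    have h2 : Nat.card (P : Subgroup G) * (P : Subgroup G).index = Nat.card G :=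
      Subgroup.card_mul_index _
    have h3 : Nat.card f.ker = (P : Subgroup G).index := by
      apply Nat.eq_of_mul_eq_mul_left (Nat.card_pos : 0 < Nat.card (P : Subgroup G))
      rw [h2, ← h1, mul_comm]
    rw [h3]
    exact P.not_dvd_index
  · intro r hr hrb R x hx
    haveI : Fact r.Prime := ⟨hr⟩
    rw [MonoidHom.mem_ker]
    obtain ⟨k, hk⟩ := (IsPGroup.iff_orderOf.mp R.isPGroup') ⟨x, hx⟩
    have hk' : orderOf x = r ^ k := by
      rw [← hk]; exact Subgroup.orderOf_coe (⟨x, hx⟩ : (R : Subgroup G))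
    have h2 : orderOf (f x) ∣ r ^ k := by
      rw [← hk']; exact orderOf_map_dvd _ _
    obtain ⟨m, hm⟩ := (IsPGroup.iff_orderOf.mp P.isPGroup') (f x)
    have hcop : Nat.Coprime (r ^ k) (b ^ m) :=
      Nat.Coprime.pow k m ((Nat.coprime_primes hr hb).mpr hrb)
    have h4 : orderOf (f x) = 1 :=
      Nat.eq_one_of_dvd_coprimes hcop h2 (by rw [hm])
    exact orderOf_eq_one_iff.mp h4

/-- (D2) -/
theorem exists_split (π : Set ℕ) (hπ : ∀ b ∈ π, b.Prime ∧ Good G b) :
    ∃ K H : Subgroup G, Split G π K H := by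
  classical
  have key : ∀ b : π, ∃ Kb : Subgroup G, Kb.Normal ∧ commutator G ≤ Kb ∧
      ¬ (b : ℕ) ∣ Nat.card Kb ∧
      ∀ r : ℕ, r.Prime → r ≠ (b : ℕ) → ∀ R : Sylow r G, (R : Subgroup G) ≤ Kb :=
    fun b => exists_transfer_kernel (hπ b.1 b.2).1 (hπ b.1 b.2).2
  choose Kb hKb using key
  set K : Subgroup G := ⨅ b : π, Kb b with hK
  haveI hKn : K.Normal := Subgroup.normal_iInf_normal (fun b => (hKb b).1)
  have hcomm : commutator G ≤ K := le_iInf (fun b => (hKb b).2.1)
  have hKπ : ∀ b ∈ π, ¬ b ∣ Nat.card K := by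
    intro b hb hdvd
    have hle : K ≤ Kb ⟨b, hb⟩ := iInf_le _ _
    exact (hKb ⟨b, hb⟩).2.2.1 (hdvd.trans (Subgroup.card_dvd_of_le hle))
  have hidx : ∀ r : ℕ, r.Prime → r ∣ K.index → r ∈ π := by
    intro r hr hdvd
    by_contra hrπ
    haveI : Fact r.Prime := ⟨hr⟩
    obtain ⟨R⟩ : Nonempty (Sylow r G) := inferInstance
    have hRK : (R : Subgroup G) ≤ K := by
      refine le_iInf (fun b => ?_)
      refine (hKb b).2.2.2 r hr ?_ R
      intro h
      exact hrπ (h ▸ b.2)
    exact R.not_dvd_index (hdvd.trans (Subgroup.index_dvd_of_le hRK))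
  have hcop : Nat.Coprime (Nat.card K) K.index := by
    apply Nat.coprime_of_dvd
    intro r hr h1 h2
    exact hKπ r (hidx r hr h2) h1
  obtain ⟨H, hH⟩ := Subgroup.exists_right_complement'_of_coprime hcop
  refine ⟨K, H, hKn, hH, ?_, ?_, hKπ⟩
  · intro x hx y hy
    have h1 : ⁅x, y⁆ ∈ K := hcomm (Subgroup.commutator_mem_commutator (Subgroup.mem_top x)
      (Subgroup.mem_top y))
    have h2 : ⁅x, y⁆ ∈ H := by
      rw [commutatorElement_def]
      exact H.mul_mem (H.mul_mem (H.mul_mem hx hy) (H.inv_mem hx)) (H.inv_mem hy)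
    have h3 : ⁅x, y⁆ ∈ K ⊓ H := Subgroup.mem_inf.mpr ⟨h1, h2⟩
    rw [hH.disjoint.eq_bot, Subgroup.mem_bot] at h3
    exact (commutatorElement_eq_one_iff_mul_comm.mp h3)
  · intro r hr hdvd
    apply hidx r hr
    have h1 : Nat.card K * Nat.card H = Nat.card G := hH.card_mul_card
    have h2 : Nat.card K * K.index = Nat.card G := Subgroup.card_mul_index K
    have h3 : Nat.card H = K.index := by
      apply Nat.eq_of_mul_eq_mul_left (Nat.card_pos : 0 < Nat.card K)
      rw [h1, h2]
    rw [← h3]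
    exact hdvd

end Cfsg.Agent.Helper12.CSG
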