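import Mathlib
import Cfsg.Agent.Helper15.CSGDefs
import Cfsg.Agent.S4127
import Cfsg.Agent.Helper76.ClassSizeSylow

/-!
# (D4) for helper15's S4257: the counting argument making `K` abelian
-/

set_option autoImplicit false
set_option linter.style.haveILetI false
set_option linter.unusedSectionVars false

namespace Cfsg.Agent.Helper12.CSG

open Subgroup Cfsg.Agent.Helper15.CSG

variable {G : Type*} [Group G] [Finite G]

/-- `|X| * |Y : X| = |Y|` for `X ≤ Y`. -/
theorem card_mul_relIndex_of_le {X Y : Subgroup G} (h : X ≤ Y) :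
    Nat.card X * X.relIndex Y = Nat.card Y := by
  have := Subgroup.relIndex_mul_relIndex ⊥ X Y bot_le h
  rwa [Subgroup.relIndex_bot_left, Subgroup.relIndex_bot_left] at this

/-- The centre of a normal subgroup, as a subgroup of `G`. -/
def zOf (K : Subgroup G) : Subgroup G := K ⊓ centralizer (K : Set G)

theorem mem_zOf {K : Subgroup G} {x : G} :
    x ∈ zOf K ↔ x ∈ K ∧ ∀ k ∈ K, k * x = x * k := by
  unfold zOf
  rw [Subgroup.mem_inf, mem_centralizer_iff]
  rfl

theorem zOf_le (K : Subgroup G) : zOf K ≤ K := inf_le_left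

instance zOf_normal (K : Subgroup G) [K.Normal] : (zOf K).Normal := by
  constructor
  intro a ha g
  rw [mem_zOf] at ha ⊢
  refine ⟨(inferInstance : K.Normal).conj_mem a ha.1 g, ?_⟩
  intro k hk
  have hk' : g⁻¹ * k * g ∈ K := by
    have := (inferInstance : K.Normal).conj_mem k hk g⁻¹
    simpa using this
  have h := ha.2 _ hk'
  calc k * (g * a * g⁻¹) = g * ((g⁻¹ * k * g) * a) * g⁻¹ := by group
    _ = g * (a * (g⁻¹ * k * g)) * g⁻¹ := by rw [h]
    _ = g * a * g⁻¹ * k := by group

/-- The key inequality `i d |A| ≤ |K| c`. -/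
theorem key_ineq (K A D : Subgroup G) [A.Normal] (hAK : A ≤ K) (hDK : D ≤ K)
    (hAD : A ≤ normalizer (D : Set G)) :
    (normalizer (D : Set G)).relIndex K * Nat.card D * Nat.card A ≤
      Nat.card K * Nat.card (A ⊓ D : Subgroup G) := by
  set M : Subgroup G := normalizer (D : Set G) ⊓ K with hM
  have hiM : (normalizer (D : Set G)).relIndex K = M.relIndex K := by
    rw [hM, Subgroup.inf_relIndex_right]
  have h5 : Nat.card M * M.relIndex K = Nat.card K := card_mul_relIndex_of_le inf_le_right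
  have hsup : A ⊔ D ≤ M := by
    refine sup_le (le_inf hAD hAK) (le_inf Subgroup.le_normalizer hDK)
  have h1 : Nat.card A * A.relIndex (A ⊔ D) = Nat.card (A ⊔ D : Subgroup G) :=
    card_mul_relIndex_of_le le_sup_left
  have h2 : A.relIndex (A ⊔ D) = (A ⊓ D).relIndex D := by
    rw [Subgroup.relIndex_sup_left, Subgroup.inf_relIndex_right]
  have h3 : Nat.card (A ⊓ D : Subgroup G) * (A ⊓ D).relIndex D = Nat.card D :=
    card_mul_relIndex_of_le inf_le_right
  have h4 : Nat.card (A ⊔ D : Subgroup G) ≤ Nat.card M :=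
    Nat.le_of_dvd Nat.card_pos (Subgroup.card_dvd_of_le hsup)
  rw [hiM, ← h5, ← h3]
  set r := (A ⊓ D).relIndex D
  set c := Nat.card (A ⊓ D : Subgroup G)
  set i := M.relIndex K
  rw [h2] at h1
  have h6 : Nat.card A * r ≤ Nat.card M := h1 ▸ h4
  calc i * (c * r) * Nat.card A = i * c * (Nat.card A * r) := by ring
    _ ≤ i * c * Nat.card M := Nat.mul_le_mul_left _ h6
    _ = Nat.card M * i * c := by ring

/-- (D4) -/
theorem Split.comm_of_count {π : Set ℕ} {K H : Subgroup G} (S : Split G π K H) {q : ℕ}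
    (hq : q.Prime) (hqπ : q ∈ π)
    (h1 : ∀ k ∈ K, q ∣ cs k → ∀ k' ∈ K, k * k' = k' * k)
    (h2 : ∃ y ∈ K, (∀ k' ∈ K, y * k' = k' * y) ∧ q ∣ cs y) :
    ∀ x ∈ K, ∀ y ∈ K, x * y = y * x := by
  classical
  haveI : Fact q.Prime := ⟨hq⟩
  haveI : K.Normal := S.normal
  set A : Subgroup G := zOf K with hA
  have hAK : A ≤ K := zOf_le K
  -- it suffices to show `|K| ≤ |A|`
  suffices hcard : Nat.card K ≤ Nat.card A by
    have hAeq : A = K := Subgroup.eq_of_le_of_card_ge hAK hcard
    intro x hx y hy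
    have hx' : x ∈ A := by rw [hAeq]; exact hx
    exact ((mem_zOf.mp hx').2 y hy).symm
  -- a Sylow `q`-subgroup inside `H`
  have hKH : Nat.card K * Nat.card H = Nat.card G := S.compl.card_mul_card
  have hHidx : H.index = Nat.card K := by
    have := Subgroup.card_mul_index H
    exact Nat.eq_of_mul_eq_mul_left (Nat.card_pos : 0 < Nat.card H)
      (by rw [this, ← hKH, mul_comm])
  obtain ⟨Q, hQH⟩ := Helper76.exists_sylow_le_of_not_dvd_index' (p := q) H
    (by rw [hHidx]; exact S.hK q hqπ)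
  have hHCQ : H ≤ centralizer ((Q : Subgroup G) : Set G) := by
    intro h hh
    rw [mem_centralizer_iff]
    intro s hs
    exact S.comm s (hQH hs) h hh
  -- every Sylow `q`-subgroup is a `K`-conjugate of `Q`
  have hconj : ∀ Q' : Sylow q G, ∃ k ∈ K, k • Q = Q' := by
    intro Q'
    obtain ⟨g, hg⟩ := MulAction.exists_smul_eq G Q Q'
    obtain ⟨⟨k, h⟩, hkh, -⟩ := S.compl.existsUnique g
    refine ⟨k, k.2, ?_⟩
    have hh : (h : G) • Q = Q := by
      rw [Sylow.smul_eq_iff_mem_normalizer]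
      exact Subgroup.centralizer_le_normalizer _ (hHCQ h.2)
    rw [← hg, ← hkh, mul_smul, hh]
  set D : Subgroup G := K ⊓ centralizer ((Q : Subgroup G) : Set G) with hD
  have hDK : D ≤ K := inf_le_left
  -- elements of `K ⊓ C(Q)` have class size prime to `q`
  have hnotdvd : ∀ x : G, x ∈ centralizer ((Q : Subgroup G) : Set G) → ¬ q ∣ cs x := by
    intro x hx hdvd
    have hQle : (Q : Subgroup G) ≤ centralizer ({x} : Set G) := by
      intro s hs
      rw [mem_centralizer_singleton_iff]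
      exact (mem_centralizer_iff.mp hx) s hs
    exact Q.not_dvd_index (hdvd.trans (Subgroup.index_dvd_of_le hQle))
  -- `A` normalizes `D`
  have hAD : A ≤ normalizer (D : Set G) := by
    intro a ha
    rw [mem_normalizer_iff]
    intro d
    have hcomm : ∀ d' ∈ D, a * d' * a⁻¹ = d' := by
      intro d' hd'
      have := (mem_zOf.mp ha).2 d' (hDK hd')
      rw [← this]; group
    constructor
    · intro hd
      rw [hcomm d hd]; exact hd
    · intro hd
      have h3 := hcomm _ hd
      have h4 : a⁻¹ * (a * d * a⁻¹) * a ∈ D := by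
        have : a⁻¹ * (a * d * a⁻¹) * a = a⁻¹ * (a * (a * d * a⁻¹) * a⁻¹) * a := by rw [h3]
        rw [this]
        have : a⁻¹ * (a * (a * d * a⁻¹) * a⁻¹) * a = a * d * a⁻¹ := by group
        rw [this]; exact hd
      have : a⁻¹ * (a * d * a⁻¹) * a = d := by group
      rwa [this] at h4
  -- the covering map
  let Φ : {a : A // (a : G) ∉ centralizer ((Q : Subgroup G) : Set G)} ⊕
      ((K ⧸ (normalizer (D : Set G)).subgroupOf K) × D) → K := fun z =>
    match z with
    | Sum.inl a => ⟨(a.1 : G), hAK a.1.2⟩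
    | Sum.inr td => td.1.out * ⟨(td.2 : G), hDK td.2.2⟩ * td.1.out⁻¹
  have hsurj : Function.Surjective Φ := by
    rintro ⟨x, hxK⟩
    by_cases hxq : q ∣ cs x
    · -- `x ∈ A ∖ C(Q)`
      have hxA : x ∈ A := mem_zOf.mpr ⟨hxK, fun k hk => (h1 x hxK hxq k hk).symm⟩
      have hxC : x ∉ centralizer ((Q : Subgroup G) : Set G) := fun h => hnotdvd x h hxq
      exact ⟨Sum.inl ⟨⟨x, hxA⟩, hxC⟩, rfl⟩
    · -- `x` lies in a conjugate of `D`
      obtain ⟨Q', hQ'⟩ := Helper76.exists_sylow_le_of_not_dvd_index' (p := q)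
        (centralizer ({x} : Set G)) hxq
      obtain ⟨k, hk, hkQ⟩ := hconj Q'
      have hd0 : k⁻¹ * x * k ∈ D := by
        rw [hD, Subgroup.mem_inf]
        refine ⟨K.mul_mem (K.mul_mem (K.inv_mem hk) hxK) hk, ?_⟩
        rw [mem_centralizer_iff]
        intro s hs
        have hs' : k * s * k⁻¹ ∈ (Q' : Subgroup G) := by
          rw [← hkQ]; exact Cfsg.Agent.S4127.conj_mem_smul Q k s hs
        have h3 := mem_centralizer_singleton_iff.mp (hQ' hs')
        -- h3 : x * (k s k⁻¹) = (k s k⁻¹) * x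
        calc s * (k⁻¹ * x * k) = k⁻¹ * ((k * s * k⁻¹) * x) * k := by group
          _ = k⁻¹ * (x * (k * s * k⁻¹)) * k := by rw [h3]
          _ = k⁻¹ * x * k * s := by group
      obtain ⟨n, hn⟩ := QuotientGroup.mk_out_eq_mul
        ((normalizer (D : Set G)).subgroupOf K) (⟨k, hk⟩ : K)
      have hnN : ((n : K) : G) ∈ normalizer (D : Set G) := Subgroup.mem_subgroupOf.mp n.2
      have hd1 : ((n : K) : G)⁻¹ * (k⁻¹ * x * k) * (((n : K) : G)⁻¹)⁻¹ ∈ D :=
        (mem_normalizer_iff.mp (Subgroup.inv_mem _ hnN) _).mp hd0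
      refine ⟨Sum.inr (QuotientGroup.mk (⟨k, hk⟩ : K), ⟨_, hd1⟩), ?_⟩
      apply Subtype.ext
      show ((QuotientGroup.mk (⟨k, hk⟩ : K) : K ⧸ (normalizer (D : Set G)).subgroupOf K).out : G) *
        (((n : K) : G)⁻¹ * (k⁻¹ * x * k) * (((n : K) : G)⁻¹)⁻¹) *
        ((QuotientGroup.mk (⟨k, hk⟩ : K) : K ⧸ (normalizer (D : Set G)).subgroupOf K).out : G)⁻¹ = x
      rw [hn]
      show (k * ((n : K) : G)) * (((n : K) : G)⁻¹ * (k⁻¹ * x * k) * (((n : K) : G)⁻¹)⁻¹) *
        (k * ((n : K) : G))⁻¹ = x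
      group
  -- counting
  have hcardle : Nat.card K ≤
      Nat.card {a : A // (a : G) ∉ centralizer ((Q : Subgroup G) : Set G)} +
        (normalizer (D : Set G)).relIndex K * Nat.card D := by
    have h := Nat.card_le_card_of_surjective Φ hsurj
    rw [Nat.card_sum, Nat.card_prod, ← Subgroup.index_eq_card] at h
    exact h
  have hsplit : Nat.card {a : A // (a : G) ∈ centralizer ((Q : Subgroup G) : Set G)} +
      Nat.card {a : A // (a : G) ∉ centralizer ((Q : Subgroup G) : Set G)} = Nat.card A := by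
    rw [← Nat.card_sum]
    exact Nat.card_congr (Equiv.sumCompl _)
  have hc : Nat.card {a : A // (a : G) ∈ centralizer ((Q : Subgroup G) : Set G)} =
      Nat.card (A ⊓ D : Subgroup G) := by
    refine Nat.card_congr
      { toFun := fun a => ⟨(a.1 : G), Subgroup.mem_inf.mpr
          ⟨a.1.2, Subgroup.mem_inf.mpr ⟨hAK a.1.2, a.2⟩⟩⟩
        invFun := fun x => ⟨⟨x.1, (Subgroup.mem_inf.mp x.2).1⟩,
          (Subgroup.mem_inf.mp (Subgroup.mem_inf.mp x.2).2).2⟩
        left_inv := fun a => rfl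
        right_inv := fun x => rfl }
  have hn1 : 1 ≤ Nat.card {a : A // (a : G) ∉ centralizer ((Q : Subgroup G) : Set G)} := by
    obtain ⟨y, hyK, hycomm, hyq⟩ := h2
    have hyA : y ∈ A := mem_zOf.mpr ⟨hyK, fun k hk => (hycomm k hk).symm⟩
    have hyC : y ∉ centralizer ((Q : Subgroup G) : Set G) := fun h => hnotdvd y h hyq
    haveI : Nonempty {a : A // (a : G) ∉ centralizer ((Q : Subgroup G) : Set G)} :=
      ⟨⟨⟨y, hyA⟩, hyC⟩⟩
    exact Nat.card_pos
  have hkey := key_ineq K A D hAK hDK hAD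
  have hAj : Nat.card A * A.relIndex K = Nat.card K := card_mul_relIndex_of_le hAK
  have hApos : 0 < Nat.card A := Nat.card_pos
  rw [hc] at hsplit
  -- arithmetic
  generalize Nat.card {a : A // (a : G) ∉ centralizer ((Q : Subgroup G) : Set G)} = n1 at *
  generalize Nat.card (A ⊓ D : Subgroup G) = c at *
  generalize (normalizer (D : Set G)).relIndex K = i at *
  generalize Nat.card D = d at *
  generalize A.relIndex K = j at *
  generalize Nat.card A = a at *
  generalize Nat.card K = kK at *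
  by_contra hlt
  push Not at hlt
  have hj2 : 2 ≤ j := by
    by_contra hj
    push Not at hj
    have : j ≤ 1 := by omega
    have : a * j ≤ a * 1 := Nat.mul_le_mul_left _ this
    omega
  obtain ⟨j', rfl⟩ : ∃ j', j = j' + 2 := ⟨j - 2, by omega⟩
  have hid : i * d ≤ (j' + 2) * c := by
    apply Nat.le_of_mul_le_mul_left _ hApos
    calc a * (i * d) = i * d * a := by ring
      _ ≤ kK * c := hkey
      _ = a * ((j' + 2) * c) := by rw [← hAj]; ring
  have h5 : a * (j' + 2) ≤ n1 + (j' + 2) * c := by rw [hAj]; omega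
  have h6 : (j' + 1) * a ≤ (j' + 1) * c := by nlinarith
  have h7 : a ≤ c := Nat.le_of_mul_le_mul_left h6 (by omega)
  omega

end Cfsg.Agent.Helper12.CSG
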