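import Mathlib
import Cfsg.Agent.Helper44.MaxSingParity
import Cfsg.Agent.Helper44.MaxSingTrans

/-!
# The two classes of maximal totally singular subspaces (any characteristic), abstract part

`Q` a non-degenerate quadratic form on a space of dimension `2m`.  On the totally singular
subspaces of dimension `m` the relation `SamePar m U W : Even (m + dim (U ⊓ W))` is an equivalence
relation with at most two classes, and a map on subspaces which keeps total singularity,
dimensions and intersections either fixes both classes or interchanges them.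
-/

set_option autoImplicit false

namespace Cfsg.Agent.Helper12.ClassPres

open Module QuadraticMap Cfsg.Agent.Helper44 Cfsg.Agent.Helper14

variable {F V : Type*} [Field F] [AddCommGroup V] [Module F V] [FiniteDimensional F V]
variable (Q : QuadraticForm F V)

/-- the triangle parity identity for three totally singular subspaces of dimension `m` -/
theorem even_triangle (hQ : (polarBilin Q).Nondegenerate) {m : ℕ} (hV : finrank F V = 2 * m)
    {U W X : Submodule F V} (hU : IsTotSing Q U) (hW : IsTotSing Q W) (hX : IsTotSing Q X)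
    (hUm : finrank F ↥U = m) (hWm : finrank F ↥W = m) (hXm : finrank F ↥X = m) :
    Even (m + finrank F ↥(U ⊓ W) + finrank F ↥(W ⊓ X) + finrank F ↥(U ⊓ X)) := by
  obtain ⟨vs, hvs, hlen, hmap⟩ := exists_list_qRefl_map_eq Q hQ hU hUm hV _ W hW hWm rfl
  obtain ⟨-, -, h3⟩ := even_finrank_inf_map_prod_aux Q hQ hX hXm hV vs hvs W hW hWm
  rw [hmap, hlen] at h3
  have h1 : finrank F ↥(U ⊓ W) ≤ m := by
    rw [← hUm]; exact Submodule.finrank_mono inf_le_left
  rw [inf_comm X U, inf_comm X W] at h3
  rw [Nat.even_iff] at h3 ⊢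
  omega

/-- two totally singular subspaces of dimension `m` lie in the same class -/
def SamePar (m : ℕ) (U W : Submodule F V) : Prop := Even (m + finrank F ↥(U ⊓ W))

theorem samePar_iff_sub {m : ℕ} {U W : Submodule F V} (hUm : finrank F ↥U = m) :
    SamePar m U W ↔ Even (finrank F ↥U - finrank F ↥(U ⊓ W)) := by
  have h1 : finrank F ↥(U ⊓ W) ≤ m := by
    rw [← hUm]; exact Submodule.finrank_mono inf_le_left
  unfold SamePar
  rw [hUm, Nat.even_iff, Nat.even_iff]
  omega

theorem samePar_self {m : ℕ} {U : Submodule F V} (hUm : finrank F ↥U = m) : SamePar m U U := by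
  unfold SamePar
  rw [inf_idem, hUm]
  exact ⟨m, rfl⟩

theorem samePar_comm {m : ℕ} {U W : Submodule F V} : SamePar m U W ↔ SamePar m W U := by
  unfold SamePar
  rw [inf_comm]

/-- the number of "different class" pairs among three subspaces is even -/
theorem samePar_triangle (hQ : (polarBilin Q).Nondegenerate) {m : ℕ} (hV : finrank F V = 2 * m)
    {U W X : Submodule F V} (hU : IsTotSing Q U) (hW : IsTotSing Q W) (hX : IsTotSing Q X)
    (hUm : finrank F ↥U = m) (hWm : finrank F ↥W = m) (hXm : finrank F ↥X = m) :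
    (SamePar m U X ↔ (SamePar m U W ↔ SamePar m W X)) := by
  have h := even_triangle Q hQ hV hU hW hX hUm hWm hXm
  unfold SamePar
  simp only [Nat.even_iff] at h ⊢
  constructor
  · intro h1
    constructor <;> intro h2 <;> omega
  · intro h1
    by_cases h2 : (m + finrank F ↥(U ⊓ W)) % 2 = 0
    · have := h1.1 h2
      omega
    · have h3 : ¬ (m + finrank F ↥(W ⊓ X)) % 2 = 0 := fun h3 => h2 (h1.2 h3)
      omega

theorem SamePar.trans (hQ : (polarBilin Q).Nondegenerate) {m : ℕ} (hV : finrank F V = 2 * m)
    {U W X : Submodule F V} (hU : IsTotSing Q U) (hW : IsTotSing Q W) (hX : IsTotSing Q X)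
    (hUm : finrank F ↥U = m) (hWm : finrank F ↥W = m) (hXm : finrank F ↥X = m)
    (h1 : SamePar m U W) (h2 : SamePar m W X) : SamePar m U X :=
  (samePar_triangle Q hQ hV hU hW hX hUm hWm hXm).2 ⟨fun _ => h2, fun _ => h1⟩

/-- there are at most two classes -/
theorem samePar_of_not_of_not (hQ : (polarBilin Q).Nondegenerate) {m : ℕ}
    (hV : finrank F V = 2 * m)
    {U W X : Submodule F V} (hU : IsTotSing Q U) (hW : IsTotSing Q W) (hX : IsTotSing Q X)
    (hUm : finrank F ↥U = m) (hWm : finrank F ↥W = m) (hXm : finrank F ↥X = m)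
    (h1 : ¬ SamePar m U W) (h2 : ¬ SamePar m W X) : SamePar m U X :=
  (samePar_triangle Q hQ hV hU hW hX hUm hWm hXm).2
    ⟨fun h => absurd h h1, fun h => absurd h h2⟩

/-- A map on subspaces keeping total singularity, dimension and intersections acts on the two
classes uniformly: whether `U` and `Φ U` lie in the same class does not depend on `U`. -/
theorem samePar_map_iff (hQ : (polarBilin Q).Nondegenerate) {m : ℕ} (hV : finrank F V = 2 * m)
    (Φ : Submodule F V → Submodule F V)
    (hts : ∀ U, IsTotSing Q U → IsTotSing Q (Φ U))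
    (hdim : ∀ U, finrank F ↥(Φ U) = finrank F ↥U)
    (hinf : ∀ U W, Φ (U ⊓ W) = Φ U ⊓ Φ W)
    {U U' : Submodule F V} (hU : IsTotSing Q U) (hU' : IsTotSing Q U')
    (hUm : finrank F ↥U = m) (hUm' : finrank F ↥U' = m) :
    SamePar m U (Φ U) ↔ SamePar m U' (Φ U') := by
  have hΦU : finrank F ↥(Φ U) = m := by rw [hdim, hUm]
  have hΦU' : finrank F ↥(Φ U') = m := by rw [hdim, hUm']
  have e1 : SamePar m (Φ U) (Φ U') ↔ SamePar m U U' := by
    unfold SamePar
    rw [← hinf, hdim]
  have t1 := samePar_triangle Q hQ hV hU' hU (hts U' hU') hUm' hUm hΦU'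
  have t2 := samePar_triangle Q hQ hV hU (hts U hU) (hts U' hU') hUm hΦU hΦU'
  have e2 : SamePar m U' U ↔ SamePar m U U' := samePar_comm
  rw [t1, t2, e1, e2]
  tauto

/-- products of reflections: the class is kept iff the number of reflections is even -/
theorem samePar_map_prod_qRefl_iff (hQ : (polarBilin Q).Nondegenerate) {m : ℕ}
    (hV : finrank F V = 2 * m) {U : Submodule F V} (hU : IsTotSing Q U)
    (hUm : finrank F ↥U = m) (ws : List V) (hws : ∀ w ∈ ws, Q w ≠ 0) :
    SamePar m U (U.map (ws.map (qRefl Q)).prod) ↔ Even ws.length := by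
  rw [← even_finrank_inf_map_prod Q hQ hU hUm hV ws hws]
  have h1 : finrank F ↥(U ⊓ U.map (ws.map (qRefl Q)).prod) ≤ m := by
    rw [← hUm]; exact Submodule.finrank_mono inf_le_left
  unfold SamePar
  rw [Nat.even_iff, Nat.even_iff]
  omega

end Cfsg.Agent.Helper12.ClassPres
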