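import Mathlib
import Cfsg.Prelude.Def_LieTypeDatum
import Cfsg.Agent.Helper12.ClassPresA
import Cfsg.Agent.Helper44.PlusClasses

/-!
# Class preservation in coordinates (any characteristic)

`Q : QuadraticForm F (ι → F)` non-degenerate on a space of dimension `2m` with a totally singular
subspace of dimension `m` (`IsHyp Q m`).  The maximal totally singular subspaces are those of
dimension `m`; for an invertible similarity `g` the predicate `Cfsg.PreservesSingularClasses`
can be tested on a single subspace; a product of reflections preserves the classes iff the number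
of factors is even.
-/

set_option autoImplicit false

namespace Cfsg.Agent.Helper12.ClassPres

open Matrix Module QuadraticMap Cfsg.Agent.Helper44 Cfsg.Agent.Helper14

variable {F : Type*} [Field F] {ι : Type} [Fintype ι] [DecidableEq ι]
variable (Q : QuadraticForm F (ι → F))

/-- `Q` is non-degenerate of dimension `2m` and Witt index `m` -/
structure IsHyp (m : ℕ) : Prop where
  nondeg : (polarBilin Q).Nondegenerate
  card : Fintype.card ι = 2 * m
  exists_sing : ∃ U₀ : Submodule F (ι → F), IsTotSing Q U₀ ∧ finrank F ↥U₀ = m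

variable {Q}

theorem IsHyp.finrank_space {m : ℕ} (h : IsHyp Q m) : finrank F (ι → F) = 2 * m := by
  rw [Module.finrank_fintype_fun_eq_card, h.card]

theorem IsHyp.isMax_of_finrank {m : ℕ} (h : IsHyp Q m) {U : Submodule F (ι → F)}
    (hU : IsTotSing Q U) (hUm : finrank F ↥U = m) : Cfsg.IsMaxTotallySingular ⇑Q U := by
  refine ⟨hU, fun W hW hUW => ?_⟩
  have hW' : IsTotSing Q W := hW
  have h1 := IsTotSing.two_mul_finrank_le h.nondeg hW'
  rw [h.finrank_space] at h1
  symm
  apply Submodule.eq_of_le_of_finrank_le hUW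
  omega

theorem IsHyp.finrank_of_isMax {m : ℕ} (h : IsHyp Q m) {U : Submodule F (ι → F)}
    (hU : Cfsg.IsMaxTotallySingular ⇑Q U) : finrank F ↥U = m := by
  obtain ⟨U₀, hU₀, hU₀m⟩ := h.exists_sing
  have hts : IsTotSing Q U := hU.1
  have hle : 2 * finrank F ↥U ≤ 2 * m := by
    have := IsTotSing.two_mul_finrank_le h.nondeg hts
    rwa [h.finrank_space] at this
  by_contra hne
  have hlt : finrank F ↥U < m := by omega
  obtain ⟨f, hf⟩ := exists_linearIndependent_of_le_finrank (R := F) (M := ↥U₀)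
    (n := finrank F ↥U) (by rw [hU₀m]; omega)
  have hli : LinearIndependent F (fun i => ((f i : ↥U₀) : ι → F)) :=
    hf.map' U₀.subtype (Submodule.ker_subtype _)
  set W' : Submodule F (ι → F) :=
    Submodule.span F (Set.range (fun i => ((f i : ↥U₀) : ι → F))) with hW'
  have hW'le : W' ≤ U₀ :=
    Submodule.span_le.2 (by rintro _ ⟨i, rfl⟩; exact (f i).2)
  have hW'fr : finrank F ↥W' = finrank F ↥U := by
    rw [hW', finrank_span_eq_card hli, Fintype.card_fin]
  let e : ↥U ≃ₗ[F] ↥W' := LinearEquiv.ofFinrankEq _ _ hW'fr.symm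
  obtain ⟨g, hg⟩ := Helper45.OmegaParity.exists_isometry_map Q h.nondeg U W' e (fun u => by
      rw [hts u u.2, hU₀ _ (hW'le (e u).2)])
  set X : Submodule F (ι → F) := U₀.map (Helper45.OmegaParity.lin Q g⁻¹) with hX
  have hXts : IsTotSing Q X := by
    rintro _ ⟨x, hx, rfl⟩
    rw [Helper45.OmegaParity.lin_isometry]
    exact hU₀ x hx
  have hUX : U ≤ X := by
    intro u hu
    refine ⟨Helper45.OmegaParity.lin Q g u, hW'le ?_, ?_⟩
    swap
    · have h' : Helper45.OmegaParity.lin Q (g⁻¹ * g) u = u := by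
        rw [inv_mul_cancel, Helper45.OmegaParity.lin_one]; rfl
      rw [Helper45.OmegaParity.lin_mul] at h'
      exact h'
    rw [← hg]
    exact Submodule.mem_map_of_mem hu
  have hXU : X = U := hU.2 X hXts hUX
  have hXm : finrank F ↥X = m := by
    rw [hX, Helper45.OmegaParity.finrank_map_lin, hU₀m]
  rw [hXU] at hXm
  exact hne hXm

theorem IsHyp.isMax_iff {m : ℕ} (h : IsHyp Q m) {U : Submodule F (ι → F)} :
    Cfsg.IsMaxTotallySingular ⇑Q U ↔ IsTotSing Q U ∧ finrank F ↥U = m :=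
  ⟨fun hU => ⟨hU.1, h.finrank_of_isMax hU⟩, fun hU => h.isMax_of_finrank hU.1 hU.2⟩

/-! ### linear similarities -/

theorem isTotSing_map_of_sim {g : Matrix ι ι F} {c : F}
    (hc : ∀ v : ι → F, Q (g *ᵥ v) = c * Q v) {U : Submodule F (ι → F)} (hU : IsTotSing Q U) :
    IsTotSing Q (U.map (Matrix.toLin' g)) := by
  rintro _ ⟨u, hu, rfl⟩
  rw [Matrix.toLin'_apply, hc u, hU u hu, mul_zero]

/-- for an invertible similarity, `U` and `g U` are in the same class for one `U` iff for all -/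
theorem samePar_map_sim_iff {m : ℕ} (h : IsHyp Q m) (g : GL ι F) {c : F}
    (hc : ∀ v : ι → F, Q ((g : Matrix ι ι F) *ᵥ v) = c * Q v)
    {U U' : Submodule F (ι → F)} (hU : IsTotSing Q U) (hU' : IsTotSing Q U')
    (hUm : finrank F ↥U = m) (hUm' : finrank F ↥U' = m) :
    SamePar m U (U.map (Matrix.toLin' (g : Matrix ι ι F))) ↔
      SamePar m U' (U'.map (Matrix.toLin' (g : Matrix ι ι F))) :=
  samePar_map_iff Q h.nondeg h.finrank_space
    (fun W => W.map (Matrix.toLin' (g : Matrix ι ι F)))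
    (fun W hW => isTotSing_map_of_sim hc hW)
    (fun W => finrank_map_sim g W)
    (fun W X => Submodule.map_inf _ (toLin'_injective_of_GL g)) hU hU' hUm hUm'

/-- **one-subspace criterion** -/
theorem preservesSingularClasses_iff_samePar {m : ℕ} (h : IsHyp Q m) (g : GL ι F) {c : F}
    (hc : ∀ v : ι → F, Q ((g : Matrix ι ι F) *ᵥ v) = c * Q v)
    {U : Submodule F (ι → F)} (hU : IsTotSing Q U) (hUm : finrank F ↥U = m) :
    Cfsg.PreservesSingularClasses ⇑Q (g : Matrix ι ι F) ↔
      SamePar m U (U.map (Matrix.toLin' (g : Matrix ι ι F))) := by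
  constructor
  · intro hp
    have := hp U (h.isMax_of_finrank hU hUm)
    exact (samePar_iff_sub hUm).2 this
  · intro hs W hW
    obtain ⟨hW1, hWm⟩ := h.isMax_iff.1 hW
    have := (samePar_map_sim_iff h g hc hU hW1 hUm hWm).1 hs
    exact (samePar_iff_sub hWm).1 this

theorem preservesSingularClasses_iff_even {m : ℕ} (h : IsHyp Q m) (g : GL ι F) {c : F}
    (hc : ∀ v : ι → F, Q ((g : Matrix ι ι F) *ᵥ v) = c * Q v)
    {U : Submodule F (ι → F)} (hU : IsTotSing Q U) (hUm : finrank F ↥U = m) :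
    Cfsg.PreservesSingularClasses ⇑Q (g : Matrix ι ι F) ↔
      Even (m - finrank F ↥(U ⊓ U.map (Matrix.toLin' (g : Matrix ι ι F)))) := by
  rw [preservesSingularClasses_iff_samePar h g hc hU hUm, samePar_iff_sub hUm, hUm]

/-- **products of reflections**: class-preserving iff the number of factors is even -/
theorem preservesSingularClasses_prod_reflT_iff {m : ℕ} (h : IsHyp Q m) (vs : List (ι → F))
    (hvs : ∀ v ∈ vs, Q v ≠ 0) :
    Cfsg.PreservesSingularClasses ⇑Q
      ((((vs.map (reflT Q)).prod : Cfsg.isometryGroup F ⇑Q).1 : GL ι F) : Matrix ι ι F) ↔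
      Even vs.length := by
  obtain ⟨U₀, hU₀, hU₀m⟩ := h.exists_sing
  have hc : ∀ v : ι → F, Q (((((vs.map (reflT Q)).prod : Cfsg.isometryGroup F ⇑Q).1 : GL ι F) :
      Matrix ι ι F) *ᵥ v) = 1 * Q v := by
    intro v
    rw [one_mul]
    exact Helper45.OmegaParity.lin_isometry Q _ v
  rw [preservesSingularClasses_iff_samePar h _ hc hU₀ hU₀m, Matrix.toLin'_apply',
    mulVecLin_prod_reflT' Q vs hvs]
  exact samePar_map_prod_qRefl_iff Q h.nondeg h.finrank_space hU₀ hU₀m vs hvs

/-! ### group structure -/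

theorem preservesSingularClasses_one {m : ℕ} (h : IsHyp Q m) :
    Cfsg.PreservesSingularClasses ⇑Q (((1 : GL ι F) : GL ι F) : Matrix ι ι F) := by
  obtain ⟨U₀, hU₀, hU₀m⟩ := h.exists_sing
  have hc : ∀ v : ι → F, Q (((1 : GL ι F) : Matrix ι ι F) *ᵥ v) = 1 * Q v := by
    intro v
    rw [Units.val_one, Matrix.one_mulVec, one_mul]
  rw [preservesSingularClasses_iff_samePar h _ hc hU₀ hU₀m, Units.val_one]
  have : U₀.map (Matrix.toLin' (1 : Matrix ι ι F)) = U₀ := by
    rw [Matrix.toLin'_one]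
    exact Submodule.map_id U₀
  rw [this]
  exact samePar_self hU₀m

/-- the behaviour of a product: `g * k` preserves the classes iff `g` and `k` both do or both
do not -/
theorem preservesSingularClasses_mul_iff {m : ℕ} (h : IsHyp Q m) (g k : GL ι F) {c d : F}
    (hc : ∀ v : ι → F, Q ((g : Matrix ι ι F) *ᵥ v) = c * Q v)
    (hd : ∀ v : ι → F, Q ((k : Matrix ι ι F) *ᵥ v) = d * Q v) :
    Cfsg.PreservesSingularClasses ⇑Q ((g * k : GL ι F) : Matrix ι ι F) ↔
      (Cfsg.PreservesSingularClasses ⇑Q (g : Matrix ι ι F) ↔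
        Cfsg.PreservesSingularClasses ⇑Q (k : Matrix ι ι F)) := by
  obtain ⟨U₀, hU₀, hU₀m⟩ := h.exists_sing
  have hcd : ∀ v : ι → F, Q (((g * k : GL ι F) : Matrix ι ι F) *ᵥ v) = (c * d) * Q v := by
    intro v
    rw [Units.val_mul, ← Matrix.mulVec_mulVec, hc, hd, mul_assoc]
  set W := U₀.map (Matrix.toLin' (k : Matrix ι ι F)) with hW
  have hWts : IsTotSing Q W := isTotSing_map_of_sim hd hU₀
  have hWm : finrank F ↥W = m := by rw [hW, finrank_map_sim k U₀, hU₀m]
  have hgk : U₀.map (Matrix.toLin' ((g * k : GL ι F) : Matrix ι ι F)) =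
      W.map (Matrix.toLin' (g : Matrix ι ι F)) := by
    rw [hW, ← Submodule.map_comp, Units.val_mul, Matrix.toLin'_mul]
  set X := W.map (Matrix.toLin' (g : Matrix ι ι F)) with hX
  have hXts : IsTotSing Q X := isTotSing_map_of_sim hc hWts
  have hXm : finrank F ↥X = m := by rw [hX, finrank_map_sim g W, hWm]
  rw [preservesSingularClasses_iff_samePar h _ hcd hU₀ hU₀m, hgk,
    preservesSingularClasses_iff_samePar h g hc hWts hWm,
    preservesSingularClasses_iff_samePar h k hd hU₀ hU₀m, ← hW, ← hX]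
  have t := samePar_triangle Q h.nondeg h.finrank_space hU₀ hWts hXts hU₀m hWm hXm
  rw [t]
  tauto

theorem preservesSingularClasses_mul {m : ℕ} (h : IsHyp Q m) (g k : GL ι F) {c d : F}
    (hc : ∀ v : ι → F, Q ((g : Matrix ι ι F) *ᵥ v) = c * Q v)
    (hd : ∀ v : ι → F, Q ((k : Matrix ι ι F) *ᵥ v) = d * Q v)
    (hg : Cfsg.PreservesSingularClasses ⇑Q (g : Matrix ι ι F))
    (hk : Cfsg.PreservesSingularClasses ⇑Q (k : Matrix ι ι F)) :
    Cfsg.PreservesSingularClasses ⇑Q ((g * k : GL ι F) : Matrix ι ι F) :=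
  (preservesSingularClasses_mul_iff h g k hc hd).2 ⟨fun _ => hk, fun _ => hg⟩

theorem preservesSingularClasses_mul_of_not {m : ℕ} (h : IsHyp Q m) (g k : GL ι F) {c d : F}
    (hc : ∀ v : ι → F, Q ((g : Matrix ι ι F) *ᵥ v) = c * Q v)
    (hd : ∀ v : ι → F, Q ((k : Matrix ι ι F) *ᵥ v) = d * Q v)
    (hg : ¬ Cfsg.PreservesSingularClasses ⇑Q (g : Matrix ι ι F))
    (hk : ¬ Cfsg.PreservesSingularClasses ⇑Q (k : Matrix ι ι F)) :
    Cfsg.PreservesSingularClasses ⇑Q ((g * k : GL ι F) : Matrix ι ι F) :=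
  (preservesSingularClasses_mul_iff h g k hc hd).2 ⟨fun h' => absurd h' hg, fun h' => absurd h' hk⟩

theorem preservesSingularClasses_inv_iff {m : ℕ} (h : IsHyp Q m) (g : GL ι F) {c : F}
    (hc0 : c ≠ 0) (hc : ∀ v : ι → F, Q ((g : Matrix ι ι F) *ᵥ v) = c * Q v) :
    Cfsg.PreservesSingularClasses ⇑Q ((g⁻¹ : GL ι F) : Matrix ι ι F) ↔
      Cfsg.PreservesSingularClasses ⇑Q (g : Matrix ι ι F) := by
  have hd : ∀ v : ι → F, Q (((g⁻¹ : GL ι F) : Matrix ι ι F) *ᵥ v) = c⁻¹ * Q v := by
    intro v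
    have h1 := hc (((g⁻¹ : GL ι F) : Matrix ι ι F) *ᵥ v)
    rw [Matrix.mulVec_mulVec, ← Units.val_mul, mul_inv_cancel, Units.val_one,
      Matrix.one_mulVec] at h1
    rw [h1, ← mul_assoc, inv_mul_cancel₀ hc0, one_mul]
  have h1 := preservesSingularClasses_mul_iff h g g⁻¹ hc hd
  rw [mul_inv_cancel] at h1
  have h2 := preservesSingularClasses_one h
  exact (h1.1 h2).symm

/-- scalar matrices preserve the classes -/
theorem preservesSingularClasses_scalar {m : ℕ} (h : IsHyp Q m) (g : GL ι F) (a : F)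
    (hg : (g : Matrix ι ι F) = Matrix.scalar ι a) :
    Cfsg.PreservesSingularClasses ⇑Q (g : Matrix ι ι F) := by
  obtain ⟨U₀, hU₀, hU₀m⟩ := h.exists_sing
  have hmv : ∀ v : ι → F, (g : Matrix ι ι F) *ᵥ v = a • v := by
    intro v
    rw [hg]
    funext i
    simp [Matrix.mulVec, dotProduct, Matrix.scalar, Matrix.diagonal_apply]
  have hc : ∀ v : ι → F, Q ((g : Matrix ι ι F) *ᵥ v) = (a * a) * Q v := by
    intro v
    rw [hmv, QuadraticMap.map_smul, smul_eq_mul]
  rw [preservesSingularClasses_iff_samePar h _ hc hU₀ hU₀m]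
  have hle : U₀.map (Matrix.toLin' (g : Matrix ι ι F)) ≤ U₀ := by
    rintro _ ⟨u, hu, rfl⟩
    rw [Matrix.toLin'_apply, hmv]
    exact U₀.smul_mem a hu
  have heq : U₀.map (Matrix.toLin' (g : Matrix ι ι F)) = U₀ :=
    Submodule.eq_of_le_of_finrank_eq hle (finrank_map_sim g U₀)
  rw [heq]
  exact samePar_self hU₀m

end Cfsg.Agent.Helper12.ClassPres
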