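import Mathlib

/-!
# Quadratic functions given by a coefficient matrix, and base change of similarities
(any characteristic)

`qOf C v = v ⬝ᵥ C *ᵥ v`.  It vanishes identically iff `C` is alternating (`IsAlt`), a condition
kept by every ring homomorphism.  Hence a matrix which is a similarity of `qOf C` over `F` is,
after mapping its entries by `φ : F →+* K`, a similarity of `qOf (C.map φ)` over `K`.
-/

set_option autoImplicit false

namespace Cfsg.Agent.Helper12.ClassPres

open Matrix

variable {F K : Type*} [Field F] [Field K] {ι : Type} [Fintype ι] [DecidableEq ι]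

/-- the quadratic function with coefficient matrix `C` -/
def qOf (C : Matrix ι ι F) (v : ι → F) : F := v ⬝ᵥ (C *ᵥ v)

omit [DecidableEq ι] in
theorem qOf_eq_sum (C : Matrix ι ι F) (v : ι → F) :
    qOf C v = ∑ p : ι × ι, v p.1 * C p.1 p.2 * v p.2 := by
  unfold qOf
  simp only [dotProduct, Matrix.mulVec]
  rw [Fintype.sum_prod_type]
  refine Finset.sum_congr rfl fun i _ => ?_
  rw [Finset.mul_sum]
  refine Finset.sum_congr rfl fun j _ => ?_
  ring

/-- alternating matrices: zero diagonal and skew-symmetric -/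
def IsAlt (M : Matrix ι ι F) : Prop := (∀ i, M i i = 0) ∧ ∀ i j, M i j + M j i = 0

omit [DecidableEq ι] in
theorem qOf_eq_zero_of_isAlt {M : Matrix ι ι F} (hM : IsAlt M) (v : ι → F) : qOf M v = 0 := by
  rw [qOf_eq_sum]
  apply Finset.sum_involution (fun p _ => Prod.swap p)
  · intro p _
    show v p.1 * M p.1 p.2 * v p.2 + v p.2 * M p.2 p.1 * v p.1 = 0
    have := hM.2 p.1 p.2
    have h2 : M p.2 p.1 = - M p.1 p.2 := by
      rw [eq_neg_iff_add_eq_zero, add_comm]; exact this
    rw [h2]
    ring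
  · intro p _ hne hsw
    apply hne
    have h1 : p.2 = p.1 := congrArg Prod.fst hsw
    rw [h1, hM.1 p.1, mul_zero, zero_mul]
  · intro p _
    exact Finset.mem_univ _
  · intro p _
    exact Prod.swap_swap p

theorem qOf_single (M : Matrix ι ι F) (i : ι) : qOf M (Pi.single i 1) = M i i := by
  unfold qOf
  rw [Matrix.mulVec_single_one, single_one_dotProduct]
  rfl

omit [DecidableEq ι] in
theorem qOf_add (M : Matrix ι ι F) (v w : ι → F) :
    qOf M (v + w) = qOf M v + qOf M w + (v ⬝ᵥ (M *ᵥ w) + w ⬝ᵥ (M *ᵥ v)) := by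
  unfold qOf
  rw [Matrix.mulVec_add, dotProduct_add, add_dotProduct, add_dotProduct]
  ring

theorem isAlt_of_qOf_eq_zero {M : Matrix ι ι F} (h : ∀ v, qOf M v = 0) : IsAlt M := by
  have hd : ∀ i, M i i = 0 := fun i => by
    have h0 := h (Pi.single i 1)
    rwa [qOf_single] at h0
  refine ⟨hd, fun i j => ?_⟩
  have h1 := h (Pi.single i 1 + Pi.single j 1)
  rw [qOf_add, h, h, zero_add, zero_add, Matrix.mulVec_single_one, Matrix.mulVec_single_one,
    single_one_dotProduct, single_one_dotProduct] at h1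
  exact h1

omit [DecidableEq ι] [Fintype ι] in
theorem IsAlt.map {M : Matrix ι ι F} (hM : IsAlt M) (φ : F →+* K) : IsAlt (M.map φ) := by
  refine ⟨fun i => ?_, fun i j => ?_⟩
  · rw [Matrix.map_apply, hM.1 i, map_zero]
  · rw [Matrix.map_apply, Matrix.map_apply, ← map_add, hM.2 i j, map_zero]

omit [DecidableEq ι] in
theorem qOf_mulVec (C A : Matrix ι ι F) (v : ι → F) :
    qOf C (A *ᵥ v) = qOf (Aᵀ * C * A) v := by
  unfold qOf
  conv_rhs => rw [← Matrix.mulVec_mulVec, ← Matrix.mulVec_mulVec, Matrix.dotProduct_mulVec,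
    Matrix.vecMul_transpose]

omit [DecidableEq ι] in
theorem qOf_sub (C D : Matrix ι ι F) (v : ι → F) : qOf (C - D) v = qOf C v - qOf D v := by
  unfold qOf
  rw [Matrix.sub_mulVec, dotProduct_sub]

omit [DecidableEq ι] in
theorem qOf_smul (c : F) (C : Matrix ι ι F) (v : ι → F) : qOf (c • C) v = c * qOf C v := by
  unfold qOf
  rw [Matrix.smul_mulVec, dotProduct_smul, smul_eq_mul]

/-- **base change of similarities** -/
theorem qOf_map_sim (φ : F →+* K) (C A : Matrix ι ι F) (μ : F)
    (h : ∀ u : ι → F, qOf C (A *ᵥ u) = μ * qOf C u) (v : ι → K) :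
    qOf (C.map φ) (A.map φ *ᵥ v) = φ μ * qOf (C.map φ) v := by
  have h1 : IsAlt (Aᵀ * C * A - μ • C) := by
    apply isAlt_of_qOf_eq_zero
    intro u
    rw [qOf_sub, qOf_smul, ← qOf_mulVec, h u, sub_self]
  have h2 := qOf_eq_zero_of_isAlt (h1.map φ) v
  have h3 : (Aᵀ * C * A - μ • C).map φ
      = (A.map φ)ᵀ * C.map φ * A.map φ - φ μ • C.map φ := by
    rw [Matrix.map_sub (f := φ) (fun a b => map_sub φ a b), Matrix.map_mul, Matrix.map_mul,
      Matrix.transpose_map]
    congr 1
    ext i j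
    simp [Matrix.map_apply, Matrix.smul_apply]
  rw [h3, qOf_sub, qOf_smul, ← qOf_mulVec, sub_eq_zero] at h2
  exact h2

end Cfsg.Agent.Helper12.ClassPres
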