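import Mathlib
import Cfsg.Agent.Helper12.ClassPresB
import Cfsg.Agent.Helper12.ClassPresC

/-!
# Base change of class preservation (any characteristic)

Rank of a square matrix is invariant under a homomorphism of fields; hence the dimension of
`U ⊓ g U` is the same over `K₀` and over `K`, and `PreservesSingularClasses` for a similarity
defined over `K₀` can be tested over either field.
-/

set_option autoImplicit false

namespace Cfsg.Agent.Helper12.ClassPres

open Matrix Module QuadraticMap Cfsg.Agent.Helper44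

variable {K₀ K : Type*} [Field K₀] [Field K] {ι : Type} [Fintype ι] [DecidableEq ι]

/-- the rank of a square matrix does not change under a homomorphism of fields -/
theorem rank_map_sq {n : Type*} [Fintype n] [DecidableEq n] (φ : K₀ →+* K)
    (M : Matrix n n K₀) : (M.map φ).rank = M.rank := by
  classical
  obtain ⟨L, L', D, hM⟩ := Matrix.Pivot.exists_list_transvec_mul_diagonal_mul_list_transvec M
  set P := (L.map TransvectionStruct.toMatrix).prod with hP
  set P' := (L'.map TransvectionStruct.toMatrix).prod with hP'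
  have hdP : P.det = 1 := TransvectionStruct.det_toMatrix_prod L
  have hdP' : P'.det = 1 := TransvectionStruct.det_toMatrix_prod L'
  have h1 : M.rank = Fintype.card {i // D i ≠ 0} := by
    rw [hM, rank_mul_eq_left_of_isUnit_det P' _ (by rw [hdP']; exact isUnit_one),
      rank_mul_eq_right_of_isUnit_det P _ (by rw [hdP]; exact isUnit_one), rank_diagonal]
  have hdet : ∀ X : Matrix n n K₀, X.det = 1 → (X.map φ).det = 1 := by
    intro X hX
    have := RingHom.map_det φ X
    rw [RingHom.mapMatrix_apply] at this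
    rw [← this, hX, map_one]
  have hmap : M.map φ = P.map φ * diagonal (fun i => φ (D i)) * P'.map φ := by
    rw [hM, Matrix.map_mul, Matrix.map_mul, Matrix.diagonal_map (map_zero φ)]
  have h2 : (M.map φ).rank = Fintype.card {i // φ (D i) ≠ 0} := by
    rw [hmap, rank_mul_eq_left_of_isUnit_det (P'.map φ) _
        (by rw [hdet P' hdP']; exact isUnit_one),
      rank_mul_eq_right_of_isUnit_det (P.map φ) _ (by rw [hdet P hdP]; exact isUnit_one),
      rank_diagonal]
  rw [h1, h2]
  apply Fintype.card_congr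
  refine Equiv.subtypeEquivRight fun i => ?_
  rw [Ne, Ne, map_eq_zero]

/-- the padding embedding -/
def padL (k : Type*) [Field k] (ι : Type) : (ι → k) →ₗ[k] (ι ⊕ ι → k) where
  toFun v := Sum.elim v 0
  map_add' v w := by
    funext i
    cases i <;> simp
  map_smul' c v := by
    funext i
    cases i <;> simp

omit [Fintype ι] [DecidableEq ι] in
theorem padL_injective (k : Type*) [Field k] : Function.Injective (padL k ι) := by
  intro v w h
  funext i
  exact congrFun h (Sum.inl i)

theorem rank_fromBlocks_zero {k : Type*} [Field k] (A B : Matrix ι ι k) :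
    (fromBlocks A B 0 0 : Matrix (ι ⊕ ι) (ι ⊕ ι) k).rank =
      finrank k ↥(LinearMap.range A.mulVecLin ⊔ LinearMap.range B.mulVecLin) := by
  have hr : LinearMap.range (fromBlocks A B 0 0 : Matrix (ι ⊕ ι) (ι ⊕ ι) k).mulVecLin =
      (LinearMap.range A.mulVecLin ⊔ LinearMap.range B.mulVecLin).map (padL k ι) := by
    ext u
    constructor
    · rintro ⟨z, rfl⟩
      refine ⟨A *ᵥ (z ∘ Sum.inl) + B *ᵥ (z ∘ Sum.inr), ?_, ?_⟩
      · exact Submodule.add_mem_sup ⟨_, rfl⟩ ⟨_, rfl⟩
      · have hz : z = Sum.elim (z ∘ Sum.inl) (z ∘ Sum.inr) := by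
          funext i
          cases i <;> rfl
        conv_rhs => rw [hz]
        rw [Matrix.mulVecLin_apply, Matrix.fromBlocks_mulVec]
        funext i
        cases i <;> simp [padL]
    · rintro ⟨w, hw, rfl⟩
      obtain ⟨a, ⟨x, rfl⟩, b, ⟨y, rfl⟩, rfl⟩ := Submodule.mem_sup.1 hw
      refine ⟨Sum.elim x y, ?_⟩
      rw [Matrix.mulVecLin_apply, Matrix.fromBlocks_mulVec]
      funext i
      cases i <;> simp [padL]
  rw [Matrix.rank, hr]
  exact (LinearEquiv.finrank_eq
    (Submodule.equivMapOfInjective _ (padL_injective k) _)).symm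

theorem map_range_mulVecLin {k : Type*} [Field k] (g B : Matrix ι ι k) :
    (LinearMap.range B.mulVecLin).map (Matrix.toLin' g) = LinearMap.range (g * B).mulVecLin := by
  rw [Matrix.toLin'_apply', ← LinearMap.range_comp, Matrix.mulVecLin_mul]

/-- the dimension of `U ⊓ g U` for `U = range B`, through ranks of square matrices -/
theorem finrank_inf_range_add {k : Type*} [Field k] (g B : Matrix ι ι k) :
    finrank k ↥(LinearMap.range B.mulVecLin ⊓
        (LinearMap.range B.mulVecLin).map (Matrix.toLin' g)) +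
      (fromBlocks B (g * B) 0 0 : Matrix (ι ⊕ ι) (ι ⊕ ι) k).rank = B.rank + (g * B).rank := by
  rw [rank_fromBlocks_zero, map_range_mulVecLin, add_comm]
  exact Submodule.finrank_sup_add_finrank_inf_eq _ _

/-- every subspace of `ι → k` is the range of a square matrix -/
theorem exists_range_mulVecLin_eq {k : Type*} [Field k] (U : Submodule k (ι → k)) :
    ∃ B : Matrix ι ι k, LinearMap.range B.mulVecLin = U := by
  obtain ⟨W, hW⟩ := Submodule.exists_isCompl U
  refine ⟨LinearMap.toMatrix' (U.projection W hW), ?_⟩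
  rw [← Matrix.toLin'_apply', Matrix.toLin'_toMatrix', Submodule.range_projection]

/-- **base change**: a similarity defined over `K₀` preserves the singular classes over `K₀`
iff its image preserves them over `K`.  The forms are given by a coefficient matrix. -/
theorem preservesSingularClasses_map_iff (φ : K₀ →+* K) (C : Matrix ι ι K₀)
    {Q₀ : QuadraticForm K₀ (ι → K₀)} {Q : QuadraticForm K (ι → K)}
    (hQ₀ : ∀ v, Q₀ v = qOf C v) (hQ : ∀ v, Q v = qOf (C.map φ) v) {m : ℕ}
    (h₀ : IsHyp Q₀ m) (h : IsHyp Q m) (g : GL ι K₀) {c : K₀}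
    (hc : ∀ v : ι → K₀, Q₀ ((g : Matrix ι ι K₀) *ᵥ v) = c * Q₀ v) :
    Cfsg.PreservesSingularClasses ⇑Q₀ (g : Matrix ι ι K₀) ↔
      Cfsg.PreservesSingularClasses ⇑Q ((g : Matrix ι ι K₀).map φ) := by
  obtain ⟨U₀, hU₀, hU₀m⟩ := h₀.exists_sing
  obtain ⟨B, hB⟩ := exists_range_mulVecLin_eq U₀
  have hBr : B.rank = m := by rw [Matrix.rank, hB, hU₀m]
  -- the mapped data
  set g' : GL ι K := Matrix.GeneralLinearGroup.map φ g with hg'
  have hg'c : (g' : Matrix ι ι K) = (g : Matrix ι ι K₀).map φ := rfl
  have hc' : ∀ v : ι → K, Q ((g' : Matrix ι ι K) *ᵥ v) = φ c * Q v := by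
    intro v
    rw [hQ, hQ, hg'c]
    apply qOf_map_sim φ C _ c
    intro u
    rw [← hQ₀, ← hQ₀]
    exact hc u
  set U : Submodule K (ι → K) := LinearMap.range (B.map φ).mulVecLin with hU
  have hUm : finrank K ↥U = m := by
    have : (B.map φ).rank = m := by rw [rank_map_sq, hBr]
    rw [hU]
    exact this
  have hUts : IsTotSing Q U := by
    rintro _ ⟨x, rfl⟩
    rw [Matrix.mulVecLin_apply, hQ, qOf_mulVec]
    have h1 : IsAlt (Bᵀ * C * B) := by
      apply isAlt_of_qOf_eq_zero
      intro u
      rw [← qOf_mulVec, ← hQ₀]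
      apply hU₀
      rw [← hB]
      exact ⟨u, rfl⟩
    have h2 := qOf_eq_zero_of_isAlt (h1.map φ) x
    rw [Matrix.map_mul, Matrix.map_mul, Matrix.transpose_map] at h2
    exact h2
  rw [preservesSingularClasses_iff_samePar h₀ g hc hU₀ hU₀m, ← hg'c,
    preservesSingularClasses_iff_samePar h g' hc' hUts hUm]
  -- compare the dimensions
  have e1 := finrank_inf_range_add (g : Matrix ι ι K₀) B
  have e2 := finrank_inf_range_add (g' : Matrix ι ι K) (B.map φ)
  have e3 : (fromBlocks (B.map φ) ((g' : Matrix ι ι K) * B.map φ) 0 0 :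
      Matrix (ι ⊕ ι) (ι ⊕ ι) K).rank
      = (fromBlocks B ((g : Matrix ι ι K₀) * B) 0 0 : Matrix (ι ⊕ ι) (ι ⊕ ι) K₀).rank := by
    rw [← rank_map_sq φ (fromBlocks B ((g : Matrix ι ι K₀) * B) 0 0), Matrix.fromBlocks_map,
      Matrix.map_mul, hg'c]
    simp
  have e4 : ((g' : Matrix ι ι K) * B.map φ).rank = ((g : Matrix ι ι K₀) * B).rank := by
    rw [hg'c, ← Matrix.map_mul, rank_map_sq]
  have e5 : (B.map φ).rank = B.rank := rank_map_sq φ B
  rw [e3, e4, e5] at e2
  rw [hB] at e1
  unfold SamePar
  rw [← hU] at e2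
  have : finrank K ↥(U ⊓ U.map (Matrix.toLin' (g' : Matrix ι ι K))) =
      finrank K₀ ↥(U₀ ⊓ U₀.map (Matrix.toLin' (g : Matrix ι ι K₀))) := by omega
  rw [this]

end Cfsg.Agent.Helper12.ClassPres
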