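import Mathlib
import Cfsg.Prelude.Def_LieTypeDatum
import Cfsg.Agent.Helper44.ConjAut

/-!
# The group `ΓO(Q)` of semisimilarities of a form `Q` and its action on `PΩ(Q)`

`Gam ι F = GL ι F ⋊ Aut F` (entrywise action), `GamO Q` the subgroup of the semisimilarity pairs,
`psi0 Q : GamO Q →* MulAut (isometryGroup F Q)`, `psi Q : GamO Q →* MulAut (POmega F Q)`, and
`gammaPOmega F Q = (psi Q).range`.
-/

set_option autoImplicit false
set_option linter.unusedSectionVars false

namespace Cfsg.Agent.Helper12.GammaO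

open Matrix

variable {F : Type*} [Field F] {ι : Type} [Fintype ι] [DecidableEq ι]

/-- entrywise action of a field automorphism on `GL` -/
noncomputable def glMap (σ : F ≃+* F) : GL ι F ≃* GL ι F :=
  Units.mapEquiv (σ.mapMatrix (m := ι)).toMulEquiv

theorem coe_glMap (σ : F ≃+* F) (g : GL ι F) :
    ((glMap σ g : GL ι F) : Matrix ι ι F) = (g : Matrix ι ι F).map σ := rfl

/-- the entrywise action, as a homomorphism -/
noncomputable def fieldAct : (F ≃+* F) →* MulAut (GL ι F) where
  toFun σ := glMap σ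
  map_one' := by
    ext g i j
    rfl
  map_mul' σ τ := by
    ext g i j
    rfl

theorem fieldAct_apply (σ : F ≃+* F) (g : GL ι F) : fieldAct σ g = glMap σ g := rfl

/-- `ΓL`: pairs (matrix, field automorphism) -/
abbrev Gam (ι : Type) [Fintype ι] [DecidableEq ι] (F : Type*) [Field F] : Type _ :=
  GL ι F ⋊[(fieldAct : (F ≃+* F) →* MulAut (GL ι F))] (F ≃+* F)

/-- the semilinear map `v ↦ g σ(v)` -/
def semiLin (g : GL ι F) (σ : F ≃+* F) (v : ι → F) : ι → F :=
  (g : Matrix ι ι F) *ᵥ (fun i => σ (v i))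

theorem map_mulVec (σ : F ≃+* F) (M : Matrix ι ι F) (v : ι → F) :
    (fun i => σ ((M *ᵥ v) i)) = (M.map σ) *ᵥ (fun i => σ (v i)) := by
  funext i
  simp only [Matrix.mulVec, dotProduct, map_sum, map_mul, Matrix.map_apply]

theorem semiLin_mul (x y : Gam ι F) (v : ι → F) :
    semiLin (x * y).left (x * y).right v = semiLin x.left x.right (semiLin y.left y.right v) := by
  unfold semiLin
  rw [SemidirectProduct.mul_left, SemidirectProduct.mul_right, map_mulVec, Units.val_mul,
    ← Matrix.mulVec_mulVec, fieldAct_apply, coe_glMap]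
  rfl

theorem semiLin_one (v : ι → F) : semiLin (1 : Gam ι F).left (1 : Gam ι F).right v = v := by
  unfold semiLin
  rw [SemidirectProduct.one_left, SemidirectProduct.one_right, Units.val_one, Matrix.one_mulVec]
  rfl

theorem semiLin_inv_apply (x : Gam ι F) (v : ι → F) :
    semiLin x⁻¹.left x⁻¹.right (semiLin x.left x.right v) = v := by
  rw [← semiLin_mul, inv_mul_cancel, semiLin_one]

theorem semiLin_apply_inv (x : Gam ι F) (v : ι → F) :
    semiLin x.left x.right (semiLin x⁻¹.left x⁻¹.right v) = v := by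
  rw [← semiLin_mul, mul_inv_cancel, semiLin_one]

theorem semiLin_add (g : GL ι F) (σ : F ≃+* F) (v w : ι → F) :
    semiLin g σ (v + w) = semiLin g σ v + semiLin g σ w := by
  unfold semiLin
  rw [← Matrix.mulVec_add]
  congr 1
  funext i
  simp

theorem semiLin_smul (g : GL ι F) (σ : F ≃+* F) (c : F) (v : ι → F) :
    semiLin g σ (c • v) = σ c • semiLin g σ v := by
  unfold semiLin
  rw [← Matrix.mulVec_smul]
  congr 1
  funext i
  simp

theorem semiLin_inl (s : GL ι F) (v : ι → F) :
    semiLin (SemidirectProduct.inl s : Gam ι F).left (SemidirectProduct.inl s : Gam ι F).right v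
      = (s : Matrix ι ι F) *ᵥ v := by
  unfold semiLin
  rw [SemidirectProduct.left_inl, SemidirectProduct.right_inl]
  rfl

variable (Q : (ι → F) → F)

theorem isSemisimilarityPair_iff (g : GL ι F) (σ : F ≃+* F) :
    Cfsg.IsSemisimilarityPair Q g σ ↔ ∃ c : Fˣ, ∀ v, Q (semiLin g σ v) = (c : F) * σ (Q v) :=
  Iff.rfl

/-- `ΓO(Q)`: the semisimilarity pairs -/
def GamO : Subgroup (Gam ι F) where
  carrier := {x | Cfsg.IsSemisimilarityPair Q x.left x.right}
  mul_mem' {x y} hx hy := by
    obtain ⟨c, hc⟩ := hx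
    obtain ⟨d, hd⟩ := hy
    refine ⟨c * Units.map (x.right : F →+* F).toMonoidHom d, fun v => ?_⟩
    have h1 := semiLin_mul x y v
    unfold semiLin at h1
    rw [h1]
    have h2 := hc ((y.left : Matrix ι ι F) *ᵥ fun i => y.right (v i))
    rw [h2, hd v, map_mul, Units.val_mul, mul_assoc]
    rfl
  one_mem' := by
    refine ⟨1, fun v => ?_⟩
    have h1 := semiLin_one (ι := ι) (F := F) v
    unfold semiLin at h1
    rw [h1, Units.val_one, one_mul]
    rfl
  inv_mem' {x} hx := by
    obtain ⟨c, hc⟩ := hx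
    refine ⟨Units.map (x⁻¹.right : F →+* F).toMonoidHom c⁻¹, fun v => ?_⟩
    have h1 := hc (semiLin x⁻¹.left x⁻¹.right v)
    have h2 := semiLin_apply_inv x v
    unfold semiLin at h1 h2
    rw [h2] at h1
    have h3 : Q ((x⁻¹.left : Matrix ι ι F) *ᵥ fun i => x⁻¹.right (v i))
        = x⁻¹.right ((c⁻¹ : Fˣ) * Q v) := by
      rw [h1, Units.val_inv_eq_inv_val, inv_mul_cancel_left₀ c.ne_zero,
        SemidirectProduct.inv_right]
      exact (RingEquiv.symm_apply_apply x.right _).symm
    rw [h3, map_mul]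
    rfl

theorem mem_GamO_iff (x : Gam ι F) :
    x ∈ GamO Q ↔ ∃ c : Fˣ, ∀ v, Q (semiLin x.left x.right v) = (c : F) * x.right (Q v) := Iff.rfl

/-- conjugation in `ΓL` of an element of `GL` -/
noncomputable def conjLeft (x : Gam ι F) (s : GL ι F) : GL ι F :=
  (x * SemidirectProduct.inl s * x⁻¹).left

theorem inl_conjLeft (x : Gam ι F) (s : GL ι F) :
    (SemidirectProduct.inl (conjLeft x s) : Gam ι F) = x * SemidirectProduct.inl s * x⁻¹ := by
  apply SemidirectProduct.ext
  · rfl
  · rw [SemidirectProduct.right_inl, SemidirectProduct.mul_right, SemidirectProduct.mul_right,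
      SemidirectProduct.right_inl, SemidirectProduct.inv_right, mul_one, mul_inv_cancel]

theorem conjLeft_eq (x : Gam ι F) (s : GL ι F) :
    conjLeft x s = x.left * glMap x.right s * x.left⁻¹ := by
  unfold conjLeft
  rw [SemidirectProduct.mul_left, SemidirectProduct.mul_left, SemidirectProduct.left_inl,
    SemidirectProduct.mul_right, SemidirectProduct.right_inl, mul_one, SemidirectProduct.inv_left,
    fieldAct_apply, fieldAct_apply, fieldAct_apply]
  congr 1
  show glMap x.right (glMap x.right⁻¹ x.left⁻¹) = x.left⁻¹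
  apply Units.ext
  ext i j
  rw [coe_glMap, coe_glMap, Matrix.map_apply, Matrix.map_apply]
  exact RingEquiv.apply_symm_apply x.right _

theorem conjLeft_mul (x y : Gam ι F) (s : GL ι F) :
    conjLeft (x * y) s = conjLeft x (conjLeft y s) := by
  apply SemidirectProduct.inl_injective (φ := (fieldAct : (F ≃+* F) →* MulAut (GL ι F)))
  rw [inl_conjLeft, inl_conjLeft, inl_conjLeft]
  group

theorem conjLeft_one (s : GL ι F) : conjLeft (1 : Gam ι F) s = s := by
  apply SemidirectProduct.inl_injective (φ := (fieldAct : (F ≃+* F) →* MulAut (GL ι F)))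
  rw [inl_conjLeft]
  group

theorem conjLeft_mul_right (x : Gam ι F) (s t : GL ι F) :
    conjLeft x (s * t) = conjLeft x s * conjLeft x t := by
  apply SemidirectProduct.inl_injective (φ := (fieldAct : (F ≃+* F) →* MulAut (GL ι F)))
  rw [map_mul, inl_conjLeft, inl_conjLeft, inl_conjLeft, map_mul]
  group

/-- the matrix `g σ(s) g⁻¹` acts as `G ∘ s ∘ G⁻¹`, `G` the semilinear map of the pair -/
theorem conjLeft_mulVec (x : Gam ι F) (s : GL ι F) (v : ι → F) :
    ((conjLeft x s : GL ι F) : Matrix ι ι F) *ᵥ v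
      = semiLin x.left x.right ((s : Matrix ι ι F) *ᵥ (semiLin x⁻¹.left x⁻¹.right v)) := by
  have h := inl_conjLeft x s
  have h1 := semiLin_inl (conjLeft x s) v
  rw [h, semiLin_mul, semiLin_mul, semiLin_inl] at h1
  exact h1.symm

theorem conjLeft_mem_isometryGroup {x : Gam ι F} (hx : x ∈ GamO Q) {s : GL ι F}
    (hs : s ∈ Cfsg.isometryGroup F Q) : conjLeft x s ∈ Cfsg.isometryGroup F Q := by
  rw [Helper13.mem_isometryGroup_iff] at hs ⊢
  obtain ⟨c, hc⟩ := (mem_GamO_iff Q x).1 hx
  intro v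
  rw [conjLeft_mulVec, hc, hs, ← hc, semiLin_apply_inv]

/-- the action of `ΓO(Q)` on the isometry group -/
noncomputable def psi0 : ↥(GamO Q) →* MulAut ↥(Cfsg.isometryGroup F Q) where
  toFun x :=
    { toFun := fun s => ⟨conjLeft x.1 s.1, conjLeft_mem_isometryGroup Q x.2 s.2⟩
      invFun := fun s => ⟨conjLeft x.1⁻¹ s.1, conjLeft_mem_isometryGroup Q (inv_mem x.2) s.2⟩
      left_inv := fun s => Subtype.ext (by
        show conjLeft x.1⁻¹ (conjLeft x.1 s.1) = s.1
        rw [← conjLeft_mul, inv_mul_cancel, conjLeft_one])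
      right_inv := fun s => Subtype.ext (by
        show conjLeft x.1 (conjLeft x.1⁻¹ s.1) = s.1
        rw [← conjLeft_mul, mul_inv_cancel, conjLeft_one])
      map_mul' := fun s t => Subtype.ext (conjLeft_mul_right x.1 s.1 t.1) }
  map_one' := by
    apply MulEquiv.ext
    intro s
    apply Subtype.ext
    exact conjLeft_one s.1
  map_mul' x y := by
    apply MulEquiv.ext
    intro s
    apply Subtype.ext
    exact conjLeft_mul x.1 y.1 s.1

theorem psi0_apply_coe (x : ↥(GamO Q)) (s : ↥(Cfsg.isometryGroup F Q)) :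
    ((psi0 Q x s : ↥(Cfsg.isometryGroup F Q)) : GL ι F) = conjLeft x.1 s.1 := rfl

/-- the action of `ΓO(Q)` on `PΩ(Q)` -/
noncomputable def psi : ↥(GamO Q) →* MulAut (Cfsg.POmega F Q) :=
  (Helper44.autPC ↥(Cfsg.isometryGroup F Q)).comp (psi0 Q)

theorem psi_mk (x : ↥(GamO Q)) (s : ↥(Cfsg.Omega F Q)) :
    psi Q x (QuotientGroup.mk s)
      = QuotientGroup.mk (MulAut.characteristic (Cfsg.Omega F Q) (psi0 Q x) s) := rfl

theorem coe_psi0_Omega (x : ↥(GamO Q)) (s : ↥(Cfsg.Omega F Q)) :
    (((MulAut.characteristic (Cfsg.Omega F Q) (psi0 Q x) s : ↥(Cfsg.Omega F Q)) :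
      ↥(Cfsg.isometryGroup F Q)) : GL ι F) = conjLeft x.1 (s.1 : GL ι F) := rfl

theorem coe_conjLeft (x : Gam ι F) (s : GL ι F) :
    ((conjLeft x s : GL ι F) : Matrix ι ι F)
      = (x.left : Matrix ι ι F) * (s : Matrix ι ι F).map x.right
        * ((x.left⁻¹ : GL ι F) : Matrix ι ι F) := by
  rw [conjLeft_eq, Units.val_mul, Units.val_mul, coe_glMap]

/-- `β` is induced by the pair `x` iff `β = psi x` -/
theorem isInduced_iff (x : ↥(GamO Q)) (β : Cfsg.POmega F Q ≃* Cfsg.POmega F Q) :
    Cfsg.IsInducedBySemilinearPOmega Q x.1.left x.1.right β ↔ β = psi Q x := by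
  constructor
  · intro h
    ext y
    induction y using QuotientGroup.induction_on with
    | H s =>
      rw [psi_mk]
      apply h
      rw [coe_psi0_Omega, coe_conjLeft]
  · rintro rfl s s' hs
    rw [psi_mk]
    congr 1
    apply Subtype.ext
    apply Subtype.ext
    apply Units.ext
    rw [hs, coe_psi0_Omega, coe_conjLeft]

/-- the Prelude's `gammaPOmega` is the image of `ΓO(Q)` -/
theorem gammaPOmega_eq_range : Cfsg.gammaPOmega F Q = (psi Q).range := by
  have e : {β : MulAut (Cfsg.POmega F Q) | ∃ (g : GL ι F) (σ : F ≃+* F),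
      Cfsg.IsSemisimilarityPair Q g σ ∧ Cfsg.IsInducedBySemilinearPOmega Q g σ β}
      = (((psi Q).range : Subgroup (MulAut (Cfsg.POmega F Q))) :
        Set (MulAut (Cfsg.POmega F Q))) := by
    ext β
    constructor
    · rintro ⟨g, σ, hgσ, hβ⟩
      exact ⟨⟨⟨g, σ⟩, hgσ⟩, ((isInduced_iff Q ⟨⟨g, σ⟩, hgσ⟩ β).1 hβ).symm⟩
    · rintro ⟨x, rfl⟩
      exact ⟨x.1.left, x.1.right, x.2, (isInduced_iff Q x _).2 rfl⟩
  unfold Cfsg.gammaPOmega Cfsg.autSubgroupOf
  rw [e, Subgroup.closure_eq]

end Cfsg.Agent.Helper12.GammaO
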