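import Mathlib
import Cfsg.Agent.Helper12.GammaOA
import Cfsg.Agent.Helper44.ConjKer

/-!
# The kernel of the action of `ΓO(Q)` on `PΩ(Q)`: the scalars (with trivial field automorphism)
-/

set_option autoImplicit false
set_option linter.unusedSectionVars false

namespace Cfsg.Agent.Helper12.GammaO

open Matrix Module QuadraticMap Cfsg.Agent.Helper14 Cfsg.Agent.Helper44 Cfsg.Agent.Helper5

section abstract

variable {F V : Type*} [Field F] [AddCommGroup V] [Module F V]
variable (Q : QuadraticForm F V)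

/-- an additive map commuting with all Eichler transformations `E(u, ·)` maps the singular vector
`u` to a multiple of itself (additive version of `Helper44.exists_smul_of_commute_eichler`) -/
theorem exists_smul_of_commute_eichler_add [FiniteDimensional F V]
    (hQ : (QuadraticMap.polarBilin Q).Nondegenerate) (hn : 4 ≤ finrank F V) (G : V → V)
    (hadd : ∀ x y, G (x + y) = G x + G y)
    (u : V) (hu0 : u ≠ 0)
    (hG : ∀ w, polar ⇑Q u w = 0 → ∀ x, G (eichler Q u w x) = eichler Q u w (G x)) :
    ∃ a : F, G u = a • u := by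
  set Bf : LinearMap.BilinForm F V := QuadraticMap.polarBilin Q with hB
  have key : ∀ y, polar ⇑Q u y = 0 → polar ⇑Q (G u) y = 0 := by
    intro y hy
    obtain ⟨w, hwN, hwu⟩ : ∃ w, w ∈ Bf.orthogonal (Submodule.span F {u, y})
        ∧ w ∉ Submodule.span F {u} := by
      by_contra hcon
      push Not at hcon
      have hle : Bf.orthogonal (Submodule.span F {u, y}) ≤ Submodule.span F {u} := hcon
      have h1 := Submodule.finrank_mono hle
      have h2 : finrank F (Bf.orthogonal (Submodule.span F {u, y}))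
          = finrank F V - finrank F (Submodule.span F {u, y}) :=
        LinearMap.BilinForm.finrank_orthogonal hQ _
      have h3 := finrank_span_pair_le (F := F) u y
      have h4 : finrank F (Submodule.span F {u}) = 1 := finrank_span_singleton hu0
      omega
    rw [mem_orthogonal_span_pair] at hwN
    obtain ⟨huw, hyw⟩ := hwN
    obtain ⟨x, hux, hwx⟩ := exists_perp_not_perp Q hQ w u hwu
    set x' := (polar ⇑Q w x)⁻¹ • x with hx'
    have hux' : polar ⇑Q u x' = 0 := by rw [hx', polar_smul_right, hux, smul_zero]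
    have hwx' : polar ⇑Q w x' = 1 := by
      rw [hx', polar_smul_right, smul_eq_mul, inv_mul_cancel₀ hwx]
    have h1 : eichler Q u w x' = x' + u := by
      rw [eichler_apply]
      simp only [polarBilin_apply_apply, hux', hwx']
      module
    have h2 := hG w huw x'
    rw [h1, hadd, eichler_apply] at h2
    have h3 : G u = polarBilin Q w (G x') • u - polarBilin Q u (G x') • w
        - (Q w * polarBilin Q u (G x')) • u := by
      linear_combination (norm := module) h2
    rw [h3]
    simp only [polar_sub_left, polar_smul_left, hy, polar_comm ⇑Q w y, hyw, smul_zero, sub_zero]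
  have hmem : G u ∈ Bf.orthogonal (Bf.orthogonal (Submodule.span F {u})) := by
    rw [LinearMap.BilinForm.mem_orthogonal_iff]
    intro n hn'
    rw [LinearMap.BilinForm.mem_orthogonal_iff] at hn'
    have h1 : polar ⇑Q u n = 0 := hn' u (Submodule.mem_span_singleton_self u)
    show polar ⇑Q n (G u) = 0
    rw [polar_comm]
    exact key n h1
  rw [LinearMap.BilinForm.orthogonal_orthogonal hQ (polarBilin_isRefl Q)] at hmem
  obtain ⟨a, ha⟩ := Submodule.mem_span_singleton.1 hmem
  exact ⟨a, ha.symm⟩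

/-- a totally singular pair: two independent singular vectors orthogonal to each other -/
theorem exists_singular_pair [Fintype F] [FiniteDimensional F V]
    (hQ : (QuadraticMap.polarBilin Q).Nondegenerate) (hn : 5 ≤ finrank F V) :
    ∃ u v : V, u ≠ 0 ∧ Q u = 0 ∧ Q v = 0 ∧ polar ⇑Q u v = 0 ∧ v ∉ Submodule.span F {u} := by
  obtain ⟨u, hu0, hu⟩ := exists_singular Q (by omega)
  obtain ⟨f, hf⟩ : ∃ f, polar ⇑Q u f ≠ 0 := by
    by_contra h
    push Not at h
    exact hu0 (hQ.1 u h)
  set Bf : LinearMap.BilinForm F V := QuadraticMap.polarBilin Q with hB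
  set W := Bf.orthogonal (Submodule.span F {u, f}) with hW
  have hdim : 3 ≤ finrank F W := by
    have h2 : finrank F W = finrank F V - finrank F (Submodule.span F {u, f}) :=
      LinearMap.BilinForm.finrank_orthogonal hQ _
    have h3 := finrank_span_pair_le (F := F) u f
    omega
  obtain ⟨v, hv0, hv⟩ := exists_singular (Q.comp W.subtype) hdim
  have hvW : (v : V) ∈ Bf.orthogonal (Submodule.span F {u, f}) := v.2
  rw [mem_orthogonal_span_pair] at hvW
  obtain ⟨huv, hfv⟩ := hvW
  refine ⟨u, (v : V), hu0, hu, hv, huv, ?_⟩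
  intro hmem
  obtain ⟨c, hc⟩ := Submodule.mem_span_singleton.1 hmem
  have h1 : polar ⇑Q f (v : V) = c * polar ⇑Q f u := by
    rw [← hc, polar_smul_right, smul_eq_mul]
  rw [hfv, polar_comm ⇑Q f u] at h1
  rcases mul_eq_zero.1 h1.symm with h | h
  · apply hv0
    apply Subtype.ext
    rw [← hc, h, zero_smul]
    rfl
  · exact hf h

/-- a `σ`-semilinear map fixing all singular points has `σ = 1` -/
theorem sigma_eq_refl_of_eigen [Fintype F] [FiniteDimensional F V]
    (hQ : (QuadraticMap.polarBilin Q).Nondegenerate) (hn : 5 ≤ finrank F V) (σ : F ≃+* F)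
    (G : V → V) (hadd : ∀ x y, G (x + y) = G x + G y) (hsmul : ∀ (c : F) x, G (c • x) = σ c • G x)
    (hinj : ∀ x, G x = 0 → x = 0)
    (heig : ∀ u, u ≠ 0 → Q u = 0 → ∃ a : F, G u = a • u) : σ = RingEquiv.refl F := by
  obtain ⟨u, v, hu0, hu, hv, huv, hvu⟩ := exists_singular_pair Q hQ hn
  have hv0 : v ≠ 0 := by
    rintro rfl
    exact hvu (zero_mem _)
  have hind : LinearIndependent F ![u, v] := by
    rw [LinearIndependent.pair_iff' hu0]
    intro a ha
    exact hvu (Submodule.mem_span_singleton.2 ⟨a, ha⟩)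
  rw [LinearIndependent.pair_iff] at hind
  obtain ⟨a, ha⟩ := heig u hu0 hu
  obtain ⟨b, hb⟩ := heig v hv0 hv
  have hb0 : b ≠ 0 := by
    rintro rfl
    rw [zero_smul] at hb
    exact hv0 (hinj v hb)
  have hkey : ∀ c : F, σ c * b = a * c := by
    intro c
    have hs : Q (u + c • v) = 0 := by
      rw [QuadraticMap.map_add ⇑Q, QuadraticMap.map_smul, hu, hv, polar_smul_right, huv]
      simp
    have hne : u + c • v ≠ 0 := by
      intro h
      have := hind 1 c (by rw [one_smul]; exact h)
      exact one_ne_zero this.1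
    obtain ⟨d, hd⟩ := heig (u + c • v) hne hs
    rw [hadd, hsmul, ha, hb, smul_add, smul_smul, smul_smul] at hd
    have h0 : (a - d) • u + (σ c * b - d * c) • v = 0 := by
      linear_combination (norm := module) hd
    obtain ⟨h1, h2⟩ := hind _ _ h0
    have : a = d := by linear_combination h1
    rw [this]
    linear_combination h2
  have hab : b = a := by
    have := hkey 1
    rwa [map_one, one_mul, mul_one] at this
  ext c
  have h := hkey c
  rw [hab, mul_comm] at h
  have ha0 : a ≠ 0 := hab ▸ hb0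
  exact mul_left_cancel₀ ha0 h

end abstract

variable {F : Type*} [Field F] {ι : Type} [Fintype ι] [DecidableEq ι]
variable (Q : QuadraticForm F (ι → F))

/-- an element of the kernel of `psi` centralises `Ω` -/
theorem conjLeft_eq_of_mem_ker [Fintype F] (hQ : (QuadraticMap.polarBilin Q).Nondegenerate)
    (hn : 7 ≤ Fintype.card ι) (x : ↥(GamO ⇑Q)) (hx : x ∈ (psi ⇑Q).ker) (s : ↥(Cfsg.Omega F ⇑Q)) :
    conjLeft x.1 ((s : ↥(Cfsg.isometryGroup F ⇑Q)) : GL ι F)
      = ((s : ↥(Cfsg.isometryGroup F ⇑Q)) : GL ι F) := by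
  have h1 : ∀ s : ↥(Cfsg.Omega F ⇑Q),
      MulAut.characteristic (Cfsg.Omega F ⇑Q) (psi0 ⇑Q x) s = s := by
    apply aut_eq_one_of_perfect (commutator_Omega_eq_top Q hQ hn)
    intro s
    have h2 : psi ⇑Q x (QuotientGroup.mk s) = QuotientGroup.mk s := by
      rw [MonoidHom.mem_ker.1 hx]
      rfl
    rw [psi_mk] at h2
    have h3 := QuotientGroup.eq.1 h2.symm
    have h4 := (inferInstance : (Subgroup.center ↥(Cfsg.Omega F ⇑Q)).Normal).conj_mem _ h3 s
    convert h4 using 1
    group
  have h5 := congrArg (fun t : ↥(Cfsg.Omega F ⇑Q) => ((t : ↥(Cfsg.isometryGroup F ⇑Q)) : GL ι F))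
    (h1 s)
  simp only [coe_psi0_Omega] at h5
  exact h5

/-- the semilinear map of a kernel element commutes with `Ω` -/
theorem semiLin_comm_of_mem_ker [Fintype F] (hQ : (QuadraticMap.polarBilin Q).Nondegenerate)
    (hn : 7 ≤ Fintype.card ι) (x : ↥(GamO ⇑Q)) (hx : x ∈ (psi ⇑Q).ker) (s : ↥(Cfsg.Omega F ⇑Q))
    (v : ι → F) :
    semiLin x.1.left x.1.right ((((s : ↥(Cfsg.isometryGroup F ⇑Q)) : GL ι F) : Matrix ι ι F) *ᵥ v)
      = (((s : ↥(Cfsg.isometryGroup F ⇑Q)) : GL ι F) : Matrix ι ι F)
        *ᵥ (semiLin x.1.left x.1.right v) := by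
  have h := conjLeft_eq_of_mem_ker Q hQ hn x hx s
  have h1 := conjLeft_mulVec x.1 ((s : ↥(Cfsg.isometryGroup F ⇑Q)) : GL ι F)
    (semiLin x.1.left x.1.right v)
  rw [h, semiLin_inv_apply] at h1
  exact h1.symm

theorem semiLin_eq_zero {g : GL ι F} {σ : F ≃+* F} {v : ι → F} (h : semiLin g σ v = 0) :
    v = 0 := by
  unfold semiLin at h
  have h1 : (fun i => σ (v i)) = 0 := by
    have := congrArg (fun w => ((g⁻¹ : GL ι F) : Matrix ι ι F) *ᵥ w) h
    simp only [Matrix.mulVec_mulVec, Matrix.mulVec_zero] at this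
    rwa [← Units.val_mul, inv_mul_cancel, Units.val_one, Matrix.one_mulVec] at this
  funext i
  have := congrFun h1 i
  simpa using this

/-- the field automorphism of a kernel element is trivial -/
theorem right_eq_refl_of_mem_ker [Fintype F] (hQ : (QuadraticMap.polarBilin Q).Nondegenerate)
    (hn : 7 ≤ Fintype.card ι) (x : ↥(GamO ⇑Q)) (hx : x ∈ (psi ⇑Q).ker) :
    x.1.right = RingEquiv.refl F := by
  have hfr : Module.finrank F (ι → F) = Fintype.card ι := Module.finrank_fintype_fun_eq_card F
  apply sigma_eq_refl_of_eigen Q hQ (by rw [hfr]; omega) x.1.right (semiLin x.1.left x.1.right)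
    (semiLin_add _ _) (semiLin_smul _ _) (fun v hv => semiLin_eq_zero hv)
  intro u hu0 hu
  apply exists_smul_of_commute_eichler_add Q hQ (by rw [hfr]; omega) _ (semiLin_add _ _) u hu0
  intro w huw y
  have h1 := semiLin_comm_of_mem_ker Q hQ hn x hx
    ⟨eichlerO Q u w, eichlerO_mem_Omega Q hQ (by omega) u w⟩ y
  have e : ∀ z, Helper14.eichler Q u w z = ((eichlerO Q u w).1 : Matrix ι ι F) *ᵥ z := by
    intro z
    rw [← Helper45.OmegaParity.lin_apply, lin_eichlerO Q hu huw, Helper14.eichler_apply]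
    simp only [polarBilin_apply_apply]
  rw [e, e]
  exact h1

/-- elements of `ΓO(Q)` with trivial field automorphism are similarities -/
theorem left_mem_quadSimilarityGroup (x : ↥(GamO ⇑Q)) (hx : x.1.right = RingEquiv.refl F) :
    x.1.left ∈ Cfsg.Geo.quadSimilarityGroup (F := F) ⇑Q := by
  obtain ⟨c, hc⟩ := x.2
  refine ⟨c, fun v => ?_⟩
  have h := hc v
  rw [hx] at h
  exact h

/-- on pairs with trivial field automorphism `psi` is `conjAut` -/
theorem psi_eq_conjAut (x : ↥(GamO ⇑Q)) (hx : x.1.right = RingEquiv.refl F) :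
    psi ⇑Q x = conjAut ⇑Q ⟨x.1.left, left_mem_quadSimilarityGroup Q x hx⟩ := by
  have h1 := (isInduced_iff ⇑Q x (psi ⇑Q x)).2 rfl
  rw [hx] at h1
  exact (Helper44.isInduced_iff ⇑Q x.1.left (left_mem_quadSimilarityGroup Q x hx) _).1 h1

/-- the kernel of `psi`: trivial field automorphism and scalar matrix -/
theorem mem_ker_psi [Fintype F] (hQ : (QuadraticMap.polarBilin Q).Nondegenerate)
    (hn : 7 ≤ Fintype.card ι) (x : ↥(GamO ⇑Q)) (hx : x ∈ (psi ⇑Q).ker) :
    x.1.right = RingEquiv.refl F ∧ x.1.left ∈ Cfsg.Geo.scalars ι F := by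
  have h1 := right_eq_refl_of_mem_ker Q hQ hn x hx
  refine ⟨h1, ?_⟩
  have h2 := psi_eq_conjAut Q x h1
  rw [MonoidHom.mem_ker.1 hx] at h2
  exact mem_scalars_of_mem_ker Q hQ hn ⟨x.1.left, left_mem_quadSimilarityGroup Q x h1⟩
    (MonoidHom.mem_ker.2 h2.symm)

end Cfsg.Agent.Helper12.GammaO
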