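import Mathlib
import Cfsg.Agent.Helper12.GammaOB

/-!
# `|PΓO(Q)| = |Aut F| · |PGO(Q)|`

If every field automorphism occurs in a semisimilarity pair of `Q`, the image `gammaPOmega` of `ΓO(Q)`
in `Aut(PΩ(Q))` has order `|Aut F|` times the order of the image `pgoAut` of the similarity group.
-/

set_option autoImplicit false
set_option linter.unusedSectionVars false

namespace Cfsg.Agent.Helper12.GammaO

open Matrix Module QuadraticMap Cfsg.Agent.Helper44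

variable {F : Type*} [Field F] {ι : Type} [Fintype ι] [DecidableEq ι]

instance finite_ringAut [Finite F] : Finite (F ≃+* F) :=
  Finite.of_injective (fun σ : F ≃+* F => (σ : F → F)) DFunLike.coe_injective

instance finite_Gam [Fintype F] : Finite (Gam ι F) :=
  Finite.of_equiv _
    (SemidirectProduct.equivProd (φ := (fieldAct : (F ≃+* F) →* MulAut (GL ι F)))).symm

variable (Q : QuadraticForm F (ι → F))

/-- the field automorphism of a semisimilarity pair -/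
noncomputable def piHom : ↥(GamO ⇑Q) →* (F ≃+* F) :=
  (SemidirectProduct.rightHom (φ := (fieldAct : (F ≃+* F) →* MulAut (GL ι F)))).comp
    (GamO ⇑Q).subtype

theorem piHom_apply (x : ↥(GamO ⇑Q)) : piHom Q x = x.1.right := rfl

theorem mem_ker_piHom (x : ↥(GamO ⇑Q)) : x ∈ (piHom Q).ker ↔ x.1.right = RingEquiv.refl F :=
  Iff.rfl

theorem piHom_surjective (hσ : ∀ σ : F ≃+* F, ∃ g : GL ι F, Cfsg.IsSemisimilarityPair ⇑Q g σ) :
    Function.Surjective (piHom Q) := by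
  intro σ
  obtain ⟨g, hg⟩ := hσ σ
  exact ⟨⟨⟨g, σ⟩, hg⟩, rfl⟩

/-- the linear pair of a similarity -/
def ofSim (g : ↥(Cfsg.Geo.quadSimilarityGroup (F := F) ⇑Q)) : ↥(GamO ⇑Q) :=
  ⟨⟨g.1, 1⟩, by
    obtain ⟨c, hc⟩ := g.2
    exact ⟨c, fun v => hc v⟩⟩

theorem ofSim_mem_ker (g : ↥(Cfsg.Geo.quadSimilarityGroup (F := F) ⇑Q)) :
    ofSim Q g ∈ (piHom Q).ker := rfl

theorem psi_ofSim (g : ↥(Cfsg.Geo.quadSimilarityGroup (F := F) ⇑Q)) :
    psi ⇑Q (ofSim Q g) = conjAut ⇑Q g :=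
  psi_eq_conjAut Q (ofSim Q g) rfl

/-- the image of the linear part of `ΓO(Q)` is `pgoAut` -/
theorem range_psi_comp_ker :
    ((psi ⇑Q).comp (piHom Q).ker.subtype).range = Cfsg.pgoAut F ⇑Q := by
  rw [pgoAut_eq_map]
  ext β
  constructor
  · rintro ⟨k, rfl⟩
    have hk : k.1.1.right = RingEquiv.refl F := (mem_ker_piHom Q k.1).1 k.2
    exact ⟨⟨k.1.1.left, left_mem_quadSimilarityGroup Q k.1 hk⟩, (psi_eq_conjAut Q k.1 hk).symm⟩
  · rintro ⟨g, rfl⟩
    exact ⟨⟨ofSim Q g, ofSim_mem_ker Q g⟩, psi_ofSim Q g⟩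

theorem ker_psi_le [Fintype F] (hQ : (QuadraticMap.polarBilin Q).Nondegenerate)
    (hn : 7 ≤ Fintype.card ι) : (psi ⇑Q).ker ≤ (piHom Q).ker := by
  intro x hx
  exact (mem_ker_piHom Q x).2 (mem_ker_psi Q hQ hn x hx).1

/-- `|PΓO| = |Aut F| · |PGO|` -/
theorem card_gammaPOmega [Fintype F] (hQ : (QuadraticMap.polarBilin Q).Nondegenerate)
    (hn : 7 ≤ Fintype.card ι)
    (hσ : ∀ σ : F ≃+* F, ∃ g : GL ι F, Cfsg.IsSemisimilarityPair ⇑Q g σ) :
    Nat.card ↥(Cfsg.gammaPOmega F ⇑Q) = Nat.card (F ≃+* F) * Nat.card ↥(Cfsg.pgoAut F ⇑Q) := by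
  rw [gammaPOmega_eq_range]
  -- (1) |ker ψ| * |range ψ| = |Γ|
  have h1 : Nat.card ↥(psi ⇑Q).ker * Nat.card ↥(psi ⇑Q).range = Nat.card ↥(GamO ⇑Q) := by
    rw [← Subgroup.index_ker]
    exact Subgroup.card_mul_index _
  -- (2) |K| * |Aut F| = |Γ|
  have h2 : Nat.card ↥(piHom Q).ker * Nat.card (F ≃+* F) = Nat.card ↥(GamO ⇑Q) := by
    have := Subgroup.card_mul_index (piHom Q).ker
    rwa [Subgroup.index_ker, MonoidHom.range_eq_top.2 (piHom_surjective Q hσ),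
      Subgroup.card_top] at this
  -- (3) |ker ψ_K| * |range ψ_K| = |K|
  have h3 : Nat.card ↥((psi ⇑Q).comp (piHom Q).ker.subtype).ker
      * Nat.card ↥((psi ⇑Q).comp (piHom Q).ker.subtype).range = Nat.card ↥(piHom Q).ker := by
    rw [← Subgroup.index_ker]
    exact Subgroup.card_mul_index _
  rw [range_psi_comp_ker] at h3
  -- (5) |ker ψ_K| = |ker ψ|
  have h5 : Nat.card ↥((psi ⇑Q).comp (piHom Q).ker.subtype).ker = Nat.card ↥(psi ⇑Q).ker := by
    have e : ((psi ⇑Q).comp (piHom Q).ker.subtype).ker = (psi ⇑Q).ker.subgroupOf (piHom Q).ker := by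
      ext k
      rfl
    rw [e]
    exact Nat.card_congr (Subgroup.subgroupOfEquivOfLe (ker_psi_le Q hQ hn)).toEquiv
  rw [h5] at h3
  have hpos : 0 < Nat.card ↥(psi ⇑Q).ker := Nat.card_pos
  apply Nat.eq_of_mul_eq_mul_left hpos
  rw [h1, ← h2, ← h3]
  ring

/-- if all automorphisms are induced by semisimilarities: `|Aut(PΩ)| = |Aut F| · |PGO|` -/
theorem card_mulAut_of_gamma_eq_top [Fintype F] (hQ : (QuadraticMap.polarBilin Q).Nondegenerate)
    (hn : 7 ≤ Fintype.card ι)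
    (hσ : ∀ σ : F ≃+* F, ∃ g : GL ι F, Cfsg.IsSemisimilarityPair ⇑Q g σ)
    (htop : Cfsg.gammaPOmega F ⇑Q = ⊤) :
    Nat.card (MulAut (Cfsg.POmega F ⇑Q))
      = Nat.card (F ≃+* F) * Nat.card ↥(Cfsg.pgoAut F ⇑Q) := by
  rw [← card_gammaPOmega Q hQ hn hσ, htop, Subgroup.card_top]

end Cfsg.Agent.Helper12.GammaO
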