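import Mathlib
import Cfsg.Agent.Helper12.GammaOC
import Cfsg.Agent.Helper44.PsoInn
import Cfsg.Agent.Helper44.PgoInn
import Cfsg.Agent.Helper44.OmegaIndex

/-!
# Odd dimension, odd `q`: `|PGO(Q)| = |SO(Q)| = 2 |Ω(Q)| = 2 |PΩ(Q)|`
-/

set_option autoImplicit false
set_option linter.unusedSectionVars false

namespace Cfsg.Agent.Helper12.GammaO

open Matrix Module QuadraticMap Cfsg.Agent.Helper44

variable {F : Type*} [Field F] {ι : Type} [Fintype ι] [DecidableEq ι]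
variable (Q : QuadraticForm F (ι → F))

section odd

variable [Fintype F] (h2 : (2 : F) ≠ 0) (hQ : (QuadraticMap.polarBilin Q).Nondegenerate)

include hQ in
theorem detHom_eq_one_or (x : ↥(Cfsg.isometryGroup F ⇑Q)) :
    detHom ⇑Q x = 1 ∨ detHom ⇑Q x = -1 := by
  have h1 := det_sq_of_similarity Q hQ (x.1 : Matrix ι ι F) 1 (fun u => by
    rw [one_mul]
    exact (Helper13.mem_isometryGroup_iff _ _).1 x.2 u)
  rw [one_pow] at h1
  rcases mul_self_eq_one_iff.1 h1 with h | h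
  · left
    exact Units.ext h
  · right
    apply Units.ext
    rw [Units.val_neg, Units.val_one]
    exact h

include h2 hQ in
/-- `|O : SO| = 2` -/
theorem index_ker_detHom (hn : 2 ≤ Module.finrank F (ι → F)) : (detHom ⇑Q).ker.index = 2 := by
  obtain ⟨t, ht⟩ := exists_Q_eq Q h2 hQ hn 1
  have ht0 : Q t ≠ 0 := by rw [ht]; exact one_ne_zero
  have hne := neg_one_units_ne_one (F := F) h2
  rw [Subgroup.index_eq_two_iff]
  refine ⟨reflT Q t, fun b => ?_⟩
  rw [MonoidHom.mem_ker, MonoidHom.mem_ker, map_mul, detHom_reflT Q t ht0]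
  rcases detHom_eq_one_or Q hQ b with h | h
  · rw [h, one_mul]
    exact Or.inr ⟨rfl, hne⟩
  · rw [h]
    refine Or.inl ⟨by simp, hne⟩

include h2 hQ in
/-- `|SO| = 2 |Ω|` -/
theorem card_ker_detHom (hn : 2 ≤ Module.finrank F (ι → F)) :
    Nat.card ↥(detHom ⇑Q).ker = 2 * Nat.card ↥(Cfsg.Omega F ⇑Q) := by
  have h1 := Subgroup.card_mul_index (detHom ⇑Q).ker
  rw [index_ker_detHom Q h2 hQ hn] at h1
  have h3 := Subgroup.card_mul_index (Cfsg.Omega F ⇑Q)
  rw [index_Omega_eq_four Q h2 hQ hn] at h3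
  omega

/-- the action of `SO(Q)` on `PΩ(Q)` -/
noncomputable def thetaSO : ↥(detHom ⇑Q).ker →* MulAut (Cfsg.POmega F ⇑Q) :=
  (conjAut ⇑Q).comp ((toGO Q).comp (detHom ⇑Q).ker.subtype)

theorem detHom_negOne_of_odd (ho : Odd (Fintype.card ι)) : detHom ⇑Q (negOne Q) = -1 := by
  apply Units.ext
  show ((-1 : GL ι F) : Matrix ι ι F).det = ((-1 : Fˣ) : F)
  rw [Units.val_neg, Units.val_one, Matrix.det_neg, Matrix.det_one, mul_one, ho.neg_one_pow,
    Units.val_neg, Units.val_one]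

include h2 hQ in
/-- an isometry of determinant one acting trivially on `PΩ` is the identity (odd dimension) -/
theorem eq_one_of_conjAut_eq_one (hn : 7 ≤ Fintype.card ι) (ho : Odd (Fintype.card ι))
    (x : ↥(Cfsg.isometryGroup F ⇑Q)) (hdet : detHom ⇑Q x = 1)
    (hx : conjAut ⇑Q (toGO Q x) = 1) : x = 1 := by
  have hfr : Module.finrank F (ι → F) = Fintype.card ι := Module.finrank_fintype_fun_eq_card F
  obtain ⟨t, ht⟩ := exists_Q_eq Q h2 hQ (by rw [hfr]; omega) 1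
  have ht0 : Q t ≠ 0 := by rw [ht]; exact one_ne_zero
  have hk : toGO Q x ∈ (conjAut ⇑Q).ker := MonoidHom.mem_ker.2 hx
  rw [ker_conjAut Q hQ hn, Subgroup.mem_subgroupOf, mem_scalars_iff_eq_scalarGO] at hk
  obtain ⟨c, hc⟩ := hk
  have hc' : ((scalarGO Q c : ↥(Cfsg.Geo.quadSimilarityGroup (F := F) ⇑Q)) : GL ι F) = x.1 := by
    rw [← hc]
    rfl
  have hkO : ((scalarGO Q c : ↥(Cfsg.Geo.quadSimilarityGroup (F := F) ⇑Q)) : GL ι F)
      ∈ Cfsg.isometryGroup F ⇑Q := by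
    rw [hc']
    exact x.2
  rcases eq_one_or_neg_one_of_scalarGO_isometry Q c hkO ht0 with rfl | rfl
  · apply Subtype.ext
    rw [← hc']
    show Matrix.GeneralLinearGroup.scalar ι (1 : Fˣ) = 1
    exact map_one _
  · exfalso
    have hx1 : x = negOne Q := by
      apply Subtype.ext
      rw [← hc', scalarGO_neg_one_coe]
    rw [hx1, detHom_negOne_of_odd Q ho] at hdet
    exact neg_one_units_ne_one (F := F) h2 hdet

include h2 hQ in
theorem thetaSO_injective (hn : 7 ≤ Fintype.card ι) (ho : Odd (Fintype.card ι)) :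
    Function.Injective (thetaSO Q) := by
  rw [injective_iff_map_eq_one]
  intro x hx
  apply Subtype.ext
  exact eq_one_of_conjAut_eq_one Q h2 hQ hn ho x.1 (MonoidHom.mem_ker.1 x.2) hx

theorem scalarGO_mul (a b : Fˣ) : scalarGO Q (a * b) = scalarGO Q a * scalarGO Q b := by
  apply Subtype.ext
  show Matrix.GeneralLinearGroup.scalar ι (a * b)
    = Matrix.GeneralLinearGroup.scalar ι a * Matrix.GeneralLinearGroup.scalar ι b
  rw [map_mul]

theorem scalarGO_one : scalarGO Q (1 : Fˣ) = 1 := by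
  apply Subtype.ext
  show Matrix.GeneralLinearGroup.scalar ι (1 : Fˣ) = 1
  exact map_one _

theorem toGO_negOne : toGO Q (negOne Q) = scalarGO Q (-1) := by
  apply Subtype.ext
  rw [scalarGO_neg_one_coe]
  rfl

include hQ in
/-- in odd dimension every similarity is a scalar times an isometry -/
theorem exists_scalar_mul_isometry (ho : Odd (Fintype.card ι))
    (g : ↥(Cfsg.Geo.quadSimilarityGroup (F := F) ⇑Q)) :
    ∃ (a : Fˣ) (x : ↥(Cfsg.isometryGroup F ⇑Q)), g = scalarGO Q a * toGO Q x := by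
  obtain ⟨c, hc⟩ := g.2
  obtain ⟨k, hk⟩ := ho
  have h1 := det_sq_of_similarity Q hQ (g.1 : Matrix ι ι F) c hc
  rw [hk] at h1
  have hdet : ((g.1 : GL ι F) : Matrix ι ι F).det ≠ 0 := by
    have := (Matrix.GeneralLinearGroup.det g.1).ne_zero
    exact this
  have hck : (c : F) ^ k ≠ 0 := pow_ne_zero _ c.ne_zero
  set d : F := ((g.1 : GL ι F) : Matrix ι ι F).det / (c : F) ^ k with hd
  have hd0 : d ≠ 0 := div_ne_zero hdet hck
  have hdd : d * d = c := by
    rw [hd]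
    field_simp
    rw [pow_two, h1]
    ring
  set a : Fˣ := Units.mk0 d hd0 with ha
  have hmem : ((scalarGO Q a⁻¹ * g : ↥(Cfsg.Geo.quadSimilarityGroup (F := F) ⇑Q)) : GL ι F)
      ∈ Cfsg.isometryGroup F ⇑Q := by
    rw [Helper13.mem_isometryGroup_iff]
    intro v
    rw [Subgroup.coe_mul, Units.val_mul, ← Matrix.mulVec_mulVec, scalarGO_mulVec,
      QuadraticMap.map_smul, hc, smul_eq_mul, ← hdd, Units.val_inv_eq_inv_val, ha, Units.val_mk0]
    field_simp
  refine ⟨a, ⟨_, hmem⟩, ?_⟩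
  apply Subtype.ext
  show g.1 = (scalarGO Q a).1 * ((scalarGO Q a⁻¹).1 * g.1)
  rw [← mul_assoc, ← Subgroup.coe_mul, ← scalarGO_mul, mul_inv_cancel, scalarGO_one,
    Subgroup.coe_one, one_mul]

include h2 hQ in
/-- ... and even a scalar times an isometry of determinant one -/
theorem exists_scalar_mul_special (ho : Odd (Fintype.card ι))
    (g : ↥(Cfsg.Geo.quadSimilarityGroup (F := F) ⇑Q)) :
    ∃ (a : Fˣ) (x : ↥(Cfsg.isometryGroup F ⇑Q)), detHom ⇑Q x = 1 ∧
      g = scalarGO Q a * toGO Q x := by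
  obtain ⟨a, x, hx⟩ := exists_scalar_mul_isometry Q hQ ho g
  rcases detHom_eq_one_or Q hQ x with h | h
  · exact ⟨a, x, h, hx⟩
  · refine ⟨-a, negOne Q * x, ?_, ?_⟩
    · rw [map_mul, h, detHom_negOne_of_odd Q ho]
      simp
    · rw [hx, map_mul, toGO_negOne, ← mul_assoc, ← scalarGO_mul, neg_mul_neg, mul_one]

include h2 hQ in
/-- the image of `SO` is all of `pgoAut` -/
theorem range_thetaSO (ho : Odd (Fintype.card ι)) :
    (thetaSO Q).range = Cfsg.pgoAut F ⇑Q := by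
  rw [pgoAut_eq_map]
  apply le_antisymm
  · rintro _ ⟨x, rfl⟩
    exact ⟨_, rfl⟩
  · rintro _ ⟨g, rfl⟩
    obtain ⟨a, x, hdet, hx⟩ := exists_scalar_mul_special Q h2 hQ ho g
    refine ⟨⟨x, MonoidHom.mem_ker.2 hdet⟩, ?_⟩
    have hk : scalarGO Q a ∈ (conjAut ⇑Q).ker :=
      mem_ker_of_mem_scalars ⇑Q _ (scalarGO_mem_scalars Q a)
    rw [hx, map_mul, MonoidHom.mem_ker.1 hk, one_mul]
    rfl

include h2 hQ in
/-- `|PGO| = 2 |Ω|` -/
theorem card_pgoAut_odd (hn : 7 ≤ Fintype.card ι) (ho : Odd (Fintype.card ι)) :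
    Nat.card ↥(Cfsg.pgoAut F ⇑Q) = 2 * Nat.card ↥(Cfsg.Omega F ⇑Q) := by
  have hfr : Module.finrank F (ι → F) = Fintype.card ι := Module.finrank_fintype_fun_eq_card F
  rw [← range_thetaSO Q h2 hQ ho, ← card_ker_detHom Q h2 hQ (by rw [hfr]; omega)]
  exact (Nat.card_congr (MonoidHom.ofInjective (thetaSO_injective Q h2 hQ hn ho)).toEquiv).symm

include h2 hQ in
/-- `Z(Ω) = 1` in odd dimension -/
theorem center_Omega_eq_bot_odd (hn : 7 ≤ Fintype.card ι) (ho : Odd (Fintype.card ι)) :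
    Subgroup.center ↥(Cfsg.Omega F ⇑Q) = ⊥ := by
  rw [eq_bot_iff]
  intro z hz
  rw [Subgroup.mem_bot]
  have hs : ((z : ↥(Cfsg.isometryGroup F ⇑Q)) : GL ι F)
      ∈ Cfsg.Geo.quadSimilarityGroup (F := F) ⇑Q :=
    isometryGroup_le_quadSimilarityGroup ⇑Q z.1.2
  have h1 := conjAut_of_mem_Omega ⇑Q z hs
  have h3 : (QuotientGroup.mk z : Cfsg.POmega F ⇑Q) = 1 := (QuotientGroup.eq_one_iff z).2 hz
  rw [h3, map_one] at h1
  have h4 := eq_one_of_conjAut_eq_one Q h2 hQ hn ho z.1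
    (hom_eq_one_of_mem_Omega (detHom ⇑Q) z.2) h1
  exact Subtype.ext h4

include h2 hQ in
/-- `|PΩ| = |Ω|` in odd dimension -/
theorem card_POmega_odd (hn : 7 ≤ Fintype.card ι) (ho : Odd (Fintype.card ι)) :
    Nat.card (Cfsg.POmega F ⇑Q) = Nat.card ↥(Cfsg.Omega F ⇑Q) := by
  have h := Subgroup.card_eq_card_quotient_mul_card_subgroup
    (Subgroup.center ↥(Cfsg.Omega F ⇑Q))
  have h1 : Nat.card ↥(Subgroup.center ↥(Cfsg.Omega F ⇑Q)) = 1 := by
    rw [center_Omega_eq_bot_odd Q h2 hQ hn ho]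
    exact Subgroup.card_bot
  rw [h1, mul_one] at h
  exact h.symm

include h2 hQ in
/-- odd dimension, `q` odd: if all automorphisms of `PΩ` come from semisimilarities then
`|Aut(PΩ)| = 2 |Aut F| |PΩ|` -/
theorem card_mulAut_odd (hn : 7 ≤ Fintype.card ι) (ho : Odd (Fintype.card ι))
    (hσ : ∀ σ : F ≃+* F, ∃ g : GL ι F, Cfsg.IsSemisimilarityPair ⇑Q g σ)
    (htop : Cfsg.gammaPOmega F ⇑Q = ⊤) :
    Nat.card (MulAut (Cfsg.POmega F ⇑Q))
      = 2 * Nat.card (F ≃+* F) * Nat.card (Cfsg.POmega F ⇑Q) := by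
  rw [card_mulAut_of_gamma_eq_top Q hQ hn hσ htop, card_pgoAut_odd Q h2 hQ hn ho,
    card_POmega_odd Q h2 hQ hn ho]
  ring

end odd

end Cfsg.Agent.Helper12.GammaO
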