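import Mathlib
import Cfsg.Agent.Helper12.GammaOD
import Cfsg.Agent.Helper44.StdForms
import Cfsg.Agent.Helper5.OrthSimpleStd
import Cfsg.Agent.Helper14.AutCount

/-!
# `|Aut(Ω_{2m+1}(q))| = 2 f |Ω_{2m+1}(q)|`, conditional on `gammaPOmega = ⊤`
-/

set_option autoImplicit false
set_option linter.unusedSectionVars false

namespace Cfsg.Agent.Helper12.GammaO

open Matrix Module QuadraticMap Cfsg.Agent.Helper44

variable {F : Type*} [Field F]

/-- the coordinatewise field automorphism is a semisimilarity of the standard odd form -/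
theorem isSemisimilarityPair_oddForm (m : ℕ) (σ : F ≃+* F) :
    Cfsg.IsSemisimilarityPair (Cfsg.quadFormOdd m F) (1 : GL (Unit ⊕ (Fin m ⊕ Fin m)) F) σ := by
  refine ⟨1, fun v => ?_⟩
  rw [Units.val_one, Units.val_one, Matrix.one_mulVec, one_mul]
  unfold Cfsg.quadFormOdd
  simp only [map_add, map_pow, map_sum, map_mul]

theorem card_index_odd (m : ℕ) : Fintype.card (Unit ⊕ (Fin m ⊕ Fin m)) = 2 * m + 1 := by
  rw [Fintype.card_sum, Fintype.card_sum, Fintype.card_unit, Fintype.card_fin]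
  omega

/-- `|Aut(Ω_{2m+1}(q))| = 2 f |Ω_{2m+1}(q)|`, if all automorphisms come from semisimilarities -/
theorem card_mulAut_oddForm [Fintype F] (p f : ℕ) [Fact p.Prime] (hf : 1 ≤ f)
    (hF : Fintype.card F = p ^ f) (hodd : Odd p) (m : ℕ) (hm : 3 ≤ m)
    (htop : Cfsg.gammaPOmega F (Cfsg.quadFormOdd m F) = ⊤) :
    Nat.card (MulAut (Cfsg.POmega F (Cfsg.quadFormOdd m F)))
      = 2 * f * Nat.card (Cfsg.POmega F (Cfsg.quadFormOdd m F)) := by
  have hq : Odd (Fintype.card F) := by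
    rw [hF]
    exact hodd.pow
  have h2 : (2 : F) ≠ 0 := two_ne_zero_of_odd_card rfl hq
  have hQ := Cfsg.Agent.Helper5.nondegenerate_oddForm (F := F) h2 m
  have hn : 7 ≤ Fintype.card (Unit ⊕ (Fin m ⊕ Fin m)) := by
    rw [card_index_odd]
    omega
  have ho : Odd (Fintype.card (Unit ⊕ (Fin m ⊕ Fin m))) := by
    rw [card_index_odd]
    exact ⟨m, rfl⟩
  have h := card_mulAut_odd (oddForm m F) h2 hQ hn ho
    (fun σ => ⟨1, isSemisimilarityPair_oddForm m σ⟩) htop
  rw [Cfsg.Agent.Helper14.AutPSL.card_ringAut p f hf hF] at h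
  exact h

end Cfsg.Agent.Helper12.GammaO
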