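import Mathlib
import Cfsg.Agent.Helper12.GammaOD
import Cfsg.Agent.Helper44.PgoInnD8
import Cfsg.Agent.Helper5.OmegaCard

/-!
# Even dimension: `|PGO(Q)|` in terms of `|PΩ(Q)|`

* `q` odd: `8 |PΩ|` if `-1 ∈ Ω`, `4 |PΩ|` otherwise (from helper44's structure theorems);
* `q` even: `2 |PΩ|`.
-/

set_option autoImplicit false
set_option linter.unusedSectionVars false

namespace Cfsg.Agent.Helper12.GammaO

open Matrix Module QuadraticMap Cfsg.Agent.Helper44

section generic

/-- Grün: the central quotient of a perfect group has trivial centre -/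
theorem center_quot_center_eq_bot {H : Type*} [Group H] (hperf : commutator H = ⊤) :
    Subgroup.center (H ⧸ Subgroup.center H) = ⊥ := by
  rw [eq_bot_iff]
  intro y hy
  rw [Subgroup.mem_bot]
  induction y using QuotientGroup.induction_on with
  | H x =>
    rw [Subgroup.mem_center_iff] at hy
    rw [QuotientGroup.eq_one_iff, Subgroup.mem_center_iff]
    have h1 : ∀ g : H, MulAut.conj x g * g⁻¹ ∈ Subgroup.center H := by
      intro g
      rw [← QuotientGroup.eq_one_iff, MulAut.conj_apply]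
      have h2 := hy (QuotientGroup.mk g)
      simp only [QuotientGroup.mk_mul, QuotientGroup.mk_inv]
      rw [← h2]
      group
    intro g
    have h3 := aut_eq_one_of_perfect hperf (MulAut.conj x) h1 g
    rw [MulAut.conj_apply] at h3
    calc g * x = (x * g * x⁻¹) * x := by rw [h3]
      _ = x * g := by group

/-- a group with trivial centre has as many inner automorphisms as elements -/
theorem card_Inn_of_center_eq_bot {X : Type*} [Group X] (h : Subgroup.center X = ⊥) :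
    Nat.card ↥(Cfsg.Inn X) = Nat.card X := by
  have hinj : Function.Injective (MulAut.conj : X →* MulAut X) := by
    rw [injective_iff_map_eq_one]
    intro x hx
    have : x ∈ Subgroup.center X := by
      rw [Subgroup.mem_center_iff]
      intro g
      have h1 := congrArg (fun φ : MulAut X => φ g) hx
      simp only [MulAut.conj_apply, MulAut.one_apply] at h1
      calc g * x = (x * g * x⁻¹) * x := by rw [h1]
        _ = x * g := by group
    rw [h, Subgroup.mem_bot] at this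
    exact this
  exact (Nat.card_congr (MonoidHom.ofInjective hinj).toEquiv).symm

end generic

variable {F : Type*} [Field F] {ι : Type} [Fintype ι] [DecidableEq ι]
variable (Q : QuadraticForm F (ι → F))

/-- `|Inn(PΩ)| = |PΩ|` -/
theorem card_Inn_POmega [Fintype F] (hQ : (QuadraticMap.polarBilin Q).Nondegenerate)
    (hn : 7 ≤ Fintype.card ι) :
    Nat.card ↥(Cfsg.Inn (Cfsg.POmega F ⇑Q)) = Nat.card (Cfsg.POmega F ⇑Q) :=
  card_Inn_of_center_eq_bot (center_quot_center_eq_bot (commutator_Omega_eq_top Q hQ hn))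

section oddq

variable [Fintype F] (h2 : (2 : F) ≠ 0) (hQ : (QuadraticMap.polarBilin Q).Nondegenerate)
  (hn : 7 ≤ Fintype.card ι)

include h2 hQ hn in
theorem Inn_le_pgoAut : Cfsg.Inn (Cfsg.POmega F ⇑Q) ≤ Cfsg.pgoAut F ⇑Q :=
  (Inn_le_psoAut Q).trans (psoAut_le_pgoAut Q)

include h2 hQ hn in
/-- from a surjection of `pgoAut` with kernel `Inn` onto a group of order `c`: `|PGO| = c |PΩ|` -/
theorem card_pgoAut_of_hom {D : Type*} [Group D]
    (φ : ↥(Cfsg.pgoAut F ⇑Q) →* D) (hs : Function.Surjective φ)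
    (hk : φ.ker = (Cfsg.Inn (Cfsg.POmega F ⇑Q)).subgroupOf (Cfsg.pgoAut F ⇑Q)) :
    Nat.card ↥(Cfsg.pgoAut F ⇑Q) = Nat.card D * Nat.card (Cfsg.POmega F ⇑Q) := by
  have h1 := Subgroup.card_mul_index φ.ker
  rw [Subgroup.index_ker, MonoidHom.range_eq_top.2 hs, Subgroup.card_top, hk,
    Nat.card_congr (Subgroup.subgroupOfEquivOfLe (Inn_le_pgoAut Q h2 hQ hn)).toEquiv,
    card_Inn_POmega Q hQ hn] at h1
  rw [← h1]
  ring

include h2 hQ hn in
theorem card_pgoAut_of_mem (m : ℕ) (hm : Fintype.card ι = 2 * m)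
    (hneg : negOne Q ∈ Cfsg.Omega F ⇑Q) :
    Nat.card ↥(Cfsg.pgoAut F ⇑Q) = 8 * Nat.card (Cfsg.POmega F ⇑Q) := by
  obtain ⟨φ, hs, hk⟩ := pgoAut_mod_Inn_of_mem Q h2 hQ hn m hm hneg
  rw [card_pgoAut_of_hom Q h2 hQ hn φ hs hk, DihedralGroup.nat_card]

include h2 hQ hn in
theorem card_pgoAut_of_not_mem (m : ℕ) (hm : Fintype.card ι = 2 * m)
    (hneg : negOne Q ∉ Cfsg.Omega F ⇑Q) :
    Nat.card ↥(Cfsg.pgoAut F ⇑Q) = 4 * Nat.card (Cfsg.POmega F ⇑Q) := by
  obtain ⟨φ, hs, hk⟩ := pgoAut_mod_Inn_of_not_mem Q h2 hQ hn m hm hneg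
  rw [card_pgoAut_of_hom Q h2 hQ hn φ hs hk]
  congr 1
  rw [Nat.card_eq_fintype_card]
  rfl

end oddq

section evenq

variable [Fintype F] [CharP F 2] (hQ : (QuadraticMap.polarBilin Q).Nondegenerate)
  (hn : 7 ≤ Fintype.card ι)

/-- the action of `O(Q)` on `PΩ(Q)` -/
noncomputable def thetaO : ↥(Cfsg.isometryGroup F ⇑Q) →* MulAut (Cfsg.POmega F ⇑Q) :=
  (conjAut ⇑Q).comp (toGO Q)

include hQ hn in
/-- characteristic two: an isometry acting trivially on `PΩ` is the identity -/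
theorem eq_one_of_conjAut_eq_one_two (x : ↥(Cfsg.isometryGroup F ⇑Q))
    (hx : conjAut ⇑Q (toGO Q x) = 1) : x = 1 := by
  have hfr : Module.finrank F (ι → F) = Fintype.card ι := Module.finrank_fintype_fun_eq_card F
  obtain ⟨t, _, _, ht0⟩ := exists_nonsingular_perp_pair Q hQ (by rw [hfr]; omega) 0 0
  have hk : toGO Q x ∈ (conjAut ⇑Q).ker := MonoidHom.mem_ker.2 hx
  rw [ker_conjAut Q hQ hn, Subgroup.mem_subgroupOf, mem_scalars_iff_eq_scalarGO] at hk
  obtain ⟨c, hc⟩ := hk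
  have hc' : ((scalarGO Q c : ↥(Cfsg.Geo.quadSimilarityGroup (F := F) ⇑Q)) : GL ι F) = x.1 := by
    rw [← hc]
    rfl
  have hkO : ((scalarGO Q c : ↥(Cfsg.Geo.quadSimilarityGroup (F := F) ⇑Q)) : GL ι F)
      ∈ Cfsg.isometryGroup F ⇑Q := by
    rw [hc']
    exact x.2
  have hc1 : c = 1 := by
    rcases eq_one_or_neg_one_of_scalarGO_isometry Q c hkO ht0 with h | h
    · exact h
    · rw [h]
      apply Units.ext
      rw [Units.val_neg, Units.val_one]
      exact CharTwo.neg_eq 1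
  apply Subtype.ext
  rw [← hc', hc1]
  show Matrix.GeneralLinearGroup.scalar ι (1 : Fˣ) = 1
  exact map_one _

include hQ hn in
theorem thetaO_injective : Function.Injective (thetaO Q) := by
  rw [injective_iff_map_eq_one]
  intro x hx
  exact eq_one_of_conjAut_eq_one_two Q hQ hn x hx

/-- characteristic two: every similarity is a scalar times an isometry -/
theorem exists_scalar_mul_isometry_two
    (g : ↥(Cfsg.Geo.quadSimilarityGroup (F := F) ⇑Q)) :
    ∃ (a : Fˣ) (x : ↥(Cfsg.isometryGroup F ⇑Q)), g = scalarGO Q a * toGO Q x := by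
  obtain ⟨c, hc⟩ := g.2
  have hchar : ringChar F = 2 := ringChar.eq F 2
  obtain ⟨d, hd⟩ := FiniteField.isSquare_of_char_two hchar (c : F)
  have hd0 : d ≠ 0 := by
    rintro rfl
    rw [mul_zero] at hd
    exact c.ne_zero hd
  set a : Fˣ := Units.mk0 d hd0 with ha
  have hmem : ((scalarGO Q a⁻¹ * g : ↥(Cfsg.Geo.quadSimilarityGroup (F := F) ⇑Q)) : GL ι F)
      ∈ Cfsg.isometryGroup F ⇑Q := by
    rw [Helper13.mem_isometryGroup_iff]
    intro v
    rw [Subgroup.coe_mul, Units.val_mul, ← Matrix.mulVec_mulVec, scalarGO_mulVec,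
      QuadraticMap.map_smul, hc, smul_eq_mul, hd, Units.val_inv_eq_inv_val, ha, Units.val_mk0]
    field_simp
  refine ⟨a, ⟨_, hmem⟩, ?_⟩
  apply Subtype.ext
  show g.1 = (scalarGO Q a).1 * ((scalarGO Q a⁻¹).1 * g.1)
  rw [← mul_assoc, ← Subgroup.coe_mul, ← scalarGO_mul, mul_inv_cancel, scalarGO_one,
    Subgroup.coe_one, one_mul]

theorem range_thetaO : (thetaO Q).range = Cfsg.pgoAut F ⇑Q := by
  rw [pgoAut_eq_map]
  apply le_antisymm
  · rintro _ ⟨x, rfl⟩
    exact ⟨_, rfl⟩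
  · rintro _ ⟨g, rfl⟩
    obtain ⟨a, x, hx⟩ := exists_scalar_mul_isometry_two Q g
    refine ⟨x, ?_⟩
    have hk : scalarGO Q a ∈ (conjAut ⇑Q).ker :=
      mem_ker_of_mem_scalars ⇑Q _ (scalarGO_mem_scalars Q a)
    rw [hx, map_mul, MonoidHom.mem_ker.1 hk, one_mul]
    rfl

include hQ hn in
/-- characteristic two: `|PGO| = |O| = 2 |Ω|` -/
theorem card_pgoAut_two :
    Nat.card ↥(Cfsg.pgoAut F ⇑Q) = 2 * Nat.card ↥(Cfsg.Omega F ⇑Q) := by
  rw [← range_thetaO Q,
    ← Nat.card_congr (MonoidHom.ofInjective (thetaO_injective Q hQ hn)).toEquiv]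
  have h3 := Subgroup.card_mul_index (Cfsg.Omega F ⇑Q)
  rw [Cfsg.Agent.Helper5.index_Omega_eq_two Q hQ (Or.inr (by omega)) (by omega)] at h3
  omega

include hQ hn in
/-- characteristic two: `Z(Ω) = 1` -/
theorem center_Omega_eq_bot_two : Subgroup.center ↥(Cfsg.Omega F ⇑Q) = ⊥ := by
  rw [eq_bot_iff]
  intro z hz
  rw [Subgroup.mem_bot]
  have hs : ((z : ↥(Cfsg.isometryGroup F ⇑Q)) : GL ι F)
      ∈ Cfsg.Geo.quadSimilarityGroup (F := F) ⇑Q :=
    isometryGroup_le_quadSimilarityGroup ⇑Q z.1.2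
  have h1 := conjAut_of_mem_Omega ⇑Q z hs
  have h3 : (QuotientGroup.mk z : Cfsg.POmega F ⇑Q) = 1 := (QuotientGroup.eq_one_iff z).2 hz
  rw [h3, map_one] at h1
  exact Subtype.ext (eq_one_of_conjAut_eq_one_two Q hQ hn z.1 h1)

include hQ hn in
theorem card_POmega_two : Nat.card (Cfsg.POmega F ⇑Q) = Nat.card ↥(Cfsg.Omega F ⇑Q) := by
  have h := Subgroup.card_eq_card_quotient_mul_card_subgroup
    (Subgroup.center ↥(Cfsg.Omega F ⇑Q))
  have h1 : Nat.card ↥(Subgroup.center ↥(Cfsg.Omega F ⇑Q)) = 1 := by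
    rw [center_Omega_eq_bot_two Q hQ hn]
    exact Subgroup.card_bot
  rw [h1, mul_one] at h
  exact h.symm

include hQ hn in
/-- characteristic two: `|PGO| = 2 |PΩ|` -/
theorem card_pgoAut_two' :
    Nat.card ↥(Cfsg.pgoAut F ⇑Q) = 2 * Nat.card (Cfsg.POmega F ⇑Q) := by
  rw [card_pgoAut_two Q hQ hn, card_POmega_two Q hQ hn]

end evenq

end Cfsg.Agent.Helper12.GammaO
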