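import Mathlib
import Cfsg.Agent.Helper12.GammaOF

/-!
# The field-automorphism homomorphism `Aut(PΩ) → Aut F` and the structure of `Out(PΩ)`

Assuming `gammaPOmega F Q = ⊤`: `tau : MulAut (POmega F Q) →* (F ≃+* F)` with kernel `pgoAut`,
its descent `tauOut` to `Out(PΩ)`, and (when the coordinatewise field automorphisms are
semisimilarities) the section `secOut`.  Abstract lemma: a group with a normal subgroup of order two
with cyclic quotient which splits is the direct product.
-/

set_option autoImplicit false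
set_option linter.unusedSectionVars false

namespace Cfsg.Agent.Helper12.GammaO

open Matrix Module QuadraticMap Cfsg.Agent.Helper44

section generic

/-- a normal subgroup of order two is central -/
theorem le_center_of_card_two {G : Type*} [Group G] (N : Subgroup G) [N.Normal]
    (hN : Nat.card N = 2) : N ≤ Subgroup.center G := by
  intro n hn
  rw [Subgroup.mem_center_iff]
  intro g
  by_cases h1 : n = 1
  · rw [h1, mul_one, one_mul]
  obtain ⟨y, _, hy⟩ := (Nat.card_eq_two_iff' (1 : N)).1 hN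
  have hmem : g * n * g⁻¹ ∈ N := ‹N.Normal›.conj_mem n hn g
  have e1 : (⟨n, hn⟩ : N) = y := hy _ (fun h => h1 (congrArg Subtype.val h))
  have e2 : (⟨g * n * g⁻¹, hmem⟩ : N) = y := hy _ (fun h => by
    apply h1
    have h2 : g * n * g⁻¹ = 1 := congrArg Subtype.val h
    have : n = g⁻¹ * (g * n * g⁻¹) * g := by group
    rw [this, h2]
    group)
  have h3 : g * n * g⁻¹ = n := by
    have := congrArg Subtype.val (e2.trans e1.symm)
    exact this
  calc g * n = (g * n * g⁻¹) * g := by group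
    _ = n * g := by rw [h3]

/-- a commutative group with a split surjection onto `C` is `ker × C` -/
theorem nonempty_mulEquiv_ker_prod {G C : Type*} [Group G] [Group C]
    (hcomm : ∀ a b : G, a * b = b * a) (t : G →* C) (s : C →* G) (hts : ∀ c, t (s c) = c) :
    Nonempty (G ≃* ↥t.ker × C) := by
  let φ : ↥t.ker × C →* G :=
    { toFun := fun x => x.1.1 * s x.2
      map_one' := by simp
      map_mul' := fun x y => by
        show (x.1.1 * y.1.1) * s (x.2 * y.2) = (x.1.1 * s x.2) * (y.1.1 * s y.2)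
        rw [map_mul]
        calc x.1.1 * y.1.1 * (s x.2 * s y.2) = x.1.1 * (y.1.1 * s x.2) * s y.2 := by group
          _ = x.1.1 * (s x.2 * y.1.1) * s y.2 := by rw [hcomm y.1.1 (s x.2)]
          _ = _ := by group }
  have hbij : Function.Bijective φ := by
    constructor
    · rw [injective_iff_map_eq_one]
      rintro ⟨k, c⟩ h
      have h0 : k.1 * s c = 1 := h
      have h1 := congrArg t h0
      rw [map_mul, MonoidHom.mem_ker.1 k.2, one_mul, hts, map_one] at h1
      rw [h1, map_one, mul_one] at h0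
      exact Prod.ext (Subtype.ext h0) h1
    · intro g
      refine ⟨(⟨g * (s (t g))⁻¹, ?_⟩, t g), ?_⟩
      · rw [MonoidHom.mem_ker, map_mul, map_inv, hts, mul_inv_cancel]
      · show g * (s (t g))⁻¹ * s (t g) = g
        group
  exact ⟨(MulEquiv.ofBijective φ hbij).symm⟩

/-- a group of order `2 c` with a split surjection onto a cyclic group `C` of order `c` is
`C₂ × C` -/
theorem nonempty_mulEquiv_two_prod {G C : Type*} [Group G] [Group C] [Finite G] [IsCyclic C]
    (t : G →* C) (s : C →* G) (hts : ∀ c, t (s c) = c) (hcard : Nat.card G = 2 * Nat.card C) :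
    Nonempty (G ≃* Multiplicative (ZMod 2) × C) := by
  have hsurj : Function.Surjective t := fun c => ⟨s c, hts c⟩
  have hC : 0 < Nat.card C := by
    rcases Nat.eq_zero_or_pos (Nat.card C) with h | h
    · rw [h, mul_zero] at hcard
      exact absurd hcard (Nat.card_pos (α := G)).ne'
    · exact h
  have hker : Nat.card ↥t.ker = 2 := by
    have h1 := Subgroup.card_mul_index t.ker
    rw [Subgroup.index_ker, MonoidHom.range_eq_top.2 hsurj, Subgroup.card_top, hcard] at h1
    exact Nat.eq_of_mul_eq_mul_right hC h1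
  have hcomm : ∀ a b : G, a * b = b * a :=
    commutative_of_cyclic_center_quotient t (le_center_of_card_two t.ker hker)
  obtain ⟨e⟩ := nonempty_mulEquiv_ker_prod hcomm t s hts
  have : Fact (Nat.Prime 2) := ⟨Nat.prime_two⟩
  have hcyc : IsCyclic ↥t.ker := isCyclic_of_prime_card hker
  have e2 := zmodCyclicMulEquiv hcyc
  rw [hker] at e2
  exact ⟨e.trans (MulEquiv.prodCongr e2.symm (MulEquiv.refl C))⟩

end generic

variable {F : Type*} [Field F] {ι : Type} [Fintype ι] [DecidableEq ι]
variable (Q : QuadraticForm F (ι → F))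

theorem psi_surjective (htop : Cfsg.gammaPOmega F ⇑Q = ⊤) : Function.Surjective (psi ⇑Q) := by
  rw [← MonoidHom.range_eq_top, ← gammaPOmega_eq_range, htop]

section tau

variable [Fintype F] (hQ : (QuadraticMap.polarBilin Q).Nondegenerate) (hn : 7 ≤ Fintype.card ι)
  (htop : Cfsg.gammaPOmega F ⇑Q = ⊤)

/-- the field automorphism of an automorphism of `PΩ` -/
noncomputable def tau : MulAut (Cfsg.POmega F ⇑Q) →* (F ≃+* F) :=
  (QuotientGroup.lift (psi ⇑Q).ker (piHom Q) (ker_psi_le Q hQ hn)).comp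
    (QuotientGroup.quotientKerEquivOfSurjective (psi ⇑Q) (psi_surjective Q htop)).symm.toMonoidHom

theorem tau_psi (x : ↥(GamO ⇑Q)) : tau Q hQ hn htop (psi ⇑Q x) = x.1.right := by
  unfold tau
  have h1 : (QuotientGroup.quotientKerEquivOfSurjective (psi ⇑Q) (psi_surjective Q htop)).symm
      (psi ⇑Q x) = QuotientGroup.mk x := by
    rw [MulEquiv.symm_apply_eq]
    rfl
  rw [MonoidHom.comp_apply]
  show (QuotientGroup.lift (psi ⇑Q).ker (piHom Q) (ker_psi_le Q hQ hn))
    ((QuotientGroup.quotientKerEquivOfSurjective (psi ⇑Q) (psi_surjective Q htop)).symm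
      (psi ⇑Q x)) = _
  rw [h1, QuotientGroup.lift_mk]
  rfl

theorem ker_tau : (tau Q hQ hn htop).ker = Cfsg.pgoAut F ⇑Q := by
  rw [← range_psi_comp_ker]
  ext β
  obtain ⟨x, rfl⟩ := psi_surjective Q htop β
  rw [MonoidHom.mem_ker, tau_psi]
  constructor
  · intro h
    exact ⟨⟨x, h⟩, rfl⟩
  · rintro ⟨k, hk⟩
    have h1 : tau Q hQ hn htop (psi ⇑Q k.1) = tau Q hQ hn htop (psi ⇑Q x) := by
      rw [← hk]
      rfl
    rw [tau_psi, tau_psi] at h1
    rw [← h1]
    exact k.2

theorem Inn_le_pgoAut' : Cfsg.Inn (Cfsg.POmega F ⇑Q) ≤ Cfsg.pgoAut F ⇑Q :=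
  (Inn_le_psoAut Q).trans (psoAut_le_pgoAut Q)

instance Inn_normal (X : Type*) [Group X] : (Cfsg.Inn X).Normal := by
  constructor
  rintro _ ⟨x, rfl⟩ g
  refine ⟨g x, ?_⟩
  ext y
  simp [MulAut.conj_apply, MulAut.mul_apply, MulAut.inv_apply]

/-- the descent of `tau` to `Out(PΩ)` -/
noncomputable def tauOut : Cfsg.Out (Cfsg.POmega F ⇑Q) →* (F ≃+* F) :=
  QuotientGroup.lift (Cfsg.Inn (Cfsg.POmega F ⇑Q)) (tau Q hQ hn htop) (by
    rw [ker_tau]
    exact Inn_le_pgoAut' Q)

theorem tauOut_mk (β : MulAut (Cfsg.POmega F ⇑Q)) :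
    tauOut Q hQ hn htop (QuotientGroup.mk β) = tau Q hQ hn htop β :=
  QuotientGroup.lift_mk _ _ _

variable (hstd : ∀ σ : F ≃+* F, Cfsg.IsSemisimilarityPair ⇑Q (1 : GL ι F) σ)

/-- the standard field automorphisms, as a subgroup of `ΓO(Q)` -/
noncomputable def stdField : (F ≃+* F) →* ↥(GamO ⇑Q) where
  toFun σ := ⟨⟨1, σ⟩, hstd σ⟩
  map_one' := rfl
  map_mul' σ σ' := by
    apply Subtype.ext
    apply SemidirectProduct.ext
    · show (1 : GL ι F) = 1 * fieldAct σ 1
      rw [map_one, mul_one]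
    · rfl

/-- the section of `tauOut` by standard field automorphisms -/
noncomputable def secOut : (F ≃+* F) →* Cfsg.Out (Cfsg.POmega F ⇑Q) :=
  (QuotientGroup.mk' (Cfsg.Inn (Cfsg.POmega F ⇑Q))).comp ((psi ⇑Q).comp (stdField Q hstd))

theorem tauOut_secOut (σ : F ≃+* F) :
    tauOut Q hQ hn htop (secOut Q hstd σ) = σ := by
  show tauOut Q hQ hn htop (QuotientGroup.mk (psi ⇑Q (stdField Q hstd σ))) = σ
  rw [tauOut_mk, tau_psi]
  rfl

include hQ hn in
/-- `|Aut(PΩ)| = |Out(PΩ)| · |PΩ|` -/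
theorem card_mulAut_eq_out_mul :
    Nat.card (MulAut (Cfsg.POmega F ⇑Q))
      = Nat.card (Cfsg.Out (Cfsg.POmega F ⇑Q)) * Nat.card (Cfsg.POmega F ⇑Q) := by
  rw [Subgroup.card_eq_card_quotient_mul_card_subgroup (Cfsg.Inn (Cfsg.POmega F ⇑Q)),
    card_Inn_POmega Q hQ hn]

end tau

end Cfsg.Agent.Helper12.GammaO
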