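import Mathlib
import Cfsg.Agent.Helper12.GammaOI
import Cfsg.Agent.Helper12.GammaOE
import Cfsg.Agent.Helper37.OutPslA

/-!
# `Out(Ω_{2m+1}(q)) ≅ C₂ × C_f`, conditional on `gammaPOmega = ⊤`
-/

set_option autoImplicit false
set_option linter.unusedSectionVars false

namespace Cfsg.Agent.Helper12.GammaO

open Matrix Module QuadraticMap Cfsg.Agent.Helper44

variable {F : Type*} [Field F]

/-- `Out(Ω_{2m+1}(q)) ≅ C₂ × C_f`, if all automorphisms come from semisimilarities -/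
theorem out_oddForm [Fintype F] {p f m : ℕ} [Fact p.Prime] (hf : 1 ≤ f)
    (hF : Fintype.card F = p ^ f) (hp : p ≠ 2) (hm : 3 ≤ m)
    (htop : Cfsg.gammaPOmega F (Cfsg.quadFormOdd m F) = ⊤) :
    Nonempty (Cfsg.Out (Cfsg.POmega F (Cfsg.quadFormOdd m F))
      ≃* Multiplicative (ZMod 2 × ZMod f)) := by
  have hpo : Odd p := (Fact.out : p.Prime).odd_of_ne_two hp
  have hq : Odd (Fintype.card F) := by
    rw [hF]
    exact hpo.pow
  have h2 : (2 : F) ≠ 0 := two_ne_zero_of_odd_card rfl hq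
  have hQ := Cfsg.Agent.Helper5.nondegenerate_oddForm (F := F) h2 m
  have hn : 7 ≤ Fintype.card (Unit ⊕ (Fin m ⊕ Fin m)) := by
    rw [card_index_odd]
    omega
  have ho : Odd (Fintype.card (Unit ⊕ (Fin m ⊕ Fin m))) := by
    rw [card_index_odd]
    exact ⟨m, rfl⟩
  have htop' : Cfsg.gammaPOmega F ⇑(oddForm m F) = ⊤ := htop
  have hstd : ∀ σ : F ≃+* F, Cfsg.IsSemisimilarityPair ⇑(oddForm m F)
      (1 : GL (Unit ⊕ (Fin m ⊕ Fin m)) F) σ := fun σ => isSemisimilarityPair_oddForm m σ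
  obtain ⟨hcardF, hcyc⟩ := Cfsg.Agent.Helper37.OutPsl.card_ringAut hF hf
  have h1 := card_mulAut_odd (oddForm m F) h2 hQ hn ho (fun σ => ⟨1, hstd σ⟩) htop'
  have h3 := card_mulAut_eq_out_mul (oddForm m F) hQ hn
  have hfinA : Finite (MulAut (Cfsg.POmega F ⇑(oddForm m F))) := by
    apply Nat.finite_of_card_ne_zero
    rw [h1, hcardF]
    have hpos : 0 < Nat.card (Cfsg.POmega F ⇑(oddForm m F)) := Nat.card_pos
    have : 0 < 2 * f * Nat.card (Cfsg.POmega F ⇑(oddForm m F)) := by positivity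
    exact this.ne'
  have hcard : Nat.card (Cfsg.Out (Cfsg.POmega F ⇑(oddForm m F)))
      = 2 * Nat.card (F ≃+* F) := by
    have hpos : 0 < Nat.card (Cfsg.POmega F ⇑(oddForm m F)) := Nat.card_pos
    apply Nat.eq_of_mul_eq_mul_right hpos
    rw [← h3, h1]
  obtain ⟨e⟩ := nonempty_mulEquiv_two_prod (tauOut (oddForm m F) hQ hn htop')
    (secOut (oddForm m F) hstd) (tauOut_secOut (oddForm m F) hQ hn htop' hstd) hcard
  obtain ⟨g⟩ := Cfsg.Agent.Helper37.OutPsl.nonempty_galIso hF hf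
  exact ⟨(e.trans (MulEquiv.prodCongr (MulEquiv.refl _) g)).trans
    (MulEquiv.prodMultiplicative (ZMod 2) (ZMod f)).symm⟩

end Cfsg.Agent.Helper12.GammaO
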