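import Mathlib
import Cfsg.Agent.Helper12.ClassPresB
import Cfsg.Agent.Helper44.StdNondeg
import Cfsg.Agent.Helper37.OddFC

/-!
# The standard plus and minus forms: Witt index, base change of reflections (any characteristic)
-/

set_option autoImplicit false

namespace Cfsg.Agent.Helper12.ClassPres

open Matrix Module QuadraticMap Cfsg Cfsg.Agent.Helper44 Cfsg.Agent.Helper37.OddF

variable {F K : Type*} [Field F] [Field K]

theorem isHyp_plusForm (m : ℕ) : IsHyp (plusForm m F) m where
  nondeg := nondegenerate_plusForm m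
  card := by rw [Fintype.card_sum, Fintype.card_fin]; ring
  exists_sing := ⟨stdSing m F, isTotSing_stdSing m, finrank_stdSing m⟩

/-- the linear map cutting out the standard totally singular subspace of the minus form -/
def minusCut (m : ℕ) (ω : K) : ((Fin m ⊕ Fin m) ⊕ Fin 2 → K) →ₗ[K] (Fin m ⊕ Unit → K) where
  toFun v := Sum.elim (fun i => v (.inl (.inr i))) (fun _ => v (.inr 0) - ω * v (.inr 1))
  map_add' v w := by
    funext i
    cases i <;> simp <;> ring
  map_smul' c v := by
    funext i
    cases i <;> simp <;> ring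

theorem minusCut_surjective (m : ℕ) (ω : K) : Function.Surjective (minusCut m ω) := by
  intro y
  refine ⟨Sum.elim (Sum.elim 0 (fun i => y (.inl i))) (fun j => if j = 0 then y (.inr ()) else 0), ?_⟩
  funext i
  cases i with
  | inl i => simp [minusCut]
  | inr u => simp [minusCut]

/-- the standard totally singular subspace of dimension `m + 1` -/
def minusSing (m : ℕ) (ω : K) : Submodule K ((Fin m ⊕ Fin m) ⊕ Fin 2 → K) :=
  LinearMap.ker (minusCut m ω)

theorem finrank_minusSing (m : ℕ) (ω : K) : finrank K ↥(minusSing m ω) = m + 1 := by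
  have h1 := LinearMap.finrank_range_add_finrank_ker (minusCut m ω)
  rw [LinearMap.range_eq_top.2 (minusCut_surjective m ω), finrank_top,
    Module.finrank_fintype_fun_eq_card, Module.finrank_fintype_fun_eq_card] at h1
  simp only [Fintype.card_sum, Fintype.card_fin, Fintype.card_unit] at h1
  unfold minusSing
  omega

theorem isTotSing_minusSing (m : ℕ) (a b ω : K) (hω : ω ^ 2 + a * ω + b = 0) :
    IsTotSing (minusForm m K a b) (minusSing m ω) := by
  intro v hv
  have hv' : minusCut m ω v = 0 := hv
  have h1 : ∀ i, v (.inl (.inr i)) = 0 := fun i => congrFun hv' (.inl i)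
  have h2 : v (.inr 0) - ω * v (.inr 1) = 0 := congrFun hv' (.inr ())
  have h3 : v (.inr 0) = ω * v (.inr 1) := sub_eq_zero.1 h2
  show quadFormMinus m K a b v = 0
  unfold quadFormMinus
  rw [Finset.sum_eq_zero (fun i _ => by rw [h1 i, mul_zero]), zero_add, h3]
  linear_combination (v (.inr 1)) ^ 2 * hω

theorem isHyp_minusForm_of_root (m : ℕ) (a b ω : K) (hω : ω ^ 2 + a * ω + b = 0)
    (hω2 : 2 * ω + a ≠ 0) : IsHyp (minusForm m K a b) (m + 1) where
  nondeg := by
    apply nondegenerate_minusForm
    intro h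
    apply hω2
    have : (2 * ω + a) ^ 2 = 0 := by linear_combination h + 4 * hω
    exact pow_eq_zero_iff (two_ne_zero) |>.1 this
  card := by
    simp only [Fintype.card_sum, Fintype.card_fin]
    ring
  exists_sing := ⟨minusSing m ω, isTotSing_minusSing m a b ω hω, finrank_minusSing m ω⟩

/-- compatibility of the minus form with a ring homomorphism -/
theorem minusForm_vmap (φ : F →+* K) (m : ℕ) (a b : F) (v : (Fin m ⊕ Fin m) ⊕ Fin 2 → F) :
    minusForm m K (φ a) (φ b) (vmap φ v) = φ (minusForm m F a b v) := by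
  show quadFormMinus m K (φ a) (φ b) (vmap φ v) = φ (quadFormMinus m F a b v)
  unfold quadFormMinus vmap
  simp only [map_add, map_sum, map_mul, map_pow]

theorem plusForm_vmap (φ : F →+* K) (m : ℕ) (v : Fin m ⊕ Fin m → F) :
    plusForm m K (vmap φ v) = φ (plusForm m F v) := by
  show quadFormPlus m K (vmap φ v) = φ (quadFormPlus m F v)
  unfold quadFormPlus vmap
  simp only [map_sum, map_mul]

/-- products of reflections over `F`, read over `K`: class-preserving iff even length -/
theorem preservesSingularClasses_map_prod_reflT_iff {ι : Type} [Fintype ι] [DecidableEq ι]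
    (φ : F →+* K) (Q₀ : QuadraticForm F (ι → F)) (Q : QuadraticForm K (ι → K))
    (hQ : ∀ v : ι → F, Q (vmap φ v) = φ (Q₀ v)) {n : ℕ} (h : IsHyp Q n)
    (vs : List (ι → F)) (hvs : ∀ v ∈ vs, Q₀ v ≠ 0) :
    Cfsg.PreservesSingularClasses ⇑Q
      ((((((vs.map (reflT Q₀)).prod : Cfsg.isometryGroup F ⇑Q₀).1 : GL ι F) :
        Matrix ι ι F)).map φ) ↔ Even vs.length := by
  have h1 := isoIncl_prod_reflT φ Q₀ Q hQ vs hvs
  have h2 : ((((vs.map (reflT Q₀)).prod : Cfsg.isometryGroup F ⇑Q₀).1 : GL ι F) :
      Matrix ι ι F).map φ = (((isoIncl φ Q₀ Q hQ (vs.map (reflT Q₀)).prod :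
        Cfsg.isometryGroup K ⇑Q).1 : GL ι K) : Matrix ι ι K) := (isoIncl_coe φ Q₀ Q hQ _).symm
  rw [h2, h1, preservesSingularClasses_prod_reflT_iff h, List.length_map]
  intro v hv
  obtain ⟨w, hw, rfl⟩ := List.mem_map.1 hv
  exact Q_vmap_ne_zero φ Q₀ Q hQ (hvs w hw)

end Cfsg.Agent.Helper12.ClassPres
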