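import Mathlib
import Cfsg.Agent.Helper12.ClassPresE
import Cfsg.Agent.Helper12.GammaOF
import Cfsg.Agent.Helper44.MinusClasses
import Cfsg.Agent.Helper44.DicksonGen

/-!
# Characteristic two: `Inndiag = Inn` for the even-dimensional orthogonal groups

Over a finite field of characteristic two every similarity is a scalar times an isometry, every
isometry is a product of orthogonal transvections, such a product preserves the two classes of
maximal totally singular subspaces iff the number of factors is even iff it lies in `Ω`.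
-/

set_option autoImplicit false

namespace Cfsg.Agent.Helper12.ClassPres

open Matrix Module QuadraticMap Cfsg Cfsg.Agent.Helper44 Cfsg.Agent.Helper37.OddF
open Cfsg.Agent.Helper12.GammaO

variable {F : Type*} [Field F] [Fintype F] [CharP F 2]

section general

variable {ι : Type} [Fintype ι] [DecidableEq ι] (Q : QuadraticForm F (ι → F))

/-- characteristic two: the automorphism induced by a similarity `g = c • x`, `x` a product of
an even number of orthogonal transvections, is inner -/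
theorem conjAut_mem_Inn_of_even (hQ : (polarBilin Q).Nondegenerate)
    (h4 : (∃ s : F, s ≠ 0 ∧ s ≠ 1) ∨ Fintype.card ι ≠ 4)
    (c : Fˣ) (vs : List (ι → F)) (hvs : ∀ v ∈ vs, Q v ≠ 0) (hev : Even vs.length) :
    conjAut ⇑Q (scalarGO Q c * toGO Q (vs.map (reflT Q)).prod) ∈ Cfsg.Inn (Cfsg.POmega F ⇑Q) := by
  have hk : scalarGO Q c ∈ (conjAut ⇑Q).ker :=
    mem_ker_of_mem_scalars ⇑Q _ (scalarGO_mem_scalars Q c)
  rw [map_mul, MonoidHom.mem_ker.1 hk, one_mul, Inn_eq_map]
  have hΩ := prod_reflT_mem_Omega_two Q hQ h4 vs hvs hev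
  refine ⟨toGO Q (vs.map (reflT Q)).prod, ?_, rfl⟩
  exact Subgroup.mem_subgroupOf.2 ⟨_, hΩ, rfl⟩

end general

section minus

variable {m : ℕ} (a b : F)

/-- **characteristic two, minus type**: `Inndiag(PΩ⁻) = Inn(PΩ⁻)` -/
theorem inndiagPOmegaMinus_eq_Inn_two (hm : 2 ≤ m)
    (hab : ∀ z₁ z₂ : F, z₁ ^ 2 + a * z₁ * z₂ + b * z₂ ^ 2 = 0 → z₁ = 0 ∧ z₂ = 0) :
    Cfsg.inndiagPOmegaMinus m F a b
      = Cfsg.Inn (Cfsg.POmega F (Cfsg.quadFormMinus m F a b)) := by
  set Q := minusForm m F a b with hQdef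
  have hcard : Fintype.card ((Fin m ⊕ Fin m) ⊕ Fin 2) ≠ 4 := by
    simp only [Fintype.card_sum, Fintype.card_fin]
    omega
  have h4 : (∃ s : F, s ≠ 0 ∧ s ≠ 1) ∨ Fintype.card ((Fin m ⊕ Fin m) ⊕ Fin 2) ≠ 4 := Or.inr hcard
  have h4' : Fintype.card F ≠ 2 ∨ Fintype.card ((Fin m ⊕ Fin m) ⊕ Fin 2) ≠ 4 := Or.inr hcard
  -- the root data over a quadratic extension
  have hroot : ∀ (K : Type _) [Field K] [Algebra F K], Module.finrank F K = 2 →
      IsHyp (minusForm m K (algebraMap F K a) (algebraMap F K b)) (m + 1) := by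
    intro K _ _ hfin
    have : Module.Finite F K := Module.finite_of_finrank_pos (by rw [hfin]; norm_num)
    have : Finite K := Module.finite_of_finite F
    haveI : Fintype K := Fintype.ofFinite K
    obtain ⟨ζ, hζ, hζ2⟩ := Helper45.exists_root_of_aniso hfin a b hab
    exact isHyp_minusForm_of_root m _ _ ζ hζ hζ2
  have hQnd : (polarBilin Q).Nondegenerate := by
    obtain ⟨f, hf, hfin⟩ := exists_quadratic_extension a b hab
    have hH := hroot (AdjoinRoot f) hfin
    apply nondegenerate_minusForm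
    intro h0
    have hnd := hH.nondeg
    have : (algebraMap F (AdjoinRoot f) a) ^ 2 - 4 * algebraMap F (AdjoinRoot f) b = 0 := by
      rw [← map_pow, ← map_ofNat (algebraMap F (AdjoinRoot f)) 4, ← map_mul, ← map_sub, h0,
        map_zero]
    -- a degenerate minus form over `K` contradicts `hH`
    have hCh : (2 : AdjoinRoot f) = 0 := by
      have h2F : (2 : F) = 0 := CharTwo.two_eq_zero
      rw [← map_ofNat (algebraMap F (AdjoinRoot f)) 2, h2F, map_zero]
    have ha0 : algebraMap F (AdjoinRoot f) a = 0 := by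
      have h4K : (4 : AdjoinRoot f) = 0 := by
        have : (4 : AdjoinRoot f) = 2 * 2 := by norm_num
        rw [this, hCh, mul_zero]
      rw [h4K, zero_mul, sub_zero] at this
      exact pow_eq_zero_iff (two_ne_zero) |>.1 this
    -- the vector `(0; 1, 0)` is in the radical
    set w : (Fin m ⊕ Fin m) ⊕ Fin 2 → AdjoinRoot f := Pi.single (.inr 0) 1 with hw
    have hw0 : w ≠ 0 := by
      intro h
      have := congrFun h (.inr 0)
      rw [hw, Pi.single_eq_same, Pi.zero_apply] at this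
      exact one_ne_zero this
    apply hw0
    apply hnd.1 w
    intro y
    rw [polarBilin_apply_apply, minusForm_coe]
    unfold polar quadFormMinus
    simp only [hw, Pi.add_apply, ha0]
    have e1 : ∀ i : Fin m, (Pi.single (Sum.inr 0) 1 : (Fin m ⊕ Fin m) ⊕ Fin 2 → AdjoinRoot f)
        (Sum.inl (Sum.inl i)) = 0 := fun i => by simp
    have e2 : ∀ i : Fin m, (Pi.single (Sum.inr 0) 1 : (Fin m ⊕ Fin m) ⊕ Fin 2 → AdjoinRoot f)
        (Sum.inl (Sum.inr i)) = 0 := fun i => by simp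
    have e3 : (Pi.single (Sum.inr 0) 1 : (Fin m ⊕ Fin m) ⊕ Fin 2 → AdjoinRoot f)
        (Sum.inr 0) = 1 := by simp
    have e4 : (Pi.single (Sum.inr 0) 1 : (Fin m ⊕ Fin m) ⊕ Fin 2 → AdjoinRoot f)
        (Sum.inr 1) = 0 := by simp
    simp only [e1, e2, e3, e4, zero_add, zero_mul, mul_zero, Finset.sum_const_zero]
    linear_combination (y (Sum.inr 0)) * hCh
  apply le_antisymm
  · -- generators of `Inndiag` are inner
    unfold Cfsg.inndiagPOmegaMinus Cfsg.autSubgroupOf
    rw [Subgroup.closure_le]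
    rintro β ⟨g, hg, ⟨K, _, _, hfin, hP⟩, hβ⟩
    have hβ' : β = conjAut ⇑Q ⟨g, hg⟩ := (isInduced_iff ⇑Q g hg β).1 hβ
    obtain ⟨c, x, hx⟩ := exists_scalar_mul_isometry_two Q ⟨g, hg⟩
    obtain ⟨vs, hvs, rfl⟩ := exists_list_reflT Q hQnd h4' x
    have hH := hroot K hfin
    set φ : F →+* K := algebraMap F K with hφ
    -- the matrix of `g` over `K`
    have hgmat : (g : Matrix ((Fin m ⊕ Fin m) ⊕ Fin 2) ((Fin m ⊕ Fin m) ⊕ Fin 2) F)
        = ((Matrix.GeneralLinearGroup.scalar ((Fin m ⊕ Fin m) ⊕ Fin 2) c :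
            GL ((Fin m ⊕ Fin m) ⊕ Fin 2) F) :
          Matrix ((Fin m ⊕ Fin m) ⊕ Fin 2) ((Fin m ⊕ Fin m) ⊕ Fin 2) F) *
          ((((vs.map (reflT Q)).prod : Cfsg.isometryGroup F ⇑Q).1 :
            GL ((Fin m ⊕ Fin m) ⊕ Fin 2) F) :
          Matrix ((Fin m ⊕ Fin m) ⊕ Fin 2) ((Fin m ⊕ Fin m) ⊕ Fin 2) F) := by
      have := congrArg (fun z : ↥(Cfsg.Geo.quadSimilarityGroup (F := F) ⇑Q) =>
        ((z : GL ((Fin m ⊕ Fin m) ⊕ Fin 2) F) :
          Matrix ((Fin m ⊕ Fin m) ⊕ Fin 2) ((Fin m ⊕ Fin m) ⊕ Fin 2) F)) hx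
      exact this
    have hev : Even vs.length := by
      rw [← preservesSingularClasses_map_prod_reflT_iff φ Q _ (minusForm_vmap φ m a b) hH vs hvs]
      -- scalar times the product
      set s' : GL ((Fin m ⊕ Fin m) ⊕ Fin 2) K := Matrix.GeneralLinearGroup.map φ
        (Matrix.GeneralLinearGroup.scalar ((Fin m ⊕ Fin m) ⊕ Fin 2) c) with hs'
      set x' : GL ((Fin m ⊕ Fin m) ⊕ Fin 2) K := Matrix.GeneralLinearGroup.map φ
        (((vs.map (reflT Q)).prod : Cfsg.isometryGroup F ⇑Q).1 :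
          GL ((Fin m ⊕ Fin m) ⊕ Fin 2) F) with hx'
      have hs'c : (s' : Matrix ((Fin m ⊕ Fin m) ⊕ Fin 2) ((Fin m ⊕ Fin m) ⊕ Fin 2) K)
          = Matrix.scalar ((Fin m ⊕ Fin m) ⊕ Fin 2) (φ c) := by
        show ((Matrix.GeneralLinearGroup.scalar ((Fin m ⊕ Fin m) ⊕ Fin 2) c :
          GL ((Fin m ⊕ Fin m) ⊕ Fin 2) F) :
          Matrix ((Fin m ⊕ Fin m) ⊕ Fin 2) ((Fin m ⊕ Fin m) ⊕ Fin 2) F).map φ = _
        rw [Matrix.GeneralLinearGroup.coe_scalar]
        ext i j
        simp [Matrix.scalar, Matrix.diagonal_apply, Matrix.map_apply]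
        split_ifs <;> simp
      have hx'iso : ∀ v, minusForm m K (φ a) (φ b)
          ((x' : Matrix ((Fin m ⊕ Fin m) ⊕ Fin 2) ((Fin m ⊕ Fin m) ⊕ Fin 2) K) *ᵥ v)
          = 1 * minusForm m K (φ a) (φ b) v := by
        intro v
        rw [one_mul]
        have := (isoIncl φ Q _ (minusForm_vmap φ m a b) (vs.map (reflT Q)).prod).2
        rw [Helper13.mem_isometryGroup_iff] at this
        exact this v
      have hs'sim : ∀ v, minusForm m K (φ a) (φ b)
          ((s' : Matrix ((Fin m ⊕ Fin m) ⊕ Fin 2) ((Fin m ⊕ Fin m) ⊕ Fin 2) K) *ᵥ v)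
          = (φ c * φ c) * minusForm m K (φ a) (φ b) v := by
        intro v
        have : (s' : Matrix ((Fin m ⊕ Fin m) ⊕ Fin 2) ((Fin m ⊕ Fin m) ⊕ Fin 2) K) *ᵥ v
            = φ c • v := by
          rw [hs'c]
          funext i
          simp [Matrix.mulVec, dotProduct, Matrix.scalar, Matrix.diagonal_apply]
        rw [this, QuadraticMap.map_smul, smul_eq_mul]
      have hmul : (g : Matrix ((Fin m ⊕ Fin m) ⊕ Fin 2) ((Fin m ⊕ Fin m) ⊕ Fin 2) F).map φ
          = ((s' * x' : GL ((Fin m ⊕ Fin m) ⊕ Fin 2) K) :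
            Matrix ((Fin m ⊕ Fin m) ⊕ Fin 2) ((Fin m ⊕ Fin m) ⊕ Fin 2) K) := by
        rw [hgmat, Matrix.map_mul]
        rfl
      have hP' : Cfsg.PreservesSingularClasses ⇑(minusForm m K (φ a) (φ b))
          ((s' * x' : GL ((Fin m ⊕ Fin m) ⊕ Fin 2) K) :
            Matrix ((Fin m ⊕ Fin m) ⊕ Fin 2) ((Fin m ⊕ Fin m) ⊕ Fin 2) K) := by
        rw [← hmul]
        exact hP
      have hsP := preservesSingularClasses_scalar hH s' (φ c) hs'c
      exact ((preservesSingularClasses_mul_iff hH s' x' hs'sim hx'iso).1 hP').1 hsP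
    rw [hβ', hx]
    exact conjAut_mem_Inn_of_even Q hQnd h4 c vs hvs hev
  · -- inner automorphisms are inner-diagonal
    rw [Inn_eq_map]
    rintro _ ⟨g, ⟨s, hsΩ, hsg⟩, rfl⟩
    apply Subgroup.subset_closure
    obtain ⟨vs, hvs, hs⟩ := exists_list_reflT Q hQnd h4' s
    have hev : Even vs.length := by
      apply even_length_of_prod_reflT_mem_Omega Q hQnd vs hvs
      rw [← hs]
      exact hsΩ
    obtain ⟨f, hf, hfin⟩ := exists_quadratic_extension a b hab
    have hH := hroot (AdjoinRoot f) hfin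
    refine ⟨g.1, g.2, ⟨AdjoinRoot f, inferInstance, inferInstance, hfin, ?_⟩,
      (isInduced_iff ⇑Q g.1 g.2 _).2 rfl⟩
    have hg1 : (g.1 : GL ((Fin m ⊕ Fin m) ⊕ Fin 2) F)
        = (((vs.map (reflT Q)).prod : Cfsg.isometryGroup F ⇑Q).1 :
          GL ((Fin m ⊕ Fin m) ⊕ Fin 2) F) := by
      rw [← hs]
      exact hsg.symm
    rw [hg1]
    exact (preservesSingularClasses_map_prod_reflT_iff (algebraMap F (AdjoinRoot f)) Q _
      (minusForm_vmap _ m a b) hH vs hvs).2 hev

end minus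

end Cfsg.Agent.Helper12.ClassPres
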