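import Mathlib
import Cfsg.Agent.Helper12.ClassPresF

/-!
# Characteristic two: `Inndiag(PΩ⁺) = Inn(PΩ⁺)`
-/

set_option autoImplicit false

namespace Cfsg.Agent.Helper12.ClassPres

open Matrix Module QuadraticMap Cfsg Cfsg.Agent.Helper44 Cfsg.Agent.Helper12.GammaO

variable {F : Type*} [Field F] [Fintype F] [CharP F 2]

/-- **characteristic two, plus type**: `Inndiag(PΩ⁺) = Inn(PΩ⁺)` -/
theorem inndiagPOmegaPlus_eq_Inn_two {m : ℕ} (hm : 3 ≤ m) :
    Cfsg.inndiagPOmegaPlus m F = Cfsg.Inn (Cfsg.POmega F (Cfsg.quadFormPlus m F)) := by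
  set Q := plusForm m F with hQdef
  have hcard : Fintype.card (Fin m ⊕ Fin m) ≠ 4 := by
    simp only [Fintype.card_sum, Fintype.card_fin]
    omega
  have h4 : (∃ s : F, s ≠ 0 ∧ s ≠ 1) ∨ Fintype.card (Fin m ⊕ Fin m) ≠ 4 := Or.inr hcard
  have h4' : Fintype.card F ≠ 2 ∨ Fintype.card (Fin m ⊕ Fin m) ≠ 4 := Or.inr hcard
  have hH : IsHyp Q m := isHyp_plusForm m
  have hQnd := hH.nondeg
  apply le_antisymm
  · unfold Cfsg.inndiagPOmegaPlus Cfsg.autSubgroupOf
    rw [Subgroup.closure_le]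
    rintro β ⟨g, hg, hP, hβ⟩
    have hβ' : β = conjAut ⇑Q ⟨g, hg⟩ := (isInduced_iff ⇑Q g hg β).1 hβ
    obtain ⟨c, x, hx⟩ := exists_scalar_mul_isometry_two Q ⟨g, hg⟩
    obtain ⟨vs, hvs, rfl⟩ := exists_list_reflT Q hQnd h4' x
    have hgmat : g = (Matrix.GeneralLinearGroup.scalar (Fin m ⊕ Fin m) c : GL (Fin m ⊕ Fin m) F) *
        (((vs.map (reflT Q)).prod : Cfsg.isometryGroup F ⇑Q).1 : GL (Fin m ⊕ Fin m) F) := by
      have := congrArg (fun z : ↥(Cfsg.Geo.quadSimilarityGroup (F := F) ⇑Q) =>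
        (z : GL (Fin m ⊕ Fin m) F)) hx
      exact this
    have hev : Even vs.length := by
      rw [← preservesSingularClasses_prod_reflT_iff hH vs hvs]
      set s' : GL (Fin m ⊕ Fin m) F := Matrix.GeneralLinearGroup.scalar (Fin m ⊕ Fin m) c with hs'
      set x' : GL (Fin m ⊕ Fin m) F :=
        (((vs.map (reflT Q)).prod : Cfsg.isometryGroup F ⇑Q).1 : GL (Fin m ⊕ Fin m) F) with hx'
      have hs'c : (s' : Matrix (Fin m ⊕ Fin m) (Fin m ⊕ Fin m) F)
          = Matrix.scalar (Fin m ⊕ Fin m) (c : F) := Matrix.GeneralLinearGroup.coe_scalar _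
      have hx'iso : ∀ v, Q ((x' : Matrix (Fin m ⊕ Fin m) (Fin m ⊕ Fin m) F) *ᵥ v) = 1 * Q v := by
        intro v
        rw [one_mul]
        have := ((vs.map (reflT Q)).prod : Cfsg.isometryGroup F ⇑Q).2
        rw [Helper13.mem_isometryGroup_iff] at this
        exact this v
      have hs'sim : ∀ v, Q ((s' : Matrix (Fin m ⊕ Fin m) (Fin m ⊕ Fin m) F) *ᵥ v)
          = ((c : F) * (c : F)) * Q v := by
        intro v
        have : (s' : Matrix (Fin m ⊕ Fin m) (Fin m ⊕ Fin m) F) *ᵥ v = (c : F) • v := by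
          rw [hs'c]
          funext i
          simp [Matrix.mulVec, dotProduct, Matrix.scalar, Matrix.diagonal_apply]
        rw [this, QuadraticMap.map_smul, smul_eq_mul]
      have hP' : Cfsg.PreservesSingularClasses ⇑Q
          ((s' * x' : GL (Fin m ⊕ Fin m) F) : Matrix (Fin m ⊕ Fin m) (Fin m ⊕ Fin m) F) := by
        rw [← hgmat]
        exact hP
      have hsP := preservesSingularClasses_scalar hH s' (c : F) hs'c
      exact ((preservesSingularClasses_mul_iff hH s' x' hs'sim hx'iso).1 hP').1 hsP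
    rw [hβ', hx]
    exact conjAut_mem_Inn_of_even Q hQnd h4 c vs hvs hev
  · rw [Inn_eq_map]
    rintro _ ⟨g, ⟨s, hsΩ, hsg⟩, rfl⟩
    apply Subgroup.subset_closure
    obtain ⟨vs, hvs, hs⟩ := exists_list_reflT Q hQnd h4' s
    have hev : Even vs.length := by
      apply even_length_of_prod_reflT_mem_Omega Q hQnd vs hvs
      rw [← hs]
      exact hsΩ
    refine ⟨g.1, g.2, ?_, (isInduced_iff ⇑Q g.1 g.2 _).2 rfl⟩
    have hg1 : (g.1 : GL (Fin m ⊕ Fin m) F)
        = (((vs.map (reflT Q)).prod : Cfsg.isometryGroup F ⇑Q).1 : GL (Fin m ⊕ Fin m) F) := by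
      rw [← hs]
      exact hsg.symm
    rw [hg1]
    exact (preservesSingularClasses_prod_reflT_iff hH vs hvs).2 hev

end Cfsg.Agent.Helper12.ClassPres
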