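import Mathlib
import Cfsg.Agent.Helper5.AutOF

/-!
# Normality of `Inndiag` in `Aut(PΩ⁺₈(q))`, part A: two more group-theoretic relations on root
elements (defined from the centres of the Sylow `p`-subgroups) and their invariance under
automorphisms.  `NPc`: commuting, non-collinear root elements of different root groups.
`Star'`: the root elements commuting with all common collinear neighbours of a pair.
-/

set_option autoImplicit false
set_option linter.unusedSectionVars false
set_option linter.unusedVariables false

namespace Cfsg.Agent.Helper12.D4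

open Cfsg.Agent.Helper5.AutO

variable {G : Type*} [Group G] (p : ℕ)

/-- commuting root elements of different root groups which are not collinear -/
def NPc (x y : G) : Prop :=
  RtE p x ∧ RtE p y ∧ ¬ Same p x y ∧ x * y = y * x ∧ ¬ Col p x y

/-- the root elements commuting with all common collinear neighbours of `x` and `y` -/
def Star' (x y z : G) : Prop := RtE p z ∧ ∀ w : G, CN p x y w → z * w = w * z

/-- the subgroup generated by `Star'` -/
def starGrp (x y : G) : Subgroup G := Subgroup.closure {z | Star' p x y z}

variable {p}

theorem nPc_iff (α : G ≃* G) (x y : G) : NPc p (α x) (α y) ↔ NPc p x y := by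
  unfold NPc
  rw [rtE_iff, rtE_iff, same_iff, ← map_mul, ← map_mul, α.injective.eq_iff, col_iff]

theorem star'_iff (α : G ≃* G) (x y z : G) : Star' p (α x) (α y) (α z) ↔ Star' p x y z := by
  unfold Star'
  rw [rtE_iff]
  constructor
  · rintro ⟨h1, h2⟩
    refine ⟨h1, fun w hw => ?_⟩
    have := h2 (α w) ((cN_iff α x y w).2 hw)
    rw [← map_mul, ← map_mul] at this
    exact α.injective this
  · rintro ⟨h1, h2⟩
    refine ⟨h1, fun w hw => ?_⟩
    have h3 := h2 (α.symm w) ((cN_iff' α x y w).1 hw)
    have h4 := congrArg α h3
    rwa [map_mul, map_mul, α.apply_symm_apply] at h4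

theorem star'_iff' (α : G ≃* G) (x y z : G) :
    Star' p (α x) (α y) z ↔ Star' p x y (α.symm z) := by
  conv_lhs => rw [← α.apply_symm_apply z]
  exact star'_iff α x y _

theorem map_starGrp (α : G ≃* G) (x y : G) :
    (starGrp p x y).map α.toMonoidHom = starGrp p (α x) (α y) := by
  unfold starGrp
  rw [MonoidHom.map_closure]
  congr 1
  ext z
  constructor
  · rintro ⟨w, hw, rfl⟩
    exact (star'_iff α x y w).2 hw
  · intro hz
    exact ⟨α.symm z, (star'_iff' α x y z).1 hz, α.apply_symm_apply z⟩

end Cfsg.Agent.Helper12.D4
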