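import Mathlib
import Cfsg.Agent.Helper5.AutOY
import Cfsg.Agent.Helper12.D4A

/-!
# Normality of `Inndiag` in `Aut(PΩ⁺₈(q))`, part B: the hyperbolic form in dimension eight,
coordinates, and two lemmas on singular lines commuting with coordinate lines.
-/

set_option autoImplicit false
set_option linter.unusedSectionVars false
set_option linter.unusedVariables false
set_option linter.unusedSimpArgs false

namespace Cfsg.Agent.Helper12.D4

open Matrix QuadraticMap Cfsg.Agent.Helper44 Cfsg.Agent.Helper5 Cfsg.Agent.Helper5.AutO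

variable {F : Type*} [Field F]

section general

variable {ι : Type} [Fintype ι] [DecidableEq ι] {Q : QuadraticForm F (ι → F)}

theorem inL_comm {a b v : ι → F} (h : InL a b v) : InL b a v := by
  obtain ⟨α, β, e⟩ := h
  exact ⟨β, α, by rw [e, add_comm]⟩

theorem meetL_swap_right {u w a b : ι → F} (h : MeetL u w a b) : MeetL u w b a := by
  obtain ⟨v, hv0, h1, h2⟩ := h
  exact ⟨v, hv0, h1, inL_comm h2⟩

theorem perpL_swap_right {u w a b : ι → F} (h : PerpL Q u w a b) : PerpL Q u w b a :=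
  ⟨h.2.1, h.1, h.2.2.2, h.2.2.1⟩

/-- **Lemma G**: a singular line `⟨u, w⟩` which is orthogonal to or meets each of the two lines
`⟨a, b⟩`, `⟨a, b'⟩` (with `a ⟂ a, b, b'` and `a, b, b'` independent) is orthogonal to `a` -/
theorem perp_of_two_lines {u w a b b' : ι → F} (hN : IsSingLine Q u w)
    (haa : polar ⇑Q a a = 0) (hab : polar ⇑Q a b = 0) (hab' : polar ⇑Q a b' = 0)
    (hind : ∀ r s t : F, r • a + s • b + t • b' = 0 → r = 0 ∧ s = 0 ∧ t = 0)
    (h1 : PerpL Q u w a b ∨ MeetL u w a b) (h2 : PerpL Q u w a b' ∨ MeetL u w a b') :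
    polar ⇑Q u a = 0 ∧ polar ⇑Q w a = 0 := by
  rcases h1 with h1 | h1
  · exact ⟨h1.1, h1.2.2.1⟩
  rcases h2 with h2 | h2
  · exact ⟨h2.1, h2.2.2.1⟩
  obtain ⟨n₁, hn₁0, hn₁N, α₁, β₁, e₁⟩ := h1
  obtain ⟨n₂, hn₂0, hn₂N, α₂, β₂, e₂⟩ := h2
  -- if `a` lies on the line we are done
  have key : InL u w a → polar ⇑Q u a = 0 ∧ polar ⇑Q w a = 0 := fun ha =>
    ⟨hN.polar_inL (inL_left u w) ha, hN.polar_inL (inL_right u w) ha⟩
  by_cases hβ₁ : β₁ = 0
  · apply key
    rw [hβ₁, zero_smul, add_zero] at e₁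
    have hα : α₁ ≠ 0 := by
      rintro rfl
      rw [zero_smul] at e₁
      exact hn₁0 e₁
    have : a = α₁⁻¹ • n₁ := by rw [e₁, smul_smul, inv_mul_cancel₀ hα, one_smul]
    rw [this]
    exact hn₁N.smul _
  by_cases hβ₂ : β₂ = 0
  · apply key
    rw [hβ₂, zero_smul, add_zero] at e₂
    have hα : α₂ ≠ 0 := by
      rintro rfl
      rw [zero_smul] at e₂
      exact hn₂0 e₂
    have : a = α₂⁻¹ • n₂ := by rw [e₂, smul_smul, inv_mul_cancel₀ hα, one_smul]
    rw [this]
    exact hn₂N.smul _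
  -- otherwise the two points span the line
  have hi : ∀ s t : F, s • n₁ + t • n₂ = 0 → s = 0 ∧ t = 0 := by
    intro s t hst
    rw [e₁, e₂] at hst
    have h3 : (s * α₁ + t * α₂) • a + (s * β₁) • b + (t * β₂) • b' = 0 := by
      rw [← hst]; module
    obtain ⟨-, h4, h5⟩ := hind _ _ _ h3
    exact ⟨(mul_eq_zero.1 h4).resolve_right hβ₁, (mul_eq_zero.1 h5).resolve_right hβ₂⟩
  obtain ⟨⟨s, t, eu⟩, ⟨s', t', ew⟩⟩ := inL_swap hi hn₁N hn₂N
  have hba : polar ⇑Q b a = 0 := by rw [QuadraticMap.polar_comm]; exact hab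
  have hb'a : polar ⇑Q b' a = 0 := by rw [QuadraticMap.polar_comm]; exact hab'
  have hn₁a : polar ⇑Q n₁ a = 0 := by
    rw [e₁, QuadraticMap.polar_add_left, QuadraticMap.polar_smul_left,
      QuadraticMap.polar_smul_left, haa, hba, smul_zero, smul_zero, add_zero]
  have hn₂a : polar ⇑Q n₂ a = 0 := by
    rw [e₂, QuadraticMap.polar_add_left, QuadraticMap.polar_smul_left,
      QuadraticMap.polar_smul_left, haa, hb'a, smul_zero, smul_zero, add_zero]
  constructor
  · rw [eu, QuadraticMap.polar_add_left, QuadraticMap.polar_smul_left,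
      QuadraticMap.polar_smul_left, hn₁a, hn₂a, smul_zero, smul_zero, add_zero]
  · rw [ew, QuadraticMap.polar_add_left, QuadraticMap.polar_smul_left,
      QuadraticMap.polar_smul_left, hn₁a, hn₂a, smul_zero, smul_zero, add_zero]

end general

/-! ### coordinates -/

/-- the index set -/
abbrev I4 : Type := Fin 4 ⊕ Fin 4

/-- the first basis vectors -/
def ev (i : Fin 4) : I4 → F := Pi.single (Sum.inl i) 1

/-- their partners -/
def fv (i : Fin 4) : I4 → F := Pi.single (Sum.inr i) 1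

theorem polar_ev (i : Fin 4) (x : I4 → F) : polar ⇑(plusForm 4 F) (ev i) x = x (Sum.inr i) :=
  (isHypPair_plusForm (F := F) 4 i).polar_a x

theorem polar_fv (i : Fin 4) (x : I4 → F) : polar ⇑(plusForm 4 F) (fv i) x = x (Sum.inl i) :=
  (isHypPair_plusForm (F := F) 4 i).polar_b x

theorem polar_ev' (i : Fin 4) (x : I4 → F) : polar ⇑(plusForm 4 F) x (ev i) = x (Sum.inr i) := by
  rw [QuadraticMap.polar_comm, polar_ev]

theorem polar_fv' (i : Fin 4) (x : I4 → F) : polar ⇑(plusForm 4 F) x (fv i) = x (Sum.inl i) := by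
  rw [QuadraticMap.polar_comm, polar_fv]

theorem Q_ev (i : Fin 4) : plusForm 4 F (ev i) = 0 := (isHypPair_plusForm (F := F) 4 i).Qa

theorem Q_fv (i : Fin 4) : plusForm 4 F (fv i) = 0 := (isHypPair_plusForm (F := F) 4 i).Qb

theorem Q4_apply (x : I4 → F) :
    plusForm 4 F x = ∑ i : Fin 4, x (Sum.inl i) * x (Sum.inr i) := rfl

theorem polar4_apply (x y : I4 → F) :
    polar ⇑(plusForm 4 F) x y
      = ∑ i : Fin 4, (x (Sum.inl i) * y (Sum.inr i) + y (Sum.inl i) * x (Sum.inr i)) :=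
  polar_quadFormPlus 4 x y

@[simp] theorem ev_inl (i j : Fin 4) : (ev i : I4 → F) (Sum.inl j) = if j = i then 1 else 0 := by
  unfold ev
  rw [Pi.single_apply]
  simp only [Sum.inl.injEq]

@[simp] theorem ev_inr (i j : Fin 4) : (ev i : I4 → F) (Sum.inr j) = 0 := by
  unfold ev
  rw [Pi.single_apply, if_neg (by simp)]

@[simp] theorem fv_inr (i j : Fin 4) : (fv i : I4 → F) (Sum.inr j) = if j = i then 1 else 0 := by
  unfold fv
  rw [Pi.single_apply]
  simp only [Sum.inr.injEq]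

@[simp] theorem fv_inl (i j : Fin 4) : (fv i : I4 → F) (Sum.inl j) = 0 := by
  unfold fv
  rw [Pi.single_apply, if_neg (by simp)]

/-- vectors whose `f`-coordinates vanish are pairwise orthogonal and singular -/
theorem polar_of_inr_zero {x y : I4 → F} (hx : ∀ i, x (Sum.inr i) = 0)
    (hy : ∀ i, y (Sum.inr i) = 0) : polar ⇑(plusForm 4 F) x y = 0 := by
  rw [polar4_apply]
  apply Finset.sum_eq_zero
  intro i _
  rw [hx, hy, mul_zero, mul_zero, add_zero]

theorem indep_ev3 {i j k : Fin 4} (hij : i ≠ j) (hik : i ≠ k) (hjk : j ≠ k) :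
    ∀ r s t : F, r • (ev i : I4 → F) + s • ev j + t • ev k = 0 → r = 0 ∧ s = 0 ∧ t = 0 := by
  intro r s t h
  have h1 := congrFun h (Sum.inl i)
  have h2 := congrFun h (Sum.inl j)
  have h3 := congrFun h (Sum.inl k)
  simp only [Pi.add_apply, Pi.smul_apply, ev_inl, smul_eq_mul, Pi.zero_apply, if_true,
    if_neg hij, if_neg hik, if_neg hij.symm, if_neg hjk, if_neg hik.symm, if_neg hjk.symm,
    mul_one, mul_zero, add_zero, zero_add] at h1 h2 h3
  exact ⟨h1, h2, h3⟩

/-- **the solid `⟨e₀, e₁, e₂, e₃⟩`**: a singular line commuting (in the sense orthogonal-or-meeting)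
with the four lines `⟨e₀,e₂⟩, ⟨e₀,e₃⟩, ⟨e₁,e₂⟩, ⟨e₁,e₃⟩` lies in the solid -/
theorem inr_zero_of_four {u w : I4 → F} (hN : IsSingLine (plusForm 4 F) u w)
    (h02 : PerpL (plusForm 4 F) u w (ev 0) (ev 2) ∨ MeetL u w (ev 0) (ev 2))
    (h03 : PerpL (plusForm 4 F) u w (ev 0) (ev 3) ∨ MeetL u w (ev 0) (ev 3))
    (h12 : PerpL (plusForm 4 F) u w (ev 1) (ev 2) ∨ MeetL u w (ev 1) (ev 2))
    (h13 : PerpL (plusForm 4 F) u w (ev 1) (ev 3) ∨ MeetL u w (ev 1) (ev 3)) :
    (∀ i, u (Sum.inr i) = 0) ∧ ∀ i, w (Sum.inr i) = 0 := by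
  have pe : ∀ i j : Fin 4, polar ⇑(plusForm 4 F) (ev i) (ev j) = 0 := by
    intro i j
    rw [polar_ev, ev_inr]
  have sw : ∀ {a b : I4 → F}, PerpL (plusForm 4 F) u w a b ∨ MeetL u w a b →
      PerpL (plusForm 4 F) u w b a ∨ MeetL u w b a := by
    intro a b h
    rcases h with h | h
    · exact Or.inl (perpL_swap_right h)
    · exact Or.inr (meetL_swap_right h)
  have k0 := perp_of_two_lines hN (pe 0 0) (pe 0 2) (pe 0 3)
    (indep_ev3 (by decide) (by decide) (by decide)) h02 h03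
  have k1 := perp_of_two_lines hN (pe 1 1) (pe 1 2) (pe 1 3)
    (indep_ev3 (by decide) (by decide) (by decide)) h12 h13
  have k2 := perp_of_two_lines hN (pe 2 2) (pe 2 0) (pe 2 1)
    (indep_ev3 (by decide) (by decide) (by decide)) (sw h02) (sw h12)
  have k3 := perp_of_two_lines hN (pe 3 3) (pe 3 0) (pe 3 1)
    (indep_ev3 (by decide) (by decide) (by decide)) (sw h03) (sw h13)
  simp only [polar_ev'] at k0 k1 k2 k3
  constructor
  · intro i
    fin_cases i
    · exact k0.1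
    · exact k1.1
    · exact k2.1
    · exact k3.1
  · intro i
    fin_cases i
    · exact k0.2
    · exact k1.2
    · exact k2.2
    · exact k3.2

end Cfsg.Agent.Helper12.D4
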