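import Mathlib
import Cfsg.Agent.Helper12.D4B

/-!
# Normality of `Inndiag` in `Aut(PΩ⁺₈(q))`, part C: a singular line commuting with the four lines
`⟨e₀,e₂⟩, ⟨e₀,f₂⟩, ⟨e₀,e₃⟩, ⟨e₀,f₃⟩` passes through `e₀`.
-/

set_option autoImplicit false
set_option linter.unusedSectionVars false
set_option linter.unusedVariables false
set_option linter.unusedSimpArgs false

namespace Cfsg.Agent.Helper12.D4

open Matrix QuadraticMap Cfsg.Agent.Helper44 Cfsg.Agent.Helper5 Cfsg.Agent.Helper5.AutO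

variable {F : Type*} [Field F]

section general

variable {ι : Type} [Fintype ι] [DecidableEq ι] {Q : QuadraticForm F (ι → F)}

/-- a singular line orthogonal to `a`, not through `a`, which is orthogonal to or meets the line
`⟨a, d⟩`, is orthogonal to `d` -/
theorem perp_of_line_through {u w a d : ι → F} (hN : IsSingLine Q u w)
    (hua : polar ⇑Q u a = 0) (hwa : polar ⇑Q w a = 0) (hna : ¬ InL u w a)
    (h : PerpL Q u w a d ∨ MeetL u w a d) : polar ⇑Q u d = 0 ∧ polar ⇑Q w d = 0 := by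
  rcases h with h | h
  · exact ⟨h.2.1, h.2.2.2⟩
  obtain ⟨n, hn0, hnN, α, β, e⟩ := h
  have hβ : β ≠ 0 := by
    rintro rfl
    rw [zero_smul, add_zero] at e
    have hα : α ≠ 0 := by
      rintro rfl
      rw [zero_smul] at e
      exact hn0 e
    apply hna
    have : a = α⁻¹ • n := by rw [e, smul_smul, inv_mul_cancel₀ hα, one_smul]
    rw [this]
    exact hnN.smul _
  have h1 : polar ⇑Q u n = 0 := hN.polar_inL (inL_left u w) hnN
  have h2 : polar ⇑Q w n = 0 := hN.polar_inL (inL_right u w) hnN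
  rw [e, QuadraticMap.polar_add_right, QuadraticMap.polar_smul_right,
    QuadraticMap.polar_smul_right, hua, smul_zero, zero_add, smul_eq_mul] at h1
  rw [e, QuadraticMap.polar_add_right, QuadraticMap.polar_smul_right,
    QuadraticMap.polar_smul_right, hwa, smul_zero, zero_add, smul_eq_mul] at h2
  exact ⟨(mul_eq_zero.1 h1).resolve_left hβ, (mul_eq_zero.1 h2).resolve_left hβ⟩

end general

theorem indep_e0_e2_e3 :
    ∀ r s t : F, r • (ev 0 : I4 → F) + s • ev 2 + t • ev 3 = 0 → r = 0 ∧ s = 0 ∧ t = 0 :=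
  indep_ev3 (by decide) (by decide) (by decide)

/-- **the point `e₀`**: a singular line commuting (orthogonal-or-meeting) with the four lines
`⟨e₀,e₂⟩, ⟨e₀,f₂⟩, ⟨e₀,e₃⟩, ⟨e₀,f₃⟩` passes through `e₀` -/
theorem inL_ev0_of_four {u w : I4 → F} (hN : IsSingLine (plusForm 4 F) u w)
    (h2 : PerpL (plusForm 4 F) u w (ev 0) (ev 2) ∨ MeetL u w (ev 0) (ev 2))
    (h2' : PerpL (plusForm 4 F) u w (ev 0) (fv 2) ∨ MeetL u w (ev 0) (fv 2))
    (h3 : PerpL (plusForm 4 F) u w (ev 0) (ev 3) ∨ MeetL u w (ev 0) (ev 3))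
    (h3' : PerpL (plusForm 4 F) u w (ev 0) (fv 3) ∨ MeetL u w (ev 0) (fv 3)) :
    InL u w (ev 0) := by
  by_contra hna
  have pe : ∀ i j : Fin 4, polar ⇑(plusForm 4 F) (ev i) (ev j) = 0 := by
    intro i j
    rw [polar_ev, ev_inr]
  obtain ⟨u0, w0⟩ := perp_of_two_lines hN (pe 0 0) (pe 0 2) (pe 0 3) indep_e0_e2_e3 h2 h3
  obtain ⟨a1, b1⟩ := perp_of_line_through hN u0 w0 hna h2
  obtain ⟨a2, b2⟩ := perp_of_line_through hN u0 w0 hna h2'
  obtain ⟨a3, b3⟩ := perp_of_line_through hN u0 w0 hna h3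
  obtain ⟨a4, b4⟩ := perp_of_line_through hN u0 w0 hna h3'
  rw [polar_ev'] at u0 w0 a1 b1 a3 b3
  rw [polar_fv'] at a2 b2 a4 b4
  -- the remaining coordinates
  have hQu : u (Sum.inl 1) * u (Sum.inr 1) = 0 := by
    have := hN.Qp
    rw [Q4_apply, Fin.sum_univ_four, u0, a1, a3] at this
    simpa using this
  have hQw : w (Sum.inl 1) * w (Sum.inr 1) = 0 := by
    have := hN.Qr
    rw [Q4_apply, Fin.sum_univ_four, w0, b1, b3] at this
    simpa using this
  have hP : u (Sum.inl 1) * w (Sum.inr 1) + w (Sum.inl 1) * u (Sum.inr 1) = 0 := by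
    have := hN.polar_eq
    rw [polar4_apply, Fin.sum_univ_four, u0, w0, a1, b1, a3, b3, a2, b2, a4, b4] at this
    simpa using this
  -- a vector of the line with vanishing `e₁`, `f₁` coordinates is a multiple of `e₀`
  have key : ∀ s t : F, (s • u + t • w) (Sum.inl 1) = 0 → (s • u + t • w) (Sum.inr 1) = 0 →
      s • u + t • w = (s * u (Sum.inl 0) + t * w (Sum.inl 0)) • ev 0 := by
    intro s t k1 k2
    funext j
    rcases j with j | j <;> fin_cases j
    · simp
    · simpa using k1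
    · simp [a2, b2]
    · simp [a4, b4]
    · simp [u0, w0]
    · simpa using k2
    · simp [a1, b1]
    · simp [a3, b3]
  have fin : ∀ s t : F, (s ≠ 0 ∨ t ≠ 0) → (s • u + t • w) (Sum.inl 1) = 0 →
      (s • u + t • w) (Sum.inr 1) = 0 → False := by
    intro s t hst k1 k2
    have e := key s t k1 k2
    have hc : s * u (Sum.inl 0) + t * w (Sum.inl 0) ≠ 0 := by
      intro hc
      rw [hc, zero_smul] at e
      obtain ⟨hs, ht⟩ := hN.indep s t e
      rcases hst with h | h
      · exact h hs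
      · exact h ht
    apply hna
    refine ⟨(s * u (Sum.inl 0) + t * w (Sum.inl 0))⁻¹ * s,
      (s * u (Sum.inl 0) + t * w (Sum.inl 0))⁻¹ * t, ?_⟩
    have : ev 0 = (s * u (Sum.inl 0) + t * w (Sum.inl 0))⁻¹ • (s • u + t • w) := by
      rw [e, smul_smul, inv_mul_cancel₀ hc, one_smul]
    rw [this, smul_add, smul_smul, smul_smul]
  by_cases hu1 : u (Sum.inl 1) = 0
  · by_cases hu1' : u (Sum.inr 1) = 0
    · exact fin 1 0 (Or.inl one_ne_zero) (by simp [hu1]) (by simp [hu1'])
    · -- `u₁' ≠ 0`, so `w₁ = 0`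
      have hw1 : w (Sum.inl 1) = 0 := by
        rw [hu1, zero_mul, zero_add] at hP
        exact (mul_eq_zero.1 hP).resolve_right hu1'
      exact fin (-w (Sum.inr 1)) (u (Sum.inr 1)) (Or.inr hu1')
        (by simp [hu1, hw1]) (by simp; ring)
  · -- `u₁ ≠ 0`, so `u₁' = 0` and `w₁' = 0`
    have hu1' : u (Sum.inr 1) = 0 := (mul_eq_zero.1 hQu).resolve_left hu1
    have hw1' : w (Sum.inr 1) = 0 := by
      rw [hu1', mul_zero, add_zero] at hP
      exact (mul_eq_zero.1 hP).resolve_left hu1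
    exact fin (-w (Sum.inl 1)) (u (Sum.inl 1)) (Or.inr hu1)
      (by simp; ring) (by simp [hu1', hw1'])

end Cfsg.Agent.Helper12.D4
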