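import Mathlib
import Cfsg.Agent.Helper12.D4C

/-!
# Normality of `Inndiag` in `Aut(PΩ⁺₈(q))`, part D: the group generated by the star of a standard
pair of lines through `e₀` is `Q̄_{e₀}`; the star of a standard pair of disjoint lines in the solid
`⟨e₀, e₁, e₂, e₃⟩` consists of the root elements of the lines of that solid.
-/

set_option autoImplicit false
set_option linter.unusedSectionVars false
set_option linter.unusedVariables false
set_option linter.unusedSimpArgs false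

namespace Cfsg.Agent.Helper12.D4

open Matrix QuadraticMap Cfsg.Agent.Helper44 Cfsg.Agent.Helper5 Cfsg.Agent.Helper5.AutO

variable {F : Type*} [Field F] [Fintype F]

theorem ctx4 : Ctx (plusForm 4 F) := ⟨nondegenerate_plusForm 4, by simp⟩

/-- the first three hyperbolic pairs -/
noncomputable def T4 : HypTriple (plusForm 4 F) :=
  HypTriple.ofPairs (plusForm 4 F) (fun i => Sum.inl (Fin.castLE (by norm_num) i))
    (fun i => Sum.inr (Fin.castLE (by norm_num) i))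
    (fun i j hij => Fin.castLE_injective (by norm_num) (Sum.inr_injective hij))
    (fun i j => Sum.inl_ne_inr)
    (fun i => isHypPair_plusForm 4 (Fin.castLE (by norm_num) i))

theorem T4_e0 : (T4 (F := F)).e 0 = ev 0 := rfl
theorem T4_e1 : (T4 (F := F)).e 1 = ev 1 := rfl
theorem T4_e2 : (T4 (F := F)).e 2 = ev 2 := rfl
theorem T4_f0 : (T4 (F := F)).f 0 = fv 0 := rfl
theorem T4_f1 : (T4 (F := F)).f 1 = fv 1 := rfl
theorem T4_f2 : (T4 (F := F)).f 2 = fv 2 := rfl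

theorem ev_ne_zero (i : Fin 4) : (ev i : I4 → F) ≠ 0 := by
  intro h
  have := congrFun h (Sum.inl i)
  simp at this

theorem fv_ne_zero (i : Fin 4) : (fv i : I4 → F) ≠ 0 := by
  intro h
  have := congrFun h (Sum.inr i)
  simp at this

/-- the line `⟨e₀, s⟩` for a singular `s ∈ ⟨e₀, f₀⟩^⊥` -/
theorem line_ev0 {s : I4 → F} (hs0 : s ≠ 0) (hs : plusForm 4 F s = 0)
    (hse : s (Sum.inr 0) = 0) (hsf : s (Sum.inl 0) = 0) : IsSingLine (plusForm 4 F) (ev 0) s :=
  line_of_W0 (f := fv 0) (Q_ev 0) (by rw [polar_ev]; simp) hs0 hs (by rw [polar_ev]; exact hse)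
    (by rw [polar_fv]; exact hsf)

variable {p : ℕ} [hp : Fact p.Prime] [CharP F p]

/-- the standard pairs of non-orthogonal lines through `e₀` -/
theorem line_e0_e1 : IsSingLine (plusForm 4 F) (ev 0) (ev 1) :=
  line_ev0 (ev_ne_zero 1) (Q_ev 1) (by simp) (by simp)

theorem line_e0_cf1 {c : F} (hc : c ≠ 0) : IsSingLine (plusForm 4 F) (ev 0) (c • fv 1) :=
  line_ev0 (smul_ne_zero hc (fv_ne_zero 1))
    (by rw [QuadraticMap.map_smul, Q_fv, smul_zero]) (by simp) (by simp)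

theorem polar_e1_cf1 (c : F) : polar ⇑(plusForm 4 F) (ev 1) (c • fv 1) = c := by
  rw [polar_ev]
  simp

/-- **the star of a standard pair through `e₀` generates `Q̄_{e₀}`** -/
theorem starGrp_std {c : F} (hc : c ≠ 0) :
    starGrp p (rE (ctx4 (F := F)) (ev 0) (ev 1)) (rE ctx4 (ev 0) (c • fv 1))
      = Qb ctx4 (ev 0) (Q_ev 0) := by
  have C := ctx4 (F := F)
  have hL := line_e0_e1 (F := F)
  have hL' := line_e0_cf1 (F := F) hc
  have hb : polar ⇑(plusForm 4 F) (ev 1) (c • fv 1) ≠ 0 := by rw [polar_e1_cf1]; exact hc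
  -- common neighbours
  have hcn : ∀ d : I4 → F, d ≠ 0 → plusForm 4 F d = 0 → d (Sum.inr 0) = 0 → d (Sum.inl 0) = 0 →
      d (Sum.inr 1) = 0 → d (Sum.inl 1) = 0 →
      CN p (rE ctx4 (ev 0) (ev 1)) (rE ctx4 (ev 0) (c • fv 1)) (rE ctx4 (ev 0) d) := by
    intro d hd0 hdQ h1 h2 h3 h4
    refine (bType_cN_iff ctx4 T4 hL hL' hb _).2 ⟨d, line_ev0 hd0 hdQ h1 h2, ?_, ?_, rfl⟩
    · rw [polar_ev']; exact h3
    · rw [QuadraticMap.polar_smul_right, polar_fv', h4, smul_zero]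
  apply le_antisymm
  · -- the star lies in `Q̄_{e₀}`
    apply (Subgroup.closure_le _).2
    intro z hz
    obtain ⟨u, w, hN, rfl⟩ := (rtE_iff_exists ctx4 T4 z).1 hz.1
    have hcomm : ∀ d : I4 → F, d ≠ 0 → plusForm 4 F d = 0 → d (Sum.inr 0) = 0 →
        d (Sum.inl 0) = 0 → d (Sum.inr 1) = 0 → d (Sum.inl 1) = 0 →
        PerpL (plusForm 4 F) u w (ev 0) d ∨ MeetL u w (ev 0) d := by
      intro d hd0 hdQ h1 h2 h3 h4
      exact (commute_rE_iff ctx4 T4 hN (line_ev0 hd0 hdQ h1 h2)).1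
        (hz.2 _ (hcn d hd0 hdQ h1 h2 h3 h4))
    have hv : InL u w (ev 0) := inL_ev0_of_four hN
      (hcomm (ev 2) (ev_ne_zero 2) (Q_ev 2) (by simp) (by simp) (by simp) (by simp))
      (hcomm (fv 2) (fv_ne_zero 2) (Q_fv 2) (by simp) (by simp) (by simp) (by simp))
      (hcomm (ev 3) (ev_ne_zero 3) (Q_ev 3) (by simp) (by simp) (by simp) (by simp))
      (hcomm (fv 3) (fv_ne_zero 3) (Q_fv 3) (by simp) (by simp) (by simp) (by simp))
    obtain ⟨d, hNd, -, -, -, e⟩ := rebase hN hv (ev_ne_zero 0)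
    rw [SetLike.mem_coe, ← rE_congr ctx4 e]
    exact rE_mem_Qb ctx4 (Q_ev 0) hNd.polar_eq
  · -- `Q̄_{e₀}` is generated by elements of the star
    rintro x ⟨w, hw, rfl⟩
    rw [polar_ev] at hw
    obtain ⟨w₀, hw₀⟩ : ∃ w₀ : I4 → F, w₀ = w - w (Sum.inl 0) • ev 0 := ⟨_, rfl⟩
    have hw₀e : w₀ (Sum.inr 0) = 0 := by rw [hw₀]; simp [hw]
    have hw₀f : w₀ (Sum.inl 0) = 0 := by rw [hw₀]; simp
    have hw₀e' : polar ⇑(plusForm 4 F) (ev 0) w₀ = 0 := by rw [polar_ev]; exact hw₀e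
    have e1 : rE ctx4 (ev 0) w = rE ctx4 (ev 0) w₀ := by
      apply rE_congr
      have : w = w₀ + w (Sum.inl 0) • ev 0 := by rw [hw₀]; abel
      conv_lhs => rw [this]
      exact eichlerO_add_smul (plusForm 4 F) (Q_ev 0) hw₀e' _
    rw [e1]
    obtain ⟨s₁, s₂, s₃, q1, q2, q3, hsum, hperp⟩ :=
      exists_singular_decomp (Q_ev 1) (Q_fv 1)
        (by rw [polar_ev]; simp : polar ⇑(plusForm 4 F) (ev 1) (fv 1) = 1) w₀
    obtain ⟨a1, a2, a3⟩ := hperp (ev 0) (by rw [polar_ev]; simp) (by rw [polar_ev]; simp) hw₀e'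
    obtain ⟨b1, b2, b3⟩ := hperp (fv 0) (by rw [polar_fv]; simp) (by rw [polar_fv]; simp)
      (by rw [polar_fv]; exact hw₀f)
    rw [polar_ev] at a1 a2 a3
    rw [polar_fv] at b1 b2 b3
    have key : ∀ s : I4 → F, plusForm 4 F s = 0 → s (Sum.inr 0) = 0 → s (Sum.inl 0) = 0 →
        rE ctx4 (ev 0) s ∈ starGrp p (rE (ctx4 (F := F)) (ev 0) (ev 1))
          (rE ctx4 (ev 0) (c • fv 1)) := by
      intro s hs hse hsf
      by_cases hs0 : s = 0
      · rw [hs0, rE_zero]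
        exact one_mem _
      · apply Subgroup.subset_closure
        have hN := line_ev0 hs0 hs hse hsf
        refine ⟨rtE_rE ctx4 T4 hN, ?_⟩
        intro z hz
        obtain ⟨d, hd, -, -, rfl⟩ := (bType_cN_iff ctx4 T4 hL hL' hb z).1 hz
        rw [rE_mul ctx4 (Q_ev 0) hN.polar_eq hd.polar_eq, rE_mul ctx4 (Q_ev 0) hd.polar_eq
          hN.polar_eq, add_comm]
    have pa1 : polar ⇑(plusForm 4 F) (ev 0) s₁ = 0 := by rw [polar_ev]; exact a1
    have pa2 : polar ⇑(plusForm 4 F) (ev 0) s₂ = 0 := by rw [polar_ev]; exact a2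
    have pa3 : polar ⇑(plusForm 4 F) (ev 0) s₃ = 0 := by rw [polar_ev]; exact a3
    have a12 : polar ⇑(plusForm 4 F) (ev 0) (s₁ + s₂) = 0 := by
      rw [QuadraticMap.polar_add_right, pa1, pa2, add_zero]
    rw [hsum, ← rE_mul ctx4 (Q_ev 0) a12 pa3, ← rE_mul ctx4 (Q_ev 0) pa1 pa2]
    exact mul_mem (mul_mem (key s₁ q1 a1 b1) (key s₂ q2 a2 b2)) (key s₃ q3 a3 b3)

end Cfsg.Agent.Helper12.D4
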