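import Mathlib
import Cfsg.Agent.Helper12.D4D

/-!
# Normality of `Inndiag` in `Aut(PΩ⁺₈(q))`, part E: the star of a standard pair of disjoint lines
in the solid `⟨e₀, e₁, e₂, e₃⟩`.
-/

set_option autoImplicit false
set_option linter.unusedSectionVars false
set_option linter.unusedVariables false
set_option linter.unusedSimpArgs false

namespace Cfsg.Agent.Helper12.D4

open Matrix QuadraticMap Cfsg.Agent.Helper44 Cfsg.Agent.Helper5 Cfsg.Agent.Helper5.AutO

variable {F : Type*} [Field F]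

/-- the `f`-coordinates vanish -/
def InS0 (x : I4 → F) : Prop := ∀ i : Fin 4, x (Sum.inr i) = 0

theorem inS0_ev (i : Fin 4) : InS0 (ev i : I4 → F) := fun j => ev_inr i j

theorem InS0.smul {x : I4 → F} (h : InS0 x) (c : F) : InS0 (c • x) := fun i => by
  rw [Pi.smul_apply, h i, smul_zero]

theorem InS0.add {x y : I4 → F} (hx : InS0 x) (hy : InS0 y) : InS0 (x + y) := fun i => by
  rw [Pi.add_apply, hx i, hy i, add_zero]

theorem InS0.inL {a b v : I4 → F} (ha : InS0 a) (hb : InS0 b) (hv : InL a b v) : InS0 v := by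
  obtain ⟨α, β, rfl⟩ := hv
  exact (ha.smul α).add (hb.smul β)

theorem InS0.polar {x y : I4 → F} (hx : InS0 x) (hy : InS0 y) :
    polar ⇑(plusForm 4 F) x y = 0 := polar_of_inr_zero hx hy

theorem InS0.Q {x : I4 → F} (hx : InS0 x) : plusForm 4 F x = 0 := by
  rw [Q4_apply]
  apply Finset.sum_eq_zero
  intro i _
  rw [hx i, mul_zero]

theorem indep_ev2 {i j : Fin 4} (hij : i ≠ j) {s t : F} (hs : s ≠ 0) (ht : t ≠ 0) :
    ∀ a b : F, a • (s • ev i : I4 → F) + b • (t • ev j) = 0 → a = 0 ∧ b = 0 := by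
  intro a b h
  have h1 := congrFun h (Sum.inl i)
  have h2 := congrFun h (Sum.inl j)
  simp only [Pi.add_apply, Pi.smul_apply, ev_inl, smul_eq_mul, Pi.zero_apply, if_true,
    if_neg hij, if_neg hij.symm, mul_one, mul_zero, add_zero, zero_add] at h1 h2
  exact ⟨(mul_eq_zero.1 h1).resolve_right hs, (mul_eq_zero.1 h2).resolve_right ht⟩

/-- coordinate lines of the solid -/
theorem line_ev {i j : Fin 4} (hij : i ≠ j) {s t : F} (hs : s ≠ 0) (ht : t ≠ 0) :
    IsSingLine (plusForm 4 F) (s • ev i) (t • ev j) :=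
  isSingLine_of (indep_ev2 hij hs ht) ((inS0_ev i).smul s).Q ((inS0_ev j).smul t).Q
    (((inS0_ev i).smul s).polar ((inS0_ev j).smul t))

theorem line_ev' {i j : Fin 4} (hij : i ≠ j) : IsSingLine (plusForm 4 F) (ev i) (ev j) := by
  have := line_ev (F := F) hij one_ne_zero one_ne_zero
  rwa [one_smul, one_smul] at this

theorem line_ev'' {i j : Fin 4} (hij : i ≠ j) {t : F} (ht : t ≠ 0) :
    IsSingLine (plusForm 4 F) (ev i) (t • ev j) := by
  have := line_ev (F := F) hij one_ne_zero ht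
  rwa [one_smul] at this

section fin

variable [Fintype F]

/-- two coordinate lines of the solid sharing exactly one coordinate vector are collinear -/
theorem colL_coord {i j k l : Fin 4} {t : F} (ht : t ≠ 0) (hij : i ≠ j) (hkl : k ≠ l)
    (hmeet : k = i ∨ k = j ∨ l = i ∨ l = j) (hnot : (k ≠ i ∧ k ≠ j) ∨ (l ≠ i ∧ l ≠ j)) :
    ColL (plusForm 4 F) (ev i) (ev j) (ev k) (t • ev l) := by
  refine ⟨?_, ?_, ?_⟩
  · rintro ⟨⟨α, β, e1⟩, ⟨γ, δ, e2⟩⟩
    rcases hnot with ⟨h1, h2⟩ | ⟨h1, h2⟩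
    · have := congrFun e1 (Sum.inl k)
      simp only [Pi.add_apply, Pi.smul_apply, ev_inl, smul_eq_mul, if_true, if_neg h1, if_neg h2,
        mul_zero, add_zero] at this
      exact one_ne_zero this
    · have := congrFun e2 (Sum.inl l)
      simp only [Pi.add_apply, Pi.smul_apply, ev_inl, smul_eq_mul, if_true, if_neg h1, if_neg h2,
        mul_zero, add_zero, mul_one] at this
      exact ht this
  · exact ⟨(inS0_ev i).polar (inS0_ev k), (inS0_ev i).polar ((inS0_ev l).smul t),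
      (inS0_ev j).polar (inS0_ev k), (inS0_ev j).polar ((inS0_ev l).smul t)⟩
  · have hl : InL (ev k : I4 → F) (t • ev l) (ev l) :=
      ⟨0, t⁻¹, by rw [zero_smul, zero_add, smul_smul, inv_mul_cancel₀ ht, one_smul]⟩
    rcases hmeet with rfl | rfl | rfl | rfl
    · exact ⟨ev k, ev_ne_zero k, inL_left _ _, inL_left _ _⟩
    · exact ⟨ev k, ev_ne_zero k, inL_right _ _, inL_left _ _⟩
    · exact ⟨ev l, ev_ne_zero l, inL_left _ _, hl⟩
    · exact ⟨ev l, ev_ne_zero l, inL_right _ _, hl⟩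

end fin

theorem not_meetL_std {c c' : F} (hc : c ≠ 0) (hc' : c' ≠ 0) :
    ¬ MeetL (ev 0 : I4 → F) (c • ev 1) (ev 2) (c' • ev 3) := by
  rintro ⟨v, hv0, ⟨α, β, e1⟩, ⟨γ, δ, e2⟩⟩
  apply hv0
  have h0 := congrFun e2 (Sum.inl 0)
  have h1 := congrFun e2 (Sum.inl 1)
  simp at h0 h1
  have k0 := congrFun e1 (Sum.inl 0)
  have k1 := congrFun e1 (Sum.inl 1)
  simp [h0, h1] at k0 k1
  rw [e1, ← k0]
  rcases k1 with h | h
  · rw [h, zero_smul, zero_smul, add_zero]
  · exact absurd h hc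

variable [Fintype F] {p : ℕ} [hp : Fact p.Prime] [CharP F p]

/-- **the star of a standard pair of disjoint lines of the solid** -/
theorem star'_std_c {c c' : F} (hc : c ≠ 0) (hc' : c' ≠ 0) {u w : I4 → F}
    (hN : IsSingLine (plusForm 4 F) u w) :
    Star' p (rE (ctx4 (F := F)) (ev 0) (c • ev 1)) (rE ctx4 (ev 2) (c' • ev 3)) (rE ctx4 u w)
      ↔ InS0 u ∧ InS0 w := by
  have hL : IsSingLine (plusForm 4 F) (ev 0) (c • ev 1) := line_ev'' (by decide) hc
  have hL' : IsSingLine (plusForm 4 F) (ev 2) (c' • ev 3) := line_ev'' (by decide) hc'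
  constructor
  · intro hz
    have hcomm : ∀ i j : Fin 4, i ≠ j →
        ColL (plusForm 4 F) (ev i) (ev j) (ev 0) (c • ev 1) →
        ColL (plusForm 4 F) (ev i) (ev j) (ev 2) (c' • ev 3) →
        PerpL (plusForm 4 F) u w (ev i) (ev j) ∨ MeetL u w (ev i) (ev j) := by
      intro i j hij h1 h2
      have hM := line_ev' (F := F) hij
      exact (commute_rE_iff ctx4 T4 hN hM).1
        (hz.2 _ ((cN_rE_iff ctx4 T4 hL hL' hM).2 ⟨h1, h2⟩))
    exact inr_zero_of_four hN
      (hcomm 0 2 (by decide)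
        (colL_coord hc (by decide) (by decide) (Or.inl rfl) (Or.inr ⟨by decide, by decide⟩))
        (colL_coord hc' (by decide) (by decide) (Or.inr (Or.inl rfl))
          (Or.inr ⟨by decide, by decide⟩)))
      (hcomm 0 3 (by decide)
        (colL_coord hc (by decide) (by decide) (Or.inl rfl) (Or.inr ⟨by decide, by decide⟩))
        (colL_coord hc' (by decide) (by decide) (Or.inr (Or.inr (Or.inr rfl)))
          (Or.inl ⟨by decide, by decide⟩)))
      (hcomm 1 2 (by decide)
        (colL_coord hc (by decide) (by decide) (Or.inr (Or.inr (Or.inl rfl)))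
          (Or.inl ⟨by decide, by decide⟩))
        (colL_coord hc' (by decide) (by decide) (Or.inr (Or.inl rfl))
          (Or.inr ⟨by decide, by decide⟩)))
      (hcomm 1 3 (by decide)
        (colL_coord hc (by decide) (by decide) (Or.inr (Or.inr (Or.inl rfl)))
          (Or.inl ⟨by decide, by decide⟩))
        (colL_coord hc' (by decide) (by decide) (Or.inr (Or.inr (Or.inr rfl)))
          (Or.inl ⟨by decide, by decide⟩)))
  · rintro ⟨hu, hw⟩
    refine ⟨rtE_rE ctx4 T4 hN, ?_⟩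
    intro z hz
    obtain ⟨u', w', l, m, hN', rfl, -, -, hlL, hmM, ⟨s1, s2⟩, -⟩ :=
      cType_cN ctx4 T4 hL hL' (not_meetL_std hc hc') hz
    have hl : InS0 l := InS0.inL (inS0_ev 0) ((inS0_ev 1).smul c) hlL
    have hm : InS0 m := InS0.inL (inS0_ev 2) ((inS0_ev 3).smul c') hmM
    have hu' : InS0 u' := InS0.inL hl hm s1
    have hw' : InS0 w' := InS0.inL hl hm s2
    exact (commute_rE_iff ctx4 T4 hN hN').2
      (Or.inl ⟨hu.polar hu', hu.polar hw', hw.polar hu', hw.polar hw'⟩)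

end Cfsg.Agent.Helper12.D4
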