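import Mathlib
import Cfsg.Agent.Helper12.D4E
import Cfsg.Agent.Helper45.OrthInvol

/-!
# Normality of `Inndiag` in `Aut(PΩ⁺₈(q))`, part F: Witt reduction.  Every pair of commuting,
non-collinear root elements of different root groups is the image, under the automorphism induced
by an isometry, of a standard pair of lines through `e₀` or of the standard pair of disjoint lines
of the solid `⟨e₀, e₁, e₂, e₃⟩`.
-/

set_option autoImplicit false
set_option linter.unusedSectionVars false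
set_option linter.unusedVariables false
set_option linter.unusedSimpArgs false

namespace Cfsg.Agent.Helper12.D4

open Matrix QuadraticMap Cfsg.Agent.Helper44 Cfsg.Agent.Helper5 Cfsg.Agent.Helper5.AutO

variable {F : Type*} [Field F]

section general

variable {ι : Type} [Fintype ι] [DecidableEq ι] {Q : QuadraticForm F (ι → F)}

theorem semiMap_refl (M : GL ι F) (v : ι → F) :
    semiMap M (RingEquiv.refl F) v = (M : Matrix ι ι F) *ᵥ v := rfl

/-- the image of a root element under the automorphism induced by a semilinear similitude -/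
theorem semiAut_rE [Fintype F] (C : Ctx Q) {M : GL ι F} {σ : F ≃+* F} {c : F}
    (h : IsSemiSim Q M σ c) {u w : ι → F} (hu : Q u = 0) (huw : polar ⇑Q u w = 0) :
    semiAut h (rE C u w) = rE C (semiMap M σ u) (c⁻¹ • semiMap M σ w) := by
  rw [rE_def, semiAut_prj, semiOm_eO C h hu huw, rE_def]

/-- a linear isometry as a semilinear similitude -/
theorem isSemiSim_of_lin (e : (ι → F) ≃ₗ[F] (ι → F)) (he : ∀ x, Q (e x) = Q x) :
    IsSemiSim Q (Cfsg.Agent.Helper45.WittQuad.glOfLin e) (RingEquiv.refl F) 1 := by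
  refine ⟨one_ne_zero, fun v => ?_⟩
  rw [semiMap_refl, Cfsg.Agent.Helper45.WittQuad.glOfLin_mulVec, he, one_mul]
  rfl

theorem semiAut_lin_rE [Fintype F] (C : Ctx Q) (e : (ι → F) ≃ₗ[F] (ι → F))
    (he : ∀ x, Q (e x) = Q x) {u w : ι → F} (hu : Q u = 0) (huw : polar ⇑Q u w = 0) :
    semiAut (isSemiSim_of_lin e he) (rE C u w) = rE C (e u) (e w) := by
  rw [semiAut_rE C _ hu huw, semiMap_refl, semiMap_refl,
    Cfsg.Agent.Helper45.WittQuad.glOfLin_mulVec, Cfsg.Agent.Helper45.WittQuad.glOfLin_mulVec,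
    inv_one, one_smul]

/-- the vectors supported on a set of coordinates -/
def supp (S : Set ι) : Submodule F (ι → F) where
  carrier := {x | ∀ j, j ∉ S → x j = 0}
  add_mem' := by
    intro x y hx hy j hj
    rw [Pi.add_apply, hx j hj, hy j hj, add_zero]
  zero_mem' := fun j _ => rfl
  smul_mem' := by
    intro c x hx j hj
    rw [Pi.smul_apply, hx j hj, smul_zero]

theorem mem_supp {S : Set ι} {x : ι → F} : x ∈ supp (F := F) S ↔ ∀ j, j ∉ S → x j = 0 := Iff.rfl

/-- Witt extension from a linear map which is isometric and injective on a subspace -/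
theorem exists_isometry_extend (hQ : (QuadraticMap.polarBilin Q).Nondegenerate)
    (U : Submodule F (ι → F)) (f : (ι → F) →ₗ[F] (ι → F))
    (hiso : ∀ x ∈ U, Q (f x) = Q x) (hinj : ∀ x ∈ U, f x = 0 → x = 0) :
    ∃ e : (ι → F) ≃ₗ[F] (ι → F), (∀ x, Q (e x) = Q x) ∧ ∀ x ∈ U, e x = f x := by
  obtain ⟨g, hg1, hg2⟩ := Cfsg.Agent.Helper45.WittQuad.extend Q hQ _ U f rfl hiso hinj
  obtain ⟨e, he1, he2⟩ := Cfsg.Agent.Helper45.WittQuad.exists_equiv_of_isom Q hQ g hg1
  exact ⟨e, he1, fun x hx => by rw [he2, hg2 x hx]⟩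

end general

/-! ### the two linear maps -/

/-- `x ↦ x₀ v + x₁ b + x₁' b'` -/
def fB (v b b' : I4 → F) : (I4 → F) →ₗ[F] (I4 → F) :=
  (LinearMap.proj (Sum.inl 0)).smulRight v + (LinearMap.proj (Sum.inl 1)).smulRight b
    + (LinearMap.proj (Sum.inr 1)).smulRight b'

theorem fB_apply (v b b' x : I4 → F) :
    fB v b b' x = x (Sum.inl 0) • v + x (Sum.inl 1) • b + x (Sum.inr 1) • b' := rfl

/-- `x ↦ x₀ a + x₁ b + x₂ a' + x₃ b'` -/
def fC (a b a' b' : I4 → F) : (I4 → F) →ₗ[F] (I4 → F) :=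
  (LinearMap.proj (Sum.inl 0)).smulRight a + (LinearMap.proj (Sum.inl 1)).smulRight b
    + (LinearMap.proj (Sum.inl 2)).smulRight a' + (LinearMap.proj (Sum.inl 3)).smulRight b'

theorem fC_apply (a b a' b' x : I4 → F) :
    fC a b a' b' x = x (Sum.inl 0) • a + x (Sum.inl 1) • b + x (Sum.inl 2) • a'
      + x (Sum.inl 3) • b' := rfl

/-- the coordinates of the first kind of subspace -/
def SB : Set I4 := {Sum.inl 0, Sum.inl 1, Sum.inr 1}

theorem ev0_mem_SB : (ev 0 : I4 → F) ∈ supp (F := F) SB := by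
  intro j hj
  rcases j with j | j
  · rw [ev_inl, if_neg]
    rintro rfl
    exact hj (by simp [SB])
  · exact ev_inr 0 j

theorem ev1_mem_SB : (ev 1 : I4 → F) ∈ supp (F := F) SB := by
  intro j hj
  rcases j with j | j
  · rw [ev_inl, if_neg]
    rintro rfl
    exact hj (by simp [SB])
  · exact ev_inr 1 j

theorem fv1_mem_SB : (fv 1 : I4 → F) ∈ supp (F := F) SB := by
  intro j hj
  rcases j with j | j
  · exact fv_inl 1 j
  · rw [fv_inr, if_neg]
    rintro rfl
    exact hj (by simp [SB])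

theorem mem_SB_coords {x : I4 → F} (hx : x ∈ supp (F := F) SB) :
    x (Sum.inr 0) = 0 ∧ x (Sum.inl 2) = 0 ∧ x (Sum.inr 2) = 0 ∧ x (Sum.inl 3) = 0
      ∧ x (Sum.inr 3) = 0 := by
  refine ⟨hx _ ?_, hx _ ?_, hx _ ?_, hx _ ?_, hx _ ?_⟩ <;> simp [SB]

theorem Q_of_mem_SB {x : I4 → F} (hx : x ∈ supp (F := F) SB) :
    plusForm 4 F x = x (Sum.inl 1) * x (Sum.inr 1) := by
  obtain ⟨h0, h2, h2', h3, h3'⟩ := mem_SB_coords hx
  rw [Q4_apply, Fin.sum_univ_four, h0, h2, h3]
  simp

theorem eq_zero_of_mem_SB {x : I4 → F} (hx : x ∈ supp (F := F) SB) (h0 : x (Sum.inl 0) = 0)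
    (h1 : x (Sum.inl 1) = 0) (h1' : x (Sum.inr 1) = 0) : x = 0 := by
  obtain ⟨k0, k2, k2', k3, k3'⟩ := mem_SB_coords hx
  funext j
  rcases j with j | j <;> fin_cases j <;> simp [*]

/-- the coordinates of the solid -/
def SC : Set I4 := Set.range Sum.inl

theorem ev_mem_SC (i : Fin 4) : (ev i : I4 → F) ∈ supp (F := F) SC := by
  intro j hj
  rcases j with j | j
  · exact absurd ⟨j, rfl⟩ hj
  · exact ev_inr i j

theorem inS0_of_mem_SC {x : I4 → F} (hx : x ∈ supp (F := F) SC) : InS0 x := by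
  intro i
  apply hx
  rintro ⟨j, hj⟩
  exact Sum.inl_ne_inr hj

theorem eq_zero_of_mem_SC {x : I4 → F} (hx : x ∈ supp (F := F) SC)
    (h : ∀ i : Fin 4, x (Sum.inl i) = 0) : x = 0 := by
  funext j
  rcases j with j | j
  · exact h j
  · exact inS0_of_mem_SC hx j

end Cfsg.Agent.Helper12.D4
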