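import Mathlib
import Cfsg.Agent.Helper12.D4F

/-!
# Normality of `Inndiag` in `Aut(PΩ⁺₈(q))`, part G: the Witt reduction of pairs of root elements.
-/

set_option autoImplicit false
set_option linter.unusedSectionVars false
set_option linter.unusedVariables false
set_option linter.unusedSimpArgs false

namespace Cfsg.Agent.Helper12.D4

open Matrix QuadraticMap Cfsg.Agent.Helper44 Cfsg.Agent.Helper5 Cfsg.Agent.Helper5.AutO

variable {F : Type*} [Field F]

/-- an isometry carrying `e₀, e₁, c f₁` to a given triple `v, b₁, b₁'` with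
`c = B(b₁, b₁') ≠ 0` -/
theorem exists_std_b {v b₁ b₁' : I4 → F} (hL : IsSingLine (plusForm 4 F) v b₁)
    (hL' : IsSingLine (plusForm 4 F) v b₁') (hb : polar ⇑(plusForm 4 F) b₁ b₁' ≠ 0) :
    ∃ e : (I4 → F) ≃ₗ[F] (I4 → F), (∀ x, plusForm 4 F (e x) = plusForm 4 F x) ∧
      e (ev 0) = v ∧ e (ev 1) = b₁ ∧ e (polar ⇑(plusForm 4 F) b₁ b₁' • fv 1) = b₁' := by
  obtain ⟨c, hc⟩ : ∃ c : F, c = polar ⇑(plusForm 4 F) b₁ b₁' := ⟨_, rfl⟩
  rw [← hc] at hb ⊢
  have hvv : polar ⇑(plusForm 4 F) v v = 0 := polar_self_of_singular _ hL.Qp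
  have hbb : polar ⇑(plusForm 4 F) b₁ b₁ = 0 := polar_self_of_singular _ hL.Qr
  obtain ⟨e, he1, he2⟩ := exists_isometry_extend (nondegenerate_plusForm (F := F) 4)
    (supp SB) (fB v b₁ (c⁻¹ • b₁'))
    (by
      intro x hx
      rw [Q_of_mem_SB hx, fB_apply, QuadraticMap.map_add ⇑(plusForm 4 F), hL.Q_comb,
        QuadraticMap.map_smul, QuadraticMap.map_smul, hL'.Qr, QuadraticMap.polar_add_left,
        QuadraticMap.polar_smul_left, QuadraticMap.polar_smul_left,
        QuadraticMap.polar_smul_right, QuadraticMap.polar_smul_right,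
        QuadraticMap.polar_smul_right, QuadraticMap.polar_smul_right, hL'.polar_eq, ← hc]
      simp only [smul_eq_mul, mul_zero, zero_add, add_zero]
      field_simp)
    (by
      intro x hx h0
      rw [fB_apply] at h0
      have h1 := congrArg (fun y => polar ⇑(plusForm 4 F) b₁ y) h0
      simp only [QuadraticMap.polar_add_right, QuadraticMap.polar_smul_right, hL.polar_eq', hbb,
        ← hc, smul_eq_mul, mul_zero, zero_add, QuadraticMap.polar_zero_right] at h1
      have hγ : x (Sum.inr 1) = 0 := by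
        rw [inv_mul_cancel₀ hb, mul_one] at h1
        exact h1
      rw [hγ, zero_smul, add_zero] at h0
      obtain ⟨hα, hβ⟩ := hL.indep _ _ h0
      exact eq_zero_of_mem_SB hx hα hβ hγ)
  refine ⟨e, he1, ?_, ?_, ?_⟩
  · rw [he2 _ ev0_mem_SB, fB_apply]
    simp
  · rw [he2 _ ev1_mem_SB, fB_apply]
    simp
  · rw [map_smul, he2 _ fv1_mem_SB, fB_apply]
    simp [smul_smul, mul_inv_cancel₀ hb]

/-- an isometry carrying `e₀, e₁, e₂, e₃` to four independent, pairwise orthogonal singular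
vectors -/
theorem exists_std_c {a b a' b' : I4 → F} (h : IsSingLine (plusForm 4 F) a b)
    (h' : IsSingLine (plusForm 4 F) a' b') (hp : PerpL (plusForm 4 F) a b a' b')
    (hm : ¬ MeetL a b a' b') :
    ∃ e : (I4 → F) ≃ₗ[F] (I4 → F), (∀ x, plusForm 4 F (e x) = plusForm 4 F x) ∧
      e (ev 0) = a ∧ e (ev 1) = b ∧ e (ev 2) = a' ∧ e (ev 3) = b' := by
  obtain ⟨p1, p2, p3, p4⟩ := hp
  obtain ⟨e, he1, he2⟩ := exists_isometry_extend (nondegenerate_plusForm (F := F) 4)
    (supp SC) (fC a b a' b')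
    (by
      intro x hx
      rw [(inS0_of_mem_SC hx).Q, fC_apply, add_assoc, QuadraticMap.map_add ⇑(plusForm 4 F),
        h.Q_comb, h'.Q_comb, QuadraticMap.polar_add_left, QuadraticMap.polar_add_right,
        QuadraticMap.polar_add_right]
      simp only [QuadraticMap.polar_smul_left, QuadraticMap.polar_smul_right, p1, p2, p3, p4,
        smul_zero, add_zero])
    (by
      intro x hx h0
      rw [fC_apply] at h0
      obtain ⟨k0, k1, k2, k3⟩ := indep_of_not_meetL h h' hm h0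
      apply eq_zero_of_mem_SC hx
      intro i
      fin_cases i
      · exact k0
      · exact k1
      · exact k2
      · exact k3)
  refine ⟨e, he1, ?_, ?_, ?_, ?_⟩
  · rw [he2 _ (ev_mem_SC 0), fC_apply]
    simp
  · rw [he2 _ (ev_mem_SC 1), fC_apply]
    simp
  · rw [he2 _ (ev_mem_SC 2), fC_apply]
    simp
  · rw [he2 _ (ev_mem_SC 3), fC_apply]
    simp

variable [Fintype F] {p : ℕ} [hp : Fact p.Prime] [CharP F p]

/-- **Witt reduction**: every pair of commuting, non-collinear root elements of different root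
groups is the image under the automorphism of an isometry of a standard pair -/
theorem exists_std_of_nPc {x' y' : Cfsg.POmega F ⇑(plusForm 4 F)} (h : NPc p x' y') :
    ∃ (e : (I4 → F) ≃ₗ[F] (I4 → F)) (he : ∀ x, plusForm 4 F (e x) = plusForm 4 F x),
      (∃ c : F, c ≠ 0 ∧
        semiAut (isSemiSim_of_lin e he) (rE ctx4 (ev 0) (ev 1)) = x' ∧
        semiAut (isSemiSim_of_lin e he) (rE ctx4 (ev 0) (c • fv 1)) = y') ∨
      (semiAut (isSemiSim_of_lin e he) (rE ctx4 (ev 0) (ev 1)) = x' ∧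
        semiAut (isSemiSim_of_lin e he) (rE ctx4 (ev 2) (ev 3)) = y') := by
  obtain ⟨hx, hy, hns, hcomm, hncol⟩ := h
  obtain ⟨a, b, hab, rfl⟩ := (rtE_iff_exists ctx4 T4 x').1 hx
  obtain ⟨a', b', hab', rfl⟩ := (rtE_iff_exists ctx4 T4 y').1 hy
  have hns' : ¬ SameL a b a' b' := fun hs => hns ((same_rE_iff ctx4 T4 hab hab').2 hs)
  have hncol' : ¬ ColL (plusForm 4 F) a b a' b' := fun hc =>
    hncol ((col_rE_iff' ctx4 T4 hab hab').2 hc)
  have hL01 : IsSingLine (plusForm 4 F) (ev 0) (ev 1) := line_e0_e1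
  have hL23 : IsSingLine (plusForm 4 F) (ev 2) (ev 3) := line_ev' (by decide)
  by_cases hm : MeetL a b a' b'
  · -- lines through a common point
    obtain ⟨v, b₁, b₁', hL, hL', e1, e1', s1, s2, s1', s2'⟩ := exists_normal_form hab hab' hm
    have hb : polar ⇑(plusForm 4 F) b₁ b₁' ≠ 0 := by
      intro h0
      exact hncol' ⟨hns', ((perpL_normal_iff hL hL').2 h0).congr s2 s2', hm⟩
    obtain ⟨e, he, k0, k1, k2⟩ := exists_std_b hL hL' hb
    refine ⟨e, he, Or.inl ⟨polar ⇑(plusForm 4 F) b₁ b₁', hb, ?_, ?_⟩⟩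
    · rw [semiAut_lin_rE ctx4 e he hL01.Qp hL01.polar_eq, k0, k1]
      exact rE_congr ctx4 e1
    · rw [semiAut_lin_rE ctx4 e he (Q_ev 0) (line_e0_cf1 hb).polar_eq, k0, k2]
      exact rE_congr ctx4 e1'
  · -- disjoint orthogonal lines
    have hp' : PerpL (plusForm 4 F) a b a' b' := by
      rcases (commute_rE_iff ctx4 T4 hab hab').1 hcomm with h | h
      · exact h
      · exact absurd h hm
    obtain ⟨e, he, k0, k1, k2, k3⟩ := exists_std_c hab hab' hp' hm
    refine ⟨e, he, Or.inr ⟨?_, ?_⟩⟩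
    · rw [semiAut_lin_rE ctx4 e he hL01.Qp hL01.polar_eq, k0, k1]
    · rw [semiAut_lin_rE ctx4 e he hL23.Qp hL23.polar_eq, k2, k3]

end Cfsg.Agent.Helper12.D4
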