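import Mathlib

/-!
# Abstract group theory for `Out(PΩ⁻_{2m}(q))`, `q` odd

* internal direct products of two commuting subgroups;
* an automorphism of odd order of the dihedral group of order eight is trivial;
* a group with a normal dihedral subgroup of order eight and cyclic quotient of odd order `f` is
  `D₈ × C_f`;
* a commutative group of order `4f` with an element of order `2f` over a Klein four kernel is
  `C₂ × C_{2f}`.
-/

set_option autoImplicit false

namespace Cfsg.Agent.Helper12.GammaO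

section prod

/-- internal direct product of two elementwise commuting subgroups -/
theorem nonempty_mulEquiv_prod_of_commute {G : Type*} [Group G] [Finite G] (H Z : Subgroup G)
    (hc : ∀ h ∈ H, ∀ z ∈ Z, h * z = z * h) (hd : H ⊓ Z = ⊥)
    (hcard : Nat.card H * Nat.card Z = Nat.card G) : Nonempty (G ≃* ↥H × ↥Z) := by
  let φ : ↥H × ↥Z →* G :=
    { toFun := fun x => x.1.1 * x.2.1
      map_one' := by simp
      map_mul' := fun x y => by
        show (x.1.1 * y.1.1) * (x.2.1 * y.2.1) = (x.1.1 * x.2.1) * (y.1.1 * y.2.1)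
        have h := hc y.1.1 y.1.2 x.2.1 x.2.2
        calc x.1.1 * y.1.1 * (x.2.1 * y.2.1) = x.1.1 * (y.1.1 * x.2.1) * y.2.1 := by group
          _ = x.1.1 * (x.2.1 * y.1.1) * y.2.1 := by rw [h]
          _ = _ := by group }
  have hinj : Function.Injective φ := by
    rw [injective_iff_map_eq_one]
    rintro ⟨h, z⟩ hx
    have h0 : h.1 * z.1 = 1 := hx
    have h1 : h.1 = z.1⁻¹ := eq_inv_of_mul_eq_one_left h0
    have h2 : h.1 ∈ H ⊓ Z := ⟨h.2, by rw [h1]; exact Z.inv_mem z.2⟩
    rw [hd, Subgroup.mem_bot] at h2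
    rw [h2, one_mul] at h0
    exact Prod.ext (Subtype.ext h2) (Subtype.ext h0)
  have hbij : Function.Bijective φ := by
    rw [Nat.bijective_iff_injective_and_card]
    exact ⟨hinj, by rw [Nat.card_prod, hcard]⟩
  exact ⟨(MulEquiv.ofBijective φ hbij).symm⟩

end prod

section dihedral

open DihedralGroup

theorem dihedral_r_fixed (β : MulAut (DihedralGroup 4)) (h : β (r 1) = r 1) (j : ZMod 4) :
    β (r j) = r j := by
  have hj : (r j : DihedralGroup 4) = r 1 ^ j.val := by
    rw [r_one_pow, ZMod.natCast_zmod_val]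
  rw [hj, map_pow, h]

theorem dihedral_sr_image (β : MulAut (DihedralGroup 4)) (h : β (r 1) = r 1) :
    ∃ i : ZMod 4, β (sr 0) = sr i := by
  cases hβ : β (sr 0) with
  | r j =>
    exfalso
    have h1 : β (sr 0) = β (r j) := by rw [hβ, dihedral_r_fixed β h]
    have h2 := β.injective h1
    cases h2
  | sr i => exact ⟨i, rfl⟩

theorem dihedral_pow_sr (β : MulAut (DihedralGroup 4)) (h : β (r 1) = r 1) (i : ZMod 4)
    (h2 : β (sr 0) = sr i) (n : ℕ) : (β ^ n) (sr 0) = sr ((n : ZMod 4) * i) := by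
  induction n with
  | zero => simp
  | succ n ih =>
    rw [pow_succ', MulAut.mul_apply, ih]
    have h3 : (sr ((n : ZMod 4) * i) : DihedralGroup 4) = sr 0 * r ((n : ZMod 4) * i) := by
      rw [sr_mul_r, zero_add]
    rw [h3, map_mul, h2, dihedral_r_fixed β h, sr_mul_r]
    congr 1
    push_cast
    ring

theorem dihedral_pow_r_one (β : MulAut (DihedralGroup 4)) (h : β (r 1) = r 1) (n : ℕ) :
    (β ^ n) (r 1) = r 1 := by
  induction n with
  | zero => simp
  | succ n ih => rw [pow_succ', MulAut.mul_apply, ih, h]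

theorem dihedral_pow_four (β : MulAut (DihedralGroup 4)) (h : β (r 1) = r 1) : β ^ 4 = 1 := by
  obtain ⟨i, hi⟩ := dihedral_sr_image β h
  have h4 : (β ^ 4) (sr 0) = sr 0 := by
    rw [dihedral_pow_sr β h i hi 4]
    congr 1
    have : ((4 : ℕ) : ZMod 4) = 0 := by decide
    rw [this, zero_mul]
  have hr : ∀ j : ZMod 4, (β ^ 4) (r j) = r j := by
    intro j
    apply dihedral_r_fixed
    exact dihedral_pow_r_one β h 4
  ext x
  cases x with
  | r j => rw [hr]; rfl
  | sr j =>
    have h3 : (sr j : DihedralGroup 4) = sr 0 * r j := by rw [sr_mul_r, zero_add]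
    rw [h3, map_mul, h4, hr]
    rfl

theorem dihedral_sq_fixes_r (α : MulAut (DihedralGroup 4)) : (α ^ 2) (r 1) = r 1 := by
  have h1 : ∀ y : DihedralGroup 4, y * y ≠ 1 → y = r 1 ∨ y = r 3 := by decide
  have h2 : α (r 1) * α (r 1) ≠ 1 := by
    rw [← map_mul]
    intro h
    have h3 : (r 1 * r 1 : DihedralGroup 4) = 1 := by
      apply α.injective
      rw [h, map_one]
    revert h3
    decide
  rw [pow_two, MulAut.mul_apply]
  rcases h1 _ h2 with h | h
  · rw [h, h]
  · rw [h]
    have h3 : (r 3 : DihedralGroup 4) = r 1 ^ 3 := by decide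
    rw [h3, map_pow, h]
    decide

/-- every automorphism of the dihedral group of order eight has order dividing eight -/
theorem dihedral_aut_pow_eight (α : MulAut (DihedralGroup 4)) : α ^ 8 = 1 := by
  have h := dihedral_pow_four (α ^ 2) (dihedral_sq_fixes_r α)
  rw [← pow_mul] at h
  exact h

/-- an automorphism of odd order of the dihedral group of order eight is trivial -/
theorem dihedral_aut_eq_one_of_odd (α : MulAut (DihedralGroup 4)) {f : ℕ} (hf : Odd f)
    (h : α ^ f = 1) : α = 1 := by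
  have h1 : orderOf α ∣ 8 := orderOf_dvd_of_pow_eq_one (dihedral_aut_pow_eight α)
  have h2 : orderOf α ∣ f := orderOf_dvd_of_pow_eq_one h
  have h3 : orderOf α ∣ Nat.gcd 8 f := Nat.dvd_gcd h1 h2
  have h4 : Nat.gcd 8 f = 1 := by
    have : Nat.Coprime (2 ^ 3) f := Nat.Coprime.pow_left 3 (Nat.coprime_two_left.2 hf)
    exact this
  rw [h4, Nat.dvd_one] at h3
  exact orderOf_eq_one_iff.1 h3

end dihedral

section structure_lemmas

/-- a group with a normal dihedral subgroup of order eight and cyclic quotient of odd order `f` -/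
theorem nonempty_mulEquiv_dihedral_prod {G C : Type*} [Group G] [Finite G] [Group C] [IsCyclic C]
    (t : G →* C) (ht : Function.Surjective t) {f : ℕ} (hfodd : Odd f) (hC : Nat.card C = f)
    (e : ↥t.ker ≃* DihedralGroup 4) :
    Nonempty (G ≃* DihedralGroup 4 × Multiplicative (ZMod f)) := by
  have hfpos : 0 < f := hfodd.pos
  have hK8 : Nat.card ↥t.ker = 8 := by
    rw [Nat.card_congr e.toEquiv, DihedralGroup.nat_card]
  obtain ⟨γ, hγ⟩ := IsCyclic.exists_generator (α := C)
  have hoγ : orderOf γ = f := by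
    rw [orderOf_eq_card_of_forall_mem_zpowers hγ, hC]
  obtain ⟨o, ho⟩ := ht γ
  set c : G := o ^ 8 with hc
  have hof : o ^ f ∈ t.ker := by
    rw [MonoidHom.mem_ker, map_pow, ho, ← hoγ, pow_orderOf_eq_one]
  have hcf : c ^ f = 1 := by
    rw [hc, ← pow_mul, mul_comm, pow_mul]
    have h1 : (⟨o ^ f, hof⟩ : ↥t.ker) ^ 8 = 1 := by
      rw [← hK8]
      exact pow_card_eq_one'
    exact congrArg Subtype.val h1
  have hcop : Nat.Coprime f 8 := by
    have : Nat.Coprime f (2 ^ 3) := Nat.Coprime.pow_right 3 (Nat.coprime_two_right.2 hfodd)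
    exact this
  have htc : orderOf (t c) = f := by
    rw [hc, map_pow, ho, Nat.Coprime.orderOf_pow (by rw [hoγ]; exact hcop), hoγ]
  have hoc : orderOf c = f := by
    apply Nat.dvd_antisymm (orderOf_dvd_of_pow_eq_one hcf)
    rw [← htc]
    exact orderOf_map_dvd t c
  -- `c` centralises the kernel
  have hcent : ∀ k ∈ t.ker, k * c = c * k := by
    intro k hk
    set α : MulAut ↥t.ker := MulAut.conjNormal c with hα
    have h1 : α ^ f = 1 := by
      rw [hα, ← map_pow, hcf, map_one]
    have h2 : (MulAut.congr e α) ^ f = 1 := by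
      rw [← map_pow, h1, map_one]
    have h3 := dihedral_aut_eq_one_of_odd _ hfodd h2
    have h4 : α = 1 := by
      have := (MulAut.congr e).injective (h3.trans (map_one (MulAut.congr e)).symm)
      exact this
    have h5 : ((α ⟨k, hk⟩ : ↥t.ker) : G) = c * k * c⁻¹ := MulAut.conjNormal_apply c ⟨k, hk⟩
    rw [h4, MulAut.one_apply] at h5
    have h6 : k = c * k * c⁻¹ := h5
    calc k * c = (c * k * c⁻¹) * c := by rw [← h6]
      _ = c * k := by group
  have hcomm : ∀ h ∈ t.ker, ∀ z ∈ Subgroup.zpowers c, h * z = z * h := by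
    intro h hh z hz
    obtain ⟨n, rfl⟩ := Subgroup.mem_zpowers_iff.1 hz
    exact ((show Commute h c from hcent h hh).zpow_right n).eq
  have hdisj : t.ker ⊓ Subgroup.zpowers c = ⊥ := by
    rw [eq_bot_iff]
    rintro x ⟨hx1, hx2⟩
    obtain ⟨n, rfl⟩ := Subgroup.mem_zpowers_iff.1 hx2
    rw [Subgroup.mem_bot]
    have h1 : t c ^ n = 1 := by
      rw [← map_zpow]
      exact hx1
    have h2 : (orderOf (t c) : ℤ) ∣ n := orderOf_dvd_iff_zpow_eq_one.2 h1
    rw [htc, ← hoc] at h2
    exact orderOf_dvd_iff_zpow_eq_one.1 h2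
  have hZ : Nat.card ↥(Subgroup.zpowers c) = f := by
    rw [Nat.card_zpowers, hoc]
  have hG : Nat.card ↥t.ker * Nat.card ↥(Subgroup.zpowers c) = Nat.card G := by
    have h1 := Subgroup.card_mul_index t.ker
    rw [Subgroup.index_ker, MonoidHom.range_eq_top.2 ht, Subgroup.card_top, hC] at h1
    rw [hZ]
    exact h1
  obtain ⟨e1⟩ := nonempty_mulEquiv_prod_of_commute t.ker (Subgroup.zpowers c) hcomm hdisj hG
  have hcyc : IsCyclic ↥(Subgroup.zpowers c) := inferInstance
  have e2 := zmodCyclicMulEquiv hcyc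
  rw [hZ] at e2
  exact ⟨e1.trans (MulEquiv.prodCongr e e2.symm)⟩

/-- a commutative group of order `4f`, with an element `g` of order `2f` mapping onto an element of
order `f`, whose kernel is a Klein four group -/
theorem nonempty_mulEquiv_two_prod_cyclic {G C : Type*} [Group G] [Finite G] [Group C]
    (t : G →* C) (hcomm : ∀ a b : G, a * b = b * a) {f : ℕ} (hf : 0 < f)
    (hcard : Nat.card G = 4 * f) (hker : Nat.card ↥t.ker = 4)
    (hK : ∀ k ∈ t.ker, k * k = 1) (g : G) (hg : orderOf (t g) = f) (hgf : g ^ f ≠ 1) :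
    Nonempty (G ≃* Multiplicative (ZMod 2 × ZMod (2 * f))) := by
  have hgfk : g ^ f ∈ t.ker := by
    rw [MonoidHom.mem_ker, map_pow, ← hg, pow_orderOf_eq_one]
  have hg2f : g ^ (2 * f) = 1 := by
    rw [mul_comm, pow_mul, pow_two]
    exact hK _ hgfk
  have hog : orderOf g = 2 * f := by
    have h1 : f ∣ orderOf g := hg ▸ orderOf_map_dvd t g
    have h2 : orderOf g ∣ 2 * f := orderOf_dvd_of_pow_eq_one hg2f
    obtain ⟨c, hc⟩ := h1
    have hc2 : c ∣ 2 := by
      rw [hc, mul_comm 2 f] at h2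
      exact Nat.dvd_of_mul_dvd_mul_left hf h2
    rcases (Nat.dvd_prime Nat.prime_two).1 hc2 with rfl | rfl
    · exfalso
      apply hgf
      rw [mul_one] at hc
      rw [← hc]
      exact pow_orderOf_eq_one g
    · rw [hc, mul_comm]
  -- an involution of the kernel outside `⟨g^f⟩`
  have hogf : orderOf (g ^ f) = 2 := by
    apply orderOf_eq_prime
    · rw [pow_two]
      exact hK _ hgfk
    · exact hgf
  obtain ⟨z, hzk, hzn⟩ : ∃ z ∈ t.ker, z ∉ Subgroup.zpowers (g ^ f) := by
    by_contra hcon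
    push Not at hcon
    have hle : t.ker ≤ Subgroup.zpowers (g ^ f) := hcon
    have h1 := Subgroup.card_le_of_le hle
    rw [hker, Nat.card_zpowers, hogf] at h1
    omega
  have hz1 : z ≠ 1 := by
    rintro rfl
    exact hzn (one_mem _)
  have hoz : orderOf z = 2 := by
    apply orderOf_eq_prime
    · rw [pow_two]
      exact hK _ hzk
    · exact hz1
  have hinter : Subgroup.zpowers g ⊓ t.ker ≤ Subgroup.zpowers (g ^ f) := by
    rintro x ⟨hx1, hx2⟩
    obtain ⟨n, rfl⟩ := Subgroup.mem_zpowers_iff.1 hx1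
    have h1 : t g ^ n = 1 := by
      rw [← map_zpow]
      exact hx2
    have h2 : (orderOf (t g) : ℤ) ∣ n := orderOf_dvd_iff_zpow_eq_one.2 h1
    rw [hg] at h2
    obtain ⟨j, rfl⟩ := h2
    rw [zpow_mul, zpow_natCast]
    exact Subgroup.zpow_mem_zpowers _ j
  have hdisj : Subgroup.zpowers z ⊓ Subgroup.zpowers g = ⊥ := by
    rw [eq_bot_iff]
    rintro x ⟨hx1, hx2⟩
    rw [Subgroup.mem_bot]
    by_contra hx
    have hxk : x ∈ t.ker := by
      obtain ⟨n, rfl⟩ := Subgroup.mem_zpowers_iff.1 hx1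
      exact t.ker.zpow_mem hzk n
    have hxg : x ∈ Subgroup.zpowers (g ^ f) := hinter ⟨hx2, hxk⟩
    -- `x = z` as `⟨z⟩` has order two
    obtain ⟨n, hn⟩ := Subgroup.mem_zpowers_iff.1 hx1
    have hxz : x = z := by
      rcases Int.even_or_odd' n with ⟨j, rfl | rfl⟩
      · exfalso
        apply hx
        rw [← hn, zpow_mul, zpow_two, hK _ hzk, one_zpow]
      · rw [← hn, zpow_add, zpow_mul, zpow_two, hK _ hzk, one_zpow, one_mul, zpow_one]
    rw [hxz] at hxg
    exact hzn hxg
  have hcard2 : Nat.card ↥(Subgroup.zpowers z) * Nat.card ↥(Subgroup.zpowers g) = Nat.card G := by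
    rw [Nat.card_zpowers, Nat.card_zpowers, hoz, hog, hcard]
    ring
  obtain ⟨e1⟩ := nonempty_mulEquiv_prod_of_commute (Subgroup.zpowers z) (Subgroup.zpowers g)
    (fun h _ y _ => hcomm h y) hdisj hcard2
  have hcz : IsCyclic ↥(Subgroup.zpowers z) := inferInstance
  have hcg : IsCyclic ↥(Subgroup.zpowers g) := inferInstance
  have e2 := zmodCyclicMulEquiv hcz
  have e3 := zmodCyclicMulEquiv hcg
  rw [Nat.card_zpowers, hoz] at e2
  rw [Nat.card_zpowers, hog] at e3
  exact ⟨(e1.trans (MulEquiv.prodCongr e2.symm e3.symm)).trans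
    (MulEquiv.prodMultiplicative (ZMod 2) (ZMod (2 * f))).symm⟩

end structure_lemmas

end Cfsg.Agent.Helper12.GammaO
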