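import Mathlib
import Cfsg.Agent.Helper12.GammaOF
import Cfsg.Agent.Helper44.StdForms
import Cfsg.Agent.Helper44.MinusForm
import Cfsg.Agent.Helper5.OrthSimpleStd

/-!
# Semisimilarities of the minus-type form for every field automorphism

Two anisotropic binary forms `x² + a x y + b y²`, `x² + a' x y + b' y²` over a finite field are
isometric by a triangular substitution; hence for every field automorphism `σ` the form
`quadFormMinus k F a b` has a `σ`-semilinear isometry.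
-/

set_option autoImplicit false
set_option linter.unusedSectionVars false

namespace Cfsg.Agent.Helper12.GammaO

open Matrix Module QuadraticMap Cfsg.Agent.Helper44

section binary

variable {F : Type*} [Field F] [Fintype F]

/-- odd characteristic: the triangular substitution -/
theorem exists_binary_subst_odd (h2 : (2 : F) ≠ 0) (a b a' b' : F)
    (hab : ∀ z₁ z₂ : F, z₁ ^ 2 + a * z₁ * z₂ + b * z₂ ^ 2 = 0 → z₁ = 0 ∧ z₂ = 0)
    (hab' : ∀ z₁ z₂ : F, z₁ ^ 2 + a' * z₁ * z₂ + b' * z₂ ^ 2 = 0 → z₁ = 0 ∧ z₂ = 0) :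
    ∃ t e : F, e ≠ 0 ∧ 2 * t + a * e = a' ∧ t ^ 2 + a * t * e + b * e ^ 2 = b' := by
  have hD : ¬ IsSquare (a ^ 2 - 4 * b) := not_isSquare_disc_of_anisotropic h2 a b hab
  have hD' : ¬ IsSquare (a' ^ 2 - 4 * b') := not_isSquare_disc_of_anisotropic h2 a' b' hab'
  have hD0 : a ^ 2 - 4 * b ≠ 0 := by
    intro h0
    exact hD ⟨0, by rw [h0, mul_zero]⟩
  have hD'0 : a' ^ 2 - 4 * b' ≠ 0 := by
    intro h0
    exact hD' ⟨0, by rw [h0, mul_zero]⟩
  obtain ⟨s, hs⟩ := (isSquare_mul_nonsquare_iff hD'0 hD).2 hD'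
  set D := a ^ 2 - 4 * b with hDdef
  set D' := a' ^ 2 - 4 * b' with hD'def
  have hs0 : s ≠ 0 := by
    rintro rfl
    rw [mul_zero] at hs
    exact mul_ne_zero hD'0 hD0 hs
  have h4 : (4 : F) ≠ 0 := by
    have : (4 : F) = 2 * 2 := by norm_num
    rw [this]
    exact mul_ne_zero h2 h2
  refine ⟨(a' - a * (s / D)) / 2, s / D, div_ne_zero hs0 hD0, by field_simp; ring, ?_⟩
  have he : (s / D) ^ 2 * D = D' := by
    field_simp
    rw [pow_two, ← hs]
    ring
  have hb' : b' = (a' ^ 2 - D') / 4 := by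
    rw [hD'def]
    field_simp
    ring
  have hb : b = (a ^ 2 - D) / 4 := by
    rw [hDdef]
    field_simp
    ring
  rw [hb', ← he, hb]
  field_simp
  ring

/-- the Artin–Schreier map in characteristic two -/
noncomputable def wp (F : Type*) [Field F] [CharP F 2] : F →+ F where
  toFun x := x * x + x
  map_zero' := by simp
  map_add' x y := by
    rw [CharTwo.add_mul_self]
    abel

theorem wp_apply [CharP F 2] (x : F) : wp F x = x * x + x := rfl

theorem index_range_wp [CharP F 2] : (wp F).range.index = 2 := by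
  have hker : Nat.card ↥(wp F).ker = 2 := by
    rw [Nat.card_eq_two_iff' (0 : ↥(wp F).ker)]
    refine ⟨⟨1, by rw [AddMonoidHom.mem_ker, wp_apply, mul_one]; exact CharTwo.add_self_eq_zero 1⟩,
      ?_, ?_⟩
    · intro h
      have := congrArg Subtype.val h
      exact one_ne_zero this
    · intro y hy
      apply Subtype.ext
      have h1 : (y : F) * y + y = 0 := y.2
      have h2 : (y : F) * ((y : F) + 1) = 0 := by rw [mul_add, mul_one]; exact h1
      rcases mul_eq_zero.1 h2 with h | h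
      · exfalso
        exact hy (Subtype.ext h)
      · show (y : F) = 1
        have h3 : (y : F) = -1 := eq_neg_of_add_eq_zero_left h
        rw [h3]
        exact CharTwo.neg_eq 1
  have h1 := AddSubgroup.card_mul_index (wp F).ker
  have h2 := AddSubgroup.card_mul_index (wp F).range
  rw [AddSubgroup.index_ker, hker] at h1
  have hpos : 0 < Nat.card ↥(wp F).range := Nat.card_pos
  have : Nat.card ↥(wp F).range * (wp F).range.index = Nat.card ↥(wp F).range * 2 := by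
    rw [h2, ← h1]
    ring
  exact Nat.eq_of_mul_eq_mul_left hpos this

/-- characteristic two: the triangular substitution -/
theorem exists_binary_subst_two [CharP F 2] (a b a' b' : F)
    (hab : ∀ z₁ z₂ : F, z₁ ^ 2 + a * z₁ * z₂ + b * z₂ ^ 2 = 0 → z₁ = 0 ∧ z₂ = 0)
    (hab' : ∀ z₁ z₂ : F, z₁ ^ 2 + a' * z₁ * z₂ + b' * z₂ ^ 2 = 0 → z₁ = 0 ∧ z₂ = 0) :
    ∃ t e : F, e ≠ 0 ∧ 2 * t + a * e = a' ∧ t ^ 2 + a * t * e + b * e ^ 2 = b' := by
  have h2 : (2 : F) = 0 := CharTwo.two_eq_zero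
  have ha : a ≠ 0 := Cfsg.Agent.Helper5.a_ne_zero_of_aniso' h2 a b hab
  have ha' : a' ≠ 0 := Cfsg.Agent.Helper5.a_ne_zero_of_aniso' h2 a' b' hab'
  -- `b / a²` is not in the image of `wp`
  have hnot : ∀ (a b : F), a ≠ 0 →
      (∀ z₁ z₂ : F, z₁ ^ 2 + a * z₁ * z₂ + b * z₂ ^ 2 = 0 → z₁ = 0 ∧ z₂ = 0) →
      b / a ^ 2 ∉ (wp F).range := by
    intro a b ha hab
    rintro ⟨s, hs⟩
    rw [wp_apply] at hs
    have h := hab s (1 / a) (by
      have h1 : s ^ 2 + a * s * (1 / a) + b * (1 / a) ^ 2 = (s * s + s) + b / a ^ 2 := by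
        field_simp
      rw [h1, hs]
      exact CharTwo.add_self_eq_zero _)
    exact one_div_ne_zero ha h.2
  have hmem : b / a ^ 2 + b' / a' ^ 2 ∈ (wp F).range := by
    rw [AddSubgroup.add_mem_iff_of_index_two index_range_wp]
    exact ⟨fun h => absurd h (hnot a b ha hab), fun h => absurd h (hnot a' b' ha' hab')⟩
  obtain ⟨s, hs⟩ := hmem
  rw [wp_apply] at hs
  refine ⟨s * a', a' / a, div_ne_zero ha' ha, ?_, ?_⟩
  · rw [h2, zero_mul, zero_add]
    field_simp
  · have h1 : (s * a') ^ 2 + a * (s * a') * (a' / a) + b * (a' / a) ^ 2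
        = a' ^ 2 * ((s * s + s) + b / a ^ 2) := by
      field_simp
    rw [h1, hs]
    have h3 : b / a ^ 2 + b' / a' ^ 2 + b / a ^ 2 = b' / a' ^ 2 := by
      have := CharTwo.add_self_eq_zero (b / a ^ 2)
      calc b / a ^ 2 + b' / a' ^ 2 + b / a ^ 2 = (b / a ^ 2 + b / a ^ 2) + b' / a' ^ 2 := by ring
        _ = b' / a' ^ 2 := by rw [this, zero_add]
    rw [h3]
    field_simp

theorem exists_binary_subst (a b a' b' : F)
    (hab : ∀ z₁ z₂ : F, z₁ ^ 2 + a * z₁ * z₂ + b * z₂ ^ 2 = 0 → z₁ = 0 ∧ z₂ = 0)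
    (hab' : ∀ z₁ z₂ : F, z₁ ^ 2 + a' * z₁ * z₂ + b' * z₂ ^ 2 = 0 → z₁ = 0 ∧ z₂ = 0) :
    ∃ t e : F, e ≠ 0 ∧ 2 * t + a * e = a' ∧ t ^ 2 + a * t * e + b * e ^ 2 = b' := by
  by_cases h2 : (2 : F) = 0
  · have : CharP F 2 := CharTwo.of_one_ne_zero_of_two_eq_zero one_ne_zero h2
    exact exists_binary_subst_two a b a' b' hab hab'
  · exact exists_binary_subst_odd h2 a b a' b' hab hab'

end binary

section minus

variable {F : Type*} [Field F]

/-- the block matrix `1 ⊕ [[1, t], [0, e]]` -/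
def triMat (k : ℕ) (t e : F) :
    Matrix ((Fin k ⊕ Fin k) ⊕ Fin 2) ((Fin k ⊕ Fin k) ⊕ Fin 2) F :=
  Matrix.fromBlocks 1 0 0 !![1, t; 0, e]

theorem det_triMat (k : ℕ) (t e : F) : (triMat k t e).det = e := by
  unfold triMat
  rw [Matrix.det_fromBlocks_zero₁₂, Matrix.det_one, one_mul, Matrix.det_fin_two_of]
  ring

theorem triMat_mulVec (k : ℕ) (t e : F) (w : (Fin k ⊕ Fin k) ⊕ Fin 2 → F) :
    triMat k t e *ᵥ w
      = Sum.elim (w ∘ Sum.inl) ![w (.inr 0) + t * w (.inr 1), e * w (.inr 1)] := by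
  unfold triMat
  rw [Matrix.fromBlocks_mulVec]
  simp only [Matrix.one_mulVec, Matrix.zero_mulVec, add_zero, zero_add]
  congr 1
  funext i
  fin_cases i <;> simp [Matrix.mulVec, dotProduct, Fin.sum_univ_two]

theorem quadFormMinus_triMat (k : ℕ) (a b a' b' t e : F) (h1 : 2 * t + a * e = a')
    (h2 : t ^ 2 + a * t * e + b * e ^ 2 = b') (w : (Fin k ⊕ Fin k) ⊕ Fin 2 → F) :
    Cfsg.quadFormMinus k F a b (triMat k t e *ᵥ w) = Cfsg.quadFormMinus k F a' b' w := by
  rw [triMat_mulVec]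
  unfold Cfsg.quadFormMinus
  simp only [Sum.elim_inl, Sum.elim_inr, Function.comp_apply, Matrix.cons_val_zero,
    Matrix.cons_val_one]
  rw [← h1, ← h2]
  ring

theorem quadFormMinus_map (k : ℕ) (a b : F) (σ : F ≃+* F) (v : (Fin k ⊕ Fin k) ⊕ Fin 2 → F) :
    Cfsg.quadFormMinus k F (σ a) (σ b) (fun i => σ (v i)) = σ (Cfsg.quadFormMinus k F a b v) := by
  unfold Cfsg.quadFormMinus
  simp only [map_add, map_pow, map_sum, map_mul]

/-- every field automorphism occurs in a semisimilarity pair of the minus form -/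
theorem exists_isSemisimilarityPair_minus [Fintype F] (k : ℕ) (a b : F)
    (hab : ∀ z₁ z₂ : F, z₁ ^ 2 + a * z₁ * z₂ + b * z₂ ^ 2 = 0 → z₁ = 0 ∧ z₂ = 0)
    (σ : F ≃+* F) :
    ∃ g : GL ((Fin k ⊕ Fin k) ⊕ Fin 2) F,
      Cfsg.IsSemisimilarityPair (Cfsg.quadFormMinus k F a b) g σ := by
  have hab' : ∀ z₁ z₂ : F, z₁ ^ 2 + σ a * z₁ * z₂ + σ b * z₂ ^ 2 = 0 → z₁ = 0 ∧ z₂ = 0 := by
    intro z₁ z₂ h
    have h1 := congrArg σ.symm h
    simp only [map_add, map_pow, map_mul, map_zero, RingEquiv.symm_apply_apply] at h1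
    obtain ⟨h3, h4⟩ := hab _ _ h1
    exact ⟨by simpa using h3, by simpa using h4⟩
  obtain ⟨t, e, he, h1, h2⟩ := exists_binary_subst a b (σ a) (σ b) hab hab'
  refine ⟨Matrix.GeneralLinearGroup.mkOfDetNeZero (triMat k t e) (by rw [det_triMat]; exact he),
    1, fun v => ?_⟩
  rw [Units.val_one, one_mul]
  show Cfsg.quadFormMinus k F a b (triMat k t e *ᵥ fun i => σ (v i)) = _
  rw [quadFormMinus_triMat k a b (σ a) (σ b) t e h1 h2, quadFormMinus_map]

end minus

end Cfsg.Agent.Helper12.GammaO
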