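import Mathlib
import Cfsg.Agent.Helper12.GammaOG
import Cfsg.Agent.S2728
import Cfsg.Agent.Helper14.AutCount

/-!
# `|Aut(PΩ⁻_{2m}(q))|`, conditional on `gammaPOmega = ⊤`
-/

set_option autoImplicit false
set_option linter.unusedSectionVars false

namespace Cfsg.Agent.Helper12.GammaO

open Matrix Module QuadraticMap Cfsg.Agent.Helper44

variable {F : Type*} [Field F]

theorem card_index_minus (k : ℕ) : Fintype.card ((Fin k ⊕ Fin k) ⊕ Fin 2) = 2 * (k + 1) := by
  rw [Fintype.card_sum, Fintype.card_sum, Fintype.card_fin, Fintype.card_fin]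
  omega

theorem even_cond (m q : ℕ) (hm : 1 ≤ m) (hq : Odd q) :
    Even (m * (q - 1) / 2) ↔ ¬ (Even (m - 1) ∧ q % 4 = 3) := by
  have hq2 := Nat.odd_iff.1 hq
  have hdiv : 2 ∣ q - 1 := by omega
  rw [Nat.mul_div_assoc _ hdiv, Nat.even_mul, Nat.even_iff, Nat.even_iff, Nat.even_iff]
  omega

/-- `|Aut(PΩ⁻_{2m}(q))|`, if all automorphisms come from semisimilarities -/
theorem card_mulAut_minusForm [Fintype F] (p f : ℕ) [Fact p.Prime] (hf : 1 ≤ f)
    (hF : Fintype.card F = p ^ f) (m : ℕ) (hm : 4 ≤ m) (a b : F)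
    (hab : ∀ z₁ z₂ : F, z₁ ^ 2 + a * z₁ * z₂ + b * z₂ ^ 2 = 0 → z₁ = 0 ∧ z₂ = 0)
    (htop : Cfsg.gammaPOmega F (Cfsg.quadFormMinus (m - 1) F a b) = ⊤) :
    Nat.card (MulAut (Cfsg.POmega F (Cfsg.quadFormMinus (m - 1) F a b)))
      = (if p = 2 then 2 else (if Even (m * (p ^ f - 1) / 2) then 4 else 8)) * f
        * Nat.card (Cfsg.POmega F (Cfsg.quadFormMinus (m - 1) F a b)) := by
  have hk3 : 3 ≤ m - 1 := by omega
  have hQ := Cfsg.Agent.Helper5.nondegenerate_minusForm_of_aniso (F := F) (m - 1) a b hab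
  have hn : 7 ≤ Fintype.card ((Fin (m - 1) ⊕ Fin (m - 1)) ⊕ Fin 2) := by
    rw [card_index_minus]
    omega
  have h0 := card_mulAut_of_gamma_eq_top (minusForm (m - 1) F a b) hQ hn
    (fun σ => exists_isSemisimilarityPair_minus (m - 1) a b hab σ) htop
  rw [Cfsg.Agent.Helper14.AutPSL.card_ringAut p f hf hF] at h0
  have h0' : Nat.card (MulAut (Cfsg.POmega F (Cfsg.quadFormMinus (m - 1) F a b)))
      = f * Nat.card ↥(Cfsg.pgoAut F (Cfsg.quadFormMinus (m - 1) F a b)) := h0
  rw [h0']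
  by_cases hp : p = 2
  · rw [if_pos hp]
    have hchar : CharP F p := charP_of_card_eq_prime_pow hF
    rw [hp] at hchar
    have h1 := card_pgoAut_two' (minusForm (m - 1) F a b) hQ hn
    have h1' : Nat.card ↥(Cfsg.pgoAut F (Cfsg.quadFormMinus (m - 1) F a b))
        = 2 * Nat.card (Cfsg.POmega F (Cfsg.quadFormMinus (m - 1) F a b)) := h1
    rw [h1']
    ring
  · rw [if_neg hp]
    have hpo : Odd p := (Fact.out : p.Prime).odd_of_ne_two hp
    have hq : Odd (Fintype.card F) := by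
      rw [hF]
      exact hpo.pow
    have h2 : (2 : F) ≠ 0 := two_ne_zero_of_odd_card rfl hq
    have hcond := even_cond m (p ^ f) (by omega) hpo.pow
    by_cases hc : Even (m - 1) ∧ Fintype.card F % 4 = 3
    · obtain ⟨φ, hs, hk⟩ := (Cfsg.Agent.S2728.result hq hk3 a b hab).1 hc
      have h1 := card_pgoAut_of_hom (minusForm (m - 1) F a b) h2 hQ hn φ hs hk
      have h1' : Nat.card ↥(Cfsg.pgoAut F (Cfsg.quadFormMinus (m - 1) F a b))
          = Nat.card (DihedralGroup 4)
            * Nat.card (Cfsg.POmega F (Cfsg.quadFormMinus (m - 1) F a b)) := h1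
      rw [h1', DihedralGroup.nat_card]
      have hne : ¬ Even (m * (p ^ f - 1) / 2) := by
        rw [hcond, not_not, ← hF]
        exact hc
      rw [if_neg hne]
      ring
    · obtain ⟨φ, hs, hk⟩ := (Cfsg.Agent.S2728.result hq hk3 a b hab).2 hc
      have h1 := card_pgoAut_of_hom (minusForm (m - 1) F a b) h2 hQ hn φ hs hk
      have h1' : Nat.card ↥(Cfsg.pgoAut F (Cfsg.quadFormMinus (m - 1) F a b))
          = Nat.card (Multiplicative (ZMod 2 × ZMod 2))
            * Nat.card (Cfsg.POmega F (Cfsg.quadFormMinus (m - 1) F a b)) := h1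
      have h4 : Nat.card (Multiplicative (ZMod 2 × ZMod 2)) = 4 := by
        rw [Nat.card_eq_fintype_card]
        rfl
      rw [h1', h4]
      have he : Even (m * (p ^ f - 1) / 2) := by
        rw [hcond, ← hF]
        exact hc
      rw [if_pos he]
      ring

end Cfsg.Agent.Helper12.GammaO
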