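import Mathlib
import Cfsg.Agent.Helper12.GammaOG

/-!
# Characteristic two: the Frobenius automorphism, its order, and the absolute trace

`frob2 F : F ≃+* F`, `orderOf (frob2 F) = f` when `|F| = 2^f`; `trS i x = Σ_{j<i} x^(2^j)` and
`trS f β = 1` when `β` is not in the image of the Artin–Schreier map `wp`.
-/

set_option autoImplicit false
set_option linter.unusedSectionVars false

namespace Cfsg.Agent.Helper12.GammaO

open Polynomial

variable {F : Type*} [Field F] [Fintype F] [CharP F 2]

/-- the Frobenius automorphism `x ↦ x²` -/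
noncomputable def frob2 (F : Type*) [Field F] [Fintype F] [CharP F 2] : F ≃+* F :=
  RingEquiv.ofBijective (frobenius F 2)
    (Finite.injective_iff_bijective.1 (frobenius F 2).injective)

theorem frob2_apply (x : F) : frob2 F x = x ^ 2 := rfl

theorem frob2_pow_apply (i : ℕ) (x : F) : (frob2 F ^ i) x = x ^ (2 ^ i) := by
  induction i generalizing x with
  | zero => simp
  | succ i ih =>
    rw [pow_succ', RingAut.mul_apply, ih, frob2_apply, ← pow_mul, pow_succ]

theorem frob2_pow_card {f : ℕ} (hF : Fintype.card F = 2 ^ f) : frob2 F ^ f = 1 := by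
  ext x
  rw [frob2_pow_apply, ← hF, FiniteField.pow_card]
  rfl

/-- a polynomial identity `x^(2^j) = x` on all of `F` forces `f ≤ j` (for `j > 0`) -/
theorem le_of_forall_pow_eq {f j : ℕ} (hF : Fintype.card F = 2 ^ f) (hj : 0 < j)
    (h : ∀ x : F, x ^ (2 ^ j) = x) : f ≤ j := by
  by_contra hlt
  push Not at hlt
  have h1 : (1 : ℕ) < 2 ^ j := Nat.one_lt_two_pow hj.ne'
  set P : F[X] := X ^ (2 ^ j) - X with hP
  have hdeg : P.natDegree ≤ 2 ^ j := by
    refine (natDegree_sub_le _ _).trans ?_
    rw [natDegree_X_pow, natDegree_X]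
    exact max_le le_rfl h1.le
  have hP0 : P = 0 := by
    apply eq_zero_of_natDegree_lt_card_of_eval_eq_zero' P Finset.univ
    · intro x _
      rw [hP, eval_sub, eval_pow, eval_X, h x, sub_self]
    · rw [Finset.card_univ, hF]
      exact lt_of_le_of_lt hdeg (Nat.pow_lt_pow_right (by norm_num) hlt)
  have hc : P.coeff 1 = -1 := by
    rw [hP, coeff_sub, coeff_X_pow, coeff_X_one, if_neg (by omega), zero_sub]
  rw [hP0, coeff_zero] at hc
  exact one_ne_zero (neg_eq_zero.1 hc.symm)

theorem orderOf_frob2 {f : ℕ} (hf : 1 ≤ f) (hF : Fintype.card F = 2 ^ f) :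
    orderOf (frob2 F) = f := by
  rw [orderOf_eq_iff (by omega)]
  refine ⟨frob2_pow_card hF, fun j hjf hj0 h => ?_⟩
  have := le_of_forall_pow_eq hF hj0 (fun x => by
    have h1 := congrArg (fun σ : F ≃+* F => σ x) h
    simp only [frob2_pow_apply] at h1
    exact h1)
  omega

/-- partial traces `Σ_{j<i} x^(2^j)` -/
def trS (i : ℕ) (x : F) : F := ∑ j ∈ Finset.range i, x ^ (2 ^ j)

theorem trS_zero (x : F) : trS 0 x = 0 := by simp [trS]

theorem trS_succ (i : ℕ) (x : F) : trS (i + 1) x = (trS i x) ^ 2 + x := by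
  unfold trS
  rw [Finset.sum_range_succ', pow_zero, pow_one]
  congr 1
  have h : ∀ (s : Finset ℕ) (g : ℕ → F), (∑ j ∈ s, g j) ^ 2 = ∑ j ∈ s, (g j) ^ 2 := by
    intro s g
    exact map_sum (frobenius F 2) g s
  rw [h]
  apply Finset.sum_congr rfl
  intro j _
  rw [← pow_mul, pow_succ]

theorem trS_add (i : ℕ) (x y : F) : trS i (x + y) = trS i x + trS i y := by
  induction i with
  | zero => simp [trS_zero]
  | succ i ih =>
    rw [trS_succ, trS_succ, trS_succ, ih, CharTwo.add_sq]
    ring

/-- telescoping: `trS i (s² + s) = s^(2^i) + s` -/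
theorem trS_wp (i : ℕ) (s : F) : trS i (s * s + s) = s ^ (2 ^ i) + s := by
  induction i with
  | zero =>
    rw [trS_zero, pow_zero, pow_one]
    exact (CharTwo.add_self_eq_zero s).symm
  | succ i ih =>
    rw [trS_succ, ih, CharTwo.add_sq, ← pow_mul, ← pow_succ]
    have h := CharTwo.add_self_eq_zero s
    calc s ^ 2 ^ (i + 1) + s ^ 2 + (s * s + s) = s ^ 2 ^ (i + 1) + s + (s ^ 2 + s ^ 2) := by ring
      _ = s ^ 2 ^ (i + 1) + s := by rw [CharTwo.add_self_eq_zero, add_zero]

theorem trS_card_wp {f : ℕ} (hF : Fintype.card F = 2 ^ f) (s : F) : trS f (s * s + s) = 0 := by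
  rw [trS_wp, ← hF, FiniteField.pow_card]
  exact CharTwo.add_self_eq_zero s

theorem trS_card_sq {f : ℕ} (hF : Fintype.card F = 2 ^ f) (x : F) :
    (trS f x) ^ 2 = trS f x := by
  have h1 := trS_succ f x
  have h2 : trS (f + 1) x = trS f x + x ^ (2 ^ f) := by
    unfold trS
    rw [Finset.sum_range_succ]
  rw [h2, ← hF, FiniteField.pow_card] at h1
  have h3 : (trS f x) ^ 2 = (trS f x) ^ 2 + x + x := by
    rw [add_assoc, CharTwo.add_self_eq_zero, add_zero]
  rw [h3, ← h1, add_assoc, CharTwo.add_self_eq_zero, add_zero]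

theorem exists_trS_ne_zero {f : ℕ} (hf : 1 ≤ f) (hF : Fintype.card F = 2 ^ f) :
    ∃ c : F, trS f c ≠ 0 := by
  by_contra hcon
  push Not at hcon
  set P : F[X] := ∑ j ∈ Finset.range f, X ^ (2 ^ j) with hP
  have hdeg : P.natDegree ≤ 2 ^ (f - 1) := by
    apply natDegree_sum_le_of_forall_le
    intro j hj
    rw [natDegree_X_pow]
    exact Nat.pow_le_pow_right (by norm_num) (by have := Finset.mem_range.1 hj; omega)
  have hP0 : P = 0 := by
    apply eq_zero_of_natDegree_lt_card_of_eval_eq_zero' P Finset.univ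
    · intro x _
      rw [hP, eval_finset_sum]
      simp only [eval_pow, eval_X]
      exact hcon x
    · rw [Finset.card_univ, hF]
      exact lt_of_le_of_lt hdeg (Nat.pow_lt_pow_right (by norm_num) (by omega))
  have hc : P.coeff 1 = 1 := by
    rw [hP, finset_sum_coeff]
    rw [Finset.sum_eq_single 0]
    · simp
    · intro j _ hj0
      rw [coeff_X_pow, if_neg]
      have : 1 < 2 ^ j := Nat.one_lt_two_pow hj0
      omega
    · intro h
      exact absurd (Finset.mem_range.2 (by omega)) h
  rw [hP0, coeff_zero] at hc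
  exact zero_ne_one hc

/-- an element outside the image of the Artin–Schreier map has absolute trace one -/
theorem trS_eq_one_of_not_mem {f : ℕ} (hf : 1 ≤ f) (hF : Fintype.card F = 2 ^ f) {β : F}
    (hβ : β ∉ (wp F).range) : trS f β = 1 := by
  have hne : trS f β ≠ 0 := by
    intro h0
    obtain ⟨c, hc⟩ := exists_trS_ne_zero hf hF
    have hcr : c ∉ (wp F).range := by
      rintro ⟨s, rfl⟩
      exact hc (trS_card_wp hF s)
    have hmem : β + c ∈ (wp F).range := by
      rw [AddSubgroup.add_mem_iff_of_index_two index_range_wp]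
      exact ⟨fun h => absurd h hβ, fun h => absurd h hcr⟩
    obtain ⟨s, hs⟩ := hmem
    have h1 := trS_card_wp hF s
    rw [wp_apply] at hs
    rw [hs, trS_add, h0, zero_add] at h1
    exact hc h1
  have hsq := trS_card_sq hF β
  have h2 : trS f β * (trS f β - 1) = 0 := by
    rw [mul_sub, mul_one, ← pow_two, hsq, sub_self]
  rcases mul_eq_zero.1 h2 with h | h
  · exact absurd h hne
  · exact sub_eq_zero.1 h

end Cfsg.Agent.Helper12.GammaO
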