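import Mathlib
import Cfsg.Agent.Helper12.GammaOK
import Cfsg.Agent.Helper12.GammaOI
import Cfsg.Agent.Helper12.GammaOH
import Cfsg.Agent.Helper44.DicksonGen

/-!
# `Out(PΩ⁻_{2m}(2^f))` is cyclic of order `2f`, conditional on `gammaPOmega = ⊤`

The Frobenius map of the quadratic extension, written on the anisotropic plane with basis `1, ω`
(`ω² = aω + b`), is the semisimilarity `x₀ = (triMat b a, frob2)`; its `f`-th power is the reflection
in the vector `1`, which is not in `Ω`.
-/

set_option autoImplicit false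
set_option linter.unusedSectionVars false

namespace Cfsg.Agent.Helper12.GammaO

open Matrix Module QuadraticMap Cfsg.Agent.Helper44

section generic

theorem isCyclic_of_hom_order {G C : Type*} [Group G] [Group C] [Finite G] (t : G →* C) (g : G)
    {f : ℕ} (hf : 0 < f) (ht : orderOf (t g) = f) (hcard : Nat.card G = 2 * f)
    (hg : g ^ f ≠ 1) : IsCyclic G := by
  have h1 : f ∣ orderOf g := ht ▸ orderOf_map_dvd t g
  have h2 : orderOf g ∣ 2 * f := hcard ▸ orderOf_dvd_natCard g
  obtain ⟨c, hc⟩ := h1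
  have hc2 : c ∣ 2 := by
    rw [hc, mul_comm 2 f] at h2
    exact Nat.dvd_of_mul_dvd_mul_left hf h2
  have hc' : c = 1 ∨ c = 2 := (Nat.dvd_prime Nat.prime_two).1 hc2
  rcases hc' with rfl | rfl
  · exfalso
    apply hg
    rw [mul_one] at hc
    rw [← hc]
    exact pow_orderOf_eq_one g
  · apply isCyclic_of_orderOf_eq_card g
    rw [hc, hcard]
    ring

end generic

variable {F : Type*} [Field F]

theorem triMat_mul (k : ℕ) (t e t' e' : F) :
    triMat k t e * triMat k t' e' = triMat k (t' + t * e') (e * e') := by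
  unfold triMat
  rw [Matrix.fromBlocks_multiply]
  simp only [Matrix.one_mul, Matrix.mul_zero, Matrix.zero_mul, add_zero, zero_add]
  congr 1
  ext i j
  fin_cases i <;> fin_cases j <;> simp [Matrix.mul_apply, Fin.sum_univ_two]

theorem triMat_map (k : ℕ) (t e : F) (σ : F ≃+* F) :
    (triMat k t e).map σ = triMat k (σ t) (σ e) := by
  unfold triMat
  rw [Matrix.fromBlocks_map]
  congr 1
  · ext i j
    by_cases h : i = j
    · subst h
      simp
    · simp [Matrix.one_apply_ne h]
  · ext i j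
    simp
  · ext i j
    simp
  · ext i j
    fin_cases i <;> fin_cases j <;> simp

theorem triMat_zero_one (k : ℕ) : triMat k (0 : F) 1 = 1 := by
  unfold triMat
  have : (!![1, 0; 0, 1] : Matrix (Fin 2) (Fin 2) F) = 1 := by
    ext i j
    fin_cases i <;> fin_cases j <;> simp
  rw [this, Matrix.fromBlocks_one]

/-- `triMat` as an element of `GL` -/
noncomputable def triGL (k : ℕ) (t e : F) (he : e ≠ 0) : GL ((Fin k ⊕ Fin k) ⊕ Fin 2) F :=
  Matrix.GeneralLinearGroup.mkOfDetNeZero (triMat k t e) (by rw [det_triMat]; exact he)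

theorem coe_triGL (k : ℕ) (t e : F) (he : e ≠ 0) :
    ((triGL k t e he : GL ((Fin k ⊕ Fin k) ⊕ Fin 2) F) :
      Matrix ((Fin k ⊕ Fin k) ⊕ Fin 2) ((Fin k ⊕ Fin k) ⊕ Fin 2) F) = triMat k t e := rfl

section chartwo

variable [Fintype F] [CharP F 2] (k : ℕ) (a b : F)
  (hab : ∀ z₁ z₂ : F, z₁ ^ 2 + a * z₁ * z₂ + b * z₂ ^ 2 = 0 → z₁ = 0 ∧ z₂ = 0)

include hab in
theorem a_ne_zero_two : a ≠ 0 :=
  Cfsg.Agent.Helper5.a_ne_zero_of_aniso' CharTwo.two_eq_zero a b hab

include hab in
theorem not_mem_range_wp : b / a ^ 2 ∉ (wp F).range := by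
  have ha := a_ne_zero_two a b hab
  rintro ⟨s, hs⟩
  rw [wp_apply] at hs
  have h := hab s (1 / a) (by
    have h1 : s ^ 2 + a * s * (1 / a) + b * (1 / a) ^ 2 = (s * s + s) + b / a ^ 2 := by
      field_simp
    rw [h1, hs]
    exact CharTwo.add_self_eq_zero _)
  exact one_div_ne_zero ha h.2

/-- the Frobenius semisimilarity, as an element of `ΓL` -/
noncomputable def frobPair (ha : a ≠ 0) : Gam ((Fin k ⊕ Fin k) ⊕ Fin 2) F :=
  ⟨triGL k b a ha, frob2 F⟩

theorem frobPair_mem (ha : a ≠ 0) :
    frobPair k a b ha ∈ GamO (Cfsg.quadFormMinus k F a b) := by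
  refine ⟨1, fun v => ?_⟩
  rw [Units.val_one, one_mul]
  show Cfsg.quadFormMinus k F a b (triMat k b a *ᵥ fun i => frob2 F (v i)) = _
  have h2 : (2 : F) = 0 := CharTwo.two_eq_zero
  rw [quadFormMinus_triMat k a b (frob2 F a) (frob2 F b) b a
    (by rw [frob2_apply, h2, zero_mul, zero_add, pow_two])
    (by rw [frob2_apply]; linear_combination (a ^ 2 * b) * h2), quadFormMinus_map]
  rfl

/-- the powers of the Frobenius pair -/
theorem frobPair_pow (ha : a ≠ 0) (i : ℕ) :
    frobPair k a b ha ^ i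
      = ⟨triGL k (a ^ (2 ^ i) * trS i (b / a ^ 2)) (a ^ (2 ^ i) / a)
          (div_ne_zero (pow_ne_zero _ ha) ha), frob2 F ^ i⟩ := by
  induction i with
  | zero =>
    apply SemidirectProduct.ext
    · apply Units.ext
      show (1 : Matrix _ _ F) = triMat k _ _
      rw [trS_zero, mul_zero, pow_zero, pow_one, div_self ha, triMat_zero_one]
    · rfl
  | succ i ih =>
    rw [pow_succ', ih]
    apply SemidirectProduct.ext
    · apply Units.ext
      show triMat k b a * (triMat k _ _).map (frob2 F) = triMat k _ _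
      rw [triMat_map, triMat_mul, frob2_apply, frob2_apply, trS_succ]
      congr 1
      · have e1 : (2 : ℕ) ^ (i + 1) = 2 ^ i * 2 := pow_succ 2 i
        rw [e1, pow_mul]
        field_simp
      · have e1 : (2 : ℕ) ^ (i + 1) = 2 ^ i * 2 := pow_succ 2 i
        rw [e1, pow_mul]
        field_simp
    · show frob2 F * frob2 F ^ i = frob2 F ^ (i + 1)
      rw [pow_succ']

include hab in
/-- the `f`-th power of the Frobenius pair is the linear map `triMat a 1` -/
theorem frobPair_pow_card {f : ℕ} (hf : 1 ≤ f) (hF : Fintype.card F = 2 ^ f) (ha : a ≠ 0) :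
    frobPair k a b ha ^ f = SemidirectProduct.inl (triGL k a 1 one_ne_zero) := by
  rw [frobPair_pow]
  apply SemidirectProduct.ext
  · apply Units.ext
    show triMat k _ _ = triMat k a 1
    rw [trS_eq_one_of_not_mem hf hF (not_mem_range_wp a b hab), mul_one, ← hF,
      FiniteField.pow_card, div_self ha]
  · show frob2 F ^ f = 1
    exact frob2_pow_card hF

/-- the vector `1` of the anisotropic plane -/
def uOne (k : ℕ) (F : Type*) [Field F] : (Fin k ⊕ Fin k) ⊕ Fin 2 → F := Pi.single (.inr 0) 1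

theorem quadFormMinus_uOne : Cfsg.quadFormMinus k F a b (uOne k F) = 1 := by
  unfold Cfsg.quadFormMinus uOne
  simp

/-- `triMat a 1` is the reflection in `uOne` -/
theorem triGL_eq_reflT :
    triGL k a 1 one_ne_zero = ((reflT (minusForm k F a b) (uOne k F)).1 :
      GL ((Fin k ⊕ Fin k) ⊕ Fin 2) F) := by
  have hu : minusForm k F a b (uOne k F) ≠ 0 := by
    show Cfsg.quadFormMinus k F a b (uOne k F) ≠ 0
    rw [quadFormMinus_uOne]
    exact one_ne_zero
  have hu1 : minusForm k F a b (uOne k F) = 1 := quadFormMinus_uOne k a b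
  apply Units.ext
  apply Matrix.mulVec_injective
  funext x
  rw [coe_triGL, triMat_mulVec, reflT_of_ne _ _ hu, refl_mulVec, hu1, inv_one, one_mul]
  have hpol : QuadraticMap.polar ⇑(minusForm k F a b) (uOne k F) x = a * x (.inr 1) := by
    show QuadraticMap.polar (Cfsg.quadFormMinus k F a b) (uOne k F) x = _
    rw [polar_quadFormMinus]
    have h0 : (uOne k F) ∘ (Sum.inl : Fin k ⊕ Fin k → (Fin k ⊕ Fin k) ⊕ Fin 2) = 0 := by
      funext j
      simp [uOne]
    have h2 : (2 : F) = 0 := CharTwo.two_eq_zero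
    have hp : QuadraticMap.polar (Cfsg.quadFormPlus k F) 0
        (x ∘ (Sum.inl : Fin k ⊕ Fin k → (Fin k ⊕ Fin k) ⊕ Fin 2)) = 0 := by
      unfold QuadraticMap.polar Cfsg.quadFormPlus
      simp
    rw [h0, hp]
    simp [uOne, h2]
  rw [hpol]
  funext j
  rcases j with j | j
  · simp [uOne]
  · fin_cases j
    · simp [uOne, sub_eq_add_neg, CharTwo.neg_eq]
    · simp [uOne]

end chartwo

section main

variable [Fintype F]

/-- `Out(PΩ⁻_{2m}(2^f))` is cyclic of order `2f`, if all automorphisms come from semisimilarities -/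
theorem out_minusForm_two {f m : ℕ} (hf : 1 ≤ f) (hF : Fintype.card F = 2 ^ f) (hm : 4 ≤ m)
    (a b : F) (hab : ∀ z₁ z₂ : F, z₁ ^ 2 + a * z₁ * z₂ + b * z₂ ^ 2 = 0 → z₁ = 0 ∧ z₂ = 0)
    (htop : Cfsg.gammaPOmega F (Cfsg.quadFormMinus (m - 1) F a b) = ⊤) :
    IsCyclic (Cfsg.Out (Cfsg.POmega F (Cfsg.quadFormMinus (m - 1) F a b))) ∧
      Nat.card (Cfsg.Out (Cfsg.POmega F (Cfsg.quadFormMinus (m - 1) F a b))) = 2 * f := by
  have : Fact (Nat.Prime 2) := ⟨Nat.prime_two⟩
  have hchar : CharP F 2 := charP_of_card_eq_prime_pow hF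
  set k := m - 1 with hk
  have hQ := Cfsg.Agent.Helper5.nondegenerate_minusForm_of_aniso (F := F) k a b hab
  have hn : 7 ≤ Fintype.card ((Fin k ⊕ Fin k) ⊕ Fin 2) := by
    rw [card_index_minus]
    omega
  have htop' : Cfsg.gammaPOmega F ⇑(minusForm k F a b) = ⊤ := htop
  have ha := a_ne_zero_two a b hab
  -- the order of `Out`
  have h1 := card_mulAut_minusForm 2 f hf hF m hm a b hab htop
  rw [if_pos rfl] at h1
  have h3 := card_mulAut_eq_out_mul (minusForm k F a b) hQ hn
  have hcard : Nat.card (Cfsg.Out (Cfsg.POmega F ⇑(minusForm k F a b))) = 2 * f := by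
    have hpos : 0 < Nat.card (Cfsg.POmega F ⇑(minusForm k F a b)) := Nat.card_pos
    apply Nat.eq_of_mul_eq_mul_right hpos
    rw [← h3]
    exact h1
  have hfinA : Finite (MulAut (Cfsg.POmega F ⇑(minusForm k F a b))) := by
    apply Nat.finite_of_card_ne_zero
    have hpos : 0 < Nat.card (Cfsg.POmega F ⇑(minusForm k F a b)) := Nat.card_pos
    have h1' : Nat.card (MulAut (Cfsg.POmega F ⇑(minusForm k F a b)))
        = 2 * f * Nat.card (Cfsg.POmega F ⇑(minusForm k F a b)) := h1
    rw [h1']
    have : 0 < 2 * f * Nat.card (Cfsg.POmega F ⇑(minusForm k F a b)) := by positivity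
    exact this.ne'
  refine ⟨?_, hcard⟩
  -- the generator
  set x₀ : ↥(GamO ⇑(minusForm k F a b)) := ⟨frobPair k a b ha, frobPair_mem k a b ha⟩ with hx₀
  set o : Cfsg.Out (Cfsg.POmega F ⇑(minusForm k F a b)) :=
    QuotientGroup.mk (psi ⇑(minusForm k F a b) x₀) with ho
  apply isCyclic_of_hom_order (tauOut (minusForm k F a b) hQ hn htop') o (by omega : 0 < f)
  · rw [ho, tauOut_mk, tau_psi]
    exact orderOf_frob2 hf hF
  · exact hcard
  · -- `o ^ f` is the class of the reflection, which is not inner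
    intro h
    have h4 : o ^ f = QuotientGroup.mk (psi ⇑(minusForm k F a b) (x₀ ^ f)) := by
      rw [ho, map_pow]
      rfl
    rw [h4, QuotientGroup.eq_one_iff] at h
    have hr : x₀ ^ f = ofSim (minusForm k F a b)
        (toGO (minusForm k F a b) (reflT (minusForm k F a b) (uOne k F))) := by
      apply Subtype.ext
      rw [Subgroup.coe_pow]
      show frobPair k a b ha ^ f = _
      rw [frobPair_pow_card k a b hab hf hF ha, triGL_eq_reflT]
      rfl
    rw [hr, psi_ofSim, Inn_eq_map] at h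
    obtain ⟨w, hw, hwe⟩ := h
    rw [SetLike.mem_coe, Subgroup.mem_subgroupOf] at hw
    obtain ⟨ω, hω, hωw⟩ := hw
    have h5 : thetaO (minusForm k F a b) ω
        = thetaO (minusForm k F a b) (reflT (minusForm k F a b) (uOne k F)) := by
      show conjAut _ (toGO _ ω) = conjAut _ (toGO _ _)
      rw [← hwe]
      congr 1
      exact Subtype.ext hωw
    have h6 := thetaO_injective (minusForm k F a b) hQ hn h5
    have hu : minusForm k F a b (uOne k F) ≠ 0 := by
      show Cfsg.quadFormMinus k F a b (uOne k F) ≠ 0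
      rw [quadFormMinus_uOne]
      exact one_ne_zero
    have h7 := even_length_of_prod_reflT_mem_Omega (minusForm k F a b) hQ [uOne k F]
      (fun x hx => by rw [List.mem_singleton.1 hx]; exact hu)
      (by
        rw [List.map_singleton, List.prod_singleton, ← h6]
        exact hω)
    simp at h7

end main

end Cfsg.Agent.Helper12.GammaO
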