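import Mathlib
import Cfsg.Agent.Helper12.GammaOL

/-!
# Odd characteristic: the Frobenius semisimilarity of the minus-type form

`frobP F p : F ≃+* F` of order `f` when `|F| = p^f`; the Frobenius map of the quadratic extension,
written on the anisotropic plane with basis `1, ω` (`ω² = aω - b`), is the semisimilarity
`(triMat t₁ e₁, frobP)` with `e₁ = D^((p-1)/2)`, `t₁ = (a^p - a e₁)/2`, `D = a² - 4b`.  Its `f`-th
power is `triMat a (-1)`, the reflection in the vector `√D = 2ω - a`.
-/

set_option autoImplicit false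
set_option linter.unusedSectionVars false

namespace Cfsg.Agent.Helper12.GammaO

open Matrix Module QuadraticMap Cfsg.Agent.Helper44 Polynomial

section frobP

variable (F : Type*) [Field F] [Fintype F] (p : ℕ) [Fact p.Prime] [CharP F p]

/-- the Frobenius automorphism `x ↦ x^p` -/
noncomputable def frobP : F ≃+* F :=
  RingEquiv.ofBijective (frobenius F p)
    (Finite.injective_iff_bijective.1 (frobenius F p).injective)

variable {F}

theorem frobP_apply (x : F) : frobP F p x = x ^ p := rfl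

theorem frobP_pow_apply (i : ℕ) (x : F) : (frobP F p ^ i) x = x ^ (p ^ i) := by
  induction i generalizing x with
  | zero => simp
  | succ i ih =>
    rw [pow_succ', RingAut.mul_apply, ih, frobP_apply, ← pow_mul, pow_succ]

theorem frobP_pow_card {f : ℕ} (hF : Fintype.card F = p ^ f) : frobP F p ^ f = 1 := by
  ext x
  rw [frobP_pow_apply, ← hF, FiniteField.pow_card]
  rfl

/-- a polynomial identity `x^(p^j) = x` on all of `F` forces `f ≤ j` (for `j > 0`) -/
theorem le_of_forall_pow_eq_p {f j : ℕ} (hF : Fintype.card F = p ^ f) (hj : 0 < j)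
    (h : ∀ x : F, x ^ (p ^ j) = x) : f ≤ j := by
  have hp1 : 1 < p := (Fact.out : p.Prime).one_lt
  by_contra hlt
  push Not at hlt
  have h1 : (1 : ℕ) < p ^ j := Nat.one_lt_pow hj.ne' hp1
  set P : F[X] := X ^ (p ^ j) - X with hP
  have hdeg : P.natDegree ≤ p ^ j := by
    refine (natDegree_sub_le _ _).trans ?_
    rw [natDegree_X_pow, natDegree_X]
    exact max_le le_rfl h1.le
  have hP0 : P = 0 := by
    apply eq_zero_of_natDegree_lt_card_of_eval_eq_zero' P Finset.univ
    · intro x _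
      rw [hP, eval_sub, eval_pow, eval_X, h x, sub_self]
    · rw [Finset.card_univ, hF]
      exact lt_of_le_of_lt hdeg (Nat.pow_lt_pow_right hp1 hlt)
  have hc : P.coeff 1 = -1 := by
    rw [hP, coeff_sub, coeff_X_pow, coeff_X_one, if_neg (by omega), zero_sub]
  rw [hP0, coeff_zero] at hc
  exact one_ne_zero (neg_eq_zero.1 hc.symm)

theorem orderOf_frobP {f : ℕ} (hf : 1 ≤ f) (hF : Fintype.card F = p ^ f) :
    orderOf (frobP F p) = f := by
  rw [orderOf_eq_iff (by omega)]
  refine ⟨frobP_pow_card p hF, fun j hjf hj0 h => ?_⟩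
  have := le_of_forall_pow_eq_p p hF hj0 (fun x => by
    have h1 := congrArg (fun σ : F ≃+* F => σ x) h
    simp only [frobP_pow_apply] at h1
    exact h1)
  omega

end frobP

/-- the exponents `(p^i - 1)/2` -/
def nExp (p : ℕ) : ℕ → ℕ
  | 0 => 0
  | (i + 1) => p / 2 + p * nExp p i

theorem two_nExp {p : ℕ} (hp : Odd p) (i : ℕ) : 2 * nExp p i + 1 = p ^ i := by
  induction i with
  | zero => simp [nExp]
  | succ i ih =>
    obtain ⟨h, rfl⟩ := hp
    have h1 : (2 * h + 1) / 2 = h := by omega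
    rw [nExp, h1, pow_succ, ← ih]
    ring

section oddpair

variable {F : Type*} [Field F] [Fintype F] (p : ℕ) [Fact p.Prime] [CharP F p] (k : ℕ) (a b : F)

/-- the second coordinate of `ω^(p^i)` -/
noncomputable def eI (i : ℕ) : F := (a ^ 2 - 4 * b) ^ nExp p i

/-- the first coordinate of `ω^(p^i)` -/
noncomputable def tI (i : ℕ) : F := (a ^ (p ^ i) - a * eI p a b i) / 2

theorem eI_succ (i : ℕ) : eI p a b (i + 1) = eI p a b 1 * (eI p a b i) ^ p := by
  unfold eI
  have h1 : nExp p 1 = p / 2 := by simp [nExp]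
  rw [h1, ← pow_mul, ← pow_add]
  congr 1
  rw [nExp, mul_comm]

theorem tI_succ (h2 : (2 : F) ≠ 0) (i : ℕ) :
    tI p a b (i + 1) = frobP F p (tI p a b i) + tI p a b 1 * frobP F p (eI p a b i) := by
  have hφ2 : frobP F p 2 = 2 := map_ofNat (frobP F p) 2
  unfold tI
  rw [map_div₀, map_sub, map_mul, map_pow, hφ2, eI_succ, pow_one]
  simp only [frobP_apply]
  rw [← pow_mul, ← pow_succ']
  field_simp
  ring

theorem eI_zero : eI p a b 0 = 1 := by
  unfold eI
  simp [nExp]

theorem tI_zero : tI p a b 0 = 0 := by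
  unfold tI
  rw [eI_zero, pow_zero, pow_one, mul_one, sub_self, zero_div]

variable (hab : ∀ z₁ z₂ : F, z₁ ^ 2 + a * z₁ * z₂ + b * z₂ ^ 2 = 0 → z₁ = 0 ∧ z₂ = 0)

include hab in
theorem disc_ne_zero (h2 : (2 : F) ≠ 0) : a ^ 2 - 4 * b ≠ 0 := by
  intro h0
  exact not_isSquare_disc_of_anisotropic h2 a b hab ⟨0, by rw [h0, mul_zero]⟩

include hab in
theorem eI_ne_zero (h2 : (2 : F) ≠ 0) (i : ℕ) : eI p a b i ≠ 0 :=
  pow_ne_zero _ (disc_ne_zero a b hab h2)

/-- the coordinates of `ω^(p^i)` satisfy the trace equation -/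
theorem tI_trace (h2 : (2 : F) ≠ 0) (i : ℕ) :
    2 * tI p a b i + a * eI p a b i = a ^ (p ^ i) := by
  unfold tI
  field_simp
  ring

/-- the coordinates of `ω^(p^i)` satisfy the norm equation -/
theorem tI_norm (h2 : (2 : F) ≠ 0) (hp : Odd p) (i : ℕ) :
    (tI p a b i) ^ 2 + a * tI p a b i * eI p a b i + b * (eI p a b i) ^ 2 = b ^ (p ^ i) := by
  have h4 : (4 : F) ≠ 0 := by
    have : (4 : F) = 2 * 2 := by norm_num
    rw [this]
    exact mul_ne_zero h2 h2
  -- `D^(p^i) = (a^(p^i))^2 - 4 b^(p^i)`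
  have hD : (a ^ 2 - 4 * b) ^ (p ^ i) = (a ^ (p ^ i)) ^ 2 - 4 * b ^ (p ^ i) := by
    have h1 := frobP_pow_apply p i (a ^ 2 - 4 * b)
    rw [← h1, map_sub, map_mul, map_pow, map_ofNat, frobP_pow_apply, frobP_pow_apply]
  have hE : (eI p a b i) ^ 2 * (a ^ 2 - 4 * b) = (a ^ 2 - 4 * b) ^ (p ^ i) := by
    unfold eI
    rw [← pow_mul, ← pow_succ]
    congr 1
    rw [mul_comm]
    exact two_nExp hp i
  have key : 4 * ((tI p a b i) ^ 2 + a * tI p a b i * eI p a b i + b * (eI p a b i) ^ 2)
      = 4 * b ^ (p ^ i) := by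
    have h3 : 4 * ((tI p a b i) ^ 2 + a * tI p a b i * eI p a b i + b * (eI p a b i) ^ 2)
        = (2 * tI p a b i + a * eI p a b i) ^ 2 - (eI p a b i) ^ 2 * (a ^ 2 - 4 * b) := by ring
    rw [h3, tI_trace p a b h2, hE, hD]
    ring
  exact mul_left_cancel₀ h4 key

/-- the Frobenius semisimilarity, as an element of `ΓL` -/
noncomputable def frobPairP (he : eI p a b 1 ≠ 0) : Gam ((Fin k ⊕ Fin k) ⊕ Fin 2) F :=
  ⟨triGL k (tI p a b 1) (eI p a b 1) he, frobP F p⟩

theorem frobPairP_mem (h2 : (2 : F) ≠ 0) (hp : Odd p) (he : eI p a b 1 ≠ 0) :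
    frobPairP p k a b he ∈ GamO (Cfsg.quadFormMinus k F a b) := by
  refine ⟨1, fun v => ?_⟩
  rw [Units.val_one, one_mul]
  show Cfsg.quadFormMinus k F a b (triMat k _ _ *ᵥ fun i => frobP F p (v i)) = _
  rw [quadFormMinus_triMat k a b (frobP F p a) (frobP F p b) _ _
    (by rw [tI_trace p a b h2, pow_one, frobP_apply])
    (by rw [tI_norm p a b h2 hp, pow_one, frobP_apply]), quadFormMinus_map]
  rfl

/-- the powers of the Frobenius pair -/
theorem frobPairP_pow (h2 : (2 : F) ≠ 0) (he : ∀ i, eI p a b i ≠ 0) (i : ℕ) :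
    frobPairP p k a b (he 1) ^ i
      = ⟨triGL k (tI p a b i) (eI p a b i) (he i), frobP F p ^ i⟩ := by
  induction i with
  | zero =>
    apply SemidirectProduct.ext
    · apply Units.ext
      show (1 : Matrix _ _ F) = triMat k _ _
      rw [tI_zero, eI_zero, triMat_zero_one]
    · rfl
  | succ i ih =>
    rw [pow_succ', ih]
    apply SemidirectProduct.ext
    · apply Units.ext
      show triMat k _ _ * (triMat k _ _).map (frobP F p) = triMat k _ _
      rw [triMat_map, triMat_mul, tI_succ p a b h2 i, eI_succ p a b i, frobP_apply (p := p) (eI p a b i)]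
    · show frobP F p * frobP F p ^ i = frobP F p ^ (i + 1)
      rw [pow_succ']

include hab in
/-- Euler's criterion for the discriminant -/
theorem eI_card (h2 : (2 : F) ≠ 0) (hp : Odd p) {f : ℕ} (hF : Fintype.card F = p ^ f) :
    eI p a b f = -1 := by
  have hD := not_isSquare_disc_of_anisotropic h2 a b hab
  have hD0 := disc_ne_zero a b hab h2
  have hchar : ringChar F ≠ 2 := ringChar_ne_two_of_two_ne_zero h2
  have hn : nExp p f = Fintype.card F / 2 := by
    have := two_nExp hp f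
    rw [hF]
    omega
  unfold eI
  rw [hn]
  rcases FiniteField.pow_dichotomy hchar hD0 with h | h
  · exact absurd ((FiniteField.isSquare_iff hchar hD0).2 h) hD
  · exact h

include hab in
theorem tI_card (h2 : (2 : F) ≠ 0) (hp : Odd p) {f : ℕ} (hF : Fintype.card F = p ^ f) :
    tI p a b f = a := by
  unfold tI
  rw [eI_card p a b hab h2 hp hF, ← hF, FiniteField.pow_card]
  field_simp
  ring

include hab in
/-- the `f`-th power of the Frobenius pair is the linear map `triMat a (-1)` -/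
theorem frobPairP_pow_card (h2 : (2 : F) ≠ 0) (hp : Odd p) {f : ℕ}
    (hF : Fintype.card F = p ^ f) :
    frobPairP p k a b (eI_ne_zero p a b hab h2 1) ^ f
      = SemidirectProduct.inl (triGL k a (-1) (neg_ne_zero.2 one_ne_zero)) := by
  rw [frobPairP_pow p k a b h2 (eI_ne_zero p a b hab h2)]
  apply SemidirectProduct.ext
  · apply Units.ext
    show triMat k _ _ = triMat k a (-1)
    rw [tI_card p a b hab h2 hp hF, eI_card p a b hab h2 hp hF]
  · show frobP F p ^ f = 1
    exact frobP_pow_card p hF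

end oddpair

section reflection

variable {F : Type*} [Field F]

/-- the vector `√D = 2ω - a` of the anisotropic plane -/
def wD (k : ℕ) (a : F) : (Fin k ⊕ Fin k) ⊕ Fin 2 → F := Sum.elim 0 ![-a, 2]

variable (k : ℕ) (a b : F)

theorem quadFormMinus_wD : Cfsg.quadFormMinus k F a b (wD k a) = -(a ^ 2 - 4 * b) := by
  unfold Cfsg.quadFormMinus wD
  simp
  ring

/-- `triMat a (-1)` is the reflection in `wD` -/
theorem triGL_eq_reflT_odd (hD : a ^ 2 - 4 * b ≠ 0) :
    triGL k a (-1) (neg_ne_zero.2 one_ne_zero)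
      = ((reflT (minusForm k F a b) (wD k a)).1 : GL ((Fin k ⊕ Fin k) ⊕ Fin 2) F) := by
  have hu1 : minusForm k F a b (wD k a) = -(a ^ 2 - 4 * b) := quadFormMinus_wD k a b
  have hu : minusForm k F a b (wD k a) ≠ 0 := by
    rw [hu1]
    exact neg_ne_zero.2 hD
  apply Units.ext
  apply Matrix.mulVec_injective
  funext x
  rw [coe_triGL, triMat_mulVec, reflT_of_ne _ _ hu, refl_mulVec, hu1]
  have hpol : QuadraticMap.polar ⇑(minusForm k F a b) (wD k a) x
      = -(a ^ 2 - 4 * b) * x (.inr 1) := by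
    show QuadraticMap.polar (Cfsg.quadFormMinus k F a b) (wD k a) x = _
    rw [polar_quadFormMinus]
    have h0 : (wD k a) ∘ (Sum.inl : Fin k ⊕ Fin k → (Fin k ⊕ Fin k) ⊕ Fin 2) = 0 := by
      funext j
      simp [wD]
    have hp : QuadraticMap.polar (Cfsg.quadFormPlus k F) 0
        (x ∘ (Sum.inl : Fin k ⊕ Fin k → (Fin k ⊕ Fin k) ⊕ Fin 2)) = 0 := by
      unfold QuadraticMap.polar Cfsg.quadFormPlus
      simp
    rw [h0, hp]
    simp [wD]
    ring
  rw [hpol]
  have hc : (-(a ^ 2 - 4 * b))⁻¹ * (-(a ^ 2 - 4 * b) * x (.inr 1)) = x (.inr 1) := by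
    rw [← mul_assoc, inv_mul_cancel₀ (neg_ne_zero.2 hD), one_mul]
  rw [hc]
  funext j
  rcases j with j | j
  · simp [wD]
  · fin_cases j
    · simp [wD]
      ring
    · simp [wD]
      ring

end reflection

end Cfsg.Agent.Helper12.GammaO
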