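import Mathlib
import Cfsg.Agent.Helper12.GammaON
import Cfsg.Agent.Helper12.GammaOM
import Cfsg.Agent.Helper44.InndiagPlus
import Cfsg.Agent.Helper37.OutPslA

/-!
# Conjugating similarities by semisimilarities; `ker(tauOut)` is central when `-1 ∉ Ω`
-/

set_option autoImplicit false
set_option linter.unusedSectionVars false

namespace Cfsg.Agent.Helper12.GammaO

open Matrix Module QuadraticMap Cfsg.Agent.Helper44

variable {F : Type*} [Field F] {ι : Type} [Fintype ι] [DecidableEq ι]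
variable (Q : QuadraticForm F (ι → F))

/-- the conjugate of a similarity by a semisimilarity -/
noncomputable def conjSim (x : ↥(GamO ⇑Q)) (δ : ↥(Cfsg.Geo.quadSimilarityGroup (F := F) ⇑Q)) :
    ↥(Cfsg.Geo.quadSimilarityGroup (F := F) ⇑Q) :=
  ⟨conjLeft x.1 δ.1, ⟨Units.map (x.1.right : F →+* F).toMonoidHom (multFun ⇑Q δ), fun v => by
    obtain ⟨c, hc⟩ := (mem_GamO_iff ⇑Q x.1).1 x.2
    rw [conjLeft_mulVec, hc, multFun_spec ⇑Q δ, map_mul]
    have h1 := hc (semiLin x.1⁻¹.left x.1⁻¹.right v)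
    rw [semiLin_apply_inv] at h1
    rw [h1]
    show _ = x.1.right (multFun ⇑Q δ : F) * _
    ring⟩⟩

theorem coe_conjSim (x : ↥(GamO ⇑Q)) (δ : ↥(Cfsg.Geo.quadSimilarityGroup (F := F) ⇑Q)) :
    ((conjSim Q x δ : ↥(Cfsg.Geo.quadSimilarityGroup (F := F) ⇑Q)) : GL ι F)
      = conjLeft x.1 δ.1 := rfl

theorem ofSim_conjSim (x : ↥(GamO ⇑Q)) (δ : ↥(Cfsg.Geo.quadSimilarityGroup (F := F) ⇑Q)) :
    ofSim Q (conjSim Q x δ) = x * ofSim Q δ * x⁻¹ := by
  apply Subtype.ext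
  exact inl_conjLeft x.1 δ.1

theorem psi_conj (x : ↥(GamO ⇑Q)) (δ : ↥(Cfsg.Geo.quadSimilarityGroup (F := F) ⇑Q)) :
    psi ⇑Q x * conjAut ⇑Q δ * (psi ⇑Q x)⁻¹ = conjAut ⇑Q (conjSim Q x δ) := by
  rw [← psi_ofSim, ← psi_ofSim, ofSim_conjSim, map_mul, map_mul, map_inv]

theorem multHom_conjSim {t : ι → F} (ht : Q t ≠ 0) (x : ↥(GamO ⇑Q))
    (δ : ↥(Cfsg.Geo.quadSimilarityGroup (F := F) ⇑Q)) :
    multHom ⇑Q ht (conjSim Q x δ)
      = Units.map (x.1.right : F →+* F).toMonoidHom (multHom ⇑Q ht δ) := by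
  apply multHom_eq
  intro v
  obtain ⟨c, hc⟩ := (mem_GamO_iff ⇑Q x.1).1 x.2
  rw [coe_conjSim, conjLeft_mulVec, hc, multFun_spec ⇑Q δ, map_mul]
  have h1 := hc (semiLin x.1⁻¹.left x.1⁻¹.right v)
  rw [semiLin_apply_inv] at h1
  rw [h1]
  show _ = x.1.right (multFun ⇑Q δ : F) * _
  ring

theorem det_glMap (σ : F ≃+* F) (s : GL ι F) :
    Matrix.GeneralLinearGroup.det (glMap σ s)
      = Units.map (σ : F →+* F).toMonoidHom (Matrix.GeneralLinearGroup.det s) := by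
  apply Units.ext
  rw [Matrix.GeneralLinearGroup.val_det_apply, coe_glMap]
  show ((s : Matrix ι ι F).map σ).det = σ ((s : Matrix ι ι F).det)
  have h := RingHom.map_det (σ : F →+* F) (s : Matrix ι ι F)
  rw [RingHom.mapMatrix_apply] at h
  exact h.symm

theorem det_conjLeft (x : Gam ι F) (s : GL ι F) :
    Matrix.GeneralLinearGroup.det (conjLeft x s)
      = Units.map (x.right : F →+* F).toMonoidHom (Matrix.GeneralLinearGroup.det s) := by
  rw [conjLeft_eq, map_mul, map_mul, map_inv, det_glMap, mul_comm, ← mul_assoc, inv_mul_cancel,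
    one_mul]

theorem dHom_conjSim {t : ι → F} (ht : Q t ≠ 0) (m : ℕ) (x : ↥(GamO ⇑Q))
    (δ : ↥(Cfsg.Geo.quadSimilarityGroup (F := F) ⇑Q)) :
    dHom Q ht m (conjSim Q x δ)
      = Units.map (x.1.right : F →+* F).toMonoidHom (dHom Q ht m δ) := by
  rw [dHom_apply, dHom_apply, multHom_conjSim, coe_conjSim, det_conjLeft, map_mul, map_pow,
    map_inv]

section chars

variable [Fintype F]

theorem sqChar_map (σ : F ≃+* F) (c : Fˣ) :
    sqChar F (Units.map (σ : F →+* F).toMonoidHom c) = sqChar F c := by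
  rcases Int.units_eq_one_or (sqChar F c) with h | h
  · rw [h, sqChar_eq_one_iff]
    rw [sqChar_eq_one_iff] at h
    obtain ⟨r, hr⟩ := h
    exact ⟨σ r, by
      show σ (c : F) = _
      rw [hr, map_mul]⟩
  · rw [h]
    rcases Int.units_eq_one_or (sqChar F (Units.map (σ : F →+* F).toMonoidHom c)) with h' | h'
    · exfalso
      rw [sqChar_eq_one_iff] at h'
      obtain ⟨r, hr⟩ := h'
      have h1 : sqChar F c = 1 := by
        rw [sqChar_eq_one_iff]
        refine ⟨σ.symm r, ?_⟩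
        have h3 : σ (c : F) = r * r := hr
        rw [← map_mul, ← h3]
        exact (σ.symm_apply_apply _).symm
      rw [h] at h1
      revert h1
      decide
    · exact h'

variable (h2 : (2 : F) ≠ 0) (hQ : (QuadraticMap.polarBilin Q).Nondegenerate)
  {t : ι → F} (ht : Q t ≠ 0) (m : ℕ) (hm : Fintype.card ι = 2 * m)

theorem goChar_conjSim (x : ↥(GamO ⇑Q)) (δ : ↥(Cfsg.Geo.quadSimilarityGroup (F := F) ⇑Q)) :
    goChar Q h2 hQ ht m hm (conjSim Q x δ) = goChar Q h2 hQ ht m hm δ := by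
  have hd := dHom_conjSim Q ht m x δ
  have hd' : dHom Q ht m (conjSim Q x δ) = dHom Q ht m δ := by
    rw [hd]
    rcases dHom_eq_one_or Q ht m hm hQ δ with h | h
    · rw [h, map_one]
    · rw [h]
      apply Units.ext
      show x.1.right ((-1 : Fˣ) : F) = ((-1 : Fˣ) : F)
      rw [Units.val_neg, Units.val_one, map_neg, map_one]
  rw [goChar, MonoidHom.prod_apply, MonoidHom.prod_apply, MonoidHom.comp_apply,
    MonoidHom.comp_apply, multHom_conjSim, sqChar_map]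
  congr 1
  rcases Int.units_eq_one_or (pmChar (dHom Q ht m) (dHom_eq_one_or Q ht m hm hQ) h2 δ) with h | h
  · rw [h]
    rw [pmChar_eq_one_iff] at h ⊢
    rw [hd', h]
  · rw [h]
    rcases Int.units_eq_one_or
      (pmChar (dHom Q ht m) (dHom_eq_one_or Q ht m hm hQ) h2 (conjSim Q x δ)) with h' | h'
    · exfalso
      rw [pmChar_eq_one_iff, hd'] at h'
      have h1 := (pmChar_eq_one_iff (dHom Q ht m) (dHom_eq_one_or Q ht m hm hQ) h2 δ).2 h'
      rw [h] at h1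
      revert h1
      decide
    · exact h'

variable (hn : 7 ≤ Fintype.card ι) (htop : Cfsg.gammaPOmega F ⇑Q = ⊤)

include h2 ht hm in
/-- when `-1 ∉ Ω`, the image of `PGO` in `Out(PΩ)` is central -/
theorem ker_tauOut_le_center (hneg : negOne Q ∉ Cfsg.Omega F ⇑Q) :
    (tauOut Q hQ hn htop).ker ≤ Subgroup.center (Cfsg.Out (Cfsg.POmega F ⇑Q)) := by
  have e : Cfsg.Inn (Cfsg.POmega F ⇑Q) = Cfsg.psoAut F ⇑Q :=
    le_antisymm (Inn_le_psoAut Q) (Subgroup.relIndex_eq_one.1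
      (relIndex_Inn_psoAut_of_not_mem Q h2 hQ hn ⟨m, by rw [hm, two_mul]⟩ hneg))
  intro y hy
  rw [Subgroup.mem_center_iff]
  intro g
  obtain ⟨α, rfl⟩ := QuotientGroup.mk_surjective g
  obtain ⟨x, rfl⟩ := psi_surjective Q htop α
  obtain ⟨β, rfl⟩ := QuotientGroup.mk_surjective y
  rw [MonoidHom.mem_ker, tauOut_mk] at hy
  have hβ : β ∈ Cfsg.pgoAut F ⇑Q := by
    rw [← ker_tau Q hQ hn htop]
    exact hy
  rw [pgoAut_eq_map] at hβ
  obtain ⟨δ, rfl⟩ := hβ
  have h1 := psi_conj Q x δ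
  have h3 : (QuotientGroup.mk (conjAut ⇑Q (conjSim Q x δ)) : Cfsg.Out (Cfsg.POmega F ⇑Q))
      = QuotientGroup.mk (conjAut ⇑Q δ) := by
    rw [QuotientGroup.eq, ← map_inv, ← map_mul, e]
    apply conjAut_mem_psoAut_of_goChar Q h2 hQ ht m hm
    rw [map_mul, map_inv, goChar_conjSim, inv_mul_cancel]
  rw [← h1] at h3
  have h4 : (QuotientGroup.mk (psi ⇑Q x) : Cfsg.Out (Cfsg.POmega F ⇑Q))
      * QuotientGroup.mk (conjAut ⇑Q δ) * (QuotientGroup.mk (psi ⇑Q x))⁻¹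
      = QuotientGroup.mk (conjAut ⇑Q δ) := h3
  calc (QuotientGroup.mk (psi ⇑Q x) : Cfsg.Out (Cfsg.POmega F ⇑Q))
        * QuotientGroup.mk (conjAut ⇑Q δ)
      = ((QuotientGroup.mk (psi ⇑Q x) : Cfsg.Out (Cfsg.POmega F ⇑Q))
        * QuotientGroup.mk (conjAut ⇑Q δ) * (QuotientGroup.mk (psi ⇑Q x))⁻¹)
        * QuotientGroup.mk (psi ⇑Q x) := by group
    _ = _ := by rw [h4]

end chars

end Cfsg.Agent.Helper12.GammaO
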