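import Mathlib
import Cfsg.Agent.Helper12.D4G
import Cfsg.Agent.Helper12.GammaOP

/-!
# Normality of `Inndiag` in `Aut(PΩ⁺₈(q))`, part H: bridges between `semiAut`, `psi`, `conjAut`;
automorphisms mapping every `Q̄_a` into some `Q̄_v`
-/

set_option autoImplicit false
set_option linter.unusedSectionVars false
set_option linter.unusedVariables false
set_option linter.unusedSimpArgs false

namespace Cfsg.Agent.Helper12.D4

open Matrix QuadraticMap Cfsg.Agent.Helper44 Cfsg.Agent.Helper5 Cfsg.Agent.Helper5.AutO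
open Cfsg.Agent.Helper12.GammaO Cfsg.Agent.Helper45.OmegaParity

variable {F : Type*} [Field F] {ι : Type} [Fintype ι] [DecidableEq ι]
variable {Q : QuadraticForm F (ι → F)}

/-- `semiAut h` is the image under `psi` of the pair `(M, σ)` -/
theorem semiAut_eq_psi {M : GL ι F} {σ : F ≃+* F} {c : F} (h : IsSemiSim Q M σ c) :
    semiAut h = psi ⇑Q ⟨⟨M, σ⟩, h.pair⟩ :=
  (isInduced_iff ⇑Q ⟨⟨M, σ⟩, h.pair⟩ (semiAut h)).1 (semiAut_isInduced h)

/-- every `psi x` is a `semiAut` -/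
theorem exists_semiAut_eq_psi (x : ↥(GamO ⇑Q)) :
    ∃ (c : F) (h : IsSemiSim Q x.1.left x.1.right c), psi ⇑Q x = semiAut h := by
  obtain ⟨c, hc⟩ := (mem_GamO_iff ⇑Q x.1).1 x.2
  have h : IsSemiSim Q x.1.left x.1.right (c : F) := ⟨c.ne_zero, fun v => hc v⟩
  refine ⟨c, h, ?_⟩
  rw [semiAut_eq_psi h]

/-- the inverse of a `semiAut` is a `semiAut` -/
theorem exists_semiAut_symm {M : GL ι F} {σ : F ≃+* F} {c : F} (h : IsSemiSim Q M σ c) :
    ∃ (M' : GL ι F) (σ' : F ≃+* F) (c' : F) (h' : IsSemiSim Q M' σ' c'),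
      (semiAut h).symm = semiAut h' := by
  obtain ⟨c', h', e⟩ := exists_semiAut_eq_psi (Q := Q) (⟨⟨M, σ⟩, h.pair⟩ : ↥(GamO ⇑Q))⁻¹
  refine ⟨_, _, c', h', ?_⟩
  rw [← e, map_inv, ← semiAut_eq_psi h]
  rfl

/-- a similarity as a semilinear similitude -/
theorem isSemiSim_of_sim (δ : ↥(Cfsg.Geo.quadSimilarityGroup (F := F) ⇑Q)) :
    IsSemiSim Q δ.1 (RingEquiv.refl F) (multFun ⇑Q δ : F) :=
  ⟨(multFun ⇑Q δ).ne_zero, fun v => multFun_spec ⇑Q δ v⟩

theorem conjAut_eq_semiAut (δ : ↥(Cfsg.Geo.quadSimilarityGroup (F := F) ⇑Q)) :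
    conjAut ⇑Q δ = semiAut (isSemiSim_of_sim δ) := by
  rw [semiAut_eq_psi, ← psi_ofSim]
  rfl

/-- the image of a root element under the automorphism induced by a similarity -/
theorem conjAut_rE [Fintype F] (C : Ctx Q) (δ : ↥(Cfsg.Geo.quadSimilarityGroup (F := F) ⇑Q))
    {u w : ι → F} (hu : Q u = 0) (huw : polar ⇑Q u w = 0) :
    conjAut ⇑Q δ (rE C u w)
      = rE C ((δ.1 : Matrix ι ι F) *ᵥ u) ((multFun ⇑Q δ : F)⁻¹ • ((δ.1 : Matrix ι ι F) *ᵥ w)) := by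
  rw [conjAut_eq_semiAut, semiAut_rE C _ hu huw]
  rfl

/-! ### automorphisms mapping every `Q̄_a` into some `Q̄_v` -/

section maps

variable [Fintype F]

/-- `β` maps every `Q̄_a` into some `Q̄_v` -/
def MapsQb (C : Ctx Q) (β : Cfsg.POmega F ⇑Q ≃* Cfsg.POmega F ⇑Q) : Prop :=
  ∀ (a : ι → F) (ha : Q a = 0), a ≠ 0 →
    ∃ (v : ι → F) (hv : Q v = 0), v ≠ 0 ∧ ∀ x ∈ Qb C a ha, β x ∈ Qb C v hv

theorem MapsQb.trans {C : Ctx Q} {β₁ β₂ : Cfsg.POmega F ⇑Q ≃* Cfsg.POmega F ⇑Q}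
    (h₁ : MapsQb C β₁) (h₂ : MapsQb C β₂) : MapsQb C (β₁.trans β₂) := by
  intro a ha ha0
  obtain ⟨v, hv, hv0, h⟩ := h₁ a ha ha0
  obtain ⟨v', hv', hv'0, h'⟩ := h₂ v hv hv0
  exact ⟨v', hv', hv'0, fun x hx => h' _ (h x hx)⟩

theorem mapsQb_semiAut (C : Ctx Q) {M : GL ι F} {σ : F ≃+* F} {c : F} (h : IsSemiSim Q M σ c) :
    MapsQb C (semiAut h) := by
  intro a ha ha0
  have ha' : Q (semiMap M σ a) = 0 := by rw [h.2, ha, map_zero, mul_zero]
  refine ⟨semiMap M σ a, ha', ?_, ?_⟩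
  · intro h0
    apply ha0
    apply semiMap_injective M σ
    rw [h0, semiMap_zero]
  · rintro x ⟨w, hw, rfl⟩
    rw [semiAut_rE C h ha hw]
    apply rE_mem_Qb
    rw [QuadraticMap.polar_smul_right, h.polar, hw, map_zero, mul_zero, smul_zero]

theorem mapsQb_semiAut_symm (C : Ctx Q) {M : GL ι F} {σ : F ≃+* F} {c : F}
    (h : IsSemiSim Q M σ c) : MapsQb C (semiAut h).symm := by
  obtain ⟨M', σ', c', h', e⟩ := exists_semiAut_symm h
  rw [e]
  exact mapsQb_semiAut C h'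

theorem mapsQb_conj (C : Ctx Q) (g : ↥(Cfsg.Omega F ⇑Q)) : MapsQb C (MulAut.conj (prj g)) := by
  intro a ha ha0
  have ha' : Q (lin Q g.1 a) = 0 := by rw [lin_isometry, ha]
  refine ⟨lin Q g.1 a, ha', ?_, ?_⟩
  · intro h0
    apply ha0
    have h1 := lin_inv_apply Q g.1 a
    rw [h0, map_zero] at h1
    exact h1.symm
  · rintro x ⟨w, hw, rfl⟩
    rw [MulAut.conj_apply, prj_conj_rE C g ha hw]
    apply rE_mem_Qb
    rw [polar_lin, hw]

end maps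

end Cfsg.Agent.Helper12.D4
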