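import Mathlib
import Cfsg.Agent.Helper12.D4H

/-!
# Normality of `Inndiag` in `Aut(PΩ⁺₈(q))`, part I: the two standard subgroups `Q̄_{e₀}` and
`R₀` (generated by the root elements of the lines of the solid `⟨e₀,e₁,e₂,e₃⟩`)
-/

set_option autoImplicit false
set_option linter.unusedSectionVars false
set_option linter.unusedVariables false
set_option linter.unusedSimpArgs false

namespace Cfsg.Agent.Helper12.D4

open Matrix QuadraticMap Cfsg.Agent.Helper44 Cfsg.Agent.Helper5 Cfsg.Agent.Helper5.AutO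

variable {F : Type*} [Field F] [Fintype F] {p : ℕ} [hp : Fact p.Prime] [CharP F p]

/-- the standard pair of lines through `e₀` is an `NPc` pair -/
theorem nPc_std_b {c : F} (hc : c ≠ 0) :
    NPc p (rE (ctx4 (F := F)) (ev 0) (ev 1)) (rE ctx4 (ev 0) (c • fv 1)) := by
  have hL := line_e0_e1 (F := F)
  have hL' := line_e0_cf1 (F := F) hc
  refine ⟨rtE_rE ctx4 T4 hL, rtE_rE ctx4 T4 hL', ?_, ?_, ?_⟩
  · rw [same_rE_iff ctx4 T4 hL hL']
    rintro ⟨-, ⟨α, β, e⟩⟩
    have := congrFun e (Sum.inr 1)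
    simp at this
    exact hc this
  · rw [commute_rE_iff ctx4 T4 hL hL']
    exact Or.inr ⟨ev 0, ev_ne_zero 0, inL_left _ _, inL_left _ _⟩
  · rw [col_rE_iff' ctx4 T4 hL hL']
    rintro ⟨-, ⟨-, -, -, h⟩, -⟩
    rw [polar_e1_cf1] at h
    exact hc h

/-- the standard pair of disjoint lines of the solid is an `NPc` pair -/
theorem nPc_std_c {c c' : F} (hc : c ≠ 0) (hc' : c' ≠ 0) :
    NPc p (rE (ctx4 (F := F)) (ev 0) (c • ev 1)) (rE ctx4 (ev 2) (c' • ev 3)) := by
  have hL : IsSingLine (plusForm 4 F) (ev 0) (c • ev 1) := line_ev'' (by decide) hc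
  have hL' : IsSingLine (plusForm 4 F) (ev 2) (c' • ev 3) := line_ev'' (by decide) hc'
  refine ⟨rtE_rE ctx4 T4 hL, rtE_rE ctx4 T4 hL', ?_, ?_, ?_⟩
  · rw [same_rE_iff ctx4 T4 hL hL']
    rintro ⟨⟨α, β, e⟩, -⟩
    have := congrFun e (Sum.inl 2)
    simp at this
  · rw [commute_rE_iff ctx4 T4 hL hL']
    exact Or.inl ⟨(inS0_ev 0).polar (inS0_ev 2), (inS0_ev 0).polar ((inS0_ev 3).smul c'),
      ((inS0_ev 1).smul c).polar (inS0_ev 2), ((inS0_ev 1).smul c).polar ((inS0_ev 3).smul c')⟩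
  · rw [col_rE_iff' ctx4 T4 hL hL']
    rintro ⟨-, -, h⟩
    exact not_meetL_std hc hc' h

/-- the set of root elements of the lines of the solid `S₀` -/
def solidRoots : Set (Cfsg.POmega F ⇑(plusForm 4 F)) :=
  {z | ∃ u w : I4 → F, IsSingLine (plusForm 4 F) u w ∧ InS0 u ∧ InS0 w ∧ z = rE ctx4 u w}

/-- the subgroup generated by the root elements of the lines of the solid `S₀` -/
def R0 : Subgroup (Cfsg.POmega F ⇑(plusForm 4 F)) := Subgroup.closure solidRoots

/-- the star of a standard pair of disjoint lines of the solid is the set of solid roots -/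
theorem star'_std_set {c c' : F} (hc : c ≠ 0) (hc' : c' ≠ 0) :
    {z | Star' p (rE (ctx4 (F := F)) (ev 0) (c • ev 1)) (rE ctx4 (ev 2) (c' • ev 3)) z}
      = solidRoots := by
  ext z
  constructor
  · intro hz
    obtain ⟨u, w, hN, rfl⟩ := (rtE_iff_exists ctx4 T4 z).1 hz.1
    obtain ⟨h1, h2⟩ := (star'_std_c hc hc' hN).1 hz
    exact ⟨u, w, hN, h1, h2, rfl⟩
  · rintro ⟨u, w, hN, h1, h2, rfl⟩
    exact (star'_std_c hc hc' hN).2 ⟨h1, h2⟩

theorem starGrp_std_c {c c' : F} (hc : c ≠ 0) (hc' : c' ≠ 0) :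
    starGrp p (rE (ctx4 (F := F)) (ev 0) (c • ev 1)) (rE ctx4 (ev 2) (c' • ev 3)) = R0 := by
  unfold starGrp R0
  rw [star'_std_set hc hc']

/-- every element of `R₀` commutes with the root elements of the coordinate lines of the solid -/
theorem commute_of_mem_R0 {z : Cfsg.POmega F ⇑(plusForm 4 F)} (hz : z ∈ R0) {i j : Fin 4}
    (hij : i ≠ j) : z * rE ctx4 (ev i) (ev j) = rE ctx4 (ev i) (ev j) * z := by
  have hM := line_ev' (F := F) hij
  have hle : (R0 : Subgroup (Cfsg.POmega F ⇑(plusForm 4 F)))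
      ≤ Subgroup.centralizer {rE ctx4 (ev i) (ev j)} := by
    unfold R0
    rw [Subgroup.closure_le]
    rintro _ ⟨u, w, hN, h1, h2, rfl⟩
    rw [SetLike.mem_coe, Subgroup.mem_centralizer_iff]
    intro y hy
    rw [Set.mem_singleton_iff] at hy
    rw [hy]
    exact ((commute_rE_iff ctx4 T4 hN hM).2 (Or.inl ⟨h1.polar (inS0_ev i), h1.polar (inS0_ev j),
      h2.polar (inS0_ev i), h2.polar (inS0_ev j)⟩)).symm
  have := Subgroup.mem_centralizer_iff.1 (hle hz) _ (Set.mem_singleton _)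
  exact this.symm

/-- **a root element of `R₀` belongs to a line of the solid** -/
theorem inS0_of_mem_R0 {u w : I4 → F} (hN : IsSingLine (plusForm 4 F) u w)
    (hz : rE (ctx4 (F := F)) u w ∈ R0) : InS0 u ∧ InS0 w := by
  have key : ∀ i j : Fin 4, i ≠ j →
      PerpL (plusForm 4 F) u w (ev i) (ev j) ∨ MeetL u w (ev i) (ev j) := by
    intro i j hij
    exact (commute_rE_iff ctx4 T4 hN (line_ev' hij)).1 (commute_of_mem_R0 hz hij)
  exact inr_zero_of_four hN (key 0 2 (by decide)) (key 0 3 (by decide)) (key 1 2 (by decide))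
    (key 1 3 (by decide))

theorem rE_mem_R0 {u w : I4 → F} (hN : IsSingLine (plusForm 4 F) u w) (hu : InS0 u)
    (hw : InS0 w) : rE (ctx4 (F := F)) u w ∈ R0 :=
  Subgroup.subset_closure ⟨u, w, hN, hu, hw, rfl⟩

end Cfsg.Agent.Helper12.D4
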