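import Mathlib
import Cfsg.Agent.Helper12.D4I

/-!
# Normality of `Inndiag` in `Aut(PΩ⁺₈(q))`, part J: images of singular lines under semilinear
similitudes; the automorphism induced by a diagonal similarity stabilises `Q̄_{e₀}` and `R₀` and
centralises a root group
-/

set_option autoImplicit false
set_option linter.unusedSectionVars false
set_option linter.unusedVariables false
set_option linter.unusedSimpArgs false

namespace Cfsg.Agent.Helper12.D4

open Matrix QuadraticMap Cfsg.Agent.Helper44 Cfsg.Agent.Helper5 Cfsg.Agent.Helper5.AutO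

section general

variable {F : Type*} [Field F] {ι : Type} [Fintype ι] [DecidableEq ι]
variable {Q : QuadraticForm F (ι → F)}

/-- the image of a singular line under a semilinear similitude -/
theorem isSingLine_semiMap {M : GL ι F} {σ : F ≃+* F} {c : F} (h : IsSemiSim Q M σ c)
    {u w : ι → F} (hN : IsSingLine Q u w) (d : F) (hd : d ≠ 0) :
    IsSingLine Q (semiMap M σ u) (d • semiMap M σ w) := by
  refine isSingLine_of ?_ ?_ ?_ ?_
  · intro s t hst
    have h1 : semiMap M σ (σ.symm s • u + σ.symm (t * d) • w) = 0 := by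
      rw [semiMap_add, semiMap_smul, semiMap_smul, RingEquiv.apply_symm_apply,
        RingEquiv.apply_symm_apply, ← hst, smul_smul]
    have h2 : σ.symm s • u + σ.symm (t * d) • w = 0 := by
      apply semiMap_injective M σ
      rw [h1, semiMap_zero]
    obtain ⟨k1, k2⟩ := hN.indep _ _ h2
    have k1' : s = 0 := by
      have := congrArg σ k1
      rwa [RingEquiv.apply_symm_apply, map_zero] at this
    have k2' : t * d = 0 := by
      have := congrArg σ k2
      rwa [RingEquiv.apply_symm_apply, map_zero] at this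
    exact ⟨k1', (mul_eq_zero.1 k2').resolve_right hd⟩
  · rw [h.2, hN.Qp, map_zero, mul_zero]
  · rw [QuadraticMap.map_smul, h.2, hN.Qr, map_zero, mul_zero, smul_zero]
  · rw [QuadraticMap.polar_smul_right, h.polar, hN.polar_eq, map_zero, mul_zero, smul_zero]

end general

variable {F : Type*} [Field F] [Fintype F]

/-- a diagonal similarity of the hyperbolic form, with diagonal entries `a` -/
def IsDiagSim (D : ↥(Cfsg.Geo.quadSimilarityGroup (F := F) ⇑(plusForm 4 F))) (a : I4 → F) : Prop :=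
  ∀ (v : I4 → F) (j : I4), ((D.1 : Matrix I4 I4 F) *ᵥ v) j = a j * v j

variable {D : ↥(Cfsg.Geo.quadSimilarityGroup (F := F) ⇑(plusForm 4 F))} {a : I4 → F}

theorem IsDiagSim.mulVec_ev (hD : IsDiagSim D a) (i : Fin 4) :
    (D.1 : Matrix I4 I4 F) *ᵥ (ev i) = a (Sum.inl i) • ev i := by
  funext j
  rw [hD]
  rcases j with j | j
  · by_cases hji : j = i
    · subst hji
      simp
    · simp [ev_inl, hji]
  · simp

theorem IsDiagSim.mulVec_fv (hD : IsDiagSim D a) (i : Fin 4) :
    (D.1 : Matrix I4 I4 F) *ᵥ (fv i) = a (Sum.inr i) • fv i := by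
  funext j
  rw [hD]
  rcases j with j | j
  · simp
  · by_cases hji : j = i
    · subst hji
      simp
    · simp [fv_inr, hji]

theorem IsDiagSim.inS0 (hD : IsDiagSim D a) {v : I4 → F} (hv : InS0 v) :
    InS0 ((D.1 : Matrix I4 I4 F) *ᵥ v) := by
  intro i
  rw [hD, hv i, mul_zero]

theorem IsDiagSim.a_ne_zero (hD : IsDiagSim D a) (j : I4) : a j ≠ 0 := by
  intro h0
  have h1 : (D.1 : Matrix I4 I4 F) *ᵥ (Pi.single j 1) = 0 := by
    funext k
    rw [hD]
    by_cases hk : k = j
    · subst hk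
      rw [h0, zero_mul]
      rfl
    · rw [Pi.single_eq_of_ne hk, mul_zero]
      rfl
  have h2 := congrArg (fun v => ((D.1⁻¹ : GL I4 F) : Matrix I4 I4 F) *ᵥ v) h1
  simp only [Matrix.mulVec_mulVec, Matrix.mulVec_zero] at h2
  rw [← Units.val_mul, inv_mul_cancel, Units.val_one, Matrix.one_mulVec] at h2
  have := congrFun h2 j
  simp at this

variable {p : ℕ} [hp : Fact p.Prime] [CharP F p]

/-- the automorphism induced by a diagonal similarity maps `Q̄_{e₀}` into itself -/
theorem IsDiagSim.map_Qb (hD : IsDiagSim D a) {z : Cfsg.POmega F ⇑(plusForm 4 F)}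
    (hz : z ∈ Qb ctx4 (ev 0) (Q_ev 0)) :
    conjAut ⇑(plusForm 4 F) D z ∈ Qb ctx4 (ev 0) (Q_ev 0) := by
  obtain ⟨w, hw, rfl⟩ := hz
  rw [conjAut_rE ctx4 D (Q_ev 0) hw, hD.mulVec_ev 0]
  have hw' : w (Sum.inr 0) = 0 := by rwa [polar_ev] at hw
  have h1 : polar ⇑(plusForm 4 F) (ev 0)
      ((multFun ⇑(plusForm 4 F) D : F)⁻¹ • (D.1 : Matrix I4 I4 F) *ᵥ w) = 0 := by
    rw [QuadraticMap.polar_smul_right, polar_ev, hD, hw', mul_zero, smul_zero]
  rw [rE_smul_left ctx4 (Q_ev 0) h1]
  apply rE_mem_Qb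
  rw [QuadraticMap.polar_smul_right, h1, smul_zero]

/-- the automorphism induced by a diagonal similarity maps `R₀` into itself -/
theorem IsDiagSim.map_R0 (hD : IsDiagSim D a) {z : Cfsg.POmega F ⇑(plusForm 4 F)}
    (hz : z ∈ R0) : conjAut ⇑(plusForm 4 F) D z ∈ R0 := by
  have hle : (R0 : Subgroup (Cfsg.POmega F ⇑(plusForm 4 F)))
      ≤ R0.comap (conjAut ⇑(plusForm 4 F) D).toMonoidHom := by
    unfold R0
    rw [Subgroup.closure_le]
    rintro _ ⟨u, w, hN, hu, hw, rfl⟩
    rw [SetLike.mem_coe, Subgroup.mem_comap]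
    show conjAut ⇑(plusForm 4 F) D (rE ctx4 u w) ∈ Subgroup.closure solidRoots
    rw [conjAut_rE ctx4 D hN.Qp hN.polar_eq]
    apply Subgroup.subset_closure
    refine ⟨_, _, ?_, hD.inS0 hu, (hD.inS0 hw).smul _, rfl⟩
    have := isSingLine_semiMap (isSemiSim_of_sim D) hN (multFun ⇑(plusForm 4 F) D : F)⁻¹
      (inv_ne_zero (multFun ⇑(plusForm 4 F) D).ne_zero)
    exact this
  exact hle hz

/-- the automorphism induced by a diagonal similarity centralises the root group of
`⟨e₁, f₂⟩` when `a(e₁) a(f₂)` is the multiplier -/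
theorem IsDiagSim.fix_root (hD : IsDiagSim D a)
    (ha : a (Sum.inl 1) * a (Sum.inr 2) = (multFun ⇑(plusForm 4 F) D : F)) (lam : F) :
    conjAut ⇑(plusForm 4 F) D (rE ctx4 (ev 1) (lam • fv 2)) = rE ctx4 (ev 1) (lam • fv 2) := by
  have h0 : polar ⇑(plusForm 4 F) (ev 1) (lam • fv 2) = 0 := by
    rw [polar_ev]
    simp
  rw [conjAut_rE ctx4 D (Q_ev 1) h0, hD.mulVec_ev 1, Matrix.mulVec_smul, hD.mulVec_fv 2]
  have h1 : polar ⇑(plusForm 4 F) (ev 1)
      ((multFun ⇑(plusForm 4 F) D : F)⁻¹ • lam • a (Sum.inr 2) • fv 2) = 0 := by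
    rw [polar_ev]
    simp
  rw [rE_smul_left ctx4 (Q_ev 1) h1]
  congr 1
  rw [smul_smul, smul_smul, smul_smul]
  congr 1
  have hμ : (multFun ⇑(plusForm 4 F) D : F) ≠ 0 := (multFun ⇑(plusForm 4 F) D).ne_zero
  rw [← ha]
  have h1 := hD.a_ne_zero (Sum.inl 1)
  have h2 := hD.a_ne_zero (Sum.inr 2)
  field_simp

end Cfsg.Agent.Helper12.D4
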