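import Mathlib
import Cfsg.Agent.Helper12.D4J

/-!
# Normality of `Inndiag` in `Aut(PΩ⁺₈(q))`, part K: an inner-diagonal automorphism maps every
subgroup `starGrp x' y'` (`NPc` pair) into a conjugate of itself; consequently every
`Aut`-conjugate of an inner-diagonal automorphism maps each `Q̄_a` into some `Q̄_v`
-/

set_option autoImplicit false
set_option linter.unusedSectionVars false
set_option linter.unusedVariables false
set_option linter.unusedSimpArgs false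

namespace Cfsg.Agent.Helper12.D4

open Matrix QuadraticMap Cfsg.Agent.Helper44 Cfsg.Agent.Helper5 Cfsg.Agent.Helper5.AutO
open Cfsg.Agent.Helper12.GammaO Cfsg.Agent.Helper45.OmegaParity

variable {F : Type*} [Field F] [Fintype F] {p : ℕ} [hp : Fact p.Prime] [CharP F p]
variable {t : I4 → F} (ht : plusForm 4 F t ≠ 0)

/-- every similarity with `dHom = 1` induces (inner) ∘ (diagonal with `a(e₁) a(f₂) = μ`) -/
def HasDiagReps : Prop :=
  ∀ g : ↥(Cfsg.Geo.quadSimilarityGroup (F := F) ⇑(plusForm 4 F)),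
    dHom (plusForm 4 F) ht 4 g = 1 →
    ∃ (D : ↥(Cfsg.Geo.quadSimilarityGroup (F := F) ⇑(plusForm 4 F))) (a : I4 → F)
      (ω : ↥(Cfsg.Omega F ⇑(plusForm 4 F))), IsDiagSim D a ∧
      a (Sum.inl 1) * a (Sum.inr 2) = (multFun ⇑(plusForm 4 F) D : F) ∧
      conjAut ⇑(plusForm 4 F) g = MulAut.conj (prj ω) * conjAut ⇑(plusForm 4 F) D

variable {ht}

/-- the standard case -/
theorem exists_conj_std (hR : HasDiagReps ht)
    (g : ↥(Cfsg.Geo.quadSimilarityGroup (F := F) ⇑(plusForm 4 F)))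
    (hg : dHom (plusForm 4 F) ht 4 g = 1) :
    ∃ t₀ : Cfsg.POmega F ⇑(plusForm 4 F),
      (∀ z ∈ Qb ctx4 (ev 0) (Q_ev 0),
        t₀⁻¹ * conjAut ⇑(plusForm 4 F) g z * t₀ ∈ Qb ctx4 (ev 0) (Q_ev 0)) ∧
      (∀ z ∈ (R0 : Subgroup (Cfsg.POmega F ⇑(plusForm 4 F))),
        t₀⁻¹ * conjAut ⇑(plusForm 4 F) g z * t₀ ∈ (R0 : Subgroup _)) := by
  obtain ⟨D, a, ω, hD, -, e⟩ := hR g hg
  refine ⟨prj ω, ?_, ?_⟩
  · intro z hz
    rw [e, MulAut.mul_apply, MulAut.conj_apply]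
    have : (prj ω)⁻¹ * (prj ω * conjAut ⇑(plusForm 4 F) D z * (prj ω)⁻¹) * prj ω
        = conjAut ⇑(plusForm 4 F) D z := by group
    rw [this]
    exact hD.map_Qb hz
  · intro z hz
    rw [e, MulAut.mul_apply, MulAut.conj_apply]
    have : (prj ω)⁻¹ * (prj ω * conjAut ⇑(plusForm 4 F) D z * (prj ω)⁻¹) * prj ω
        = conjAut ⇑(plusForm 4 F) D z := by group
    rw [this]
    exact hD.map_R0 hz

/-- conjugating an inner-diagonal automorphism by the automorphism of an isometry -/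
theorem exists_conj_lin (e : (I4 → F) ≃ₗ[F] (I4 → F))
    (he : ∀ x, plusForm 4 F (e x) = plusForm 4 F x)
    (g : ↥(Cfsg.Geo.quadSimilarityGroup (F := F) ⇑(plusForm 4 F)))
    (hg : dHom (plusForm 4 F) ht 4 g = 1) :
    ∃ g' : ↥(Cfsg.Geo.quadSimilarityGroup (F := F) ⇑(plusForm 4 F)),
      dHom (plusForm 4 F) ht 4 g' = 1 ∧
      ∀ z, conjAut ⇑(plusForm 4 F) g (semiAut (isSemiSim_of_lin e he) z)
        = semiAut (isSemiSim_of_lin e he) (conjAut ⇑(plusForm 4 F) g' z) := by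
  set h := isSemiSim_of_lin (Q := plusForm 4 F) e he with hh
  set xe : ↥(GamO ⇑(plusForm 4 F)) := ⟨⟨_, _⟩, h.pair⟩ with hxe
  have hκ : semiAut h = psi ⇑(plusForm 4 F) xe := semiAut_eq_psi h
  refine ⟨conjSim (plusForm 4 F) xe⁻¹ g, ?_, ?_⟩
  · rw [dHom_conjSim, hg, map_one]
  · intro z
    have h1 := psi_conj (plusForm 4 F) xe⁻¹ g
    rw [map_inv, inv_inv] at h1
    have h2 : conjAut ⇑(plusForm 4 F) g * psi ⇑(plusForm 4 F) xe
        = psi ⇑(plusForm 4 F) xe * conjAut ⇑(plusForm 4 F) (conjSim (plusForm 4 F) xe⁻¹ g) := by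
      rw [← h1]
      group
    have h3 := congrArg (fun f : MulAut (Cfsg.POmega F ⇑(plusForm 4 F)) => f z) h2
    simp only [MulAut.mul_apply] at h3
    rw [hκ]
    exact h3

/-- **the key lemma**: an inner-diagonal automorphism maps the group generated by the star of
an `NPc` pair into a conjugate of itself -/
theorem exists_conj_starGrp (hR : HasDiagReps ht)
    (g : ↥(Cfsg.Geo.quadSimilarityGroup (F := F) ⇑(plusForm 4 F)))
    (hg : dHom (plusForm 4 F) ht 4 g = 1) {x' y' : Cfsg.POmega F ⇑(plusForm 4 F)}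
    (hxy : NPc p x' y') :
    ∃ t₁ : Cfsg.POmega F ⇑(plusForm 4 F), ∀ z ∈ starGrp p x' y',
      t₁⁻¹ * conjAut ⇑(plusForm 4 F) g z * t₁ ∈ starGrp p x' y' := by
  obtain ⟨e, he, hcase⟩ := exists_std_of_nPc hxy
  obtain ⟨g', hg', hcomm⟩ := exists_conj_lin e he g hg
  obtain ⟨t₀, hQ, hR0⟩ := exists_conj_std hR g' hg'
  set κ := semiAut (isSemiSim_of_lin (Q := plusForm 4 F) e he) with hκ
  refine ⟨κ t₀, ?_⟩
  have key : ∀ (A₀ : Subgroup (Cfsg.POmega F ⇑(plusForm 4 F))),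
      (∀ z ∈ A₀, t₀⁻¹ * conjAut ⇑(plusForm 4 F) g' z * t₀ ∈ A₀) →
      ∀ z ∈ A₀.map κ.toMonoidHom,
        (κ t₀)⁻¹ * conjAut ⇑(plusForm 4 F) g z * κ t₀ ∈ A₀.map κ.toMonoidHom := by
    rintro A₀ hA₀ _ ⟨z₀, hz₀, rfl⟩
    refine ⟨t₀⁻¹ * conjAut ⇑(plusForm 4 F) g' z₀ * t₀, hA₀ z₀ hz₀, ?_⟩
    show κ (t₀⁻¹ * conjAut ⇑(plusForm 4 F) g' z₀ * t₀) = _
    rw [map_mul, map_mul, map_inv, ← hcomm z₀]
    rfl
  rcases hcase with ⟨c, hc, e1, e2⟩ | ⟨e1, e2⟩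
  · have hA : starGrp p x' y' = (Qb ctx4 (ev 0) (Q_ev 0)).map κ.toMonoidHom := by
      rw [← starGrp_std (p := p) hc, map_starGrp, ← e1, ← e2]
    rw [hA]
    exact key _ hQ
  · have hA : starGrp p x' y' = (R0 : Subgroup _).map κ.toMonoidHom := by
      rw [← starGrp_std_c (p := p) (one_ne_zero (α := F)) (one_ne_zero (α := F)), map_starGrp,
        one_smul, one_smul, ← e1, ← e2]
    rw [hA]
    exact key _ hR0

include hp in
/-- **every `Aut`-conjugate of an inner-diagonal automorphism maps each `Q̄_a` into a `Q̄_v`** -/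
theorem mapsQb_conj_aut (hR : HasDiagReps ht)
    (g : ↥(Cfsg.Geo.quadSimilarityGroup (F := F) ⇑(plusForm 4 F)))
    (hg : dHom (plusForm 4 F) ht 4 g = 1) (α : MulAut (Cfsg.POmega F ⇑(plusForm 4 F))) :
    MapsQb ctx4 (α * conjAut ⇑(plusForm 4 F) g * α⁻¹) := by
  set β : MulAut (Cfsg.POmega F ⇑(plusForm 4 F)) := α * conjAut ⇑(plusForm 4 F) g * α⁻¹ with hβ
  have hβapp : ∀ z, β z = α (conjAut ⇑(plusForm 4 F) g (α⁻¹ z)) := fun z => rfl
  -- the subgroup `A = α⁻¹(Q̄_{e₀})`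
  have hnp : NPc p (α⁻¹ (rE (ctx4 (F := F)) (ev 0) (ev 1)))
      (α⁻¹ (rE ctx4 (ev 0) ((1 : F) • fv 1))) :=
    (nPc_iff α⁻¹ _ _).2 (nPc_std_b one_ne_zero)
  obtain ⟨t₁, ht₁⟩ := exists_conj_starGrp hR g hg hnp
  have hA : starGrp p (α⁻¹ (rE (ctx4 (F := F)) (ev 0) (ev 1)))
      (α⁻¹ (rE ctx4 (ev 0) ((1 : F) • fv 1)))
      = (Qb ctx4 (ev 0) (Q_ev 0)).map (α⁻¹ : MulAut _).toMonoidHom := by
    rw [← starGrp_std (p := p) (one_ne_zero (α := F)), map_starGrp]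
  rw [hA] at ht₁
  -- `β` maps `Q̄_{e₀}` into a conjugate
  have h0 : ∀ y ∈ Qb ctx4 (ev 0) (Q_ev 0),
      (α t₁)⁻¹ * β y * α t₁ ∈ Qb ctx4 (ev 0) (Q_ev 0) := by
    intro y hy
    obtain ⟨y', hy', e⟩ := ht₁ (α⁻¹ y) ⟨y, hy, rfl⟩
    have e' : α (α⁻¹ y') = y' := by
      show (α * α⁻¹) y' = y'
      rw [mul_inv_cancel]
      rfl
    have : (α t₁)⁻¹ * β y * α t₁ = y' := by
      rw [hβapp, ← map_inv, ← map_mul, ← map_mul, ← e]
      exact e'
    rw [this]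
    exact hy'
  intro a ha ha0
  obtain ⟨z, w, c, hz, hzw, hc, hga⟩ := exists_eichlerO_map_point (plusForm 4 F)
    (ctx4 (F := F)).hQ (by have := (ctx4 (F := F)).hn; omega) ha0 (ev_ne_zero 0) ha (Q_ev 0)
  set s := prj (eO (ctx4 (F := F)) z w) with hs
  obtain ⟨gr, hgr⟩ := prj_surjective ((β s)⁻¹ * α t₁)
  obtain ⟨v, hv, hv0, hmap⟩ := mapsQb_conj ctx4 gr (ev 0) (Q_ev 0) (ev_ne_zero 0)
  refine ⟨v, hv, hv0, ?_⟩
  rintro x ⟨w', hw', rfl⟩
  -- `y = s x s⁻¹ ∈ Q̄_{e₀}`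
  have hy : s * rE ctx4 a w' * s⁻¹ ∈ Qb ctx4 (ev 0) (Q_ev 0) := by
    rw [hs, prj_conj_rE ctx4 _ ha hw', eO_val, hga]
    have h1 : polar ⇑(plusForm 4 F) (ev 0) (lin (plusForm 4 F) (eichlerO (plusForm 4 F) z w) w')
        = 0 := by
      have h2 : polar ⇑(plusForm 4 F) (lin (plusForm 4 F) (eichlerO (plusForm 4 F) z w) a)
          (lin (plusForm 4 F) (eichlerO (plusForm 4 F) z w) w') = 0 := by
        rw [polar_lin, hw']
      rw [hga, QuadraticMap.polar_smul_left, smul_eq_mul] at h2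
      exact (mul_eq_zero.1 h2).resolve_left hc
    rw [rE_smul_left ctx4 (Q_ev 0) h1]
    apply rE_mem_Qb
    rw [QuadraticMap.polar_smul_right, h1, smul_zero]
  have h1 := h0 _ hy
  have h2 := hmap _ h1
  rw [MulAut.conj_apply, hgr] at h2
  have h3 : (β s)⁻¹ * α t₁ * ((α t₁)⁻¹ * β (s * rE ctx4 a w' * s⁻¹) * α t₁)
      * ((β s)⁻¹ * α t₁)⁻¹ = β (rE ctx4 a w') := by
    rw [map_mul, map_mul, map_inv]
    group
  rw [h3] at h2
  exact h2

end Cfsg.Agent.Helper12.D4
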