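import Mathlib
import Cfsg.Agent.Helper12.D4K
import Cfsg.Agent.Helper5.AutOQb

/-!
# Normality of `Inndiag` in `Aut(PΩ⁺₈(q))`, part L: a semilinear similitude whose automorphism
centralises a root group is linear; parametrisation of the image of a root group
-/

set_option autoImplicit false
set_option linter.unusedSectionVars false
set_option linter.unusedVariables false
set_option linter.unusedSimpArgs false

namespace Cfsg.Agent.Helper12.D4

open Matrix QuadraticMap Cfsg.Agent.Helper44 Cfsg.Agent.Helper5 Cfsg.Agent.Helper5.AutO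
open Cfsg.Agent.Helper12.GammaO Cfsg.Agent.Helper45.OmegaParity

section general

variable {F : Type*} [Field F] [Fintype F] {ι : Type} [Fintype ι] [DecidableEq ι]
variable {Q : QuadraticForm F (ι → F)}

/-- the nilpotent part of an Eichler element of a singular line -/
theorem lin_eichlerO_line {a b : ι → F} (h : IsSingLine Q a b) (μ : F) (y : ι → F) :
    lin Q (eichlerO Q a (μ • b)) y = y + μ • (polar ⇑Q b y • a - polar ⇑Q a y • b) := by
  have h0 : polar ⇑Q a (μ • b) = 0 := by
    rw [QuadraticMap.polar_smul_right, h.polar_eq, smul_zero]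
  rw [lin_eichlerO Q h.Qp h0, QuadraticMap.polar_smul_left, QuadraticMap.map_smul, h.Qr]
  simp only [smul_eq_mul, mul_zero, zero_mul, zero_smul, sub_zero]
  rw [smul_sub, add_sub_assoc]
  congr 2
  · rw [smul_smul]
  · rw [smul_smul, smul_smul, mul_comm]

/-- **a semilinear similitude whose automorphism centralises a root group is linear** -/
theorem sigma_eq_refl_of_fix (C : Ctx Q) (T : HypTriple Q) {M : GL ι F} {σ : F ≃+* F} {c : F}
    (h : IsSemiSim Q M σ c) {a b : ι → F} (hN : IsSingLine Q a b)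
    (hfix : ∀ μ : F, semiAut h (rE C a (μ • b)) = rE C a (μ • b)) : σ = RingEquiv.refl F := by
  have hc : c⁻¹ ≠ 0 := inv_ne_zero h.1
  have hN' : IsSingLine Q (semiMap M σ a) (c⁻¹ • semiMap M σ b) := isSingLine_semiMap h hN _ hc
  set a' := semiMap M σ a with ha'
  set b' := c⁻¹ • semiMap M σ b with hb'
  have hpol : ∀ μ : F, polar ⇑Q a (μ • b) = 0 := fun μ => by
    rw [QuadraticMap.polar_smul_right, hN.polar_eq, smul_zero]
  have hpol' : ∀ μ : F, polar ⇑Q a' (μ • b') = 0 := fun μ => by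
    rw [QuadraticMap.polar_smul_right, hN'.polar_eq, smul_zero]
  have key : ∀ μ : F, eichlerO Q a' (σ μ • b') = eichlerO Q a (μ • b) := by
    intro μ
    apply eichlerO_eq_of_rE_eq C T hN'.Qp (hpol' _) hN.Qp (hpol _)
    rw [← hfix μ, semiAut_rE C h hN.Qp (hpol μ), semiMap_smul, hb', smul_comm]
  -- the nilpotent parts
  have hnil : ∀ (μ : F) (y : ι → F),
      σ μ • (polar ⇑Q b' y • a' - polar ⇑Q a' y • b') = μ • (polar ⇑Q b y • a - polar ⇑Q a y • b) := by
    intro μ y
    have h1 := congrArg (fun E => lin Q E y) (key μ)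
    simp only [lin_eichlerO_line hN', lin_eichlerO_line hN] at h1
    exact add_left_cancel h1
  obtain ⟨y, hy⟩ := exists_polar_ne_zero Q C.hQ hN.p_ne
  have hNy : polar ⇑Q b y • a - polar ⇑Q a y • b ≠ 0 := by
    intro h0
    have := (hN.indep (polar ⇑Q b y) (-(polar ⇑Q a y)) (by rw [neg_smul, ← sub_eq_add_neg]; exact h0)).2
    exact hy (neg_eq_zero.1 this)
  apply RingEquiv.ext
  intro μ
  have h1 := hnil 1 y
  rw [map_one, one_smul, one_smul] at h1
  have h2 := hnil μ y
  rw [h1] at h2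
  have h3 : (σ μ - μ) • (polar ⇑Q b y • a - polar ⇑Q a y • b) = 0 := by
    rw [sub_smul, h2, sub_self]
  rcases smul_eq_zero.1 h3 with h4 | h4
  · exact sub_eq_zero.1 h4
  · exact absurd h4 hNy

/-- every element of `gammaPOmega` is a `semiAut` -/
theorem exists_semiAut_eq_of_mem_gamma {β : MulAut (Cfsg.POmega F ⇑Q)}
    (hβ : β ∈ Cfsg.gammaPOmega F ⇑Q) :
    ∃ (M : GL ι F) (σ : F ≃+* F) (c : F) (h : IsSemiSim Q M σ c), β = semiAut h := by
  rw [gammaPOmega_eq_range] at hβ
  obtain ⟨x, rfl⟩ := hβ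
  obtain ⟨c, h, e⟩ := exists_semiAut_eq_psi x
  exact ⟨_, _, c, h, e⟩

variable {p : ℕ} [hp : Fact p.Prime] [CharP F p]

include hp in
/-- **the image of a root group under an automorphism is a root group, bijectively** -/
theorem exists_root_param (C : Ctx Q) (T : HypTriple Q) (α : MulAut (Cfsg.POmega F ⇑Q))
    {u w : ι → F} (hL : IsSingLine Q u w) :
    ∃ a b : ι → F, IsSingLine Q a b ∧
      ∀ μ : F, ∃ lam : F, α (rE C u (lam • w)) = rE C a (μ • b) := by
  obtain ⟨a, b, hN, e⟩ := (rtE_iff_exists (p := p) C T _).1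
    ((rtE_iff (p := p) α _).2 (rtE_rE (p := p) C T hL))
  refine ⟨a, b, hN, ?_⟩
  intro μ
  by_cases hμ : μ = 0
  · refine ⟨0, ?_⟩
    rw [hμ, zero_smul, zero_smul, rE_zero, rE_zero, map_one]
  have hNμ : IsSingLine Q a (μ • b) := isSingLine_smul hN hμ
  have hsame : Same p (rE C a b) (rE C a (μ • b)) :=
    (same_rE_iff C T hN hNμ).2 ⟨inL_left a b, ⟨0, μ, by rw [zero_smul, zero_add]⟩⟩
  have hrt : RtE p (α⁻¹ (rE C a (μ • b))) := (rtE_iff (p := p) α⁻¹ _).2 (rtE_rE (p := p) C T hNμ)
  obtain ⟨u', w', hN', e'⟩ := (rtE_iff_exists (p := p) C T _).1 hrt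
  have hsame' : Same p (rE C u w) (rE C u' w') := by
    have h1 : α⁻¹ (rE C a b) = rE C u w := by
      rw [← e]
      show (α⁻¹ * α) (rE C u w) = _
      rw [inv_mul_cancel]
      rfl
    rw [← h1, ← e']
    exact (same_iff (p := p) α⁻¹ _ _).2 hsame
  obtain ⟨lam, hlam⟩ := eichlerO_of_sameL hL ((same_rE_iff C T hL hN').1 hsame')
  refine ⟨lam, ?_⟩
  rw [← rE_congr C hlam, ← e']
  show (α * α⁻¹) (rE C a (μ • b)) = _
  rw [mul_inv_cancel]
  rfl

end general

end Cfsg.Agent.Helper12.D4
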