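import Mathlib
import Cfsg.Agent.Helper12.D4L

/-!
# Normality of `Inndiag` in `Aut(PΩ⁺₈(q))`, part M: assembly.  Every `Aut`-conjugate of an
inner-diagonal automorphism is inner-diagonal (given diagonal coset representatives).
-/

set_option autoImplicit false
set_option linter.unusedSectionVars false
set_option linter.unusedVariables false
set_option linter.unusedSimpArgs false

namespace Cfsg.Agent.Helper12.D4

open Matrix QuadraticMap Cfsg.Agent.Helper44 Cfsg.Agent.Helper5 Cfsg.Agent.Helper5.AutO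
open Cfsg.Agent.Helper12.GammaO Cfsg.Agent.Helper45.OmegaParity

variable {F : Type*} [Field F] [Fintype F] {p : ℕ} [hp : Fact p.Prime] [CharP F p]
variable {t : I4 → F} {ht : plusForm 4 F t ≠ 0}

theorem line_e1_f2 : IsSingLine (plusForm 4 F) (ev 1) (fv 2) := by
  refine isSingLine_of ?_ (Q_ev 1) (Q_fv 2) (by rw [polar_ev]; simp)
  intro s t' hst
  have h1 := congrFun hst (Sum.inl 1)
  have h2 := congrFun hst (Sum.inr 2)
  simp at h1 h2
  exact ⟨h1, h2⟩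

/-- the automorphism induced by an element of `Ω`, as a `conjAut` -/
theorem conjAut_toGO_Omega (ω : ↥(Cfsg.Omega F ⇑(plusForm 4 F))) :
    conjAut ⇑(plusForm 4 F) (toGO (plusForm 4 F) ω.1) = MulAut.conj (prj ω) := by
  have h1 := conjAut_of_mem_Omega ⇑(plusForm 4 F) ω
    (isometryGroup_le_quadSimilarityGroup ⇑(plusForm 4 F) ω.1.2)
  exact h1

theorem dHom_toGO_Omega (ω : ↥(Cfsg.Omega F ⇑(plusForm 4 F))) :
    dHom (plusForm 4 F) ht 4 (toGO (plusForm 4 F) ω.1) = 1 := by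
  rw [dHom_toGO]
  exact hom_eq_one_of_mem_Omega (detHom ⇑(plusForm 4 F)) ω.2

/-- a similarity whose automorphism maps `R₀` into itself has `dHom = 1` -/
theorem dHom_eq_one_of_map_R0 (g : ↥(Cfsg.Geo.quadSimilarityGroup (F := F) ⇑(plusForm 4 F)))
    (h : ∀ y ∈ (R0 : Subgroup (Cfsg.POmega F ⇑(plusForm 4 F))),
      conjAut ⇑(plusForm 4 F) g y ∈ (R0 : Subgroup _)) :
    dHom (plusForm 4 F) ht 4 g = 1 := by
  have hcol : ∀ i : Fin 4, InS0 ((g.1 : Matrix I4 I4 F) *ᵥ (ev i)) := by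
    intro i
    obtain ⟨j, hij⟩ : ∃ j : Fin 4, i ≠ j := by
      by_cases h0 : i = 0
      · exact ⟨1, by rw [h0]; decide⟩
      · exact ⟨0, h0⟩
    have hN := line_ev' (F := F) hij
    have h1 := h _ (rE_mem_R0 hN (inS0_ev i) (inS0_ev j))
    rw [conjAut_rE ctx4 g hN.Qp hN.polar_eq] at h1
    have hN' := isSingLine_semiMap (isSemiSim_of_sim g) hN (multFun ⇑(plusForm 4 F) g : F)⁻¹
      (inv_ne_zero (multFun ⇑(plusForm 4 F) g).ne_zero)
    exact (inS0_of_mem_R0 hN' h1).1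
  apply dHom_eq_one_of_stab
  intro v hv
  rw [mem_stdSing] at hv ⊢
  intro k
  rw [Matrix.mulVec, dotProduct, Fintype.sum_sum_type]
  have h1 : ∑ i : Fin 4, (g.1 : Matrix I4 I4 F) (Sum.inr k) (Sum.inr i) * v (Sum.inr i) = 0 := by
    apply Finset.sum_eq_zero
    intro i _
    rw [hv i, mul_zero]
  have h2 : ∑ i : Fin 4, (g.1 : Matrix I4 I4 F) (Sum.inr k) (Sum.inl i) * v (Sum.inl i) = 0 := by
    apply Finset.sum_eq_zero
    intro i _
    have h3 := hcol i k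
    have h4 : ((g.1 : Matrix I4 I4 F) *ᵥ (ev i)) (Sum.inr k)
        = (g.1 : Matrix I4 I4 F) (Sum.inr k) (Sum.inl i) := by
      unfold ev
      rw [Matrix.mulVec_single_one]
      rfl
    rw [← h4, h3, zero_mul]
  rw [h1, h2, add_zero]

include hp in
/-- an `Aut`-conjugate of an inner-diagonal automorphism maps a standard subgroup into a
conjugate of itself -/
theorem exists_conj_map (hR : HasDiagReps ht)
    (g : ↥(Cfsg.Geo.quadSimilarityGroup (F := F) ⇑(plusForm 4 F)))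
    (hg : dHom (plusForm 4 F) ht 4 g = 1) (α : MulAut (Cfsg.POmega F ⇑(plusForm 4 F)))
    {A₀ : Subgroup (Cfsg.POmega F ⇑(plusForm 4 F))} {x₀ y₀ : Cfsg.POmega F ⇑(plusForm 4 F)}
    (hnp : NPc p x₀ y₀) (hA₀ : starGrp p x₀ y₀ = A₀) :
    ∃ t₁ : Cfsg.POmega F ⇑(plusForm 4 F), ∀ y ∈ A₀,
      t₁⁻¹ * (α * conjAut ⇑(plusForm 4 F) g * α⁻¹) y * t₁ ∈ A₀ := by
  have hnp' : NPc p (α⁻¹ x₀) (α⁻¹ y₀) := (nPc_iff α⁻¹ _ _).2 hnp
  obtain ⟨t₁, ht₁⟩ := exists_conj_starGrp hR g hg hnp'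
  have hA : starGrp p (α⁻¹ x₀) (α⁻¹ y₀) = A₀.map (α⁻¹ : MulAut _).toMonoidHom := by
    rw [← hA₀, map_starGrp]
  rw [hA] at ht₁
  refine ⟨α t₁, ?_⟩
  intro y hy
  obtain ⟨y', hy', e⟩ := ht₁ (α⁻¹ y) ⟨y, hy, rfl⟩
  have e' : α (α⁻¹ y') = y' := by
    show (α * α⁻¹) y' = y'
    rw [mul_inv_cancel]
    rfl
  have : (α t₁)⁻¹ * (α * conjAut ⇑(plusForm 4 F) g * α⁻¹) y * α t₁ = y' := by
    show (α t₁)⁻¹ * α (conjAut ⇑(plusForm 4 F) g (α⁻¹ y)) * α t₁ = y'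
    rw [← map_inv, ← map_mul, ← map_mul, ← e]
    exact e'
  rw [this]
  exact hy'

include hp in
/-- **the diagonal case** -/
theorem conj_diag_mem (hR : HasDiagReps ht) (α : MulAut (Cfsg.POmega F ⇑(plusForm 4 F)))
    {D : ↥(Cfsg.Geo.quadSimilarityGroup (F := F) ⇑(plusForm 4 F))} {a : I4 → F}
    (hD : IsDiagSim D a)
    (ha : a (Sum.inl 1) * a (Sum.inr 2) = (multFun ⇑(plusForm 4 F) D : F)) :
    ∃ g₁ : ↥(Cfsg.Geo.quadSimilarityGroup (F := F) ⇑(plusForm 4 F)),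
      dHom (plusForm 4 F) ht 4 g₁ = 1 ∧
      α * conjAut ⇑(plusForm 4 F) D * α⁻¹ = conjAut ⇑(plusForm 4 F) g₁ := by
  have hDd : dHom (plusForm 4 F) ht 4 D = 1 := by
    apply dHom_eq_one_of_stab
    intro v hv
    rw [mem_stdSing] at hv ⊢
    exact hD.inS0 hv
  set β : MulAut (Cfsg.POmega F ⇑(plusForm 4 F)) := α * conjAut ⇑(plusForm 4 F) D * α⁻¹ with hβ
  -- `β` is induced by a semilinear similitude
  have hmaps : MapsQb ctx4 β := mapsQb_conj_aut (p := p) hR D hDd α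
  obtain ⟨s₁, s₂, M₀, σ₀, c₀, h₀, e₀⟩ :=
    Cfsg.Agent.Helper5.AutOQb.exists_semiAut_of_mapsQb (p := p) ctx4 T4 hmaps
  have hγ : β ∈ Cfsg.gammaPOmega F ⇑(plusForm 4 F) := by
    rw [e₀]
    exact mul_mem (mul_mem (inv_mem (conj_mem_gamma s₁)) (semiAut_mem_gamma h₀))
      (conj_mem_gamma s₂)
  obtain ⟨M, σ, c, h, e⟩ := exists_semiAut_eq_of_mem_gamma hγ
  -- `σ = 1`
  obtain ⟨a', b', hN, hpar⟩ := exists_root_param (p := p) ctx4 T4 α (line_e1_f2 (F := F))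
  have hfix : ∀ μ : F, semiAut h (rE ctx4 a' (μ • b')) = rE ctx4 a' (μ • b') := by
    intro μ
    obtain ⟨lam, hlam⟩ := hpar μ
    rw [← e, ← hlam]
    show α (conjAut ⇑(plusForm 4 F) D (α⁻¹ (α (rE ctx4 (ev 1) (lam • fv 2))))) = _
    have e' : α⁻¹ (α (rE ctx4 (ev 1) (lam • fv 2))) = rE ctx4 (ev 1) (lam • fv 2) := by
      show (α⁻¹ * α) _ = _
      rw [inv_mul_cancel]
      rfl
    rw [e', hD.fix_root ha lam]
  have hσ : σ = RingEquiv.refl F := sigma_eq_refl_of_fix ctx4 T4 h hN hfix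
  subst hσ
  -- `β = conjAut g₁`
  set g₁ : ↥(Cfsg.Geo.quadSimilarityGroup (F := F) ⇑(plusForm 4 F)) :=
    ⟨M, ⟨Units.mk0 c h.1, fun v => h.2 v⟩⟩ with hg₁
  have e₁ : β = conjAut ⇑(plusForm 4 F) g₁ := by
    rw [e, semiAut_eq_psi h, ← psi_ofSim]
    rfl
  refine ⟨g₁, ?_, e₁⟩
  -- `dHom g₁ = 1`
  obtain ⟨t₁, ht₁⟩ := exists_conj_map (p := p) hR D hDd α
    (nPc_std_c (p := p) (one_ne_zero (α := F)) (one_ne_zero (α := F)))
    (starGrp_std_c (p := p) (one_ne_zero (α := F)) (one_ne_zero (α := F)))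
  obtain ⟨ω₁, hω₁⟩ := prj_surjective t₁
  set g₂ := (toGO (plusForm 4 F) ω₁.1)⁻¹ * g₁ with hg₂
  have h2 : dHom (plusForm 4 F) ht 4 g₂ = 1 := by
    apply dHom_eq_one_of_map_R0
    intro y hy
    have h3 := ht₁ y hy
    rw [← hβ, e₁, ← hω₁] at h3
    rw [hg₂, map_mul, map_inv, conjAut_toGO_Omega, MulAut.mul_apply, MulAut.inv_apply,
      MulAut.conj_symm_apply]
    exact h3
  rw [hg₂, map_mul, map_inv, dHom_toGO_Omega, inv_one, one_mul] at h2
  exact h2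

include hp in
/-- **every `Aut`-conjugate of an inner-diagonal automorphism is inner-diagonal** -/
theorem conj_mem_cp (hR : HasDiagReps ht) (α : MulAut (Cfsg.POmega F ⇑(plusForm 4 F)))
    (g : ↥(Cfsg.Geo.quadSimilarityGroup (F := F) ⇑(plusForm 4 F)))
    (hg : dHom (plusForm 4 F) ht 4 g = 1) :
    ∃ g' : ↥(Cfsg.Geo.quadSimilarityGroup (F := F) ⇑(plusForm 4 F)),
      dHom (plusForm 4 F) ht 4 g' = 1 ∧
      α * conjAut ⇑(plusForm 4 F) g * α⁻¹ = conjAut ⇑(plusForm 4 F) g' := by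
  obtain ⟨D, a, ω, hD, ha, e⟩ := hR g hg
  obtain ⟨g₁, hg₁, e₁⟩ := conj_diag_mem (p := p) hR α hD ha
  obtain ⟨ω', hω'⟩ := prj_surjective (α (prj ω))
  refine ⟨toGO (plusForm 4 F) ω'.1 * g₁, ?_, ?_⟩
  · rw [map_mul, dHom_toGO_Omega, hg₁, one_mul]
  · rw [map_mul, conjAut_toGO_Omega, ← e₁, e, hω']
    ext y
    simp only [MulAut.mul_apply, MulAut.conj_apply, map_mul, map_inv]

include hp in
/-- **normality of the inner-diagonal group in `Aut(PΩ⁺₈(q))`** -/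
theorem normal_map_ker_dHom_D4 (hR : HasDiagReps ht) :
    (((dHom (plusForm 4 F) ht 4).ker).map (conjAut ⇑(plusForm 4 F))).Normal := by
  constructor
  rintro _ ⟨g, hg, rfl⟩ α
  obtain ⟨g', hg', e⟩ := conj_mem_cp (p := p) hR α g (MonoidHom.mem_ker.1 hg)
  rw [e]
  exact ⟨g', MonoidHom.mem_ker.2 hg', rfl⟩

end Cfsg.Agent.Helper12.D4
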