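import Mathlib
import Cfsg.Agent.Helper37.OddFA

/-!
# Galois descent for a semilinear involution (S2717, part A1)

`σ` an automorphism of `F` with `σ ∘ σ = id`, `σ θ ≠ θ`, and `r` a matrix with
`r * r.map σ = 1`.  The semilinear involution `T u = r *ᵥ σ(u)` has a basis of fixed vectors:
there is a linear equivalence `C : (κ → F) ≃ₗ (ι → F)` with `T (C u) = C (σ u)`.
-/

set_option autoImplicit false

namespace Cfsg.Agent.Helper12.GF

open Matrix Module Cfsg.Agent.Helper37.OddF

variable {F : Type*} [Field F] {ι : Type} [Fintype ι] [DecidableEq ι]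

/-- the semilinear map `u ↦ r *ᵥ σ(u)` -/
def semiT (r : Matrix ι ι F) (σ : F ≃+* F) (u : ι → F) : ι → F :=
  r *ᵥ vmap (σ : F →+* F) u

theorem semiT_add (r : Matrix ι ι F) (σ : F ≃+* F) (u w : ι → F) :
    semiT r σ (u + w) = semiT r σ u + semiT r σ w := by
  unfold semiT
  rw [vmap_add, Matrix.mulVec_add]

theorem semiT_smul (r : Matrix ι ι F) (σ : F ≃+* F) (c : F) (u : ι → F) :
    semiT r σ (c • u) = σ c • semiT r σ u := by
  unfold semiT
  rw [vmap_smul, Matrix.mulVec_smul]
  rfl

theorem semiT_zero (r : Matrix ι ι F) (σ : F ≃+* F) : semiT r σ 0 = 0 := by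
  unfold semiT
  rw [vmap_zero, Matrix.mulVec_zero]

theorem semiT_sum {κ : Type*} (s : Finset κ) (r : Matrix ι ι F) (σ : F ≃+* F)
    (f : κ → ι → F) : semiT r σ (∑ j ∈ s, f j) = ∑ j ∈ s, semiT r σ (f j) := by
  classical
  induction s using Finset.induction_on with
  | empty => simp [semiT_zero]
  | insert a s ha ih => rw [Finset.sum_insert ha, Finset.sum_insert ha, semiT_add, ih]

theorem semiT_semiT (r : Matrix ι ι F) (σ : F ≃+* F) (hσ : ∀ c : F, σ (σ c) = c)
    (hr : r * r.map σ = 1) (u : ι → F) : semiT r σ (semiT r σ u) = u := by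
  unfold semiT
  have hr' : r * r.map (⇑(σ : F →+* F)) = 1 := hr
  rw [vmap_mulVec, Matrix.mulVec_mulVec, hr', Matrix.one_mulVec]
  funext k
  exact hσ (u k)

/-- the fixed vectors of `T` span the space -/
theorem span_fixed_eq_top (r : Matrix ι ι F) (σ : F ≃+* F) (hσ : ∀ c : F, σ (σ c) = c)
    (hr : r * r.map σ = 1) (θ : F) (hθ : σ θ ≠ θ) :
    Submodule.span F {w : ι → F | semiT r σ w = w} = ⊤ := by
  rw [eq_top_iff]
  intro u _
  have h1 : semiT r σ (u + semiT r σ u) = u + semiT r σ u := by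
    rw [semiT_add, semiT_semiT r σ hσ hr, add_comm]
  have h2 : semiT r σ (θ • u + semiT r σ (θ • u)) = θ • u + semiT r σ (θ • u) := by
    rw [semiT_add, semiT_semiT r σ hσ hr, add_comm]
  have hne : σ θ - θ ≠ 0 := sub_ne_zero.2 hθ
  have h3 : u = (σ θ - θ)⁻¹ • (σ θ • (u + semiT r σ u) - (θ • u + semiT r σ (θ • u))) := by
    rw [semiT_smul, smul_add, add_sub_add_comm, sub_self, add_zero, ← sub_smul, smul_smul,
      inv_mul_cancel₀ hne, one_smul]
  rw [h3]
  apply Submodule.smul_mem
  apply Submodule.sub_mem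
  · exact Submodule.smul_mem _ _ (Submodule.subset_span h1)
  · exact Submodule.subset_span h2

/-- **descent basis**: a linear equivalence intertwining `σ` (entrywise) with `T` -/
theorem exists_descent_equiv (r : Matrix ι ι F) (σ : F ≃+* F) (hσ : ∀ c : F, σ (σ c) = c)
    (hr : r * r.map σ = 1) (θ : F) (hθ : σ θ ≠ θ) (κ : Type) [Fintype κ] [DecidableEq κ]
    (hκ : Fintype.card κ = Fintype.card ι) :
    ∃ C : (κ → F) ≃ₗ[F] (ι → F), ∀ u : κ → F,
      semiT r σ (C u) = C (vmap (σ : F →+* F) u) := by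
  classical
  obtain ⟨B, hBS, hBspan, hBli⟩ := exists_linearIndependent F {w : ι → F | semiT r σ w = w}
  rw [span_fixed_eq_top r σ hσ hr θ hθ] at hBspan
  have hBfin : B.Finite := hBli.setFinite
  letI : Fintype ↥B := hBfin.fintype
  let b : Basis ↥B F (ι → F) := Basis.mk hBli (by rw [Subtype.range_coe]; exact hBspan.ge)
  have hcard : Fintype.card ↥B = Fintype.card κ := by
    rw [hκ, ← Module.finrank_eq_card_basis b, Module.finrank_fintype_fun_eq_card]
  let e : ↥B ≃ κ := Fintype.equivOfCardEq hcard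
  let b' : Basis κ F (ι → F) := b.reindex e
  refine ⟨b'.equivFun.symm, fun u => ?_⟩
  have hfix : ∀ j : κ, semiT r σ (b' j) = b' j := by
    intro j
    have : b' j = ((e.symm j : ↥B) : ι → F) := by
      show b.reindex e j = _
      rw [Basis.reindex_apply]
      exact Basis.mk_apply _ _ _
    rw [this]
    exact hBS (e.symm j).2
  rw [Basis.equivFun_symm_apply, Basis.equivFun_symm_apply, semiT_sum]
  refine Finset.sum_congr rfl fun j _ => ?_
  rw [semiT_smul, hfix j]
  rfl

end Cfsg.Agent.Helper12.GF
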