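import Mathlib
import Cfsg.Prelude.Def_LieTypeDatum

/-!
# Shared definition for the graph-field automorphism work (S2717)
-/

set_option autoImplicit false

namespace Cfsg.Agent.Helper12.GF

open Cfsg Matrix

/-- the subgroup of `Aut(PΩ(Q))` generated by the automorphisms induced by class-preserving
similarities of `Q` (for `Q = quadFormPlus m F` this is `inndiagPOmegaPlus m F`, by `rfl`) -/
def cpAut {F : Type*} [Field F] {ι : Type} [Fintype ι] [DecidableEq ι] (Q : (ι → F) → F) :
    Subgroup (MulAut (POmega F Q)) :=
  Subgroup.closure {β | ∃ g : GL ι F, g ∈ Geo.quadSimilarityGroup (F := F) Q ∧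
    PreservesSingularClasses Q (g : Matrix ι ι F) ∧
    IsInducedBySemilinearPOmega Q g (RingEquiv.refl F) β}

theorem cpAut_plus {F : Type*} [Field F] (m : ℕ) :
    cpAut (quadFormPlus m F) = inndiagPOmegaPlus m F := rfl

end Cfsg.Agent.Helper12.GF
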