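import Mathlib
import Cfsg.Prelude.Def_LieTypeDatum

/-!
# Generic transport lemmas (for S2717)

`splitClassCount`, centralisers, `Inn` and `commutator ⧸ centre` along group isomorphisms.
-/

set_option autoImplicit false

namespace Cfsg.Agent.Helper12.GF

section generic

variable {A A' : Type*} [Group A] [Group A']

theorem isConjUnder_map_iff (e : A ≃* A') (H : Subgroup A) (x y : A) :
    Cfsg.IsConjUnder (H.map e.toMonoidHom) (e x) (e y) ↔ Cfsg.IsConjUnder H x y := by
  constructor
  · rintro ⟨h, ⟨h', hh', rfl⟩, he⟩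
    refine ⟨h', hh', ?_⟩
    apply e.injective
    rw [he, map_mul, map_mul, map_inv]
    rfl
  · rintro ⟨h, hh, rfl⟩
    refine ⟨e h, ⟨h, hh, rfl⟩, ?_⟩
    rw [map_mul, map_mul, map_inv]

theorem isConjUnder_map_iff' (e : A ≃* A') (H : Subgroup A) (x : A) (y' : A') :
    Cfsg.IsConjUnder (H.map e.toMonoidHom) (e x) y' ↔ Cfsg.IsConjUnder H x (e.symm y') := by
  rw [← isConjUnder_map_iff e H x (e.symm y'), e.apply_symm_apply]

/-- `splitClassCount` is invariant under group isomorphisms -/
theorem splitClassCount_map (e : A ≃* A') (H K : Subgroup A) (x : A) :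
    Cfsg.splitClassCount (H.map e.toMonoidHom) (K.map e.toMonoidHom) (e x)
      = Cfsg.splitClassCount H K x := by
  unfold Cfsg.splitClassCount
  symm
  apply Nat.card_congr
  let E : {y : A // Cfsg.IsConjUnder H x y}
      ≃ {y : A' // Cfsg.IsConjUnder (H.map e.toMonoidHom) (e x) y} :=
    Equiv.subtypeEquiv e.toEquiv (fun y => (isConjUnder_map_iff e H x y).symm)
  refine Quot.congr E (fun y z => ?_)
  exact (isConjUnder_map_iff e K y.1 z.1).symm

theorem map_inf_centralizer (e : A ≃* A') (H : Subgroup A) (x : A) :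
    (H ⊓ Subgroup.centralizer {x}).map e.toMonoidHom
      = H.map e.toMonoidHom ⊓ Subgroup.centralizer {e x} := by
  ext y
  constructor
  · rintro ⟨z, ⟨hzH, hzC⟩, rfl⟩
    refine ⟨⟨z, hzH, rfl⟩, ?_⟩
    have hzC := Subgroup.mem_centralizer_iff.mp (show z ∈ Subgroup.centralizer {x} from hzC)
    show _ ∈ Subgroup.centralizer _
    rw [Subgroup.mem_centralizer_iff]
    intro w hw
    rw [Set.mem_singleton_iff] at hw
    subst hw
    have h1 := hzC x (Set.mem_singleton x)
    show e x * e z = e z * e x
    rw [← map_mul, ← map_mul, h1]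
  · rintro ⟨⟨z, hzH, rfl⟩, hyC⟩
    refine ⟨z, ⟨hzH, ?_⟩, rfl⟩
    have hyC := Subgroup.mem_centralizer_iff.mp
      (show e z ∈ Subgroup.centralizer {e x} from hyC)
    show _ ∈ Subgroup.centralizer _
    rw [Subgroup.mem_centralizer_iff]
    intro w hw
    rw [Set.mem_singleton_iff] at hw
    subst hw
    have h1 := hyC (e w) (Set.mem_singleton _)
    apply e.injective
    rw [map_mul, map_mul]
    exact h1

/-- an isomorphism carries `C_H(x)` to `C_{e H}(e x)` -/
noncomputable def centralizerMapEquiv (e : A ≃* A') (H : Subgroup A) (x : A) :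
    ↥(H ⊓ Subgroup.centralizer {x}) ≃* ↥(H.map e.toMonoidHom ⊓ Subgroup.centralizer {e x}) :=
  ((H ⊓ Subgroup.centralizer {x}).equivMapOfInjective e.toMonoidHom e.injective).trans
    (MulEquiv.subgroupCongr (map_inf_centralizer e H x))

end generic

section aut

variable {G H : Type*} [Group G] [Group H]

theorem mulAutCongr_apply (e : G ≃* H) (β : MulAut G) (y : H) :
    MulAut.congr e β y = e (β (e.symm y)) := rfl

theorem mulAutCongr_conj (e : G ≃* H) (g : G) :
    MulAut.congr e (MulAut.conj g) = MulAut.conj (e g) := by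
  ext y
  rw [mulAutCongr_apply, MulAut.conj_apply, MulAut.conj_apply, map_mul, map_mul, map_inv,
    e.apply_symm_apply]

theorem map_Inn (e : G ≃* H) :
    (Cfsg.Inn G).map (MulAut.congr e).toMonoidHom = Cfsg.Inn H := by
  ext β
  constructor
  · rintro ⟨_, ⟨g, rfl⟩, rfl⟩
    exact ⟨e g, (mulAutCongr_conj e g).symm⟩
  · rintro ⟨h, rfl⟩
    refine ⟨MulAut.conj (e.symm h), ⟨e.symm h, rfl⟩, ?_⟩
    show MulAut.congr e (MulAut.conj (e.symm h)) = _
    rw [mulAutCongr_conj, e.apply_symm_apply]

theorem map_commutator_eq (e : G ≃* H) : (commutator G).map e.toMonoidHom = commutator H := by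
  rw [commutator_def, Subgroup.map_commutator, ← MonoidHom.range_eq_map,
    MonoidHom.range_eq_top.2 e.surjective, commutator_def]

/-- the isomorphism of commutator subgroups -/
noncomputable def commCongr (e : G ≃* H) : ↥(commutator G) ≃* ↥(commutator H) :=
  (e.subgroupMap (commutator G)).trans (MulEquiv.subgroupCongr (map_commutator_eq e))

theorem coe_commCongr (e : G ≃* H) (s : ↥(commutator G)) :
    ((commCongr e s : ↥(commutator H)) : H) = e (s : G) := rfl

theorem map_center_eq {B B' : Type*} [Group B] [Group B'] (E : B ≃* B') :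
    (Subgroup.center B).map (E : B →* B') = Subgroup.center B' := by
  ext y
  constructor
  · rintro ⟨z, hz, rfl⟩
    have hz := Subgroup.mem_center_iff.mp (show z ∈ Subgroup.center B from hz)
    rw [Subgroup.mem_center_iff]
    intro w
    obtain ⟨w', rfl⟩ := E.surjective w
    show E w' * E z = E z * E w'
    rw [← map_mul, ← map_mul, hz w']
  · intro hy
    refine ⟨E.symm y, ?_, E.apply_symm_apply y⟩
    rw [Subgroup.mem_center_iff] at hy
    show _ ∈ Subgroup.center B
    rw [Subgroup.mem_center_iff]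
    intro w
    apply E.injective
    rw [map_mul, map_mul, E.apply_symm_apply]
    exact hy (E w)

/-- `G' ⧸ Z(G') ≃* H' ⧸ Z(H')` along `G ≃* H` -/
noncomputable def pcCongr (e : G ≃* H) :
    ↥(commutator G) ⧸ Subgroup.center ↥(commutator G)
      ≃* ↥(commutator H) ⧸ Subgroup.center ↥(commutator H) :=
  QuotientGroup.congr _ _ (commCongr e) (map_center_eq (commCongr e))

theorem pcCongr_mk (e : G ≃* H) (s : ↥(commutator G)) :
    pcCongr e (QuotientGroup.mk s) = QuotientGroup.mk (commCongr e s) := rfl

end aut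

end Cfsg.Agent.Helper12.GF
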