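import Mathlib
import Cfsg.Agent.Helper12.GFE
import Cfsg.Agent.Helper12.GFDefs
import Cfsg.Agent.Helper12.GammaOC
import Cfsg.Agent.Helper44.IsoTransport
import Cfsg.Agent.Helper44.ClassTransport

/-!
# Transport of `PΩ`, `Aut(PΩ)` and of the action of `ΓO` along a linear isometry (for S2717)
-/

set_option autoImplicit false
set_option linter.unusedSectionVars false

namespace Cfsg.Agent.Helper12.GF

open Matrix Cfsg.Agent.Helper44 Cfsg.Agent.Helper12.GammaO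

variable {F : Type*} [Field F]
variable {ι₁ ι₂ : Type} [Fintype ι₁] [DecidableEq ι₁] [Fintype ι₂] [DecidableEq ι₂]

section gl

variable (C : (ι₁ → F) ≃ₗ[F] (ι₂ → F))

/-- conjugation by a linear equivalence, on `GL` -/
noncomputable def glE : GL ι₁ F ≃* GL ι₂ F :=
  Units.mapEquiv (conjMatAlgEquiv C : Matrix ι₁ ι₁ F ≃ₐ[F] Matrix ι₂ ι₂ F).toMulEquiv

theorem glE_mulVec (g : GL ι₁ F) (v : ι₂ → F) :
    ((glE C g : GL ι₂ F) : Matrix ι₂ ι₂ F) *ᵥ v = C ((g : Matrix ι₁ ι₁ F) *ᵥ C.symm v) :=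
  conjMatAlgEquiv_mulVec C _ v

theorem glE_mulVec' (g : GL ι₁ F) (u : ι₁ → F) :
    ((glE C g : GL ι₂ F) : Matrix ι₂ ι₂ F) *ᵥ (C u) = C ((g : Matrix ι₁ ι₁ F) *ᵥ u) := by
  rw [glE_mulVec, LinearEquiv.symm_apply_apply]

theorem glE_symm_mulVec (h : GL ι₂ F) (u : ι₁ → F) :
    (((glE C).symm h : GL ι₁ F) : Matrix ι₁ ι₁ F) *ᵥ u
      = C.symm ((h : Matrix ι₂ ι₂ F) *ᵥ C u) := by
  apply C.injective
  rw [← glE_mulVec', MulEquiv.apply_symm_apply, LinearEquiv.apply_symm_apply]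

variable (Q₁ : (ι₁ → F) → F) (Q₂ : (ι₂ → F) → F) (hC : ∀ u, Q₂ (C u) = Q₁ u)

include hC in
theorem glE_mem_isometryGroup_iff (g : GL ι₁ F) :
    glE C g ∈ Cfsg.isometryGroup F Q₂ ↔ g ∈ Cfsg.isometryGroup F Q₁ := by
  rw [Helper13.mem_isometryGroup_iff, Helper13.mem_isometryGroup_iff]
  constructor
  · intro h u
    have := h (C u)
    rw [glE_mulVec', hC, hC] at this
    exact this
  · intro h v
    rw [glE_mulVec, hC, h, ← hC, LinearEquiv.apply_symm_apply]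

include hC in
theorem glE_mem_sim_iff (g : GL ι₁ F) :
    glE C g ∈ Cfsg.Geo.quadSimilarityGroup (F := F) Q₂
      ↔ g ∈ Cfsg.Geo.quadSimilarityGroup (F := F) Q₁ := by
  constructor
  · rintro ⟨c, h⟩
    refine ⟨c, fun u => ?_⟩
    have := h (C u)
    rw [glE_mulVec', hC, hC] at this
    exact this
  · rintro ⟨c, h⟩
    refine ⟨c, fun v => ?_⟩
    rw [glE_mulVec, hC, h, ← hC, LinearEquiv.apply_symm_apply]

include hC in
theorem glE_psc_iff (g : GL ι₁ F) :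
    Cfsg.PreservesSingularClasses Q₂ ((glE C g : GL ι₂ F) : Matrix ι₂ ι₂ F)
      ↔ Cfsg.PreservesSingularClasses Q₁ (g : Matrix ι₁ ι₁ F) :=
  (preservesSingularClasses_transport Q₁ Q₂ C hC _ _ (fun v => glE_mulVec' C g v)).symm

theorem map_eq_of_iff {G H : Type*} [Group G] [Group H] (e : G ≃* H) (K : Subgroup G)
    (K' : Subgroup H) (h : ∀ g, e g ∈ K' ↔ g ∈ K) : K.map e.toMonoidHom = K' := by
  ext y
  constructor
  · rintro ⟨g, hg, rfl⟩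
    exact (h g).2 hg
  · intro hy
    refine ⟨e.symm y, ?_, e.apply_symm_apply y⟩
    rw [SetLike.mem_coe, ← h, e.apply_symm_apply]
    exact hy

/-- the isometry groups are isomorphic -/
noncomputable def isoE : ↥(Cfsg.isometryGroup F Q₁) ≃* ↥(Cfsg.isometryGroup F Q₂) :=
  ((glE C).subgroupMap (Cfsg.isometryGroup F Q₁)).trans
    (MulEquiv.subgroupCongr (map_eq_of_iff (glE C) _ _ (glE_mem_isometryGroup_iff C Q₁ Q₂ hC)))

theorem coe_isoE (s : ↥(Cfsg.isometryGroup F Q₁)) :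
    ((isoE C Q₁ Q₂ hC s : ↥(Cfsg.isometryGroup F Q₂)) : GL ι₂ F) = glE C s.1 := rfl

/-- the similarity groups are isomorphic -/
noncomputable def simE : ↥(Cfsg.Geo.quadSimilarityGroup (F := F) Q₁)
    ≃* ↥(Cfsg.Geo.quadSimilarityGroup (F := F) Q₂) :=
  ((glE C).subgroupMap (Cfsg.Geo.quadSimilarityGroup (F := F) Q₁)).trans
    (MulEquiv.subgroupCongr (map_eq_of_iff (glE C) _ _ (glE_mem_sim_iff C Q₁ Q₂ hC)))

theorem coe_simE (g : ↥(Cfsg.Geo.quadSimilarityGroup (F := F) Q₁)) :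
    ((simE C Q₁ Q₂ hC g : ↥(Cfsg.Geo.quadSimilarityGroup (F := F) Q₂)) : GL ι₂ F)
      = glE C g.1 := rfl

/-- `PΩ(Q₁) ≃* PΩ(Q₂)` -/
noncomputable def Psi : Cfsg.POmega F Q₁ ≃* Cfsg.POmega F Q₂ :=
  pcCongr (isoE C Q₁ Q₂ hC)

theorem Psi_mk (s : ↥(Cfsg.Omega F Q₁)) :
    Psi C Q₁ Q₂ hC (QuotientGroup.mk s) = QuotientGroup.mk (commCongr (isoE C Q₁ Q₂ hC) s) := rfl

theorem coe_commCongr_isoE (s : ↥(Cfsg.Omega F Q₁)) :
    (((commCongr (isoE C Q₁ Q₂ hC) s : ↥(Cfsg.Omega F Q₂)) : ↥(Cfsg.isometryGroup F Q₂)) :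
      GL ι₂ F) = glE C (s.1 : GL ι₁ F) := rfl

/-- `Aut(PΩ(Q₁)) ≃* Aut(PΩ(Q₂))` -/
noncomputable def Theta : MulAut (Cfsg.POmega F Q₁) ≃* MulAut (Cfsg.POmega F Q₂) :=
  MulAut.congr (Psi C Q₁ Q₂ hC)

theorem Theta_apply (β : MulAut (Cfsg.POmega F Q₁)) (s : ↥(Cfsg.Omega F Q₁)) :
    Theta C Q₁ Q₂ hC β (Psi C Q₁ Q₂ hC (QuotientGroup.mk s))
      = Psi C Q₁ Q₂ hC (β (QuotientGroup.mk s)) := by
  show Psi C Q₁ Q₂ hC (β ((Psi C Q₁ Q₂ hC).symm (Psi C Q₁ Q₂ hC (QuotientGroup.mk s)))) = _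
  rw [MulEquiv.symm_apply_apply]

theorem map_Inn_Theta :
    (Cfsg.Inn (Cfsg.POmega F Q₁)).map (Theta C Q₁ Q₂ hC).toMonoidHom
      = Cfsg.Inn (Cfsg.POmega F Q₂) :=
  map_Inn (Psi C Q₁ Q₂ hC)

/-- **intertwining**: if the semilinear maps of `x₁ ∈ ΓO(Q₁)` and `x₂ ∈ ΓO(Q₂)` correspond under `C`
then so do the automorphisms of `PΩ` they induce -/
theorem Theta_psi (x₁ : ↥(GamO Q₁)) (x₂ : ↥(GamO Q₂))
    (h : ∀ u, semiLin x₂.1.left x₂.1.right (C u) = C (semiLin x₁.1.left x₁.1.right u)) :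
    Theta C Q₁ Q₂ hC (psi Q₁ x₁) = psi Q₂ x₂ := by
  have hinv : ∀ u, semiLin x₂.1⁻¹.left x₂.1⁻¹.right (C u)
      = C (semiLin x₁.1⁻¹.left x₁.1⁻¹.right u) := by
    intro u
    have h1 := h (semiLin x₁.1⁻¹.left x₁.1⁻¹.right u)
    rw [semiLin_apply_inv] at h1
    rw [← h1, semiLin_inv_apply]
  ext y
  obtain ⟨y', rfl⟩ := (Psi C Q₁ Q₂ hC).surjective y
  induction y' using QuotientGroup.induction_on with
  | H s =>
    rw [Theta_apply, psi_mk, Psi_mk, Psi_mk, psi_mk]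
    congr 1
    apply Subtype.ext
    apply Subtype.ext
    rw [coe_commCongr_isoE, coe_psi0_Omega, coe_psi0_Omega, coe_commCongr_isoE]
    apply Units.ext
    apply Matrix.mulVec_injective
    funext v
    obtain ⟨u, rfl⟩ := C.surjective v
    rw [glE_mulVec', conjLeft_mulVec, conjLeft_mulVec, hinv, glE_mulVec', h]

end gl

end Cfsg.Agent.Helper12.GF
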