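import Mathlib
import Cfsg.Agent.Helper12.GFF
import Cfsg.Agent.Helper12.GFA

/-!
# Transport along a linear isometry: similarities, `cpAut`, field automorphisms (for S2717)
-/

set_option autoImplicit false
set_option linter.unusedSectionVars false

namespace Cfsg.Agent.Helper12.GF

open Matrix Cfsg.Agent.Helper44 Cfsg.Agent.Helper12.GammaO Cfsg.Agent.Helper37.OddF

variable {F : Type*} [Field F]
variable {ι₁ ι₂ : Type} [Fintype ι₁] [DecidableEq ι₁] [Fintype ι₂] [DecidableEq ι₂]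

section

variable (C : (ι₁ → F) ≃ₗ[F] (ι₂ → F))
variable (Q₁ : QuadraticForm F (ι₁ → F)) (Q₂ : QuadraticForm F (ι₂ → F))
  (hC : ∀ u, Q₂ (C u) = Q₁ u)

/-- transport of the automorphism induced by a similarity -/
theorem Theta_conjAut (g : ↥(Cfsg.Geo.quadSimilarityGroup (F := F) ⇑Q₁)) :
    Theta C ⇑Q₁ ⇑Q₂ hC (conjAut ⇑Q₁ g) = conjAut ⇑Q₂ (simE C ⇑Q₁ ⇑Q₂ hC g) := by
  rw [← psi_ofSim, ← psi_ofSim]
  apply Theta_psi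
  intro u
  show ((glE C g.1 : GL ι₂ F) : Matrix ι₂ ι₂ F) *ᵥ (C u) = C ((g.1 : Matrix ι₁ ι₁ F) *ᵥ u)
  exact glE_mulVec' C g.1 u

/-- `Theta` carries the class-preserving part onto the class-preserving part -/
theorem map_cpAut_Theta :
    (cpAut ⇑Q₁).map (Theta C ⇑Q₁ ⇑Q₂ hC).toMonoidHom = cpAut ⇑Q₂ := by
  unfold cpAut
  rw [MonoidHom.map_closure]
  congr 1
  ext β₂
  constructor
  · rintro ⟨β, ⟨g, hg, hpsc, hind⟩, rfl⟩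
    rw [Helper44.isInduced_iff ⇑Q₁ g hg] at hind
    subst hind
    refine ⟨glE C g, (glE_mem_sim_iff C ⇑Q₁ ⇑Q₂ hC g).2 hg,
      (glE_psc_iff C ⇑Q₁ ⇑Q₂ hC g).2 hpsc, ?_⟩
    rw [Helper44.isInduced_iff ⇑Q₂ (glE C g) ((glE_mem_sim_iff C ⇑Q₁ ⇑Q₂ hC g).2 hg)]
    exact Theta_conjAut C Q₁ Q₂ hC ⟨g, hg⟩
  · rintro ⟨g₂, hg₂, hpsc, hind⟩
    rw [Helper44.isInduced_iff ⇑Q₂ g₂ hg₂] at hind
    subst hind
    set g := (simE C ⇑Q₁ ⇑Q₂ hC).symm ⟨g₂, hg₂⟩ with hg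
    have h1 : simE C ⇑Q₁ ⇑Q₂ hC g = ⟨g₂, hg₂⟩ := MulEquiv.apply_symm_apply _ _
    have h2 : glE C g.1 = g₂ := by
      rw [← coe_simE C ⇑Q₁ ⇑Q₂ hC g, h1]
    refine ⟨conjAut ⇑Q₁ g, ⟨g.1, g.2, ?_, ?_⟩, ?_⟩
    · rw [← glE_psc_iff C ⇑Q₁ ⇑Q₂ hC g.1, h2]
      exact hpsc
    · rw [Helper44.isInduced_iff ⇑Q₁ g.1 g.2]
    · show Theta C ⇑Q₁ ⇑Q₂ hC (conjAut ⇑Q₁ g) = _
      rw [Theta_conjAut, h1]

/-- transport of a field automorphism: if `r ∘ σ` corresponds to `σ` under `C`, then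
`Theta` carries the standard field automorphism to the automorphism induced by `(r, σ)` -/
theorem Theta_field (σ : F ≃+* F) (h₁ : Cfsg.IsSemisimilarityPair ⇑Q₁ (1 : GL ι₁ F) σ)
    (r : GL ι₂ F) (h₂ : Cfsg.IsSemisimilarityPair ⇑Q₂ r σ)
    (hT : ∀ u, semiT (r : Matrix ι₂ ι₂ F) σ (C u) = C (vmap (σ : F →+* F) u)) :
    Theta C ⇑Q₁ ⇑Q₂ hC (psi ⇑Q₁ ⟨⟨1, σ⟩, h₁⟩) = psi ⇑Q₂ ⟨⟨r, σ⟩, h₂⟩ := by
  apply Theta_psi
  intro u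
  show semiLin r σ (C u) = C (semiLin (1 : GL ι₁ F) σ u)
  have e1 : semiLin (1 : GL ι₁ F) σ u = vmap (σ : F →+* F) u := by
    unfold semiLin
    rw [Units.val_one, Matrix.one_mulVec]
    rfl
  rw [e1, ← hT]
  rfl

end

section preds

variable {ι : Type} [Fintype ι] [DecidableEq ι] (Q : (ι → F) → F)

/-- a field automorphism in the sense of the Prelude is `psi (1, σ)` -/
theorem eq_psi_of_isFieldAut (σ : F ≃+* F) (h : Cfsg.IsSemisimilarityPair Q (1 : GL ι F) σ)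
    (φ : MulAut (Cfsg.POmega F Q)) (hφ : Cfsg.IsFieldAutPOmegaOf Q σ φ) :
    φ = psi Q ⟨⟨1, σ⟩, h⟩ := by
  rw [← isInduced_iff Q ⟨⟨1, σ⟩, h⟩ φ]
  intro s s' hs
  apply hφ s s'
  rw [hs]
  show (1 : Matrix _ _ F) * _ * ((1 : GL _ F)⁻¹ : GL _ F).1 = _
  rw [inv_one, Units.val_one, Matrix.one_mul, Matrix.mul_one]

theorem isFieldAut_psi (σ : F ≃+* F) (h : Cfsg.IsSemisimilarityPair Q (1 : GL ι F) σ) :
    Cfsg.IsFieldAutPOmegaOf Q σ (psi Q ⟨⟨1, σ⟩, h⟩) := by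
  intro s s' hs
  apply (isInduced_iff Q ⟨⟨1, σ⟩, h⟩ _).2 rfl s s'
  rw [hs]
  show _ = (1 : Matrix _ _ F) * _ * ((1 : GL _ F)⁻¹ : GL _ F).1
  rw [inv_one, Units.val_one, Matrix.one_mul, Matrix.mul_one]

/-- an automorphism induced by a similarity `r` is `psi (r, 1)` -/
theorem eq_psi_of_isInduced (r : GL ι F) (σ : F ≃+* F) (h : Cfsg.IsSemisimilarityPair Q r σ)
    (γ : MulAut (Cfsg.POmega F Q)) (hγ : Cfsg.IsInducedBySemilinearPOmega Q r σ γ) :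
    γ = psi Q ⟨⟨r, σ⟩, h⟩ :=
  (isInduced_iff Q ⟨⟨r, σ⟩, h⟩ γ).1 hγ

/-- `(r, 1) * (1, σ) = (r, σ)` -/
theorem pair_mul (r : GL ι F) (σ : F ≃+* F) :
    ((⟨r, 1⟩ : Gam ι F) * ⟨1, σ⟩) = ⟨r, σ⟩ := by
  apply SemidirectProduct.ext
  · show r * fieldAct (1 : F ≃+* F) (1 : GL ι F) = r
    rw [map_one, mul_one]
  · show (1 : F ≃+* F) * σ = σ
    rw [one_mul]

theorem psi_pair_mul (r : GL ι F) (σ : F ≃+* F)
    (hr : Cfsg.IsSemisimilarityPair Q r (1 : F ≃+* F))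
    (hσ : Cfsg.IsSemisimilarityPair Q (1 : GL ι F) σ)
    (hrσ : Cfsg.IsSemisimilarityPair Q r σ) :
    psi Q ⟨⟨r, 1⟩, hr⟩ * psi Q ⟨⟨1, σ⟩, hσ⟩ = psi Q ⟨⟨r, σ⟩, hrσ⟩ := by
  rw [← map_mul]
  congr 1
  apply Subtype.ext
  exact pair_mul r σ

end preds

end Cfsg.Agent.Helper12.GF
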