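import Mathlib
import Cfsg.Agent.Helper12.GFG
import Cfsg.Agent.Helper44.InndiagGen2
import Cfsg.Agent.Helper44.PlusClasses

/-!
# Transport of `det`, multiplier and `dHom` along a linear isometry; an abstract index lemma
(for S2717, parts (5), (6))
-/

set_option autoImplicit false
set_option linter.unusedSectionVars false

namespace Cfsg.Agent.Helper12.GF

open Matrix Cfsg Cfsg.Agent.Helper44 Cfsg.Agent.Helper12.GammaO

/-! ### an abstract index computation -/

section abstract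

variable {G : Type*} [Group G]

/-- `N` normal of index four, `R` a subgroup all of whose elements lie in `N` or in `N r₁`:
the index of `N ⊔ R` is four or two according as `r₁ ∈ N` or not -/
theorem index_sup_of_dichotomy (N R : Subgroup G) [N.Normal] (hN : N.index = 4) (r₁ : G)
    (hr₁ : r₁ ∈ R) (hR : ∀ r ∈ R, r ∈ N ∨ r * r₁⁻¹ ∈ N) :
    (r₁ ∈ N → (N ⊔ R).index = 4) ∧ (r₁ ∉ N → (N ⊔ R).index = 2) := by
  constructor
  · intro h1
    have hle : R ≤ N := by
      intro r hr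
      rcases hR r hr with h | h
      · exact h
      · have : r = r * r₁⁻¹ * r₁ := by group
        rw [this]
        exact N.mul_mem h h1
    rw [sup_eq_left.2 hle, hN]
  · intro h1
    have h2 : N.relIndex (N ⊔ R) * (N ⊔ R).index = N.index :=
      Subgroup.relIndex_mul_index le_sup_left
    rw [Subgroup.relIndex_sup_left, hN] at h2
    have hsq : r₁ * r₁ ∈ N := by
      rcases hR (r₁ * r₁) (R.mul_mem hr₁ hr₁) with h | h
      · exact h
      · rw [mul_inv_cancel_right] at h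
        exact absurd h h1
    have h3 : N.relIndex R = 2 := by
      unfold Subgroup.relIndex
      rw [Subgroup.index_eq_two_iff]
      refine ⟨⟨r₁, hr₁⟩, fun b => ?_⟩
      rw [Subgroup.mem_subgroupOf, Subgroup.mem_subgroupOf]
      show Xor ((b : G) * r₁ ∈ N) ((b : G) ∈ N)
      rcases hR b b.2 with h | h
      · right
        refine ⟨h, fun h' => h1 ?_⟩
        have : r₁ = (b : G)⁻¹ * ((b : G) * r₁) := by group
        rw [this]
        exact N.mul_mem (N.inv_mem h) h'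
      · left
        refine ⟨?_, fun h' => h1 ?_⟩
        · have : (b : G) * r₁ = (b : G) * r₁⁻¹ * (r₁ * r₁) := by group
          rw [this]
          exact N.mul_mem h hsq
        · have : r₁ = ((b : G) * r₁⁻¹)⁻¹ * (b : G) := by group
          rw [this]
          exact N.mul_mem (N.inv_mem h) h'
    rw [h3] at h2
    omega

end abstract

/-! ### transport of the characters of the similarity group -/

variable {F : Type*} [Field F]
variable {ι₁ ι₂ : Type} [Fintype ι₁] [DecidableEq ι₁] [Fintype ι₂] [DecidableEq ι₂]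

theorem det_conjMat (C : (ι₁ → F) ≃ₗ[F] (ι₂ → F)) (M : Matrix ι₁ ι₁ F) :
    (conjMatAlgEquiv C M).det = M.det := by
  have h1 : conjMatAlgEquiv C M = LinearMap.toMatrix' (C.conj (Matrix.toLin' M)) := rfl
  rw [h1, LinearMap.det_toMatrix', LinearEquiv.conj_apply, LinearMap.comp_assoc,
    LinearMap.det_conj, LinearMap.det_toLin']

section dhom

variable (C : (ι₁ → F) ≃ₗ[F] (ι₂ → F))
variable (Q₁ : QuadraticForm F (ι₁ → F)) (Q₂ : QuadraticForm F (ι₂ → F))
  (hC : ∀ u, Q₂ (C u) = Q₁ u)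
variable {t₁ : ι₁ → F} (ht₁ : Q₁ t₁ ≠ 0)

include hC ht₁ in
theorem Q_C_ne_zero : Q₂ (C t₁) ≠ 0 := by
  rw [hC]
  exact ht₁

theorem det_glE (g : GL ι₁ F) :
    Matrix.GeneralLinearGroup.det (glE C g) = Matrix.GeneralLinearGroup.det g := by
  apply Units.ext
  exact det_conjMat C (g : Matrix ι₁ ι₁ F)

theorem multHom_simE (g : ↥(Cfsg.Geo.quadSimilarityGroup (F := F) ⇑Q₁)) :
    multHom ⇑Q₂ (Q_C_ne_zero C Q₁ Q₂ hC ht₁) (simE C ⇑Q₁ ⇑Q₂ hC g) = multHom ⇑Q₁ ht₁ g := by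
  apply multHom_eq
  intro v
  rw [coe_simE, glE_mulVec, hC, multFun_spec ⇑Q₁ g, ← hC, LinearEquiv.apply_symm_apply]
  rfl

theorem dHom_simE (n : ℕ) (g : ↥(Cfsg.Geo.quadSimilarityGroup (F := F) ⇑Q₁)) :
    dHom Q₂ (Q_C_ne_zero C Q₁ Q₂ hC ht₁) n (simE C ⇑Q₁ ⇑Q₂ hC g) = dHom Q₁ ht₁ n g := by
  rw [dHom_apply, dHom_apply, multHom_simE C Q₁ Q₂ hC ht₁, coe_simE, det_glE]

end dhom

section plus

variable {m : ℕ} (C : (ι₁ → F) ≃ₗ[F] (Fin m ⊕ Fin m → F))
variable (Q₁ : QuadraticForm F (ι₁ → F)) (hC : ∀ u, plusForm m F (C u) = Q₁ u)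
variable {t₁ : ι₁ → F} (ht₁ : Q₁ t₁ ≠ 0)

include C hC in
/-- for a form isometric to the hyperbolic form (`q` odd): class-preserving iff `det = μ ^ m` -/
theorem psc_iff_dHom (h2 : (2 : F) ≠ 0) (g : ↥(Cfsg.Geo.quadSimilarityGroup (F := F) ⇑Q₁)) :
    Cfsg.PreservesSingularClasses ⇑Q₁ ((g.1 : GL ι₁ F) : Matrix ι₁ ι₁ F)
      ↔ dHom Q₁ ht₁ m g = 1 := by
  rw [← glE_psc_iff C ⇑Q₁ ⇑(plusForm m F) hC g.1, ← dHom_simE C Q₁ (plusForm m F) hC ht₁]
  exact preservesSingularClasses_iff h2 (Q_C_ne_zero C Q₁ (plusForm m F) hC ht₁)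
    (simE C ⇑Q₁ ⇑(plusForm m F) hC g)

include C hC in
theorem cpAut_eq_map_ker_dHom (h2 : (2 : F) ≠ 0) :
    cpAut ⇑Q₁ = ((dHom Q₁ ht₁ m).ker).map (conjAut ⇑Q₁) := by
  unfold cpAut
  exact closure_eq_map_ker_dHom Q₁ ht₁ m (Cfsg.PreservesSingularClasses ⇑Q₁)
    (fun g => psc_iff_dHom C Q₁ hC ht₁ h2 g)

end plus

end Cfsg.Agent.Helper12.GF
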