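import Mathlib
import Cfsg.Agent.Helper12.D4M
import Cfsg.Agent.Helper63.PlusDiagRep
import Cfsg.Agent.Helper12.GFK

/-!
# Normality of `Inndiag` in `Aut(PΩ⁺₈(q))`, part N: the theorem (`q` odd)
-/

set_option autoImplicit false
set_option linter.unusedSectionVars false
set_option linter.unusedVariables false
set_option linter.unusedSimpArgs false

namespace Cfsg.Agent.Helper12.D4

open Matrix QuadraticMap Cfsg.Agent.Helper44 Cfsg.Agent.Helper5 Cfsg.Agent.Helper5.AutO
open Cfsg.Agent.Helper63.PlusDiagRep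

variable {F : Type*} [Field F] [Fintype F]

/-- the diagonal coset representatives exist (`q` odd) -/
theorem hasDiagReps (h2 : (2 : F) ≠ 0) {t : I4 → F} (ht : plusForm 4 F t ≠ 0) :
    HasDiagReps ht := by
  intro g hg
  obtain ⟨τ, ν, ω, e⟩ := exists_diag_rep h2 (by norm_num : 2 ≤ 4) ht g hg
  refine ⟨dRep 4 (by norm_num) τ ν,
    fun j => Sum.elim (fun i : Fin 4 => if i = ⟨0, by norm_num⟩ then (τ : F) * ν else (ν : F))
      (fun i : Fin 4 => if i = ⟨0, by norm_num⟩ then ((τ⁻¹ : Fˣ) : F) else 1) j, ω, ?_, ?_, e⟩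
  · intro v j
    rw [dRep_mulVec]
    rcases j with i | i <;> rfl
  · have h1 := multHom_dRep 4 (by norm_num) τ ν ht
    rw [multHom_apply] at h1
    rw [h1]
    simp only [Sum.elim_inl, Sum.elim_inr]
    rw [if_neg (by decide), if_neg (by decide), mul_one]

/-- **`Inndiag(PΩ⁺₈(q))` is normal in `Aut(PΩ⁺₈(q))`** (`q` odd) -/
theorem inndiag_normal_D4 (h2 : (2 : F) ≠ 0) : (Cfsg.inndiagPOmegaPlus 4 F).Normal := by
  obtain ⟨p, hp⟩ := CharP.exists F
  haveI : Fact p.Prime := ⟨CharP.char_is_prime F p⟩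
  have ht : plusForm 4 F (ev 0 + fv 0) ≠ 0 := by
    rw [Q4_apply]
    simp [Fin.sum_univ_four]
  have h1 : Cfsg.inndiagPOmegaPlus 4 F
      = ((dHom (plusForm 4 F) ht 4).ker).map (conjAut ⇑(plusForm 4 F)) := by
    rw [← Cfsg.Agent.Helper12.GF.cpAut_plus]
    exact Cfsg.Agent.Helper12.GF.cpAut_eq_map_ker_dHom (LinearEquiv.refl F (I4 → F))
      (plusForm 4 F) (fun u => rfl) ht h2
  rw [h1]
  exact normal_map_ker_dHom_D4 (p := p) (hasDiagReps h2 ht)

end Cfsg.Agent.Helper12.D4
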