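import Mathlib
import Cfsg.Agent.Helper12.D4N
import Cfsg.Agent.Helper12.ClassPresG
import Cfsg.Agent.Helper37.EvFD
import Cfsg.Agent.S2695

/-!
# `Inndiag(PΩ⁺_{2m}(q))` is normal in `Aut(PΩ⁺_{2m}(q))` for all `m ≥ 4` and all `q`
-/

set_option autoImplicit false
set_option linter.unusedSectionVars false
set_option linter.unusedVariables false

namespace Cfsg.Agent.Helper12.D4

open Matrix QuadraticMap Cfsg.Agent.Helper44 Cfsg.Agent.Helper37.OddF

variable {F : Type*} [Field F] [Fintype F]

/-- **`Inndiag(PΩ⁺_{2m}(q))` is a normal subgroup of `Aut(PΩ⁺_{2m}(q))`**, `m ≥ 4` -/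
theorem inndiag_normal {m : ℕ} (hm : 4 ≤ m) : (Cfsg.inndiagPOmegaPlus m F).Normal := by
  by_cases h2 : (2 : F) = 0
  · haveI : CharP F 2 := by
      have : ringChar F = 2 := by
        have h3 : ringChar F ∣ 2 := by
          apply ringChar.dvd
          exact_mod_cast h2
        rcases (Nat.dvd_prime Nat.prime_two).1 h3 with h | h
        · exact absurd h (CharP.ringChar_ne_one)
        · exact h
      rw [← this]
      exact ringChar.charP F
    rw [Cfsg.Agent.Helper12.ClassPres.inndiagPOmegaPlus_eq_Inn_two (by omega : 3 ≤ m)]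
    exact Cfsg.Agent.Helper12.GammaO.Inn_normal _
  · rcases Nat.eq_or_lt_of_le hm with h4 | h5
    · subst h4
      exact inndiag_normal_D4 h2
    · have hpos : 0 < m := by omega
      have ht : plusForm m F (Pi.single (Sum.inl ⟨0, hpos⟩) 1 + Pi.single (Sum.inr ⟨0, hpos⟩) 1)
          ≠ 0 := by
        show Cfsg.quadFormPlus m F _ ≠ 0
        unfold Cfsg.quadFormPlus
        rw [Finset.sum_eq_single ⟨0, hpos⟩]
        · simp
        · intro b _ hb
          simp [hb]
        · intro h
          exact absurd (Finset.mem_univ _) h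
      have h1 : Cfsg.inndiagPOmegaPlus m F
          = ((dHom (plusForm m F) ht m).ker).map (conjAut ⇑(plusForm m F)) := by
        rw [← Cfsg.Agent.Helper12.GF.cpAut_plus]
        exact Cfsg.Agent.Helper12.GF.cpAut_eq_map_ker_dHom
          (LinearEquiv.refl F (Fin m ⊕ Fin m → F)) (plusForm m F) (fun u => rfl) ht h2
      rw [h1]
      exact normal_map_ker_dHom (plusForm m F) ht m (Cfsg.Agent.S2695.result (by omega : 5 ≤ m))

end Cfsg.Agent.Helper12.D4
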