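import Cfsg.Agent.Helper40.D4Tor.Defs

/-!
# (DISTA) for helper40's S2376: the exponents `E q r` are not divisible by `(q³ - 1)(q + 1)`
-/

set_option autoImplicit false
set_option maxRecDepth 100000

namespace Cfsg.Agent.Helper12.D4Tor

open Cfsg Cfsg.Lie Cfsg.Agent.Helper18 Cfsg.Agent.Helper19.Twist Cfsg.Agent.Helper40.D4Tor

theorem dista_key (s : ℤ) (hs : 0 ≤ s) (x : ℤ) (hx : x ≠ 0)
    (hlt : |x| < ((s + 2) ^ 3 - 1) * ((s + 2) + 1)) : ¬ (((s + 2) ^ 3 - 1) * ((s + 2) + 1) ∣ x) :=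
  fun h => hx (Int.eq_zero_of_abs_lt_dvd h hlt)

/-- (DIST-A) -/
theorem E_ne (q : ℕ) (hq : 2 ≤ q) (r : ℕ) (hr : r < 24) :
    ¬ (((q ^ 3 - 1) * (q + 1) : ℕ) : ℤ) ∣ E q r := by
  have h1 : 1 ≤ q ^ 3 := Nat.one_le_pow _ _ (by omega)
  have hN : (((q ^ 3 - 1) * (q + 1) : ℕ) : ℤ) = ((q : ℤ) ^ 3 - 1) * ((q : ℤ) + 1) := by
    push_cast [Nat.cast_sub h1]
    ring
  rw [hN]
  obtain ⟨s, hs, hqs⟩ : ∃ s : ℤ, 0 ≤ s ∧ (q : ℤ) = s + 2 := ⟨(q : ℤ) - 2, by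
    have : (2 : ℤ) ≤ (q : ℤ) := by exact_mod_cast hq
    linarith, by ring⟩
  rw [hqs]
  have hs2 : 0 ≤ s ^ 2 := by positivity
  have hs3 : 0 ≤ s ^ 3 := by positivity
  have hs4 : 0 ≤ s ^ 4 := by positivity
  apply dista_key s hs
  · interval_cases r <;> simp [E, coordD4] <;> nlinarith
  · rw [abs_lt]
    interval_cases r <;> simp [E, coordD4] <;> constructor <;> nlinarith

end Cfsg.Agent.Helper12.D4Tor
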