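import Cfsg.Agent.Helper40.D4Tor.Defs

/-!
# (TW2) for helper40's S2376: the entries of an element of the twisted torus
-/

set_option autoImplicit false
set_option maxRecDepth 100000

namespace Cfsg.Agent.Helper12.D4Tor

open Cfsg Cfsg.Lie Cfsg.Agent.Helper18 Cfsg.Agent.Helper19.Twist Cfsg.Agent.Helper40.D4Tor

/-- pure algebra: the four relations determine everything from `a₁` -/
theorem tw2_algebra {K : Type*} [Field K] (q : ℕ) (hq : 1 ≤ q) (a1 a2 a3 a4 : K) (h10 : a1 ≠ 0) (h20 : a2 ≠ 0)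
    (h30 : a3 ≠ 0) (h40 : a4 ≠ 0)
    (h1 : a1 ^ q = a2 * a3) (h3 : a3 ^ q = a2 * a4) (h4 : a4 ^ q = a1 * a2) (h2 : a2 ^ q = a2⁻¹) :
    a1 ^ ((q ^ 3 - 1) * (q + 1)) = 1 ∧ a2 = a1 ^ ((q : ℤ) ^ 3 - 1) ∧
      a3 = a1 ^ (1 + (q : ℤ) - (q : ℤ) ^ 3) ∧ a4 = a1 ^ ((q : ℤ) ^ 2) := by
  have e3 : a3 = a1 ^ q * a2⁻¹ := by
    rw [h1]; field_simp
  have e4 : a4 = a1 ^ (q ^ 2) := by
    have : a4 = a3 ^ q * a2⁻¹ := by rw [h3]; field_simp
    rw [this, e3, mul_pow, ← pow_mul, inv_pow, h2, inv_inv, mul_assoc, mul_inv_cancel₀ h20, mul_one,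
      pow_two]
  have e2 : a2 = a1 ^ (q ^ 3) * a1⁻¹ := by
    have : a2 = a4 ^ q * a1⁻¹ := by rw [h4]; field_simp
    rw [this, e4, ← pow_mul]
    congr 2
  have e2z : a2 = a1 ^ ((q : ℤ) ^ 3 - 1) := by
    rw [e2, zpow_sub₀ h10, zpow_one, div_eq_mul_inv]
    congr 1
    rw [← zpow_natCast]
    congr 1
  have e4z : a4 = a1 ^ ((q : ℤ) ^ 2) := by
    rw [e4, ← zpow_natCast]
    congr 1
  have e3z : a3 = a1 ^ (1 + (q : ℤ) - (q : ℤ) ^ 3) := by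
    rw [e3, e2z, ← zpow_neg, ← zpow_natCast, ← zpow_add₀ h10]
    congr 1
    ring
  refine ⟨?_, e2z, e3z, e4z⟩
  have hq3 : 1 ≤ q ^ 3 := Nat.one_le_pow _ _ hq
  have e5 : a1 ^ (q ^ 3 - 1) = a2 := by
    rw [e2]
    have : a1 ^ (q ^ 3) = a1 ^ (q ^ 3 - 1) * a1 := by
      rw [← pow_succ, Nat.sub_add_cancel hq3]
    rw [this, mul_assoc, mul_inv_cancel₀ h10, mul_one]
  rw [pow_mul, e5, pow_succ, h2, inv_mul_cancel₀ h20]

/-- (TW2) -/
theorem twist_entries {K : Type*} [Field K] (q : ℕ) (hq : 2 ≤ q) (k : GL chevD4.Idx K)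
    (hk : k ∈ chevD4.diagonalSubgroup K)
    (h1 : ent k 18 ^ q = ent k 14 * ent k 13) (h3 : ent k 13 ^ q = ent k 14 * ent k 12)
    (h4 : ent k 12 ^ q = ent k 18 * ent k 14) (h2 : ent k 14 ^ q = (ent k 14)⁻¹) :
    ent k 18 ^ ((q ^ 3 - 1) * (q + 1)) = 1 ∧ ∀ r < 24, ent k r = ent k 18 ^ E q r := by
  obtain ⟨χ, hχ, hd, hm⟩ := diag_char_mul chevD4 memD4 coordD4 coordOK_D4 k hk
  have hent : ∀ r < 24, ent k r = χ r := by
    intro r hr
    unfold ent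
    rw [hd, rootEntry_diagonal chevD4 χ r hr]
  rw [hent 18 (by norm_num), hent 14 (by norm_num), hent 13 (by norm_num)] at h1
  rw [hent 14 (by norm_num), hent 13 (by norm_num), hent 12 (by norm_num)] at h3
  rw [hent 18 (by norm_num), hent 14 (by norm_num), hent 12 (by norm_num)] at h4
  rw [hent 14 (by norm_num)] at h2
  obtain ⟨r1, r2, r3, r4⟩ := tw2_algebra q (by omega) (χ 18) (χ 14) (χ 13) (χ 12) (hχ _) (hχ _) (hχ _) (hχ _)
    h1 h3 h4 h2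
  rw [hent 18 (by norm_num)]
  refine ⟨r1, ?_⟩
  intro r hr
  rw [hent r hr, hm r hr]
  have hrank : chevD4.rank = 4 := rfl
  have s0 : chevD4.simple 0 = 18 := by decide
  have s1 : chevD4.simple 1 = 14 := by decide
  have s2 : chevD4.simple 2 = 13 := by decide
  have s3 : chevD4.simple 3 = 12 := by decide
  rw [hrank, Finset.prod_range_succ, Finset.prod_range_succ, Finset.prod_range_succ,
    Finset.prod_range_one, s0, s1, s2, s3]
  have h18 : χ 18 ≠ 0 := hχ 18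
  conv_lhs => rw [r2, r3, r4]
  rw [← zpow_mul, ← zpow_mul, ← zpow_mul, ← zpow_add₀ h18, ← zpow_add₀ h18, ← zpow_add₀ h18]
  congr 1
  unfold E
  ring

end Cfsg.Agent.Helper12.D4Tor
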