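import Mathlib
import Cfsg.Agent.Helper42.DZDefs

/-!
# Piece (R1) of #5421 (helper42, S4538 / S2440): the weight of the unique `U`-fixed line is
invariant under the adjacent transpositions (rank-one computation)
-/

set_option autoImplicit false
set_option linter.unusedSectionVars false

namespace Cfsg.Agent.Helper12.DZ

open Matrix Cfsg Cfsg.Agent.Helper42.DZ

variable {n : ℕ} {F : Type*} [Field F]

/-! ### Matrix facts -/

section mat

variable (i j : Fin n) (hne : i ≠ j)

theorem xs_mul_xs (a b : F) : xs i j hne a * xs i j hne b = xs i j hne (a + b) := by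
  apply Subtype.ext
  show Matrix.transvection i j a * Matrix.transvection i j b = Matrix.transvection i j (a + b)
  exact Matrix.transvection_mul_transvection_same i j hne a b

theorem xs_zero : xs i j hne (0 : F) = 1 := by
  apply Subtype.ext
  show Matrix.transvection i j (0 : F) = 1
  exact Matrix.transvection_zero i j

theorem xs_inv (a : F) : (xs i j hne a)⁻¹ = xs i j hne (-a) := by
  apply inv_eq_of_mul_eq_one_right
  rw [xs_mul_xs, add_neg_cancel, xs_zero]

theorem mul_xs_apply (N : Matrix (Fin n) (Fin n) F) (a : F) (k l : Fin n) :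
    (N * (xs i j hne a).1) k l = if l = j then N k j + a * N k i else N k l := by
  rw [xs_val]
  split_ifs with h
  · subst h
    exact Matrix.mul_transvection_apply_same i l k a N
  · exact Matrix.mul_transvection_apply_of_ne i j k l h a N

theorem xs_mul_apply (N : Matrix (Fin n) (Fin n) F) (a : F) (k l : Fin n) :
    ((xs i j hne a).1 * N) k l = if k = i then N i l + a * N j l else N k l := by
  rw [xs_val]
  split_ifs with h
  · subst h
    exact Matrix.transvection_mul_apply_same k j l a N
  · exact Matrix.transvection_mul_apply_of_ne i j k l h a N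

theorem sd_val :
    (sd i j hne : SLn n F).1 =
      (xs i j hne (1 : F)).1 * (xs j i hne.symm (-1 : F)).1 * (xs i j hne (1 : F)).1 := rfl

theorem sd_inv_eq :
    (sd i j hne : SLn n F)⁻¹ = xs i j hne (-1) * xs j i hne.symm 1 * xs i j hne (-1) := by
  unfold sd
  rw [_root_.mul_inv_rev, _root_.mul_inv_rev, xs_inv, xs_inv, neg_neg, mul_assoc]

theorem sd_inv_val :
    ((sd i j hne : SLn n F)⁻¹).1 =
      (xs i j hne (-1 : F)).1 * (xs j i hne.symm (1 : F)).1 * (xs i j hne (-1 : F)).1 := by
  rw [sd_inv_eq]
  rfl

theorem mul_sd_apply (N : Matrix (Fin n) (Fin n) F) (k l : Fin n) :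
    (N * (sd i j hne : SLn n F).1) k l =
      if l = i then - N k j else if l = j then N k i else N k l := by
  rw [sd_val, ← Matrix.mul_assoc, ← Matrix.mul_assoc]
  have hji : ¬ j = i := hne.symm
  have hij' : ¬ i = j := hne
  by_cases hlj : l = j
  · simp only [mul_xs_apply, hlj, hji, hij', if_true, if_false]
    ring
  · by_cases hli : l = i
    · simp only [mul_xs_apply, hli, hji, hij', if_true, if_false]
      ring
    · simp only [mul_xs_apply, hlj, hli, if_false]

theorem mul_sdinv_apply (N : Matrix (Fin n) (Fin n) F) (k l : Fin n) :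
    (N * ((sd i j hne : SLn n F)⁻¹).1) k l =
      if l = i then N k j else if l = j then - N k i else N k l := by
  rw [sd_inv_val, ← Matrix.mul_assoc, ← Matrix.mul_assoc]
  have hji : ¬ j = i := hne.symm
  have hij' : ¬ i = j := hne
  by_cases hlj : l = j
  · simp only [mul_xs_apply, hlj, hji, hij', if_true, if_false]
    ring
  · by_cases hli : l = i
    · simp only [mul_xs_apply, hli, hji, hij', if_true, if_false]
      ring
    · simp only [mul_xs_apply, hlj, hli, if_false]

theorem sdinv_mul_apply (N : Matrix (Fin n) (Fin n) F) (k l : Fin n) :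
    (((sd i j hne : SLn n F)⁻¹).1 * N) k l =
      if k = i then - N j l else if k = j then N i l else N k l := by
  rw [sd_inv_val, Matrix.mul_assoc, Matrix.mul_assoc]
  have hji : ¬ j = i := hne.symm
  have hij' : ¬ i = j := hne
  by_cases hki : k = i
  · simp only [xs_mul_apply, hki, hji, hij', if_true, if_false]
    ring
  · by_cases hkj : k = j
    · simp only [xs_mul_apply, hkj, hji, hij', if_true, if_false]
      ring
    · simp only [xs_mul_apply, hki, hkj, if_false]

/-- entries of an upper unitriangular matrix -/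
theorem US_low {u : SLn n F} (hu : u ∈ US n F) {k l : Fin n} (h : l < k) : u.1 k l = 0 := by
  have := (Cfsg.Agent.Helper14.AutPSL.mem_UT.1 hu) k l (le_of_lt h)
  rw [this, if_neg (ne_of_gt h)]

theorem US_diag {u : SLn n F} (hu : u ∈ US n F) (k : Fin n) : u.1 k k = 1 := by
  have := (Cfsg.Agent.Helper14.AutPSL.mem_UT.1 hu) k k le_rfl
  rw [this, if_pos rfl]

theorem mem_US_of {u : SLn n F} (hlow : ∀ k l : Fin n, l < k → u.1 k l = 0)
    (hdiag : ∀ k : Fin n, u.1 k k = 1) : u ∈ US n F := by
  apply Cfsg.Agent.Helper14.AutPSL.mem_UT.2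
  intro k l hkl
  rcases lt_or_eq_of_le hkl with h | h
  · rw [hlow k l h, if_neg (ne_of_gt h)]
  · subst h
    rw [hdiag, if_pos rfl]

/-- (F1) upper root elements are unitriangular -/
theorem xs_mem_US (hlt : i < j) (a : F) : xs i j hne a ∈ US n F := by
  apply mem_US_of
  · intro k l hkl
    have h := mul_xs_apply i j hne (1 : Matrix (Fin n) (Fin n) F) a k l
    rw [Matrix.one_mul] at h
    rw [h]
    split_ifs with hl
    · subst hl
      have hki : k ≠ i := fun h => by subst h; exact absurd hkl (not_lt.2 (le_of_lt hlt))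
      rw [Matrix.one_apply_ne (ne_of_gt hkl), Matrix.one_apply_ne hki, mul_zero, add_zero]
    · exact Matrix.one_apply_ne (ne_of_gt hkl)
  · intro k
    have h := mul_xs_apply i j hne (1 : Matrix (Fin n) (Fin n) F) a k k
    rw [Matrix.one_mul] at h
    rw [h]
    split_ifs with hl
    · subst hl
      rw [Matrix.one_apply_eq, Matrix.one_apply_ne (ne_of_gt hlt), mul_zero, add_zero]
    · exact Matrix.one_apply_eq k

/-- (F2) the `(i,j)` entry after correcting by root elements -/
theorem corrected_entry {u : SLn n F} (hu : u ∈ US n F) (hlt : i < j) (a : F) :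
    (xs i j hne (-(a + u.1 i j)) * u * xs i j hne a).1 i j = 0 := by
  show ((xs i j hne (-(a + u.1 i j))).1 * u.1 * (xs i j hne a).1) i j = 0
  rw [mul_xs_apply, if_pos rfl, xs_mul_apply, xs_mul_apply, if_pos rfl, if_pos rfl,
    US_diag hu, US_diag hu, US_low hu hlt]
  ring

/-- (F3) the monomial element normalises the unipotent radical of the minimal parabolic -/
theorem sd_conj_mem_US (hij : j.val = i.val + 1) {u : SLn n F} (hu : u ∈ US n F)
    (h0 : u.1 i j = 0) : (sd i j hne)⁻¹ * u * sd i j hne ∈ US n F := by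
  have hiv : ∀ k : Fin n, k ≠ i → k.val ≠ i.val := fun k h h' => h (Fin.ext h')
  have hjv : ∀ k : Fin n, k ≠ j → k.val ≠ j.val := fun k h h' => h (Fin.ext h')
  apply mem_US_of
  · intro k l hkl
    have hkl' : l.val < k.val := hkl
    show (((sd i j hne : SLn n F)⁻¹).1 * u.1 * (sd i j hne : SLn n F).1) k l = 0
    rw [mul_sd_apply]
    by_cases hli : l = i
    · rw [if_pos hli, sdinv_mul_apply, neg_eq_zero]
      subst hli
      by_cases hkj : k = j
      · rw [if_neg (by rw [hkj]; exact hne.symm), if_pos hkj, h0]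
      · have hki : k ≠ l := ne_of_gt hkl
        rw [if_neg hki, if_neg hkj]
        apply US_low hu
        show j.val < k.val
        have := hjv k hkj
        omega
    · rw [if_neg hli]
      by_cases hlj : l = j
      · rw [if_pos hlj, sdinv_mul_apply]
        subst hlj
        have hki : k ≠ i := by
          intro h
          rw [h] at hkl'
          omega
        rw [if_neg hki, if_neg (ne_of_gt hkl)]
        apply US_low hu
        show i.val < k.val
        omega
      · rw [if_neg hlj, sdinv_mul_apply]
        have hli' := hiv l hli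
        have hlj' := hjv l hlj
        by_cases hki : k = i
        · rw [if_pos hki, neg_eq_zero]
          apply US_low hu
          show l.val < j.val
          rw [hki] at hkl'
          omega
        · rw [if_neg hki]
          by_cases hkj : k = j
          · rw [if_pos hkj]
            apply US_low hu
            show l.val < i.val
            rw [hkj] at hkl'
            omega
          · rw [if_neg hkj]
            exact US_low hu hkl
  · intro k
    show (((sd i j hne : SLn n F)⁻¹).1 * u.1 * (sd i j hne : SLn n F).1) k k = 1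
    rw [mul_sd_apply]
    by_cases hki : k = i
    · rw [if_pos hki, sdinv_mul_apply, if_pos hki, neg_neg]
      exact US_diag hu j
    · rw [if_neg hki]
      by_cases hkj : k = j
      · rw [if_pos hkj, sdinv_mul_apply, if_neg hki, if_pos hkj]
        exact US_diag hu i
      · rw [if_neg hkj, sdinv_mul_apply, if_neg hki, if_neg hkj]
        exact US_diag hu k

/-- (F4) the monomial element normalises the diagonal torus -/
theorem sd_conj_mem_TD {t : SLn n F} (ht : t ∈ TD n F) :
    (sd i j hne)⁻¹ * t * sd i j hne ∈ TD n F := by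
  rw [mem_TD] at ht ⊢
  intro k l hkl
  show (((sd i j hne : SLn n F)⁻¹).1 * t.1 * (sd i j hne : SLn n F).1) k l = 0
  rw [mul_sd_apply]
  by_cases hli : l = i
  · rw [if_pos hli, sdinv_mul_apply, neg_eq_zero]
    have hki : k ≠ i := fun h => hkl (h.trans hli.symm)
    rw [if_neg hki]
    by_cases hkj : k = j
    · rw [if_pos hkj]
      exact ht i j hne
    · rw [if_neg hkj]
      exact ht k j hkj
  · rw [if_neg hli]
    by_cases hlj : l = j
    · rw [if_pos hlj, sdinv_mul_apply]
      have hkj : k ≠ j := fun h => hkl (h.trans hlj.symm)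
      by_cases hki : k = i
      · rw [if_pos hki, neg_eq_zero]
        exact ht j i hne.symm
      · rw [if_neg hki, if_neg hkj]
        exact ht k i hki
    · rw [if_neg hlj, sdinv_mul_apply]
      by_cases hki : k = i
      · rw [if_pos hki, neg_eq_zero]
        exact ht j l (Ne.symm hlj)
      · rw [if_neg hki]
        by_cases hkj : k = j
        · rw [if_pos hkj]
          exact ht i l (Ne.symm hli)
        · rw [if_neg hkj]
          exact ht k l hkl

/-- diagonal entries of a diagonal matrix of determinant one are nonzero -/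
theorem TD_diag_ne_zero {t : SLn n F} (ht : t ∈ TD n F) (k : Fin n) : t.1 k k ≠ 0 := by
  intro h0
  have hdet : t.1.det = 1 := t.2
  have hup : t.1.BlockTriangular id := by
    intro r s hrs
    exact ht r s (ne_of_gt hrs)
  rw [Matrix.det_of_isUpperTriangular hup] at hdet
  have : ∏ r : Fin n, t.1 r r = 0 := Finset.prod_eq_zero (Finset.mem_univ k) h0
  rw [this] at hdet
  exact zero_ne_one hdet

/-- (F5) the torus normalises the root subgroup -/
theorem TD_mul_xs {t : SLn n F} (ht : t ∈ TD n F) (a : F) :
    t * xs i j hne a = xs i j hne (t.1 i i * (t.1 j j)⁻¹ * a) * t := by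
  have hjj := TD_diag_ne_zero ht j
  rw [mem_TD] at ht
  apply Subtype.ext
  show t.1 * (xs i j hne a).1 = (xs i j hne (t.1 i i * (t.1 j j)⁻¹ * a)).1 * t.1
  ext k l
  rw [mul_xs_apply, xs_mul_apply]
  by_cases hlj : l = j
  · rw [if_pos hlj]
    by_cases hki : k = i
    · rw [if_pos hki, hki, hlj, ht i j hne]
      field_simp
    · rw [if_neg hki, ht k i hki, mul_zero, add_zero, hlj]
  · rw [if_neg hlj]
    by_cases hki : k = i
    · rw [if_pos hki, ht j l (Ne.symm hlj), mul_zero, add_zero, hki]
    · rw [if_neg hki]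

/-- (F6) the square of the monomial element is diagonal -/
theorem sd_sq_mem_TD : sd i j hne * sd i j hne ∈ TD n F := by
  rw [mem_TD]
  intro k l hkl
  show ((sd i j hne : SLn n F).1 * (sd i j hne : SLn n F).1) k l = 0
  have hS : ∀ a b : Fin n, (sd i j hne : SLn n F).1 a b =
      if b = i then - (1 : Matrix (Fin n) (Fin n) F) a j else
        if b = j then (1 : Matrix (Fin n) (Fin n) F) a i else
          (1 : Matrix (Fin n) (Fin n) F) a b := by
    intro a b
    have := mul_sd_apply i j hne (1 : Matrix (Fin n) (Fin n) F) a b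
    rwa [Matrix.one_mul] at this
  rw [mul_sd_apply]
  by_cases hli : l = i
  · rw [if_pos hli, hS, if_neg hne.symm, if_pos rfl, neg_eq_zero]
    exact Matrix.one_apply_ne (fun h => hkl (h.trans hli.symm))
  · rw [if_neg hli]
    by_cases hlj : l = j
    · rw [if_pos hlj, hS, if_pos rfl, neg_eq_zero]
      exact Matrix.one_apply_ne (fun h => hkl (h.trans hlj.symm))
    · rw [if_neg hlj, hS, if_neg hli, if_neg hlj]
      exact Matrix.one_apply_ne hkl

/-- the torus element of the rank-one Bruhat relation -/
noncomputable def hh (a : F) : SLn n F :=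
  (sd i j hne)⁻¹ * xs i j hne a⁻¹ * sd i j hne * xs i j hne a * sd i j hne * xs i j hne a⁻¹

/-- (F7) the rank-one Bruhat relation `s x(a) s = x(-a⁻¹) s h_a x(-a⁻¹)` -/
theorem sd_xs_sd (a : F) :
    sd i j hne * xs i j hne a * sd i j hne =
      (xs i j hne a⁻¹)⁻¹ * sd i j hne * hh i j hne a * (xs i j hne a⁻¹)⁻¹ := by
  unfold hh
  group

theorem hh_mem_TD {a : F} (ha : a ≠ 0) : hh i j hne a ∈ TD n F := by
  rw [mem_TD]
  intro k l hkl
  have hji : ¬ j = i := hne.symm
  have hij' : ¬ i = j := hne
  show (((sd i j hne : SLn n F)⁻¹).1 * (xs i j hne a⁻¹).1 * (sd i j hne : SLn n F).1 *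
    (xs i j hne a).1 * (sd i j hne : SLn n F).1 * (xs i j hne a⁻¹).1) k l = 0
  have h1 : ((sd i j hne : SLn n F)⁻¹).1 =
      (1 : Matrix (Fin n) (Fin n) F) * ((sd i j hne : SLn n F)⁻¹).1 := (Matrix.one_mul _).symm
  rw [h1]
  by_cases hlj : l = j
  · have hkj : ¬ k = j := fun h => hkl (h.trans hlj.symm)
    simp only [mul_xs_apply, mul_sd_apply, mul_sdinv_apply, hlj, hji, hij', if_true, if_false,
      Matrix.one_apply_ne hkj]
    by_cases hki : k = i
    · subst hki
      simp only [Matrix.one_apply_eq]
      field_simp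
      ring
    · simp only [Matrix.one_apply_ne hki]
      ring
  · by_cases hli : l = i
    · have hki : ¬ k = i := fun h => hkl (h.trans hli.symm)
      simp only [mul_xs_apply, mul_sd_apply, mul_sdinv_apply, hli, hji, hij', if_true, if_false,
        Matrix.one_apply_ne hki]
      by_cases hkj : k = j
      · subst hkj
        simp only [Matrix.one_apply_eq]
        field_simp
        ring
      · simp only [Matrix.one_apply_ne hkj]
        ring
    · simp only [mul_xs_apply, mul_sd_apply, mul_sdinv_apply, hlj, hli, if_false]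
      exact Matrix.one_apply_ne hkl

end mat

/-! ### The representation argument -/

section rep

variable [Fintype F] {W : Type*} [AddCommGroup W] [Module ℂ W]
  (ρ : Representation ℂ (SLn n F) W)

theorem rho_mul_apply (g h : SLn n F) (w : W) : ρ (g * h) w = ρ g (ρ h w) := by
  rw [map_mul]
  rfl

/-- the candidate vector `∑ₐ ρ(x(a) s) v` -/
noncomputable def vprime (i j : Fin n) (hne : i ≠ j) (v : W) : W :=
  ∑ a : F, ρ (xs i j hne a * sd i j hne) v

variable (v : W) (hvU : ∀ u ∈ US n F, ρ u v = v)
  (lam : SLn n F → ℂ) (hlam : ∀ t ∈ TD n F, ρ t v = lam t • v)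
  (i j : Fin n) (hij : j.val = i.val + 1) (hne : i ≠ j)

include hvU hij in
/-- (1) the candidate vector is fixed by the unitriangular group -/
theorem vprime_fixed (u : SLn n F) (hu : u ∈ US n F) :
    ρ u (vprime ρ i j hne v) = vprime ρ i j hne v := by
  have hlt : i < j := by
    show i.val < j.val
    omega
  unfold vprime
  rw [map_sum]
  have hterm : ∀ a : F, ρ u (ρ (xs i j hne a * sd i j hne) v) =
      ρ (xs i j hne (a + u.1 i j) * sd i j hne) v := by
    intro a
    set u'' : SLn n F := xs i j hne (-(a + u.1 i j)) * u * xs i j hne a with hu''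
    have hu''U : u'' ∈ US n F :=
      mul_mem (mul_mem (xs_mem_US i j hne hlt _) hu) (xs_mem_US i j hne hlt _)
    have hu''0 : u''.1 i j = 0 := corrected_entry i j hne hu hlt a
    have hconj := sd_conj_mem_US i j hne hij hu''U hu''0
    have hfix := hvU _ hconj
    have hdecomp : u * (xs i j hne a * sd i j hne) =
        xs i j hne (a + u.1 i j) * sd i j hne * ((sd i j hne)⁻¹ * u'' * sd i j hne) := by
      rw [hu'', ← xs_inv]
      group
    rw [← rho_mul_apply, hdecomp, rho_mul_apply, hfix]
  rw [Finset.sum_congr rfl (fun a _ => hterm a)]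
  exact Fintype.sum_equiv (Equiv.addRight (u.1 i j)) _ _ (fun a => rfl)

include hvU hlam in
/-- (2) the torus acts on the candidate vector through the conjugated weight -/
theorem vprime_weight (t : SLn n F) (ht : t ∈ TD n F) :
    ρ t (vprime ρ i j hne v) =
      lam ((sd i j hne)⁻¹ * t * sd i j hne) • vprime ρ i j hne v := by
  unfold vprime
  rw [map_sum, Finset.smul_sum]
  have hc : t.1 i i * (t.1 j j)⁻¹ ≠ 0 :=
    mul_ne_zero (TD_diag_ne_zero ht i) (inv_ne_zero (TD_diag_ne_zero ht j))
  have hterm : ∀ a : F, ρ t (ρ (xs i j hne a * sd i j hne) v) =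
      lam ((sd i j hne)⁻¹ * t * sd i j hne) •
        ρ (xs i j hne (t.1 i i * (t.1 j j)⁻¹ * a) * sd i j hne) v := by
    intro a
    have hdecomp : t * (xs i j hne a * sd i j hne) =
        xs i j hne (t.1 i i * (t.1 j j)⁻¹ * a) * sd i j hne *
          ((sd i j hne)⁻¹ * t * sd i j hne) := by
      rw [← mul_assoc, TD_mul_xs i j hne ht a]
      group
    rw [← rho_mul_apply, hdecomp, rho_mul_apply, hlam _ (sd_conj_mem_TD i j hne ht), map_smul]
  rw [Finset.sum_congr rfl (fun a _ => hterm a)]
  exact Fintype.sum_equiv (Equiv.mulLeft₀ _ hc) _ _ (fun a => rfl)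

include hvU hlam hij in
/-- (3) the candidate vector is nonzero -/
theorem vprime_ne_zero (hv : v ≠ 0) : vprime ρ i j hne v ≠ 0 := by
  have hlt : i < j := by
    show i.val < j.val
    omega
  intro h0
  -- apply `∑_b ρ(x(b) s)` to `v' = 0`
  have hsum : ∑ b : F, ρ (xs i j hne b * sd i j hne) (vprime ρ i j hne v) = 0 := by
    rw [h0]
    simp
  have hexp : ∑ b : F, ρ (xs i j hne b * sd i j hne) (vprime ρ i j hne v) =
      ∑ a : F, ∑ b : F, ρ (xs i j hne b * sd i j hne * (xs i j hne a * sd i j hne)) v := by
    rw [Finset.sum_comm]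
    apply Finset.sum_congr rfl
    intro b _
    unfold vprime
    rw [map_sum]
    apply Finset.sum_congr rfl
    intro a _
    exact (rho_mul_apply ρ _ _ v).symm
  rw [hexp] at hsum
  -- the terms with `a ≠ 0` vanish
  have hne0 : ∀ a : F, a ≠ 0 →
      ∑ b : F, ρ (xs i j hne b * sd i j hne * (xs i j hne a * sd i j hne)) v = 0 := by
    intro a ha
    have hterm : ∀ b : F, ρ (xs i j hne b * sd i j hne * (xs i j hne a * sd i j hne)) v =
        lam (hh i j hne a) • ρ (xs i j hne (b + -a⁻¹) * sd i j hne) v := by
      intro b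
      have hdecomp : xs i j hne b * sd i j hne * (xs i j hne a * sd i j hne) =
          xs i j hne (b + -a⁻¹) * sd i j hne * (hh i j hne a * xs i j hne (-a⁻¹)) := by
        have h1 : xs i j hne b * sd i j hne * (xs i j hne a * sd i j hne) =
            xs i j hne b * (sd i j hne * xs i j hne a * sd i j hne) := by group
        rw [h1, sd_xs_sd, xs_inv, ← xs_mul_xs]
        group
      rw [hdecomp, rho_mul_apply, rho_mul_apply ρ (hh i j hne a),
        hvU _ (xs_mem_US i j hne hlt _), hlam _ (hh_mem_TD i j hne ha), map_smul]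
    rw [Finset.sum_congr rfl (fun b _ => hterm b), ← Finset.smul_sum]
    have hre : ∑ b : F, ρ (xs i j hne (b + -a⁻¹) * sd i j hne) v = vprime ρ i j hne v :=
      Fintype.sum_equiv (Equiv.addRight (-a⁻¹)) _ _ (fun b => rfl)
    rw [hre, h0, smul_zero]
  rw [Finset.sum_eq_single (0 : F) (fun a _ ha => hne0 a ha)
    (fun h => absurd (Finset.mem_univ _) h)] at hsum
  -- the term `a = 0`
  have hterm0 : ∀ b : F, ρ (xs i j hne b * sd i j hne * (xs i j hne 0 * sd i j hne)) v =
      lam (sd i j hne * sd i j hne) • v := by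
    intro b
    have hdecomp : xs i j hne b * sd i j hne * (xs i j hne 0 * sd i j hne) =
        xs i j hne b * (sd i j hne * sd i j hne) := by
      rw [xs_zero]
      group
    rw [hdecomp, rho_mul_apply, hlam _ (sd_sq_mem_TD i j hne), map_smul,
      hvU _ (xs_mem_US i j hne hlt _)]
  rw [Finset.sum_congr rfl (fun b _ => hterm0 b), Finset.sum_const, Finset.card_univ,
    ← Nat.cast_smul_eq_nsmul ℂ, smul_smul] at hsum
  rcases smul_eq_zero.1 hsum with h | h
  · rcases mul_eq_zero.1 h with h' | h'
    · have : (Fintype.card F : ℂ) ≠ 0 := Nat.cast_ne_zero.2 Fintype.card_ne_zero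
      exact this h'
    · -- `lam h = 0` contradicts the invertibility of `ρ h`
      have h1 := hlam _ (sd_sq_mem_TD i j hne)
      rw [h', zero_smul] at h1
      have h2 : ρ (sd i j hne * sd i j hne)⁻¹ (ρ (sd i j hne * sd i j hne) v) = v := by
        rw [← rho_mul_apply, inv_mul_cancel, map_one]
        rfl
      rw [h1, map_zero] at h2
      exact hv h2.symm
  · exact hv h

end rep

/-- (R1) rank-one argument: the weight of the unique `U`-fixed line is invariant under the
adjacent transpositions -/
theorem weight_conj_invariant [Fintype F] {W : Type*} [AddCommGroup W] [Module ℂ W]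
    (ρ : Representation ℂ (SLn n F) W) (v : W) (hv : v ≠ 0)
    (hvU : ∀ u ∈ US n F, ρ u v = v)
    (hU : ∀ w : W, (∀ u ∈ US n F, ρ u w = w) → ∃ c : ℂ, w = c • v)
    (lam : SLn n F → ℂ) (hlam : ∀ t ∈ TD n F, ρ t v = lam t • v)
    (i j : Fin n) (hij : j.val = i.val + 1) (hne : i ≠ j) (t : SLn n F) (ht : t ∈ TD n F) :
    lam ((sd i j hne)⁻¹ * t * sd i j hne) = lam t := by
  obtain ⟨c, hc⟩ := hU (vprime ρ i j hne v) (vprime_fixed ρ v hvU i j hij hne)
  have hne0 := vprime_ne_zero ρ v hvU lam hlam i j hij hne hv
  have h1 := vprime_weight ρ v hvU lam hlam i j hne t ht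
  have h2 : ρ t (vprime ρ i j hne v) = lam t • vprime ρ i j hne v := by
    rw [hc, map_smul, hlam t ht, smul_comm]
  rw [h2] at h1
  have h3 : (lam t - lam ((sd i j hne)⁻¹ * t * sd i j hne)) • vprime ρ i j hne v = 0 := by
    rw [sub_smul, h1, sub_self]
  rcases smul_eq_zero.1 h3 with h | h
  · exact (sub_eq_zero.1 h).symm
  · exact absurd h hne0

end Cfsg.Agent.Helper12.DZ
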