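import Mathlib
import Cfsg.Agent.Helper12.PrimeDegNormalizer

set_option autoImplicit false

namespace Cfsg.Agent.Helper12

namespace Deg7

open Equiv PrimeDeg IndexP SylowInvol

variable {α : Type*} [Fintype α] [DecidableEq α]

/-- the order of a `k`-transitive group is divisible by `n (n-1) ... (n-k+1)` -/
theorem exists_dvd_card_of_multTrans (G : Subgroup (Equiv.Perm α)) (k : ℕ)
    (hk : k ≤ Fintype.card α) (h : MulAction.IsMultiplyPretransitive G α k) :
    ∃ m : ℕ, m * (Fintype.card α - k).factorial = (Fintype.card α).factorial ∧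
      m ∣ Nat.card G := by
  obtain ⟨t, _, ht⟩ := Finset.exists_subset_card_eq (s := (Finset.univ : Finset α)) (n := k)
    (by rw [Finset.card_univ]; exact hk)
  have hs : (t : Set α).ncard = k := by rw [Set.ncard_coe_finset, ht]
  have := h.index_of_fixingSubgroup_mul hs
  rw [Nat.card_eq_fintype_card] at this
  exact ⟨_, this, Subgroup.index_dvd_card _⟩

/-- a subgroup of index `3` of the symmetric group of degree at least `5` contains the alternating
group -/
theorem alternatingGroup_le_of_index_three (hα : 5 ≤ Fintype.card α)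
    (G : Subgroup (Equiv.Perm α)) (hG : G.index = 3) : alternatingGroup α ≤ G := by
  have hcore : G.normalCore ≠ ⊥ := by
    intro hbot
    rw [Subgroup.normalCore_eq_ker] at hbot
    have hinj : Function.Injective (MulAction.toPermHom (Equiv.Perm α) (Equiv.Perm α ⧸ G)) :=
      (MonoidHom.ker_eq_bot_iff _).mp hbot
    haveI : Finite (Equiv.Perm α ⧸ G) := inferInstance
    have h1 := Nat.card_le_card_of_injective _ hinj
    rw [Nat.card_perm, Nat.card_perm, ← Subgroup.index_eq_card, hG, Nat.card_eq_fintype_card]
      at h1
    have h2 : Nat.factorial 5 ≤ (Fintype.card α).factorial := Nat.factorial_le hα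
    have h3 : Nat.factorial 5 = 120 := by decide
    have h4 : Nat.factorial 3 = 6 := by decide
    omega
  haveI : Nontrivial G.normalCore := (Subgroup.nontrivial_iff_ne_bot _).mpr hcore
  have hα' : 5 ≤ Nat.card α := by rw [Nat.card_eq_fintype_card]; exact hα
  exact le_trans (Equiv.Perm.alternatingGroup_le_of_normal hα' this) (Subgroup.normalCore_le G)

section parity

variable {p : ℕ} [hp : Fact p.Prime]

/-- an element of odd order is an even permutation -/
theorem sign_eq_one_of_odd_order (σ : Equiv.Perm α) (hodd : Odd (orderOf σ)) :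
    Equiv.Perm.sign σ = 1 := by
  rcases Int.units_eq_one_or (Equiv.Perm.sign σ) with h | h
  · exact h
  · exfalso
    have h1 : (Equiv.Perm.sign σ) ^ orderOf σ = 1 := by
      rw [← map_pow, pow_orderOf_eq_one, map_one]
    rw [h, hodd.neg_one_pow] at h1
    exact absurd h1 (by decide)

/-- the even part of a permutation group containing an odd permutation -/
theorem even_part (G : Subgroup (Equiv.Perm α)) (τ : Equiv.Perm α) (hτG : τ ∈ G)
    (hτ : Equiv.Perm.sign τ = -1) :
    Nat.card G = Nat.card (G ⊓ alternatingGroup α : Subgroup (Equiv.Perm α)) * 2 ∧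
    (Group.IsSolvable (G ⊓ alternatingGroup α : Subgroup (Equiv.Perm α)) → Group.IsSolvable G) := by
  constructor
  · have h1 := Subgroup.relIndex_mul_relIndex (⊥ : Subgroup (Equiv.Perm α))
      (G ⊓ alternatingGroup α) G bot_le inf_le_left
    rw [Subgroup.relIndex_bot_left, Subgroup.relIndex_bot_left] at h1
    rw [← h1]
    congr 1
    rw [inf_comm, Subgroup.inf_relIndex_right]
    have hnontriv : Nontrivial α := by
      by_contra hnt
      rw [not_nontrivial_iff_subsingleton] at hnt
      have : τ = 1 := Subsingleton.elim _ _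
      rw [this, map_one] at hτ
      exact absurd hτ (by decide)
    have h2 : (alternatingGroup α).relIndex G ∣ 2 := by
      have := Subgroup.relIndex_dvd_index_of_normal (alternatingGroup α) G
      rwa [alternatingGroup.index_eq_two] at this
    have h3 : (alternatingGroup α).relIndex G ≠ 1 := by
      intro h
      rw [Subgroup.relIndex_eq_one] at h
      have := h hτG
      rw [Equiv.Perm.mem_alternatingGroup, hτ] at this
      exact absurd this (by decide)
    rcases (Nat.dvd_prime Nat.prime_two).mp h2 with h | h
    · exact absurd h h3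
    · exact h
  · intro hsolv
    let f : (G ⊓ alternatingGroup α : Subgroup (Equiv.Perm α)) →* G :=
      Subgroup.inclusion inf_le_left
    let g : G →* ℤˣ := Equiv.Perm.sign.comp G.subtype
    apply Group.isSolvable_of_ker_le_range f g
    intro x hx
    have hx' : Equiv.Perm.sign x.1 = 1 := hx
    have hxA : x.1 ∈ alternatingGroup α := Equiv.Perm.mem_alternatingGroup.mpr hx'
    exact ⟨⟨x.1, x.2, hxA⟩, rfl⟩

/-- a permutation group of prime degree containing an element of order `p` is transitive -/
theorem isPretransitive_of_mem (hα : Fintype.card α = p) (G : Subgroup (Equiv.Perm α))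
    (σ : Equiv.Perm α) (hσ : orderOf σ = p) (hσG : σ ∈ G) : MulAction.IsPretransitive G α := by
  have hpp : p.Prime := hp.out
  haveI : NeZero p := ⟨hpp.ne_zero⟩
  obtain ⟨e, he⟩ := exists_labelling hα σ hσ
  have hσlab : ∀ j, lab e σ j = j + 1 := by
    intro j
    show e.symm (σ (e j)) = j + 1
    rw [← he j, Equiv.symm_apply_apply]
  refine ⟨fun x y => ?_⟩
  obtain ⟨i, rfl⟩ := e.surjective x
  obtain ⟨j, rfl⟩ := e.surjective y
  refine ⟨⟨σ ^ (j - i).val, G.pow_mem hσG _⟩, ?_⟩
  show (σ ^ (j - i).val) (e i) = e j
  rw [← e_lab, lab_pow_trans e σ 1 hσlab, mul_one, ZMod.natCast_zmod_val]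
  congr 1
  ring

end parity

end Deg7

end Cfsg.Agent.Helper12
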