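import Cfsg.Agent.Helper19.E8C.Facts

/-!
# (NORM) for helper19's S5751: `P_J` normalises the level filtration `UL m` of `E₈(F)`
-/

set_option autoImplicit false
set_option maxRecDepth 100000

namespace Cfsg.Agent.Helper12.E8C

open Cfsg Cfsg.Lie Cfsg.Agent.Helper18 Cfsg.Agent.Helper19.Poinc Cfsg.Agent.Helper19.E8C

variable {F : Type*} [Field F]

/-- `x_r(t)⁻¹ x_s(u) x_r(t) ∈ UL m` when `0 ≤ lev r` and `m ≤ lev s`, `m ≥ 1` -/
theorem norm_conj_mem (h25 : CommHyp chevE8 F) (m : ℕ) (hm : 1 ≤ m) (r : ℕ)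
    (hr : r < chevE8.nroots) (hfr : 0 ≤ lev r) (s : ℕ) (hs : s < chevE8.nroots)
    (hfs : (m : ℤ) ≤ lev s) (t u : F) :
    (xGL chevE8 F r t)⁻¹ * xGL chevE8 F s u * xGL chevE8 F r t ∈ UL F m := by
  have hm' : (1 : ℤ) ≤ (m : ℤ) := by exact_mod_cast hm
  by_cases h1 : s = r
  · subst h1
    rw [Cfsg.Agent.Helper18.xGL_inv' chevE8 hE8, xGL_mul_add chevE8 hE8, xGL_mul_add chevE8 hE8]
    have : -t + u + t = u := by ring
    rw [this]
    exact xGL_mem_UL F s hs m hfs u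
  · have h2 : s ≠ chevE8.neg r := by
      intro e
      have := (lev_additive r hr).1
      rw [← e] at this
      linarith
    rw [comm_xGL chevE8 hE8 h25 r s hr hs h1 h2 t u]
    apply mul_mem (xGL_mem_UL F s hs m hfs u)
    unfold wordGL ChevalleyDatum.commWord
    apply Subgroup.list_prod_mem
    intro g hg
    simp only [List.map_map, List.mem_map, Function.comp_apply] at hg
    obtain ⟨c, hc, rfl⟩ := hg
    obtain ⟨c1, c2, c3, c4⟩ := commTerms_lvl chevE8 hE8 lev lev_additive r s hr hs c hc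
    apply xGL_mem_UL F _ c1 m
    rw [c2]
    have e3 : (1 : ℤ) ≤ (c.2.2.1 : ℤ) := by exact_mod_cast c3
    have e4 : (1 : ℤ) ≤ (c.2.2.2 : ℤ) := by exact_mod_cast c4
    have p1 : 0 ≤ (c.2.2.1 : ℤ) * lev r := by positivity
    have p2 : lev s ≤ (c.2.2.2 : ℤ) * lev s := by nlinarith
    linarith

/-- root elements of level `≥ 0` normalise `UL m` -/
theorem norm_xGL_mem (h25 : CommHyp chevE8 F) (m : ℕ) (hm : 1 ≤ m) (r : ℕ)
    (hr : r < chevE8.nroots) (hfr : 0 ≤ lev r) (t : F) :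
    xGL chevE8 F r t ∈ Subgroup.normalizer (UL F m : Set (GL chevE8.Idx F)) := by
  unfold UL
  apply mem_normalizer_closure_of'
  · rintro x ⟨s, u, hs, hfs, rfl⟩
    have := norm_conj_mem h25 m hm r hr hfr s hs hfs (-t) u
    rw [Cfsg.Agent.Helper18.xGL_inv' chevE8 hE8 r (-t), neg_neg, ← Cfsg.Agent.Helper18.xGL_inv' chevE8 hE8 r t] at this
    exact this
  · rintro x ⟨s, u, hs, hfs, rfl⟩
    exact norm_conj_mem h25 m hm r hr hfr s hs hfs t u

/-- the diagonal subgroup normalises `UL m` -/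
theorem norm_diag_le (m : ℕ) :
    chevE8.diagonalSubgroup F ≤ Subgroup.normalizer (UL F m : Set (GL chevE8.Idx F)) := by
  have htri := triOK_of_mem chevE8 hE8
  conv_lhs => unfold ChevalleyDatum.diagonalSubgroup
  rw [Subgroup.closure_le]
  rintro g ⟨r, c, hr, hc, hg⟩
  unfold UL
  apply mem_normalizer_closure_of
  · rintro x ⟨s, t, hs, hfs, rfl⟩
    rw [(hMat_conj_x chevE8 hE8 g r hr c hc hg s hs t).1]
    exact ⟨s, _, hs, hfs, rfl⟩
  · rintro x ⟨s, t, hs, hfs, rfl⟩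
    rw [(hMat_conj_x chevE8 hE8 g r hr c hc hg s hs t).2]
    exact ⟨s, _, hs, hfs, rfl⟩

/-- (NORM) -/
theorem normFact (h25 : CommHyp chevE8 F) : NormFact F := by
  intro m hm
  rw [PJ_eq, sup_le_iff]
  refine ⟨norm_diag_le m, ?_⟩
  rw [Subgroup.closure_le]
  rintro g ⟨r, t, hr, h0, rfl⟩
  exact norm_xGL_mem h25 m hm r hr h0 t

end Cfsg.Agent.Helper12.E8C
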