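import Cfsg.Agent.Helper36.E8Odd.Defs2
import Cfsg.Agent.Helper19.Twist.SpecCount
import Cfsg.Agent.Helper19.Twist.CellWeyl

/-!
# (GRCLP) for helper36/helper18's S4281 (E8INV-2): helper40's grading of `E₈` satisfies helper19's condition `gradeOK'`, and the list of all
positive roots is a closed list
-/

set_option autoImplicit false
set_option maxRecDepth 100000

namespace Cfsg.Agent.Helper12.E8Inv2

open Cfsg Cfsg.Lie Cfsg.Agent.Helper18 Cfsg.Agent.Helper18.E8Odd Cfsg.Agent.Helper19.Cox Cfsg.Agent.Helper19.Poinc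
  Cfsg.Agent.Helper19.Twist Cfsg.Agent.Helper36.E8Odd Cfsg.Agent.Helper36.FieldFix

/-- (GR) helper40's grading satisfies helper19's condition (it is `gradeOK` without the last conjunct). -/
theorem gradeOK'_E8 : gradeOK' chevE8 phiE Cfsg.Agent.Helper40.UData.witE8 = true := by
  have h := Cfsg.Agent.Helper40.UData.gradeOK_E8
  unfold Cfsg.Agent.Helper40.UGrade.gradeOK at h
  rw [Bool.and_eq_true] at h
  unfold gradeOK'
  exact h.1

theorem incr_posRoots_E8 :
    Cfsg.Agent.Helper40.UGrade.incr phiE chevE8.posRoots = true := by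
  have h := Cfsg.Agent.Helper40.UData.gradeOK_E8
  unfold Cfsg.Agent.Helper40.UGrade.gradeOK at h
  rw [Bool.and_eq_true] at h
  exact h.2

theorem mem_posRoots_iff (r : ℕ) : r ∈ chevE8.posRoots ↔ chevE8.IsPosRoot r := by
  unfold ChevalleyDatum.posRoots
  rw [List.mem_filter, List.mem_range, decide_eq_true_eq]
  constructor
  · exact fun h => h.2
  · exact fun h => ⟨h.1, h⟩

/-- (CLP) the list of all positive roots is closed. -/
theorem closed_posRoots : ClosedList chevE8 phiE chevE8.posRoots where
  sorted := Cfsg.Agent.Helper40.UGrade.pairwise_of_incr phiE _ incr_posRoots_E8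
  pos := fun r hr => (mem_posRoots_iff r).mp hr
  closed := by
    intro r hr s hs c hc
    rw [mem_posRoots_iff] at hr hs ⊢
    exact (commTerms_pos' gradeOK'_E8 r s hr hs c hc).1

end Cfsg.Agent.Helper12.E8Inv2
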