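import Cfsg.Agent.Helper12.E8Inv_RootInjDefs

/-!
# `rootInjOK chevE8`, rows 60..119 (`decide +kernel`, 12 rows per theorem to keep the memory below 10 GB)
-/

set_option autoImplicit false
set_option maxRecDepth 100000

namespace Cfsg.Agent.Helper12.E8Inv

open Cfsg Cfsg.Lie Cfsg.Agent.Helper18 Cfsg.Agent.Helper19.Twist

theorem rows_60_72 : ∀ a < 72, 60 ≤ a → rowOK a = true := by decide +kernel
theorem rows_72_84 : ∀ a < 84, 72 ≤ a → rowOK a = true := by decide +kernel
theorem rows_84_96 : ∀ a < 96, 84 ≤ a → rowOK a = true := by decide +kernel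
theorem rows_96_108 : ∀ a < 108, 96 ≤ a → rowOK a = true := by decide +kernel
theorem rows_108_120 : ∀ a < 120, 108 ≤ a → rowOK a = true := by decide +kernel

theorem rowsBlock1 : ∀ a < 120, 60 ≤ a → rowOK a = true := by
  intro a ha hlo
  by_cases h72 : a < 72
  · by_cases g60 : 60 ≤ a
    · exact rows_60_72 a h72 g60
    · omega
  by_cases h84 : a < 84
  · by_cases g72 : 72 ≤ a
    · exact rows_72_84 a h84 g72
    · omega
  by_cases h96 : a < 96
  · by_cases g84 : 84 ≤ a
    · exact rows_84_96 a h96 g84
    · omega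
  by_cases h108 : a < 108
  · by_cases g96 : 96 ≤ a
    · exact rows_96_108 a h108 g96
    · omega
  exact rows_108_120 a ha (by omega)

end Cfsg.Agent.Helper12.E8Inv
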