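import Cfsg.Agent.Helper12.E8Inv_RootInjDefs

/-!
# `rootInjOK chevE8`, rows 120..179 (`decide +kernel`, 12 rows per theorem to keep the memory below 10 GB)
-/

set_option autoImplicit false
set_option maxRecDepth 100000

namespace Cfsg.Agent.Helper12.E8Inv

open Cfsg Cfsg.Lie Cfsg.Agent.Helper18 Cfsg.Agent.Helper19.Twist

theorem rows_120_132 : ∀ a < 132, 120 ≤ a → rowOK a = true := by decide +kernel
theorem rows_132_144 : ∀ a < 144, 132 ≤ a → rowOK a = true := by decide +kernel
theorem rows_144_156 : ∀ a < 156, 144 ≤ a → rowOK a = true := by decide +kernel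
theorem rows_156_168 : ∀ a < 168, 156 ≤ a → rowOK a = true := by decide +kernel
theorem rows_168_180 : ∀ a < 180, 168 ≤ a → rowOK a = true := by decide +kernel

theorem rowsBlock2 : ∀ a < 180, 120 ≤ a → rowOK a = true := by
  intro a ha hlo
  by_cases h132 : a < 132
  · by_cases g120 : 120 ≤ a
    · exact rows_120_132 a h132 g120
    · omega
  by_cases h144 : a < 144
  · by_cases g132 : 132 ≤ a
    · exact rows_132_144 a h144 g132
    · omega
  by_cases h156 : a < 156
  · by_cases g144 : 144 ≤ a
    · exact rows_144_156 a h156 g144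
    · omega
  by_cases h168 : a < 168
  · by_cases g156 : 156 ≤ a
    · exact rows_156_168 a h168 g156
    · omega
  exact rows_168_180 a ha (by omega)

end Cfsg.Agent.Helper12.E8Inv
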