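import Cfsg.Agent.Helper12.E8Inv_RootInjDefs

/-!
# `rootInjOK chevE8`, rows 180..239 (`decide +kernel`, 12 rows per theorem to keep the memory below 10 GB)
-/

set_option autoImplicit false
set_option maxRecDepth 100000

namespace Cfsg.Agent.Helper12.E8Inv

open Cfsg Cfsg.Lie Cfsg.Agent.Helper18 Cfsg.Agent.Helper19.Twist

theorem rows_180_192 : ∀ a < 192, 180 ≤ a → rowOK a = true := by decide +kernel
theorem rows_192_204 : ∀ a < 204, 192 ≤ a → rowOK a = true := by decide +kernel
theorem rows_204_216 : ∀ a < 216, 204 ≤ a → rowOK a = true := by decide +kernel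
theorem rows_216_228 : ∀ a < 228, 216 ≤ a → rowOK a = true := by decide +kernel
theorem rows_228_240 : ∀ a < 240, 228 ≤ a → rowOK a = true := by decide +kernel

theorem rowsBlock3 : ∀ a < 240, 180 ≤ a → rowOK a = true := by
  intro a ha hlo
  by_cases h192 : a < 192
  · by_cases g180 : 180 ≤ a
    · exact rows_180_192 a h192 g180
    · omega
  by_cases h204 : a < 204
  · by_cases g192 : 192 ≤ a
    · exact rows_192_204 a h204 g192
    · omega
  by_cases h216 : a < 216
  · by_cases g204 : 204 ≤ a
    · exact rows_204_216 a h216 g204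
    · omega
  by_cases h228 : a < 228
  · by_cases g216 : 216 ≤ a
    · exact rows_216_228 a h228 g216
    · omega
  exact rows_228_240 a ha (by omega)

end Cfsg.Agent.Helper12.E8Inv
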