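import Cfsg.Agent.Helper12.E8Inv_RootInj0
import Cfsg.Agent.Helper12.E8Inv_RootInj1
import Cfsg.Agent.Helper12.E8Inv_RootInj2
import Cfsg.Agent.Helper12.E8Inv_RootInj3

/-!
# `rootInjOK chevE8` (for helper18's S4281, piece (INV)): for `b ≠ a` the matrix of `x_b(t)` has no entry in position `(e_a, e_{-a})`

Assembled from the four row blocks `E8Inv_RootInj0..3` (the one-shot `decide +kernel` needs more than 30 GB).
-/

set_option autoImplicit false
set_option maxRecDepth 100000

namespace Cfsg.Agent.Helper12.E8Inv

open Cfsg Cfsg.Lie Cfsg.Agent.Helper18 Cfsg.Agent.Helper19.Twist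

theorem rootInjOK_E8 : rootInjOK chevE8 = true := by
  apply rootInjOK_of_rows
  intro a ha
  by_cases h60 : a < 60
  · exact rowsBlock0 a h60 (by omega)
  by_cases h120 : a < 120
  · exact rowsBlock1 a h120 (by omega)
  by_cases h180 : a < 180
  · exact rowsBlock2 a h180 (by omega)
  exact rowsBlock3 a ha (by omega)

end Cfsg.Agent.Helper12.E8Inv
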