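import Cfsg.Agent.Helper18.E8Odd.Defs
import Cfsg.Agent.Helper12.E8Inv_RootInj

/-!
# (INV) for helper18's S4281: an involution `k n_w` of `N ≤ E₈(F)` has `w² = 1` on the roots

Port of `Cfsg.Agent.Helper65.F4OddINV.invol_perm`.
-/

set_option autoImplicit false
set_option maxRecDepth 100000

namespace Cfsg.Agent.Helper12.E8Inv

open Cfsg Cfsg.Lie Cfsg.Agent.Helper18 Cfsg.Agent.Helper18.E8Odd Cfsg.Agent.Helper36.E8Odd Cfsg.Agent.Helper40.SL2Hom

variable {F : Type*} [Field F]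

/-- (INV) an involution `k n_w` has `w² = 1` on the roots -/
theorem invol_perm (c : Fin chevE8.rank → Fˣ) (w : List ℕ) (hw : ∀ i ∈ w, i < 8)
    (hmm : (tor c * nW w) * (tor c * nW w) = 1) : ∀ x < 240, aW w (aW w x) = x := by
  intro x hx
  obtain ⟨hlt1, η1, -, h1⟩ := monomial_conj (F := F) c w hw x hx
  obtain ⟨hlt2, η2, -, h2⟩ := monomial_conj (F := F) c w hw (rho chevE8 w x) hlt1
  obtain ⟨m, hm⟩ : ∃ m : GL chevE8.Idx F, m = tor c * nW w := ⟨_, rfl⟩
  rw [← hm] at hmm h1 h2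
  have hminv : m⁻¹ = m := inv_eq_of_mul_eq_one_right hmm
  have e := h2 ((chr (rho chevE8 w x) c : Fˣ) * η1 * 1)
  rw [← h1 1] at e
  have e' : m * (m * X x 1 * m⁻¹) * m⁻¹ = X x (1 : F) := by
    rw [hminv]
    calc m * (m * X x 1 * m) * m = (m * m) * X x 1 * (m * m) := by group
      _ = X x 1 := by rw [hmm, one_mul, mul_one]
  rw [e'] at e
  have hxx : x = rho chevE8 w (rho chevE8 w x) :=
    Cfsg.Agent.Helper19.Twist.xGL_root_inj chevE8 _ (triOK_of_mem chevE8 hE8)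
      rootInjOK_E8 x (rho chevE8 w (rho chevE8 w x)) hx hlt2
      (1 : F) _ one_ne_zero e
  rw [(aW_eq_rho w hw x hx).1, (aW_eq_rho w hw _ hlt1).1]
  exact hxx.symm

end Cfsg.Agent.Helper12.E8Inv
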