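import Cfsg.Agent.Helper18.E8Odd.Defs
import Cfsg.Agent.Helper12.E8Inv_INV
import Cfsg.Agent.S1025

/-!
# (BL) for helper18's S4281: an involution `m = k n_w` with `w α_i = -α_i`, `w α_j = α_i + α_j` (`i ~ j`) is a square at `α_i`

Sign-free: the structure constants are eliminated with the commutator formula for the pairs `(a, b)` and `(-a, a + b)`.
-/

set_option autoImplicit false
set_option maxRecDepth 100000

namespace Cfsg.Agent.Helper12.E8Inv

open Cfsg Cfsg.Lie Cfsg.Agent.Helper18 Cfsg.Agent.Helper18.E8Odd Cfsg.Agent.Helper36.E8Odd Cfsg.Agent.Helper40.SL2Hom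

/-- the table check for (BL): for adjacent `i ~ j`, with `a = α_i`, `b = α_j`, `p = s_i b`: the commutator formulas for
`(a, b)` and `(-a, p)` have the single terms `(p, N, 1, 1)` and `(b, N, 1, 1)` with the same `N = ±1` -/
def blOK : Bool :=
  (List.range 8).all fun i => (List.range 8).all fun j =>
    !(decide (Adj i j)) ||
      (decide (chevE8.commTerms (sr i) (sr j) =
          [(aW [i] (sr j), ((chevE8.commTerms (sr i) (sr j)).headD (0, 0, 0, 0)).2.1, 1, 1)]) &&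
        decide (chevE8.commTerms (239 - sr i) (aW [i] (sr j)) =
          [(sr j, ((chevE8.commTerms (sr i) (sr j)).headD (0, 0, 0, 0)).2.1, 1, 1)]) &&
        decide (((chevE8.commTerms (sr i) (sr j)).headD (0, 0, 0, 0)).2.1 = 1 ∨
          ((chevE8.commTerms (sr i) (sr j)).headD (0, 0, 0, 0)).2.1 = -1) &&
        decide (sr i < 240) && decide (sr j < 240) && decide (aW [i] (sr j) < 240) &&
        decide (sr j ≠ sr i) && decide (sr j ≠ 239 - sr i) && decide (aW [i] (sr j) ≠ 239 - sr i) &&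
        decide (aW [i] (sr j) ≠ sr i))

theorem blOK_ok : blOK = true := by decide +kernel

theorem bl_spec (i j : ℕ) (hadj : Adj i j) :
    ∃ N : ℤ, (N = 1 ∨ N = -1) ∧
      chevE8.commTerms (sr i) (sr j) = [(aW [i] (sr j), N, 1, 1)] ∧
      chevE8.commTerms (239 - sr i) (aW [i] (sr j)) = [(sr j, N, 1, 1)] ∧
      sr i < 240 ∧ sr j < 240 ∧ aW [i] (sr j) < 240 ∧ sr j ≠ sr i ∧ sr j ≠ 239 - sr i ∧
      aW [i] (sr j) ≠ 239 - sr i ∧ aW [i] (sr j) ≠ sr i := by
  have h := blOK_ok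
  unfold blOK at h
  rw [List.all_eq_true] at h
  have h1 := h i (List.mem_range.mpr hadj.1)
  rw [List.all_eq_true] at h1
  have h2 := h1 j (List.mem_range.mpr hadj.2.1)
  simp only [Bool.or_eq_true, Bool.not_eq_true', decide_eq_false_iff_not, Bool.and_eq_true,
    decide_eq_true_eq] at h2
  rcases h2 with h2 | h2
  · exact absurd hadj h2
  · obtain ⟨⟨⟨⟨⟨⟨⟨⟨⟨e1, e2⟩, e3⟩, e4⟩, e5⟩, e6⟩, e7⟩, e8⟩, e9⟩, e10⟩ := h2
    exact ⟨_, e3, e1, e2, e4, e5, e6, e7, e8, e9, e10⟩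

variable {F : Type*} [Field F]

theorem h25E8 : CommHyp chevE8 F := fun r s hr hs hsr hsn t u =>
  Cfsg.Agent.S1025.result chevE8 hE8 r s hr hs hsr hsn t u

/-- the commutator formula for a pair with a single term -/
theorem comm_single (r s q : ℕ) (N : ℤ) (hr : r < 240) (hs : s < 240) (h1 : s ≠ r) (h2 : s ≠ 239 - r)
    (hT : chevE8.commTerms r s = [(q, N, 1, 1)]) (t u : F) :
    (X r t)⁻¹ * X s u * X r t = X s u * X q ((N : F) * (-t) * u) := by
  have h2' : s ≠ chevE8.neg r := by rw [neg_eq r hr]; exact h2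
  have h := comm_xGL chevE8 hE8 h25E8 r s hr hs h1 h2' t u
  unfold X
  rw [h]
  congr 1
  unfold wordGL ChevalleyDatum.commWord
  rw [hT]
  simp only [List.map_cons, List.map_nil, List.prod_cons, List.prod_nil, mul_one, pow_one]

/-- (BL) -/
theorem refl_square (w : List ℕ) (hw : ∀ i ∈ w, i < 8) (i j : ℕ) (hadj : Adj i j)
    (h1 : aW w (sr i) = 239 - sr i) (h2 : aW w (sr j) = aW [i] (sr j))
    (c : Fin chevE8.rank → Fˣ) (hmm : (tor c * nW w) * (tor c * nW w) = 1) : SqAt (tor c * nW w) (sr i) := by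
  obtain ⟨N, hN, hT1, hT2, ha, hb, hp, hba, hbna, hpna, hpa⟩ := bl_spec i j hadj
  have hwp : aW w (aW [i] (sr j)) = sr j := by
    have := invol_perm c w hw hmm (sr j) hb
    rwa [h2] at this
  obtain ⟨-, ηa, hηa, hca⟩ := monomial_conj (F := F) c w hw (sr i) ha
  obtain ⟨-, ηb, hηb, hcb⟩ := monomial_conj (F := F) c w hw (sr j) hb
  obtain ⟨-, ηp, hηp, hcp⟩ := monomial_conj (F := F) c w hw (aW [i] (sr j)) hp
  rw [← (aW_eq_rho w hw _ ha).1, h1] at hca
  rw [← (aW_eq_rho w hw _ hb).1, h2] at hcb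
  rw [← (aW_eq_rho w hw _ hp).1, hwp] at hcp
  obtain ⟨m, hm⟩ : ∃ m : GL chevE8.Idx F, m = tor c * nW w := ⟨_, rfl⟩
  rw [← hm] at hmm hca hcb hcp ⊢
  have hminv : m⁻¹ = m := inv_eq_of_mul_eq_one_right hmm
  obtain ⟨γa, hγa⟩ : ∃ γ : F, γ = (chr (239 - sr i) c : Fˣ) * ηa := ⟨_, rfl⟩
  obtain ⟨γb, hγb⟩ : ∃ γ : F, γ = (chr (aW [i] (sr j)) c : Fˣ) * ηb := ⟨_, rfl⟩
  obtain ⟨γp, hγp⟩ : ∃ γ : F, γ = (chr (sr j) c : Fˣ) * ηp := ⟨_, rfl⟩
  rw [← hγa] at hca
  rw [← hγb] at hcb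
  rw [← hγp] at hcp
  have hNF : (N : F) ≠ 0 := by
    rcases hN with rfl | rfl <;> simp
  -- `m² = 1` on `X_b`
  have e1 : γp * γb = 1 := by
    have h : X (sr j) (1 : F) = m * (m * X (sr j) 1 * m⁻¹) * m⁻¹ := by
      have : m * (m * X (sr j) (1 : F) * m⁻¹) * m⁻¹ = (m * m) * X (sr j) 1 * (m * m)⁻¹ := by group
      rw [this, hmm]
      group
    rw [hcb 1, hcp] at h
    have := X_injective (sr j) hb _ _ h
    rw [this]; ring
  have hγb0 : γb ≠ 0 := right_ne_zero_of_mul_eq_one e1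
  -- conjugate the commutator formula for `(a, b)` by `m`
  have fI := comm_single (F := F) (sr i) (sr j) (aW [i] (sr j)) N ha hb hba hbna hT1 1 1
  have fI' : (X (239 - sr i) (γa * 1))⁻¹ * X (aW [i] (sr j)) (γb * 1) * X (239 - sr i) (γa * 1) =
      X (aW [i] (sr j)) (γb * 1) * X (sr j) (γp * ((N : F) * (-1) * 1)) := by
    rw [← hca 1, ← hcb 1, ← hcp]
    have : (m * X (sr i) 1 * m⁻¹)⁻¹ * (m * X (sr j) 1 * m⁻¹) * (m * X (sr i) 1 * m⁻¹) =
        m * ((X (sr i) (1 : F))⁻¹ * X (sr j) 1 * X (sr i) 1) * m⁻¹ := by group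
    rw [this, fI]
    group
  have h239 : 239 - sr i < 240 := by omega
  have hpna' : aW [i] (sr j) ≠ 239 - (239 - sr i) := by
    have : 239 - (239 - sr i) = sr i := by omega
    rw [this]; exact hpa
  have fII := comm_single (F := F) (239 - sr i) (aW [i] (sr j)) (sr j) N h239 hp hpna hpna' hT2
    (γa * 1) (γb * 1)
  rw [fII] at fI'
  have e2 := X_injective (sr j) hb _ _ (mul_left_cancel fI')
  have e3 : γa * γb = γp := by
    have : (N : F) * (γa * γb) = (N : F) * γp := by linear_combination -e2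
    exact mul_left_cancel₀ hNF this
  -- `γ_a = (γ_b⁻¹)²`
  refine ⟨γb⁻¹, inv_ne_zero hγb0, fun t => ?_⟩
  rw [hca t]
  congr 1
  have : γa = γb⁻¹ * γb⁻¹ := by
    field_simp
    rw [← e1, ← e3]; ring
  rw [this]

end Cfsg.Agent.Helper12.E8Inv
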