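import Cfsg.Agent.Helper12.E8Inv_RootInjDefs

/-!
# `rootInjOK chevE8`, rows 0..59 (`decide +kernel`, 12 rows per theorem to keep the memory below 10 GB)
-/

set_option autoImplicit false
set_option maxRecDepth 100000

namespace Cfsg.Agent.Helper12.E8Inv

open Cfsg Cfsg.Lie Cfsg.Agent.Helper18 Cfsg.Agent.Helper19.Twist

theorem rows_0_12 : ∀ a < 12, 0 ≤ a → rowOK a = true := by decide +kernel
theorem rows_12_24 : ∀ a < 24, 12 ≤ a → rowOK a = true := by decide +kernel
theorem rows_24_36 : ∀ a < 36, 24 ≤ a → rowOK a = true := by decide +kernel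
theorem rows_36_48 : ∀ a < 48, 36 ≤ a → rowOK a = true := by decide +kernel
theorem rows_48_60 : ∀ a < 60, 48 ≤ a → rowOK a = true := by decide +kernel

theorem rowsBlock0 : ∀ a < 60, 0 ≤ a → rowOK a = true := by
  intro a ha hlo
  by_cases h12 : a < 12
  · by_cases g0 : 0 ≤ a
    · exact rows_0_12 a h12 g0
    · omega
  by_cases h24 : a < 24
  · by_cases g12 : 12 ≤ a
    · exact rows_12_24 a h24 g12
    · omega
  by_cases h36 : a < 36
  · by_cases g24 : 24 ≤ a
    · exact rows_24_36 a h36 g24
    · omega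
  by_cases h48 : a < 48
  · by_cases g36 : 36 ≤ a
    · exact rows_36_48 a h48 g36
    · omega
  exact rows_48_60 a ha (by omega)

end Cfsg.Agent.Helper12.E8Inv
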