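import Cfsg.Agent.Helper19.Twist.RootInj

/-!
# `rootInjOK chevE8`, row by row (the one-shot `decide +kernel` needs > 30 GB): definitions
-/

set_option autoImplicit false
set_option maxRecDepth 100000

namespace Cfsg.Agent.Helper12.E8Inv

open Cfsg Cfsg.Lie Cfsg.Agent.Helper18 Cfsg.Agent.Helper19.Twist

/-- the row `a` of the check `rootInjOK chevE8` -/
def rowOK (a : ℕ) : Bool :=
  (List.range chevE8.nroots).all fun b => (a == b) || (chevE8.chainCoeff b (chevE8.neg a) a).isEmpty

theorem rootInjOK_of_rows (h : ∀ a < 240, rowOK a = true) : rootInjOK chevE8 = true := by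
  unfold rootInjOK
  rw [List.all_eq_true]
  intro a ha
  have ha' : a < 240 := List.mem_range.mp ha
  exact h a ha'

end Cfsg.Agent.Helper12.E8Inv
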