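import Cfsg.Agent.Helper16.DT.Defs
import Cfsg.Agent.Helper55.DT_IBI
import Cfsg.Agent.Helper55.DT_INb
import Cfsg.Agent.Helper87.DT_DEC
import Cfsg.Agent.Helper87.DT_E4Core

/-!
# (GLOB) of helper25's Fong–Swan farm (S4440): global decomposition numbers

`IBr p M G` is finite and linearly independent; every `χ°` is a non-negative integral combination
of its members; the members have positive integral degrees, vanish off the `p`-regular elements and
take local-integer values.
-/

set_option autoImplicit false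
set_option linter.unusedSectionVars false

namespace Cfsg.Agent.Helper12.FS

open Cfsg Cfsg.Agent.Helper16 Cfsg.Agent.Helper16.DT

universe u

variable {p : ℕ} [Fact p.Prime] {M : Ideal AlgInt} [M.IsMaximal] {G : Type u} [Group G]

/-- `IBrIn p M B ⊆ IBr p M G`. -/
theorem GLOB_IBrIn_subset [Fintype G] (B : Set (IrrCharacter G)) : IBrIn p M B ⊆ IBr p M G := by
  rintro φ ⟨n, ρ, hirr, hφ, -⟩
  exact ⟨n, ρ, hirr, hφ⟩

/-- The identity element is `p`-regular. -/
theorem GLOB_isPRegular_one : IsPRegular p (1 : G) := by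
  unfold IsPRegular
  rw [orderOf_one]
  exact (Fact.out : p.Prime).not_dvd_one

/-- (GLOB) global decomposition numbers. -/
theorem exists_decomp (hpM : (p : AlgInt) ∈ M) [Finite G] :
    ∃ (S : Finset (G → ℂ)) (d : IrrCharacter G → (G → ℂ) → ℕ),
      (↑S : Set (G → ℂ)) = IBr p M G ∧
      LinearIndependent ℂ (fun φ : S => (φ : G → ℂ)) ∧
      (∀ χ : IrrCharacter G, pRegularPart p (χ : G → ℂ) = ∑ φ ∈ S, (d χ φ : ℂ) • φ) ∧
      (∀ φ ∈ S, ∃ n : ℕ, 0 < n ∧ φ 1 = n) ∧
      (∀ φ ∈ S, ∀ g : G, ¬ IsPRegular p g → φ g = 0) ∧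
      (∀ φ ∈ S, ∀ g : G, MemLocalRing M (φ g)) := by
  classical
  cases nonempty_fintype G
  have hli : LinearIndependent ℂ (fun φ : IBr p M G => (φ : G → ℂ)) :=
    Cfsg.Agent.Helper55.DT.IBr_linearIndependent hpM
  have hfin : (IBr p M G).Finite := hli.set_finite_of_isNoetherian
  have hdec : ∀ χ : IrrCharacter G, ∃ l : List (G → ℂ), (∀ φ ∈ l, φ ∈ IBr p M G) ∧
      pRegularPart p (χ : G → ℂ) = l.sum := by
    intro χ
    obtain ⟨l, hl, hsum⟩ := Cfsg.Agent.Helper87.DT.decomposition (p := p) (M := M) hpM χ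
    exact ⟨l, fun φ hφ => GLOB_IBrIn_subset _ (hl φ hφ), hsum⟩
  choose l hl hsum using hdec
  have hS : ∀ φ : G → ℂ, φ ∈ hfin.toFinset ↔ φ ∈ IBr p M G := fun φ => hfin.mem_toFinset
  refine ⟨hfin.toFinset, fun χ φ => (l χ).count φ, hfin.coe_toFinset, ?_, ?_, ?_, ?_, ?_⟩
  · -- linear independence
    have hinj : Function.Injective
        (fun φ : hfin.toFinset => (⟨φ.1, (hS _).mp φ.2⟩ : IBr p M G)) := by
      intro a b hab
      have h1 : (a : G → ℂ) = (b : G → ℂ) := congrArg (fun x : IBr p M G => (x : G → ℂ)) hab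
      exact Subtype.ext h1
    exact hli.comp _ hinj
  · -- the decomposition
    intro χ
    rw [hsum χ, Finset.sum_list_count_of_subset (l χ) hfin.toFinset
      (fun φ hφ => (hS φ).mpr (hl χ φ (List.mem_toFinset.mp hφ)))]
    refine Finset.sum_congr rfl fun φ _ => ?_
    rw [Nat.cast_smul_eq_nsmul]
  · -- degrees
    intro φ hφ
    obtain ⟨n, ρ, hirr, rfl⟩ := (hS φ).mp hφ
    refine ⟨n, ?_, ?_⟩
    · obtain ⟨⟨i⟩, -⟩ := hirr
      exact Nat.pos_of_ne_zero (fun h => by subst h; exact i.elim0)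
    · show pRegularPart p (brauerFull p M ρ) 1 = (n : ℂ)
      unfold pRegularPart
      rw [if_pos GLOB_isPRegular_one]
      exact Cfsg.Agent.Helper87.DT.E4_brauerFull_one hpM ρ
  · -- vanishing
    intro φ hφ g hg
    obtain ⟨n, ρ, hirr, rfl⟩ := (hS φ).mp hφ
    show pRegularPart p (brauerFull p M ρ) g = 0
    unfold pRegularPart
    rw [if_neg hg]
  · -- local integrality
    intro φ hφ g
    obtain ⟨n, ρ, hirr, rfl⟩ := (hS φ).mp hφ
    show MemLocalRing M (pRegularPart p (brauerFull p M ρ) g)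
    unfold pRegularPart
    split_ifs with h
    · exact (Cfsg.Agent.Helper55.DT.resC_bfull hpM (ρ g)).1
    · exact memLocalRing_zero

end Cfsg.Agent.Helper12.FS
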