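import Mathlib
import Cfsg.Prelude.Def_Local
import Cfsg.Agent.Lib.Cores
import Cfsg.Agent.Helper11.PSolvable
import Cfsg.Agent.Helper31.PSolvExt
import Cfsg.Agent.Helper76.ClassSizeSylow

/-!
# (GT) of helper25's Fong–Swan farm (S4440): the group theory of the invariant step

`Γ` a central `p'`-extension of `G / O_{p'}(G) ≠ 1`, `G` `p`-solvable: then `Γ` is `p`-solvable and has
a normal `p`-subgroup `P` with `|Γ/P|_p < |G|_p`.
-/

set_option autoImplicit false

namespace Cfsg.Agent.Helper12.FS

open Cfsg

universe u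

/-- A finite group `Q` mapping to a `p`-group with central kernel has its Sylow `p`-subgroups
normal (it is nilpotent). -/
theorem GT_sylow_normal {p : ℕ} [Fact p.Prime] {Q : Type*} [Group Q] [Finite Q] {H : Type*} [Group H]
    [Finite H] (hH : IsPGroup p H) (g : Q →* H) (hker : g.ker ≤ Subgroup.center Q) (P : Sylow p Q) :
    (P : Subgroup Q).Normal := by
  have : Group.IsNilpotent H := hH.isNilpotent
  have hnil : Group.IsNilpotent Q := Subgroup.isNilpotent_of_ker_le_center g hker
  have := (Group.isNilpotent_of_finite_tfae (G := Q)).out 0 3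
  exact (this.mp hnil) p inferInstance P

/-- (GT) the group theory of the invariant step -/
theorem exists_normal_pGroup_of_central_ext {p : ℕ} [Fact p.Prime] {G : Type u} [Group G]
    [Finite G] (hsolv : IsPSolvable p G)
    (N : Subgroup G) [N.Normal] (hN : N = pPrimeCore p G) (hNtop : N ≠ ⊤)
    {Γ : Type u} [Group Γ] [Finite Γ] (f : Γ →* G ⧸ N) (hf : Function.Surjective f)
    (hker : f.ker ≤ Subgroup.center Γ) (hkp : ¬ p ∣ Nat.card f.ker) :
    IsPSolvable p Γ ∧ ∃ (P : Subgroup Γ) (_ : P.Normal), IsPGroup p P ∧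
      (Nat.card (Γ ⧸ P)).factorization p < (Nat.card G).factorization p := by
  classical
  have hp : p.Prime := Fact.out
  subst hN
  -- the quotient
  have hGbar_solv : IsPSolvable p (G ⧸ pPrimeCore p G) := Helper11.isPSolvable_quotient _ hsolv
  have hO : pPrimeCore p (G ⧸ pPrimeCore p G) = ⊥ := Helper76.pPrimeCore_quotient_pPrimeCore p
  have : Nontrivial (G ⧸ pPrimeCore p G) := by
    rw [QuotientGroup.nontrivial_iff]; exact hNtop
  obtain ⟨Qb, hQbn, hQbne, hQbcard⟩ := Helper76.exists_normal_of_isPSolvable hGbar_solv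
  have hQbp : ∃ m : ℕ, Nat.card Qb = p ^ m := by
    rcases hQbcard with h | h
    · exact h
    · exfalso
      apply hQbne
      have := Lib.le_pPrimeCore hQbn h
      rw [hO] at this
      exact le_bot_iff.mp this
  obtain ⟨m, hm⟩ := hQbp
  have hm0 : m ≠ 0 := by
    rintro rfl
    apply hQbne
    rw [pow_zero] at hm
    exact Subgroup.card_eq_one.mp hm
  have hkcop : (Nat.card f.ker).Coprime p := (Nat.Coprime.symm ((Nat.Prime.coprime_iff_not_dvd hp).mpr hkp))
  -- `Γ` is `p`-solvable
  have hΓsolv : IsPSolvable p Γ := by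
    apply Helper31.isPSolvable_of_quotient_of_card f.ker (Or.inr hkcop)
    exact Helper11.isPSolvable_of_mulEquiv (QuotientGroup.quotientKerEquivOfSurjective f hf).symm
      hGbar_solv
  refine ⟨hΓsolv, ?_⟩
  -- the preimage `Q` of `Qb`
  set Q : Subgroup Γ := Qb.comap f with hQdef
  have hQn : Q.Normal := Subgroup.Normal.comap hQbn f
  -- the restriction of `f` to `Q`
  let g : Q →* Qb := f.subgroupComap Qb
  have hgker : g.ker ≤ Subgroup.center Q := by
    intro x hx
    rw [Subgroup.mem_center_iff]
    intro y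
    have hx' : (x : Γ) ∈ f.ker := by
      rw [MonoidHom.mem_ker] at hx ⊢
      exact congrArg Subtype.val hx
    have := Subgroup.mem_center_iff.mp (hker hx') (y : Γ)
    exact Subtype.ext this
  have hQbpg : IsPGroup p Qb := IsPGroup.of_card hm
  obtain ⟨P₀⟩ : Nonempty (Sylow p Q) := inferInstance
  have hP₀n : (P₀ : Subgroup Q).Normal := GT_sylow_normal hQbpg g hgker P₀
  have hP₀c : (P₀ : Subgroup Q).Characteristic := Sylow.characteristic_of_normal P₀ hP₀n
  refine ⟨(P₀ : Subgroup Q).map Q.subtype, ConjAct.normal_of_characteristic_of_normal, ?_, ?_⟩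
  · exact P₀.2.map Q.subtype
  · set P : Subgroup Γ := (P₀ : Subgroup Q).map Q.subtype with hPdef
    have : P.Normal := ConjAct.normal_of_characteristic_of_normal
    -- cardinalities
    have hcardP : Nat.card P = Nat.card (P₀ : Subgroup Q) :=
      Nat.card_congr ((P₀ : Subgroup Q).equivMapOfInjective Q.subtype
        (Subgroup.subtype_injective Q)).symm.toEquiv
    have hgsurj : Function.Surjective g := by
      rintro ⟨y, hy⟩
      obtain ⟨x, rfl⟩ := hf y
      exact ⟨⟨x, hy⟩, rfl⟩
    have hpQ : p ∣ Nat.card Q := by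
      have h1 : Nat.card Qb ∣ Nat.card Q := Subgroup.card_dvd_of_surjective g hgsurj
      rw [hm] at h1
      exact dvd_trans (dvd_pow_self p hm0) h1
    have hpP : p ∣ Nat.card P := by
      rw [hcardP, Sylow.card_eq_multiplicity]
      apply dvd_pow_self
      have : 0 < (Nat.card Q).factorization p :=
        hp.factorization_pos_of_dvd Nat.card_pos.ne' hpQ
      omega
    have hfacP : 0 < (Nat.card P).factorization p :=
      hp.factorization_pos_of_dvd Nat.card_pos.ne' hpP
    -- `|Γ| = |Γ/P| |P|`
    have hΓ1 : Nat.card Γ = Nat.card (Γ ⧸ P) * Nat.card P :=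
      Subgroup.card_eq_card_quotient_mul_card_subgroup P
    have hΓ2 : Nat.card Γ = Nat.card (Γ ⧸ f.ker) * Nat.card f.ker :=
      Subgroup.card_eq_card_quotient_mul_card_subgroup f.ker
    have hΓ3 : Nat.card (Γ ⧸ f.ker) = Nat.card (G ⧸ pPrimeCore p G) :=
      Nat.card_congr (QuotientGroup.quotientKerEquivOfSurjective f hf).toEquiv
    have hG1 : Nat.card G = Nat.card (G ⧸ pPrimeCore p G) * Nat.card (pPrimeCore p G) :=
      Subgroup.card_eq_card_quotient_mul_card_subgroup _
    have hNcop : (Nat.card (pPrimeCore p G)).Coprime p := Lib.card_pPrimeCore_coprime p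
    have hfacK : (Nat.card f.ker).factorization p = 0 :=
      Nat.factorization_eq_zero_of_not_dvd hkp
    have hfacN : (Nat.card (pPrimeCore p G)).factorization p = 0 :=
      Nat.factorization_eq_zero_of_not_dvd
        ((Nat.Prime.coprime_iff_not_dvd hp).mp hNcop.symm)
    have e1 : (Nat.card Γ).factorization p =
        (Nat.card (Γ ⧸ P)).factorization p + (Nat.card P).factorization p := by
      rw [hΓ1, Nat.factorization_mul Nat.card_pos.ne' Nat.card_pos.ne']; rfl
    have e2 : (Nat.card Γ).factorization p = (Nat.card (G ⧸ pPrimeCore p G)).factorization p := by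
      rw [hΓ2, hΓ3, Nat.factorization_mul Nat.card_pos.ne' Nat.card_pos.ne',
        Finsupp.add_apply, hfacK, add_zero]
    have e3 : (Nat.card G).factorization p = (Nat.card (G ⧸ pPrimeCore p G)).factorization p := by
      rw [hG1, Nat.factorization_mul Nat.card_pos.ne' Nat.card_pos.ne',
        Finsupp.add_apply, hfacN, add_zero]
    omega

end Cfsg.Agent.Helper12.FS
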