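import Mathlib
import Cfsg.Agent.Helper6.NTor7
import Cfsg.Agent.Helper6.Sz26

/-!
# Piece (SzA) of #4936 (helper87, S2863): elementary abelian subgroups of order `q` of `Sz(q)`

* `sz_TI`: an elementary abelian subgroup `E` of order `q` of `Sz(q)` is weakly TI: if a
  non-identity element of `E` normalises a conjugate `E^c`, then `E^c = E`.
* `sz_SR`: every non-identity element of odd order is a product of two involutions, each
  conjugate into `E` (strongly real).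
-/

set_option autoImplicit false

namespace Cfsg.Agent.Helper12.FrakL

open Cfsg.Agent.Helper6

/-! ### The abstract trivial-intersection argument -/

/-- abstract form: Sylow `2`-subgroups TI, each with exactly `q` solutions of `x² = 1`; then a
subgroup `E` of order `q` and exponent two equals a conjugate `E^c` normalised by one of its
non-identity elements -/
theorem ti_abstract {G : Type*} [Group G] [Finite G] (q : ℕ)
    (hTI : ∀ P P' : Sylow 2 G, ∀ g : G, g ≠ 1 → g ∈ P → g ∈ P' → P = P')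
    (hΩ : ∀ P : Sylow 2 G, Nat.card {x : G // x ∈ P ∧ x * x = 1} = q)
    (E : Subgroup G) (hE : Nat.card E = q) (hE2 : ∀ x ∈ E, x * x = 1)
    (c z : G) (hz : z ∈ E) (hz1 : z ≠ 1)
    (h : ∀ y ∈ E, z * (c * y * c⁻¹) * z⁻¹ ∈ E.map (MulAut.conj c).toMonoidHom) :
    E.map (MulAut.conj c).toMonoidHom = E := by
  classical
  have : Fact (Nat.Prime 2) := ⟨Nat.prime_two⟩
  have hEp : IsPGroup 2 E := by
    rintro ⟨x, hx⟩
    refine ⟨1, Subtype.ext ?_⟩
    show x ^ 2 ^ 1 = 1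
    rw [pow_one, pow_two, hE2 x hx]
  obtain ⟨P, hEP⟩ := hEp.exists_le_sylow
  -- `E` is the set of solutions of `x² = 1` in `P`
  have hEset : ∀ x : G, x ∈ P → x * x = 1 → x ∈ E := by
    have hsub : (E : Set G) ⊆ {x : G | x ∈ P ∧ x * x = 1} := fun x hx => ⟨hEP hx, hE2 x hx⟩
    have hfin : ({x : G | x ∈ P ∧ x * x = 1} : Set G).Finite := Set.toFinite _
    have hcard : ({x : G | x ∈ P ∧ x * x = 1} : Set G).ncard ≤ (E : Set G).ncard := by
      rw [← Nat.card_coe_set_eq, ← Nat.card_coe_set_eq]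
      have h1 : Nat.card ↥({x : G | x ∈ P ∧ x * x = 1} : Set G) = q := hΩ P
      have h2 : Nat.card ↥(E : Set G) = q := hE
      rw [h1, h2]
    have heq := Set.eq_of_subset_of_ncard_le hsub hcard hfin
    intro x hxP hx2
    have : x ∈ ({x : G | x ∈ P ∧ x * x = 1} : Set G) := ⟨hxP, hx2⟩
    rw [← heq] at this
    exact this
  -- the conjugate Sylow subgroup
  set P' : Sylow 2 G := c • P with hP'
  have hmemP' : ∀ x : G, x ∈ P' ↔ c⁻¹ * x * c ∈ P := fun x => mem_sylow_smul_iff P c x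
  -- `z` normalises `P'`
  have hw := h z hz
  obtain ⟨y, hyE, hy⟩ := Subgroup.mem_map.1 hw
  have hy' : c * y * c⁻¹ = z * (c * z * c⁻¹) * z⁻¹ := by
    rw [← hy]; rfl
  have hwP' : z * (c * z * c⁻¹) * z⁻¹ ∈ P' := by
    rw [← hy', hmemP']
    have : c⁻¹ * (c * y * c⁻¹) * c = y := by group
    rw [this]
    exact hEP hyE
  have hwzP' : z * (c * z * c⁻¹) * z⁻¹ ∈ (z • P' : Sylow 2 G) := by
    rw [mem_sylow_smul_iff, hmemP']
    have : c⁻¹ * (z⁻¹ * (z * (c * z * c⁻¹) * z⁻¹) * z) * c = z := by group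
    rw [this]
    exact hEP hz
  have hw1 : z * (c * z * c⁻¹) * z⁻¹ ≠ 1 := by
    intro h1
    apply hz1
    have : z = c⁻¹ * (z⁻¹ * (z * (c * z * c⁻¹) * z⁻¹) * z) * c := by group
    rw [this, h1]
    group
  have hzP'eq : z • P' = P' := (hTI P' (z • P') _ hw1 hwP' hwzP').symm
  have hzN : z ∈ Subgroup.normalizer (P' : Set G) :=
    Sylow.smul_eq_iff_mem_normalizer.1 hzP'eq
  -- hence `z ∈ P'`
  have hzp : IsPGroup 2 (Subgroup.zpowers z) := by
    rintro ⟨x, hx⟩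
    obtain ⟨i, rfl⟩ := Subgroup.mem_zpowers_iff.1 hx
    refine ⟨1, Subtype.ext ?_⟩
    show (z ^ i) ^ 2 ^ 1 = 1
    rw [pow_one, ← zpow_natCast, ← zpow_mul, mul_comm, zpow_mul, zpow_natCast, pow_two,
      hE2 z hz, one_zpow]
  have hzP' : z ∈ P' := by
    have h1 := hzp.inf_normalizer_sylow P'
    have h2 : z ∈ Subgroup.zpowers z ⊓ Subgroup.normalizer (P' : Set G) :=
      ⟨Subgroup.mem_zpowers z, hzN⟩
    rw [h1] at h2
    exact h2.2
  have hPP' : P = P' := hTI P P' z hz1 (hEP hz) hzP'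
  -- conclusion
  ext x
  rw [Subgroup.mem_map]
  constructor
  · rintro ⟨y, hyE, rfl⟩
    show c * y * c⁻¹ ∈ E
    apply hEset
    · have : c * y * c⁻¹ ∈ P' := by
        rw [hmemP']
        have : c⁻¹ * (c * y * c⁻¹) * c = y := by group
        rw [this]
        exact hEP hyE
      rw [hPP']
      exact this
    · calc c * y * c⁻¹ * (c * y * c⁻¹) = c * (y * y) * c⁻¹ := by group
        _ = 1 := by rw [hE2 y hyE]; group
  · intro hxE
    refine ⟨c⁻¹ * x * c, ?_, ?_⟩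
    · apply hEset
      · rw [← hmemP', ← hPP']
        exact hEP hxE
      · calc c⁻¹ * x * c * (c⁻¹ * x * c) = c⁻¹ * (x * x) * c := by group
          _ = 1 := by rw [hE2 x hxE]; group
    · show c * (c⁻¹ * x * c) * c⁻¹ = x
      group

/-! ### The model `Cfsg.Sz F m` -/

variable {F : Type*} [Field F] [Fintype F] {m : ℕ}

/-- the number of solutions of `x² = 1` in a Sylow `2`-subgroup -/
theorem card_sq_eq_one_sylow (hm : 1 ≤ m) (hF : Fintype.card F = 2 ^ (2 * m + 1))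
    (P : Sylow 2 (Cfsg.Sz F m)) :
    Nat.card {x : Cfsg.Sz F m // x ∈ P ∧ x * x = 1} = Fintype.card F := by
  obtain ⟨g, hg⟩ := sylow_two_eq_conjSub hm hF P
  have hmem : ∀ x : Cfsg.Sz F m, x ∈ P ↔ g⁻¹ * x * g ∈ szQ hm hF := by
    intro x
    rw [← mem_conjSub_iff, ← hg]
    rfl
  rw [← Nat.card_eq_fintype_card]
  symm
  apply Nat.card_congr
  refine Equiv.ofBijective (fun b : F => (⟨g * sU hF 0 b * g⁻¹, ?_, ?_⟩ :
    {x : Cfsg.Sz F m // x ∈ P ∧ x * x = 1})) ⟨?_, ?_⟩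
  · rw [hmem]
    have : g⁻¹ * (g * sU hF 0 b * g⁻¹) * g = sU hF 0 b := by group
    rw [this]
    exact (mem_szQ_iff hm hF _).2 ⟨0, b, rfl⟩
  · calc g * sU hF 0 b * g⁻¹ * (g * sU hF 0 b * g⁻¹)
        = g * (sU hF 0 b * sU hF 0 b) * g⁻¹ := by group
      _ = 1 := by
        rw [sU_sq hm hF, mul_zero, sU_zero hm hF]
        group
  · intro b b' hbb'
    have h1 : g * sU hF 0 b * g⁻¹ = g * sU hF 0 b' * g⁻¹ := congrArg Subtype.val hbb'
    have h2 : sU hF 0 b = sU hF 0 b' := by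
      have : sU hF 0 b = g⁻¹ * (g * sU hF 0 b * g⁻¹) * g := by group
      rw [this, h1]
      group
    exact (sU_inj hF h2).2
  · rintro ⟨x, hxP, hx2⟩
    rw [hmem] at hxP
    obtain ⟨a, b, hab⟩ := (mem_szQ_iff hm hF _).1 hxP
    have hsq : sU hF a b * sU hF a b = 1 := by
      rw [← hab]
      calc g⁻¹ * x * g * (g⁻¹ * x * g) = g⁻¹ * (x * x) * g := by group
        _ = 1 := by rw [hx2]; group
    rw [sU_sq hm hF, sU_eq_one_iff hm hF] at hsq
    have ha : a = 0 := by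
      by_contra ha
      exact mul_ne_zero (pow_ne_zero _ ha) ha hsq.2
    refine ⟨b, Subtype.ext ?_⟩
    show g * sU hF 0 b * g⁻¹ = x
    rw [← ha, ← hab]
    group

/-- the weak TI property in the model -/
theorem sz_TI_model (hm : 1 ≤ m) (hF : Fintype.card F = 2 ^ (2 * m + 1))
    (E : Subgroup (Cfsg.Sz F m)) (hE : Nat.card E = Fintype.card F)
    (hE2 : ∀ x ∈ E, x * x = 1) (c z : Cfsg.Sz F m) (hz : z ∈ E) (hz1 : z ≠ 1)
    (h : ∀ y ∈ E, z * (c * y * c⁻¹) * z⁻¹ ∈ E.map (MulAut.conj c).toMonoidHom) :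
    E.map (MulAut.conj c).toMonoidHom = E :=
  ti_abstract (Fintype.card F)
    (fun P P' _ hg1 hP hP' => sylow_two_eq_of_mem hm hF P P' hg1 hP hP')
    (card_sq_eq_one_sylow hm hF) E hE hE2 c z hz hz1 h

/-- strong reality in the model: elements of odd order are products of two involutions, each
conjugate to a given involution -/
theorem sz_SR_model (hm : 1 ≤ m) (hF : Fintype.card F = 2 ^ (2 * m + 1))
    {z₀ : Cfsg.Sz F m} (hz₀ : z₀ ≠ 1) (hz₀2 : z₀ * z₀ = 1)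
    (x : Cfsg.Sz F m) (hx1 : x ≠ 1) (hxo : Odd (orderOf x)) :
    ∃ c d : Cfsg.Sz F m, x = (c * z₀ * c⁻¹) * (d * z₀ * d⁻¹) := by
  have : Fact (Nat.Prime 2) := ⟨Nat.prime_two⟩
  have hz₀o : orderOf z₀ = 2 := orderOf_eq_prime (by rw [pow_two]; exact hz₀2) hz₀
  -- `x` is semisimple
  have hxss : IsSS hm hF x := by
    refine ⟨hx1, ?_⟩
    apply not_conjInto_szQ_of_odd hm hF (Subgroup.zpowers x) ?_ (Subgroup.mem_zpowers x)
    rw [Nat.card_zpowers]
    intro h2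
    rcases hxo with ⟨k, hk⟩
    omega
  obtain ⟨s, hsN, hs⟩ := ss_exists_invol hm hF hxss
  have hxT : x ∈ Subgroup.centralizer ({x} : Set (Cfsg.Sz F m)) :=
    Subgroup.mem_centralizer_singleton_iff.2 rfl
  have hinv := ss_invol_inverts hm hF hxss hsN hs hxT
  have hs2 : s * s = 1 := by rw [← pow_two, ← hs, pow_orderOf_eq_one]
  have hsinv : s⁻¹ = s := inv_eq_of_mul_eq_one_right hs2
  -- `s * x` is an involution
  have hsx2 : (s * x) * (s * x) = 1 := by
    calc s * x * (s * x) = (s * x * s⁻¹) * (s * s) * x := by group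
      _ = 1 := by rw [hinv, hs2, mul_one, inv_mul_cancel]
  have hsx1 : s * x ≠ 1 := by
    intro h1
    have hxs : x = s := by
      have : x = s⁻¹ := eq_inv_of_mul_eq_one_right h1
      rw [this, hsinv]
    rw [hxs, hs] at hxo
    exact absurd hxo (by decide)
  have hsxo : orderOf (s * x) = 2 := orderOf_eq_prime (by rw [pow_two]; exact hsx2) hsx1
  obtain ⟨c, hc⟩ := invol_conj hm hF hs hz₀o
  obtain ⟨d, hd⟩ := invol_conj hm hF hsxo hz₀o
  refine ⟨c, d, ?_⟩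
  rw [hc, hd, ← mul_assoc, hs2, one_mul]

/-! ### Transport to `Cfsg.Lie.Sz` -/

/-- the two properties, for an arbitrary group -/
def TISR (G : Type*) [Group G] (q : ℕ) : Prop :=
  ∀ E : Subgroup G, Nat.card E = q → (∀ x ∈ E, x * x = 1) →
    (∀ c : G, ∀ z ∈ E, z ≠ 1 →
      (∀ y ∈ E, z * (c * y * c⁻¹) * z⁻¹ ∈ E.map (MulAut.conj c).toMonoidHom) →
      E.map (MulAut.conj c).toMonoidHom = E) ∧
    (∀ x : G, x ≠ 1 → Odd (orderOf x) → ∃ c d : G, ∃ z₁ ∈ E, ∃ z₂ ∈ E, z₁ ≠ 1 ∧ z₂ ≠ 1 ∧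
      x = (c * z₁ * c⁻¹) * (d * z₂ * d⁻¹))

theorem tisr_model (hm : 1 ≤ m) (hF : Fintype.card F = 2 ^ (2 * m + 1)) :
    TISR (Cfsg.Sz F m) (Fintype.card F) := by
  intro E hE hE2
  refine ⟨fun c z hz hz1 h => sz_TI_model hm hF E hE hE2 c z hz hz1 h, ?_⟩
  intro x hx1 hxo
  -- a non-identity element of `E`
  have hEne : ∃ z₀ ∈ E, z₀ ≠ 1 := by
    by_contra hcon
    push Not at hcon
    have hbot : E = ⊥ := (Subgroup.eq_bot_iff_forall E).2 hcon
    rw [hbot, Subgroup.card_bot, hF] at hE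
    have : 2 ≤ 2 ^ (2 * m + 1) := by
      calc 2 = 2 ^ 1 := by norm_num
        _ ≤ 2 ^ (2 * m + 1) := Nat.pow_le_pow_right (by norm_num) (by omega)
    omega
  obtain ⟨z₀, hz₀E, hz₀1⟩ := hEne
  obtain ⟨c, d, hcd⟩ := sz_SR_model hm hF hz₀1 (hE2 z₀ hz₀E) x hx1 hxo
  exact ⟨c, d, z₀, hz₀E, z₀, hz₀E, hz₀1, hz₀1, hcd⟩

/-- transport along an isomorphism -/
theorem TISR.of_equiv {G G' : Type*} [Group G] [Group G'] {q : ℕ} (e : G ≃* G')
    (hG : TISR G q) : TISR G' q := by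
  intro E' hE' hE2'
  set E : Subgroup G := E'.comap e.toMonoidHom with hEdef
  have hmemE : ∀ x : G, x ∈ E ↔ e x ∈ E' := fun x => Iff.rfl
  have hcard : Nat.card E = q := by
    rw [← hE']
    apply Nat.card_congr
    refine Equiv.ofBijective (fun x : E => (⟨e x, (hmemE x).1 x.2⟩ : E')) ⟨?_, ?_⟩
    · intro x y hxy
      have : e (x : G) = e (y : G) := congrArg Subtype.val hxy
      exact Subtype.ext (e.injective this)
    · rintro ⟨y, hy⟩
      refine ⟨⟨e.symm y, ?_⟩, Subtype.ext ?_⟩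
      · rw [hmemE, e.apply_symm_apply]
        exact hy
      · show e (e.symm y) = y
        exact e.apply_symm_apply y
  have hE2 : ∀ x ∈ E, x * x = 1 := by
    intro x hx
    apply e.injective
    rw [map_mul, map_one]
    exact hE2' _ ((hmemE x).1 hx)
  obtain ⟨h1, h2⟩ := hG E hcard hE2
  have hmapmem : ∀ (c x : G), x ∈ E.map (MulAut.conj c).toMonoidHom ↔
      e x ∈ E'.map (MulAut.conj (e c)).toMonoidHom := by
    intro c x
    rw [Subgroup.mem_map, Subgroup.mem_map]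
    constructor
    · rintro ⟨y, hy, rfl⟩
      refine ⟨e y, (hmemE y).1 hy, ?_⟩
      show e c * e y * (e c)⁻¹ = e (c * y * c⁻¹)
      rw [map_mul, map_mul, map_inv]
    · rintro ⟨y', hy', hyx⟩
      refine ⟨e.symm y', ?_, ?_⟩
      · rw [hmemE, e.apply_symm_apply]
        exact hy'
      · apply e.injective
        rw [← hyx]
        show e (c * e.symm y' * c⁻¹) = e c * y' * (e c)⁻¹
        rw [map_mul, map_mul, map_inv, e.apply_symm_apply]
  constructor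
  · intro c' z' hz' hz1' h'
    have hc : e (e.symm c') = c' := e.apply_symm_apply c'
    have hzz : e (e.symm z') = z' := e.apply_symm_apply z'
    have key := h1 (e.symm c') (e.symm z') (by rw [hmemE, hzz]; exact hz')
      (by
        intro h
        apply hz1'
        rw [← hzz, h, map_one])
      (by
        intro y hy
        rw [hmapmem, hc, map_mul, map_mul, map_mul, map_mul, map_inv, map_inv, hc, hzz]
        exact h' (e y) ((hmemE y).1 hy))
    ext x'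
    have hx' : e (e.symm x') = x' := e.apply_symm_apply x'
    rw [← hx', ← hc, ← hmapmem, key, hmemE]
  · intro x' hx1' hxo'
    have hx' : e (e.symm x') = x' := e.apply_symm_apply x'
    have hx1 : e.symm x' ≠ 1 := by
      intro h
      apply hx1'
      rw [← hx', h, map_one]
    have hxo : Odd (orderOf (e.symm x')) := by
      rw [MulEquiv.orderOf_eq]
      exact hxo'
    obtain ⟨c, d, z₁, hz₁, z₂, hz₂, hz₁1, hz₂1, hx⟩ := h2 (e.symm x') hx1 hxo
    refine ⟨e c, e d, e z₁, (hmemE z₁).1 hz₁, e z₂, (hmemE z₂).1 hz₂, ?_, ?_, ?_⟩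
    · intro h
      apply hz₁1
      apply e.injective
      rw [h, map_one]
    · intro h
      apply hz₂1
      apply e.injective
      rw [h, map_one]
    · rw [← hx', hx]
      simp only [map_mul, map_inv]

/-! ### The statements -/

theorem tisr_lie {F : Type} [Field F] [Fintype F] {m : ℕ} (hm : 1 ≤ m)
    (hF : Fintype.card F = 2 ^ (2 * m + 1)) :
    TISR (↥(Cfsg.Lie.Sz F (2 ^ (m + 1)))) (Fintype.card F) :=
  TISR.of_equiv (lieSzEquiv hm hF) (tisr_model hm hF)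

theorem sz_TI {F : Type} [Field F] [Fintype F] {m : ℕ} (hm : 1 ≤ m)
    (hF : Fintype.card F = 2 ^ (2 * m + 1)) (E : Subgroup ↥(Cfsg.Lie.Sz F (2 ^ (m + 1))))
    (hE : Nat.card E = Fintype.card F) (hE2 : ∀ x ∈ E, x * x = 1) :
    ∀ c : ↥(Cfsg.Lie.Sz F (2 ^ (m + 1))), ∀ z ∈ E, z ≠ 1 →
      (∀ y ∈ E, z * (c * y * c⁻¹) * z⁻¹ ∈ E.map (MulAut.conj c).toMonoidHom) →
      E.map (MulAut.conj c).toMonoidHom = E :=
  (tisr_lie hm hF E hE hE2).1

theorem sz_SR {F : Type} [Field F] [Fintype F] {m : ℕ} (hm : 1 ≤ m)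
    (hF : Fintype.card F = 2 ^ (2 * m + 1)) (E : Subgroup ↥(Cfsg.Lie.Sz F (2 ^ (m + 1))))
    (hE : Nat.card E = Fintype.card F) (hE2 : ∀ x ∈ E, x * x = 1) :
    ∀ x : ↥(Cfsg.Lie.Sz F (2 ^ (m + 1))), x ≠ 1 → Odd (orderOf x) →
      ∃ c d : ↥(Cfsg.Lie.Sz F (2 ^ (m + 1))), ∃ z₁ ∈ E, ∃ z₂ ∈ E, z₁ ≠ 1 ∧ z₂ ≠ 1 ∧
        x = (c * z₁ * c⁻¹) * (d * z₂ * d⁻¹) :=
  (tisr_lie hm hF E hE hE2).2

theorem sz_TI_SR {F : Type} [Field F] [Fintype F] {m : ℕ} (hm : 1 ≤ m) (hF : Fintype.card F = 2 ^ (2 * m + 1)) (E : Subgroup ↥(Cfsg.Lie.Sz F (2 ^ (m + 1)))) (hE : Nat.card E = Fintype.card F) (hE2 : ∀ x ∈ E, x * x = 1) : (∀ c : ↥(Cfsg.Lie.Sz F (2 ^ (m + 1))), ∀ z ∈ E, z ≠ 1 → (∀ y ∈ E, z * (c * y * c⁻¹) * z⁻¹ ∈ E.map (MulAut.conj c).toMonoidHom) → E.map (MulAut.conj c).toMonoidHom = E) ∧ (∀ x : ↥(Cfsg.Lie.Sz F (2 ^ (m + 1))), x ≠ 1 → Odd (orderOf x) → ∃ c d : ↥(Cfsg.Lie.Sz F (2 ^ (m + 1))), ∃ z₁ ∈ E, ∃ z₂ ∈ E, z₁ ≠ 1 ∧ z₂ ≠ 1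 ∧ x = (c * z₁ * c⁻¹) * (d * z₂ * d⁻¹)) :=
  tisr_lie hm hF E hE hE2

end Cfsg.Agent.Helper12.FrakL
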