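import Mathlib
import Cfsg.Agent.Helper34.FratLinDefs

/-!
# Piece (F5) of S4188 (helper34's plan, board #7937)

A `2`-element acting trivially on an invariant subspace and on the quotient of a faithful
representation in odd characteristic is trivial.
-/

set_option autoImplicit false

namespace Cfsg.Agent.Helper12.FratLin

open Cfsg.Agent.Helper34.FratLin

universe u v

-- (F5)
theorem eq_one_of_sub_of_quot {r : ℕ} [Fact r.Prime] (hr : r ≠ 2) {Q V : Type*} [Group Q]
    [AddCommGroup V] [Module (ZMod r) V] (hQ : IsPGroup 2 Q) (ρ : Representation (ZMod r) Q V)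
    (hρ : Function.Injective ρ) (W : Submodule (ZMod r) V) (hW : ∀ g : Q, W ≤ W.comap (ρ g))
    (g : Q) (h1 : ρ.subrepresentation W hW g = 1) (h2 : ρ.quotient W hW g = 1) : g = 1 := by
  set T := ρ g with hT
  have hTW : ∀ w ∈ W, T w = w := by
    intro w hw
    have := congrArg (fun f : W →ₗ[ZMod r] W => (f ⟨w, hw⟩ : V)) h1
    simpa [Representation.subrepresentation] using this
  have hTQ : ∀ v, T v - v ∈ W := by
    intro v
    have := congrArg (fun f : (V ⧸ W) →ₗ[ZMod r] (V ⧸ W) => f (Submodule.Quotient.mk v)) h2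
    simp only [Representation.quotient, MonoidHom.coe_mk, OneHom.coe_mk, Submodule.mapQ_apply,
      Module.End.one_apply] at this
    rwa [Submodule.Quotient.eq] at this
  have hpow : ∀ k : ℕ, ∀ v, (T ^ k) v = v + k • (T v - v) := by
    intro k
    induction k with
    | zero => intro v; simp
    | succ k ih =>
      intro v
      rw [pow_succ', Module.End.mul_apply, ih v, map_add, map_nsmul, hTW _ (hTQ v), succ_nsmul]
      abel
  have hTr : T ^ r = 1 := by
    ext v
    rw [hpow r v, Module.End.one_apply, ← Nat.cast_smul_eq_nsmul (ZMod r) r, ZMod.natCast_self,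
      zero_smul, add_zero]
  have hgr : g ^ r = 1 := by
    apply hρ
    rw [map_pow, map_one]
    exact hTr
  obtain ⟨k, hk⟩ := hQ g
  have hc : Nat.Coprime r (2 ^ k) :=
    Nat.Coprime.pow_right k ((Nat.coprime_primes Fact.out Nat.prime_two).mpr hr)
  have ho1 : orderOf g ∣ r := orderOf_dvd_of_pow_eq_one hgr
  have ho2 : orderOf g ∣ 2 ^ k := orderOf_dvd_of_pow_eq_one hk
  have : orderOf g = 1 := Nat.Coprime.eq_one_of_dvd (Nat.Coprime.coprime_dvd_left ho1 hc) ho2
  exact orderOf_eq_one_iff.mp this

end Cfsg.Agent.Helper12.FratLin
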