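import Mathlib
import Cfsg.Agent.Helper12.GFA

/-!
# Descent of a quadratic form fixed by `σ`, base change of linear equivalences (S2717, part A2)
-/

set_option autoImplicit false

namespace Cfsg.Agent.Helper12.GF

open Matrix Module QuadraticMap Cfsg.Agent.Helper37.OddF

variable {F₀ F : Type*} [Field F₀] [Field F]

section descentForm

variable {κ : Type} [Fintype κ] [DecidableEq κ]
variable (i : F₀ →+* F) (σ : F ≃+* F) (hi : ∀ a : F, σ a = a ↔ a ∈ i.range)

include hi in
theorem vmap_sigma_vmap (u₀ : κ → F₀) : vmap (σ : F →+* F) (vmap i u₀) = vmap i u₀ := by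
  funext k
  exact (hi _).2 ⟨u₀ k, rfl⟩

variable (Q' : QuadraticForm F (κ → F))
  (hσQ' : ∀ u : κ → F, Q' (vmap (σ : F →+* F) u) = σ (Q' u))

include hi hσQ' in
theorem value_mem_range (u₀ : κ → F₀) : Q' (vmap i u₀) ∈ i.range := by
  rw [← hi, ← hσQ', vmap_sigma_vmap i σ hi]

/-- the descended function -/
noncomputable def descFun (u₀ : κ → F₀) : F₀ :=
  Classical.choose (value_mem_range i σ hi Q' hσQ' u₀)

theorem descFun_spec (u₀ : κ → F₀) : i (descFun i σ hi Q' hσQ' u₀) = Q' (vmap i u₀) :=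
  Classical.choose_spec (value_mem_range i σ hi Q' hσQ' u₀)

theorem map_polar_descFun (x y : κ → F₀) :
    i (polar (descFun i σ hi Q' hσQ') x y) = polar ⇑Q' (vmap i x) (vmap i y) := by
  unfold polar
  rw [map_sub, map_sub, descFun_spec, descFun_spec, descFun_spec, vmap_add]

/-- **the descended quadratic form** -/
noncomputable def descForm : QuadraticForm F₀ (κ → F₀) :=
  QuadraticMap.ofPolar (descFun i σ hi Q' hσQ')
    (by
      intro c x
      apply i.injective
      rw [descFun_spec, vmap_smul, QuadraticMap.map_smul, smul_eq_mul, smul_eq_mul, map_mul,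
        map_mul, descFun_spec])
    (by
      intro x x' y
      apply i.injective
      rw [map_add, map_polar_descFun, map_polar_descFun, map_polar_descFun, vmap_add,
        QuadraticMap.polar_add_left])
    (by
      intro c x y
      apply i.injective
      rw [smul_eq_mul, map_mul, map_polar_descFun, map_polar_descFun, vmap_smul,
        QuadraticMap.polar_smul_left, smul_eq_mul])

theorem descForm_spec (u₀ : κ → F₀) :
    Q' (vmap i u₀) = i (descForm i σ hi Q' hσQ' u₀) :=
  (descFun_spec i σ hi Q' hσQ' u₀).symm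

theorem descForm_nondeg (hnd : (polarBilin Q').Nondegenerate) (x : κ → F₀)
    (hx : ∀ y, polar ⇑(descForm i σ hi Q' hσQ') x y = 0) : x = 0 := by
  have h1 : ∀ y : κ → F₀, polar ⇑Q' (vmap i x) (vmap i y) = 0 := by
    intro y
    have := map_polar_descFun i σ hi Q' hσQ' x y
    rw [← this]
    have h2 := hx y
    show i (polar ⇑(descForm i σ hi Q' hσQ') x y) = 0
    rw [h2, map_zero]
  have h2 : polarBilin Q' (vmap i x) = 0 := by
    apply (Pi.basisFun F κ).ext
    intro j
    rw [Pi.basisFun_apply, polarBilin_apply_apply, ← vmap_single i j, h1]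
    rfl
  have h3 : vmap i x = 0 := hnd.1 _ (fun y => by rw [h2]; rfl)
  apply vmap_injective i
  rw [h3, vmap_zero]

end descentForm

section baseChangeEquiv

variable {κ κ' : Type} [Fintype κ] [DecidableEq κ] [Fintype κ'] [DecidableEq κ']
variable (i : F₀ →+* F)

theorem vmap_mulVec' (M : Matrix κ' κ F₀) (v : κ → F₀) :
    vmap i (M *ᵥ v) = (M.map i) *ᵥ vmap i v := by
  funext k
  simp only [vmap, Matrix.mulVec, dotProduct, map_sum, map_mul, Matrix.map_apply]

/-- base change of a linear equivalence between coordinate spaces -/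
noncomputable def equivMap (g : (κ → F₀) ≃ₗ[F₀] (κ' → F₀)) : (κ → F) ≃ₗ[F] (κ' → F) :=
  LinearEquiv.ofLinear
    (Matrix.toLin' ((LinearMap.toMatrix' (g : (κ → F₀) →ₗ[F₀] (κ' → F₀))).map i))
    (Matrix.toLin' ((LinearMap.toMatrix' (g.symm : (κ' → F₀) →ₗ[F₀] (κ → F₀))).map i))
    (by
      rw [← Matrix.toLin'_mul, ← Matrix.map_mul, ← LinearMap.toMatrix'_comp]
      have : (g : (κ → F₀) →ₗ[F₀] (κ' → F₀)) ∘ₗ (g.symm : (κ' → F₀) →ₗ[F₀] (κ → F₀))
          = LinearMap.id := by
        ext x : 1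
        simp
      rw [this, LinearMap.toMatrix'_id, Matrix.map_one _ (map_zero i) (map_one i),
        Matrix.toLin'_one])
    (by
      rw [← Matrix.toLin'_mul, ← Matrix.map_mul, ← LinearMap.toMatrix'_comp]
      have : (g.symm : (κ' → F₀) →ₗ[F₀] (κ → F₀)) ∘ₗ (g : (κ → F₀) →ₗ[F₀] (κ' → F₀))
          = LinearMap.id := by
        ext x : 1
        simp
      rw [this, LinearMap.toMatrix'_id, Matrix.map_one _ (map_zero i) (map_one i),
        Matrix.toLin'_one])

theorem equivMap_apply (g : (κ → F₀) ≃ₗ[F₀] (κ' → F₀)) (u : κ → F) :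
    equivMap i g u = ((LinearMap.toMatrix' (g : (κ → F₀) →ₗ[F₀] (κ' → F₀))).map i) *ᵥ u := by
  show Matrix.toLin' _ u = _
  rw [Matrix.toLin'_apply]

theorem equivMap_vmap (g : (κ → F₀) ≃ₗ[F₀] (κ' → F₀)) (u₀ : κ → F₀) :
    equivMap i g (vmap i u₀) = vmap i (g u₀) := by
  rw [equivMap_apply, ← vmap_mulVec', ← Matrix.toLin'_apply, Matrix.toLin'_toMatrix']
  rfl

/-- the base change commutes with an automorphism fixing the small field -/
theorem equivMap_vmap_sigma (σ : F ≃+* F) (hi : ∀ a : F, σ a = a ↔ a ∈ i.range)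
    (g : (κ → F₀) ≃ₗ[F₀] (κ' → F₀)) (u : κ → F) :
    equivMap i g (vmap (σ : F →+* F) u) = vmap (σ : F →+* F) (equivMap i g u) := by
  rw [equivMap_apply, equivMap_apply]
  funext k
  simp only [vmap, Matrix.mulVec, dotProduct, map_sum, map_mul, Matrix.map_apply]
  refine Finset.sum_congr rfl fun j _ => ?_
  congr 1
  exact ((hi _).2 ⟨_, rfl⟩).symm

theorem equivMap_symm_apply_apply (g : (κ → F₀) ≃ₗ[F₀] (κ' → F₀)) (u : κ → F) :
    (equivMap i g).symm (equivMap i g u) = u := LinearEquiv.symm_apply_apply _ _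

end baseChangeEquiv

end Cfsg.Agent.Helper12.GF
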