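import Mathlib
import Cfsg.Agent.Helper12.GFB
import Cfsg.Agent.Helper12.ClassPresD
import Cfsg.Agent.Helper12.ClassPresE
import Cfsg.Agent.Helper44.QTypeAniso
import Cfsg.Agent.Helper44.QTypeClassify

/-!
# The fixed form of a graph-field involution is of minus type (S2717, part A3)

`T u = r *ᵥ σ(u)` on the hyperbolic space `(F^{2m}, plusForm)`, `r` an isometry with entries fixed
by `σ` and `r * r = 1`.  There is a sign `ε` such that for every form `Qt₀` over `F₀ = Fix σ` of
type `ε` there is a linear equivalence `C` with `plusForm ∘ C = Qt₀ ⊗ F` and `T ∘ C = C ∘ σ`.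
If `r` interchanges the two classes of maximal totally singular subspaces, `ε = -1`.
-/

set_option autoImplicit false

namespace Cfsg.Agent.Helper12.GF

open Matrix Module QuadraticMap Cfsg Cfsg.Agent.Helper44 Cfsg.Agent.Helper37.OddF
open Cfsg.Agent.Helper44.QType Cfsg.Agent.Helper12.ClassPres

variable {F₀ F : Type*} [Field F₀] [Field F]

/-! ### coefficient matrix of the plus form -/

/-- coefficient matrix of `quadFormPlus` -/
def cPlus (m : ℕ) (F : Type*) [Field F] : Matrix (Fin m ⊕ Fin m) (Fin m ⊕ Fin m) F :=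
  Matrix.fromBlocks 0 1 0 0

theorem plusForm_eq_qOf (m : ℕ) (v : Fin m ⊕ Fin m → F) : plusForm m F v = qOf (cPlus m F) v := by
  show quadFormPlus m F v = _
  unfold qOf cPlus quadFormPlus
  have hv : v = Sum.elim (v ∘ Sum.inl) (v ∘ Sum.inr) := by
    funext i
    cases i <;> rfl
  conv_rhs => rw [hv, Matrix.fromBlocks_mulVec]
  simp [dotProduct, Fintype.sum_sum_type]

theorem cPlus_map (m : ℕ) (φ : F₀ →+* F) : (cPlus m F₀).map φ = cPlus m F := by
  unfold cPlus
  rw [Matrix.fromBlocks_map]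
  simp

section main

variable [Fintype F₀] [Fintype F] (i : F₀ →+* F) (σ : F ≃+* F)
  (hi : ∀ a : F, σ a = a ↔ a ∈ i.range) (hσ : ∀ c : F, σ (σ c) = c) (θ : F) (hθ : σ θ ≠ θ)
  {m : ℕ} (r : Matrix (Fin m ⊕ Fin m) (Fin m ⊕ Fin m) F) (hrσ : r.map σ = r) (hrr : r * r = 1)
  (hriso : ∀ u, plusForm m F (r *ᵥ u) = plusForm m F u)

include hi hσ hθ hrσ hrr hriso in
/-- existence of the adapted coordinates for every target form of the right type -/
theorem exists_type_and_equiv :
    ∃ ε : ℤ, (ε = 1 ∨ ε = -1) ∧ ∀ (κ : Type) [Fintype κ] [DecidableEq κ],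
      Fintype.card κ = 2 * m → ∀ (Qt₀ : QuadraticForm F₀ (κ → F₀)) (Qt : QuadraticForm F (κ → F)),
      (∀ u, Qt (vmap i u) = i (Qt₀ u)) → (∀ x, (∀ y, polar ⇑Qt₀ x y = 0) → x = 0) →
      HasType ⇑Qt₀ m ε →
      ∃ C : (κ → F) ≃ₗ[F] (Fin m ⊕ Fin m → F), (∀ u, plusForm m F (C u) = Qt u) ∧
        ∀ u, semiT r σ (C u) = C (vmap (σ : F →+* F) u) := by
  classical
  have hr1 : r * r.map σ = 1 := by rw [hrσ, hrr]
  obtain ⟨C₁, hC₁⟩ := exists_descent_equiv r σ hσ hr1 θ hθ (Fin m ⊕ Fin m) rfl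
  -- the form in the adapted coordinates
  set Q' : QuadraticForm F (Fin m ⊕ Fin m → F) := (plusForm m F).comp (C₁ : _ →ₗ[F] _) with hQ'
  have hQ'a : ∀ u, Q' u = plusForm m F (C₁ u) := fun u => rfl
  have hσQ' : ∀ u, Q' (vmap (σ : F →+* F) u) = σ (Q' u) := by
    intro u
    rw [hQ'a, hQ'a, ← hC₁]
    unfold semiT
    rw [hriso, plusForm_vmap]
    rfl
  have hQ'nd : (polarBilin Q').Nondegenerate := by
    have hnd := nondegenerate_plusForm (F := F) m
    constructor
    · intro x hx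
      have : C₁ x = 0 := by
        apply hnd.1
        intro y
        have := hx (C₁.symm y)
        rw [polarBilin_apply_apply] at this ⊢
        unfold polar at this ⊢
        rw [hQ'a, hQ'a, hQ'a, map_add, LinearEquiv.apply_symm_apply] at this
        exact this
      exact C₁.map_eq_zero_iff.1 this
    · intro y hy
      have : C₁ y = 0 := by
        apply hnd.2
        intro x
        have := hy (C₁.symm x)
        rw [polarBilin_apply_apply] at this ⊢
        unfold polar at this ⊢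
        rw [hQ'a, hQ'a, hQ'a, map_add, LinearEquiv.apply_symm_apply] at this
        exact this
      exact C₁.map_eq_zero_iff.1 this
  set Q₀ := descForm i σ hi Q' hσQ' with hQ₀
  have hQ₀spec : ∀ u₀, Q' (vmap i u₀) = i (Q₀ u₀) := descForm_spec i σ hi Q' hσQ'
  have hQ₀nd : ∀ x, (∀ y, polar ⇑Q₀ x y = 0) → x = 0 := descForm_nondeg i σ hi Q' hσQ' hQ'nd
  have hV₀ : finrank F₀ (Fin m ⊕ Fin m → F₀) = 2 * m := by
    rw [Module.finrank_fintype_fun_eq_card, Fintype.card_sum, Fintype.card_fin]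
    ring
  obtain ⟨ε, hε, hT⟩ := exists_hasType Q₀ hV₀ hQ₀nd
  refine ⟨ε, hε, ?_⟩
  intro κ _ _ hκ Qt₀ Qt hQt hndt hTt
  have hVκ : finrank F₀ (κ → F₀) = 2 * m := by
    rw [Module.finrank_fintype_fun_eq_card, hκ]
  obtain ⟨g₀, hg₀⟩ := exists_isometry_of_hasType Q₀ Qt₀ hV₀ hVκ hQ₀nd hndt hT hTt
  set G := equivMap i g₀ with hG
  -- the two forms agree after base change
  have hagree : ∀ w, Q' w = Qt (G w) := by
    intro w
    have hz := quad_zero_of_vmap i (Q' - Qt.comp (G : _ →ₗ[F] _)) (by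
      intro w₀
      show Q' (vmap i w₀) - Qt (G (vmap i w₀)) = 0
      rw [hG, equivMap_vmap, hQ₀spec, hQt, hg₀, sub_self]) w
    have : Q' w - Qt (G w) = 0 := hz
    exact sub_eq_zero.1 this
  refine ⟨G.symm.trans C₁, ?_, ?_⟩
  · intro u
    show plusForm m F (C₁ (G.symm u)) = Qt u
    rw [← hQ'a, hagree, LinearEquiv.apply_symm_apply]
  · intro u
    show semiT r σ (C₁ (G.symm u)) = C₁ (G.symm (vmap (σ : F →+* F) u))
    rw [hC₁]
    congr 1
    apply G.injective
    rw [LinearEquiv.apply_symm_apply, hG, equivMap_vmap_sigma i σ hi, ← hG,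
      LinearEquiv.apply_symm_apply]

end main

end Cfsg.Agent.Helper12.GF
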