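import Mathlib
import Cfsg.Agent.Helper12.GFC

/-!
# Adapted coordinates for a graph-field involution (S2717, part A4)

If `r` interchanges the two classes of maximal totally singular subspaces, the fixed form of
`T = r ∘ σ` has minus type: for every anisotropic `(a₀, b₀)` over `F₀` there is a linear
equivalence `C` with `plusForm m F ∘ C = minusForm k F (i a₀) (i b₀)` (`k + 1 = m`) and
`T ∘ C = C ∘ σ`.
-/

set_option autoImplicit false

namespace Cfsg.Agent.Helper12.GF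

open Matrix Module QuadraticMap Cfsg Cfsg.Agent.Helper44 Cfsg.Agent.Helper37.OddF
open Cfsg.Agent.Helper44.QType Cfsg.Agent.Helper12.ClassPres

variable {F₀ F : Type*} [Field F₀] [Field F]

/-- anisotropy of the binary form over a finite field forces a non-zero discriminant -/
theorem disc_ne_zero_of_aniso' [Finite F₀] (a c : F₀)
    (hac : ∀ z₁ z₂ : F₀, z₁ ^ 2 + a * z₁ * z₂ + c * z₂ ^ 2 = 0 → z₁ = 0 ∧ z₂ = 0) :
    a ^ 2 - 4 * c ≠ 0 := by
  intro h
  by_cases h2 : (2 : F₀) = 0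
  · have h4 : (4 : F₀) = 0 := by
      have : (4 : F₀) = 2 * 2 := by norm_num
      rw [this, h2, mul_zero]
    rw [h4, zero_mul, sub_zero] at h
    have ha : a = 0 := pow_eq_zero_iff (two_ne_zero) |>.mp h
    haveI : CharP F₀ 2 := CharTwo.of_one_ne_zero_of_two_eq_zero one_ne_zero h2
    haveI := Fintype.ofFinite F₀
    obtain ⟨s, hs⟩ := FiniteField.isSquare_of_char_two (ringChar.eq F₀ 2) c
    have := hac s 1 (by
      rw [ha, hs]
      have : s ^ 2 + 0 * s * 1 + s * s * 1 ^ 2 = 2 * (s * s) := by ring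
      rw [this, h2, zero_mul])
    exact one_ne_zero this.2
  · have := hac (-a / 2) 1 (by
      field_simp
      linear_combination (-1 : F₀) * h)
    exact one_ne_zero this.2

section main

variable [Fintype F₀] [Fintype F] (i : F₀ →+* F) (σ : F ≃+* F)
  (hi : ∀ a : F, σ a = a ↔ a ∈ i.range) (hσ : ∀ c : F, σ (σ c) = c) (θ : F) (hθ : σ θ ≠ θ)
  {m : ℕ} (r : GL (Fin m ⊕ Fin m) F)
  (hrσ : (r : Matrix (Fin m ⊕ Fin m) (Fin m ⊕ Fin m) F).map σ = r)
  (hrr : (r : Matrix (Fin m ⊕ Fin m) (Fin m ⊕ Fin m) F) * r = 1)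
  (hriso : ∀ u, plusForm m F ((r : Matrix (Fin m ⊕ Fin m) (Fin m ⊕ Fin m) F) *ᵥ u)
    = plusForm m F u)
  (hrsw : ¬ Cfsg.PreservesSingularClasses (quadFormPlus m F)
    (r : Matrix (Fin m ⊕ Fin m) (Fin m ⊕ Fin m) F))

include hrsw in
/-- an orthogonal `C` cannot intertwine `σ` with `T` when `r` interchanges the classes -/
theorem no_plus_equiv (C : (Fin m ⊕ Fin m → F) ≃ₗ[F] (Fin m ⊕ Fin m → F))
    (hC : ∀ u, plusForm m F (C u) = plusForm m F u)
    (hCT : ∀ u, semiT (r : Matrix (Fin m ⊕ Fin m) (Fin m ⊕ Fin m) F) σ (C u)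
      = C (vmap (σ : F →+* F) u)) : False := by
  classical
  set P : Matrix (Fin m ⊕ Fin m) (Fin m ⊕ Fin m) F :=
    LinearMap.toMatrix' (C : (Fin m ⊕ Fin m → F) →ₗ[F] (Fin m ⊕ Fin m → F)) with hP
  set P' : Matrix (Fin m ⊕ Fin m) (Fin m ⊕ Fin m) F :=
    LinearMap.toMatrix' (C.symm : (Fin m ⊕ Fin m → F) →ₗ[F] (Fin m ⊕ Fin m → F)) with hP'
  have hPv : ∀ u, P *ᵥ u = C u := by
    intro u
    rw [hP, ← Matrix.toLin'_apply, Matrix.toLin'_toMatrix']
    rfl
  have hPP' : P * P' = 1 := by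
    rw [hP, hP', ← LinearMap.toMatrix'_comp]
    have : (C : (Fin m ⊕ Fin m → F) →ₗ[F] (Fin m ⊕ Fin m → F)) ∘ₗ
        (C.symm : (Fin m ⊕ Fin m → F) →ₗ[F] (Fin m ⊕ Fin m → F)) = LinearMap.id := by
      ext x : 1
      simp
    rw [this, LinearMap.toMatrix'_id]
  have hP'P : P' * P = 1 := by
    rw [hP, hP', ← LinearMap.toMatrix'_comp]
    have : (C.symm : (Fin m ⊕ Fin m → F) →ₗ[F] (Fin m ⊕ Fin m → F)) ∘ₗ
        (C : (Fin m ⊕ Fin m → F) →ₗ[F] (Fin m ⊕ Fin m → F)) = LinearMap.id := by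
      ext x : 1
      simp
    rw [this, LinearMap.toMatrix'_id]
  set PG : GL (Fin m ⊕ Fin m) F := ⟨P, P', hPP', hP'P⟩ with hPG
  set PσG : GL (Fin m ⊕ Fin m) F := Matrix.GeneralLinearGroup.map (σ : F →+* F) PG with hPσG
  have hPσc : (PσG : Matrix (Fin m ⊕ Fin m) (Fin m ⊕ Fin m) F) = P.map σ := rfl
  have hH : IsHyp (plusForm m F) m := isHyp_plusForm m
  -- similarity hypotheses
  have hsP : ∀ v, plusForm m F ((PG : Matrix (Fin m ⊕ Fin m) (Fin m ⊕ Fin m) F) *ᵥ v)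
      = 1 * plusForm m F v := by
    intro v
    rw [one_mul]
    show plusForm m F (P *ᵥ v) = _
    rw [hPv, hC]
  have hsPσ : ∀ v, plusForm m F ((PσG : Matrix (Fin m ⊕ Fin m) (Fin m ⊕ Fin m) F) *ᵥ v)
      = 1 * plusForm m F v := by
    intro v
    rw [hPσc, plusForm_eq_qOf, plusForm_eq_qOf]
    have h1 := qOf_map_sim (σ : F →+* F) (cPlus m F) P 1 (by
      intro u
      rw [← plusForm_eq_qOf, ← plusForm_eq_qOf, hPv, hC, one_mul]) v
    rw [cPlus_map, map_one] at h1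
    exact h1
  -- `r * σ(P) = P`
  have hrP : (r : Matrix (Fin m ⊕ Fin m) (Fin m ⊕ Fin m) F) * P.map σ = P := by
    apply Matrix.toLin'.injective
    apply LinearMap.ext
    intro w
    rw [Matrix.toLin'_apply, Matrix.toLin'_apply, ← Matrix.mulVec_mulVec]
    set u : Fin m ⊕ Fin m → F := vmap (σ.symm : F →+* F) w with hu
    have hw : vmap (σ : F →+* F) u = w := by
      funext k
      simp [hu, vmap]
    have h1 := hCT u
    unfold semiT at h1
    rw [← hPv, vmap_mulVec, hw, ← hPv] at h1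
    exact h1
  have hrG : r = PG * PσG⁻¹ := by
    rw [eq_mul_inv_iff_mul_eq]
    apply Units.ext
    rw [Units.val_mul, hPσc]
    exact hrP
  -- class behaviour
  have e1 : Cfsg.PreservesSingularClasses ⇑(plusForm m F)
      (PG : Matrix (Fin m ⊕ Fin m) (Fin m ⊕ Fin m) F) ↔
      Cfsg.PreservesSingularClasses ⇑(plusForm m F)
        ((PG : Matrix (Fin m ⊕ Fin m) (Fin m ⊕ Fin m) F).map (σ : F →+* F)) :=
    preservesSingularClasses_map_iff (σ : F →+* F) (cPlus m F) (plusForm_eq_qOf m)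
      (by intro v; rw [cPlus_map]; exact plusForm_eq_qOf m v) hH hH PG hsP
  have hsPσinv : ∀ v, plusForm m F (((PσG⁻¹ : GL (Fin m ⊕ Fin m) F) :
      Matrix (Fin m ⊕ Fin m) (Fin m ⊕ Fin m) F) *ᵥ v) = 1 * plusForm m F v := by
    intro v
    have h1 := hsPσ (((PσG⁻¹ : GL (Fin m ⊕ Fin m) F) :
      Matrix (Fin m ⊕ Fin m) (Fin m ⊕ Fin m) F) *ᵥ v)
    rw [Matrix.mulVec_mulVec, ← Units.val_mul, mul_inv_cancel, Units.val_one,
      Matrix.one_mulVec, one_mul] at h1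
    rw [one_mul, h1]
  have e2 := preservesSingularClasses_inv_iff hH PσG one_ne_zero hsPσ
  have e3 := preservesSingularClasses_mul_iff hH PG PσG⁻¹ hsP hsPσinv
  apply hrsw
  show Cfsg.PreservesSingularClasses ⇑(plusForm m F) _
  rw [hrG, e3, e2, e1]
  rfl

include hi hσ hθ hrσ hrr hriso hrsw in
/-- **adapted coordinates**: in suitable coordinates the hyperbolic form becomes the base change
of a minus-type form over `F₀` and `T` becomes `σ` applied entrywise -/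
theorem exists_minus_equiv {k : ℕ} (hk : k + 1 = m) (a₀ b₀ : F₀)
    (hab : ∀ z₁ z₂ : F₀, z₁ ^ 2 + a₀ * z₁ * z₂ + b₀ * z₂ ^ 2 = 0 → z₁ = 0 ∧ z₂ = 0) :
    ∃ C : ((Fin k ⊕ Fin k) ⊕ Fin 2 → F) ≃ₗ[F] (Fin m ⊕ Fin m → F),
      (∀ u, plusForm m F (C u) = minusForm k F (i a₀) (i b₀) u) ∧
      ∀ u, semiT (r : Matrix (Fin m ⊕ Fin m) (Fin m ⊕ Fin m) F) σ (C u)
        = C (vmap (σ : F →+* F) u) := by
  obtain ⟨ε, hε, hall⟩ := exists_type_and_equiv i σ hi hσ θ hθ
    (r : Matrix (Fin m ⊕ Fin m) (Fin m ⊕ Fin m) F) hrσ hrr hriso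
  rcases hε with rfl | rfl
  · exfalso
    obtain ⟨C, hC1, hC2⟩ := hall (Fin m ⊕ Fin m)
      (by rw [Fintype.card_sum, Fintype.card_fin]; ring)
      (plusForm m F₀) (plusForm m F) (plusForm_vmap i m)
      (fun x hx => (nondegenerate_plusForm (F := F₀) m).1 x hx) (hasType_plus m)
    exact no_plus_equiv σ r hrsw C hC1 hC2
  · have hD := disc_ne_zero_of_aniso' a₀ b₀ hab
    have hT : HasType ⇑(minusForm k F₀ a₀ b₀) m (-1) := by
      rw [← hk]
      exact hasType_minus k a₀ b₀ hab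
    exact hall ((Fin k ⊕ Fin k) ⊕ Fin 2)
      (by simp only [Fintype.card_sum, Fintype.card_fin]; omega)
      (minusForm k F₀ a₀ b₀) (minusForm k F (i a₀) (i b₀)) (minusForm_vmap i k a₀ b₀)
      (fun x hx => (nondegenerate_minusForm (F := F₀) k a₀ b₀ hD).1 x hx) hT

end main

end Cfsg.Agent.Helper12.GF
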