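import Mathlib
import Cfsg.Agent.Helper12.GFG
import Cfsg.Agent.Helper12.GFD
import Cfsg.Agent.Helper14.AutFix

/-!
# The standard graph-field pairs `(r_v, σ)` of the hyperbolic form (for S2717)
-/

set_option autoImplicit false
set_option linter.unusedSectionVars false

namespace Cfsg.Agent.Helper12.GF

open Matrix Cfsg Cfsg.Agent.Helper44 Cfsg.Agent.Helper12.GammaO Cfsg.Agent.Helper37.OddF
open Cfsg.Agent.Helper12.ClassPres

variable {F : Type*} [Field F]

/-! ### equality in `ΓL` through the semilinear maps -/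

section gam

variable {ι : Type} [Fintype ι] [DecidableEq ι]

theorem gam_ext {x y : Gam ι F} (hr : x.right = y.right)
    (h : ∀ u, semiLin x.left x.right u = semiLin y.left y.right u) : x = y := by
  apply SemidirectProduct.ext ?_ hr
  apply Units.ext
  apply Matrix.mulVec_injective
  funext w
  have h1 := h (fun k => x.right.symm (w k))
  unfold semiLin at h1
  rw [← hr] at h1
  have e : (fun k => x.right (x.right.symm (w k))) = w := by
    funext k
    exact x.right.apply_symm_apply (w k)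
  rw [e] at h1
  exact h1

/-- conjugating `(r, σ)` to `(r', σ)` by a linear map intertwining the semilinear maps -/
theorem gam_conj (r r' g : GL ι F) (σ : F ≃+* F)
    (h : ∀ u, semiLin r' σ ((g : Matrix ι ι F) *ᵥ u) = (g : Matrix ι ι F) *ᵥ semiLin r σ u) :
    (⟨g, 1⟩ : Gam ι F) * ⟨r, σ⟩ = ⟨r', σ⟩ * ⟨g, 1⟩ := by
  apply gam_ext
  · show (1 : F ≃+* F) * σ = σ * 1
    rw [one_mul, mul_one]
  · intro u
    rw [semiLin_mul, semiLin_mul]
    show semiLin g 1 (semiLin r σ u) = semiLin r' σ (semiLin g 1 u)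
    have e : ∀ w, semiLin g (1 : F ≃+* F) w = (g : Matrix ι ι F) *ᵥ w := fun w => rfl
    rw [e, e, h]

end gam

/-! ### uniqueness of the involution of a cyclic group -/

theorem eq_of_orderOf_two {G : Type*} [Group G] [Finite G] [IsCyclic G] {a b : G}
    (ha : orderOf a = 2) (hb : orderOf b = 2) : a = b := by
  classical
  have := Fintype.ofFinite G
  by_contra hab
  have ha1 : a ≠ 1 := by
    intro h
    rw [h, orderOf_one] at ha
    omega
  have hb1 : b ≠ 1 := by
    intro h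
    rw [h, orderOf_one] at hb
    omega
  have ha2 : a ^ 2 = 1 := by rw [← ha]; exact pow_orderOf_eq_one a
  have hb2 : b ^ 2 = 1 := by rw [← hb]; exact pow_orderOf_eq_one b
  have h1 := IsCyclic.card_pow_eq_one_le (α := G) (n := 2) (by norm_num)
  have h2 : ({1, a, b} : Finset G) ⊆ Finset.univ.filter (fun x : G => x ^ 2 = 1) := by
    intro x hx
    rw [Finset.mem_insert, Finset.mem_insert, Finset.mem_singleton] at hx
    rw [Finset.mem_filter]
    refine ⟨Finset.mem_univ _, ?_⟩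
    rcases hx with rfl | rfl | rfl
    · exact one_pow 2
    · exact ha2
    · exact hb2
  have h3 : ({1, a, b} : Finset G).card = 3 := by
    rw [Finset.card_insert_of_notMem, Finset.card_insert_of_notMem, Finset.card_singleton]
    · rw [Finset.mem_singleton]
      exact hab
    · rw [Finset.mem_insert, Finset.mem_singleton]
      push Not
      exact ⟨ha1.symm, hb1.symm⟩
  have h4 := Finset.card_le_card h2
  omega

/-! ### the standard pairs -/

/-- data of a standard graph-field pair: an involution `σ` of `F`, a non-singular `σ`-fixed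
vector `v`, and the reflection `r` in `v` -/
structure Std (F : Type*) [Field F] (m : ℕ) where
  σ : F ≃+* F
  v : Fin m ⊕ Fin m → F
  r : GL (Fin m ⊕ Fin m) F
  hσ1 : σ ≠ RingEquiv.refl F
  hσ : ∀ c : F, σ (σ c) = c
  hv : quadFormPlus m F v ≠ 0
  hσv : ∀ i, σ (v i) = v i
  hr : (r : Matrix (Fin m ⊕ Fin m) (Fin m ⊕ Fin m) F) = reflectionMatrix (quadFormPlus m F) v

namespace Std

variable {m : ℕ} (D : Std F m)

theorem hv' : plusForm m F D.v ≠ 0 := D.hv

theorem r_eq : D.r = (refl (plusForm m F) D.v D.hv').1 := by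
  apply Units.ext
  rw [D.hr]
  rfl

theorem r_iso (u : Fin m ⊕ Fin m → F) :
    plusForm m F ((D.r : Matrix (Fin m ⊕ Fin m) (Fin m ⊕ Fin m) F) *ᵥ u) = plusForm m F u := by
  rw [D.r_eq]
  exact (Helper13.mem_isometryGroup_iff _ _).1 (refl (plusForm m F) D.v D.hv').2 u

theorem r_mem_iso : D.r ∈ Cfsg.isometryGroup F ⇑(plusForm m F) := by
  rw [D.r_eq]
  exact (refl (plusForm m F) D.v D.hv').2

theorem r_sq : D.r * D.r = 1 := by
  rw [D.r_eq]
  have := refl_mul_self (plusForm m F) D.v D.hv'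
  exact congrArg Subtype.val this

theorem r_sq' : (D.r : Matrix (Fin m ⊕ Fin m) (Fin m ⊕ Fin m) F) * D.r = 1 := by
  rw [← Units.val_mul, D.r_sq, Units.val_one]

theorem r_inv : D.r⁻¹ = D.r := by
  rw [inv_eq_iff_mul_eq_one]
  exact D.r_sq

theorem vmap_v : vmap (D.σ : F →+* F) D.v = D.v := by
  funext k
  exact D.hσv k

theorem r_map : (D.r : Matrix (Fin m ⊕ Fin m) (Fin m ⊕ Fin m) F).map D.σ = D.r := by
  rw [D.hr]
  have h := reflectionMatrix_map (D.σ : F →+* F) (plusForm m F) (plusForm m F)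
    (plusForm_vmap (D.σ : F →+* F) m) D.v
  rw [D.vmap_v] at h
  exact h

theorem r_not_psc : ¬ Cfsg.PreservesSingularClasses (quadFormPlus m F)
    (D.r : Matrix (Fin m ⊕ Fin m) (Fin m ⊕ Fin m) F) := by
  have h := preservesSingularClasses_prod_reflT_iff (isHyp_plusForm (F := F) m) [D.v]
    (by
      intro w hw
      rw [List.mem_singleton] at hw
      rw [hw]
      exact D.hv')
  rw [List.map_singleton, List.prod_singleton, List.length_singleton,
    reflT_coe (plusForm m F) D.v D.hv'] at h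
  intro hp
  have e : reflectionMatrix ⇑(plusForm m F) D.v
      = (D.r : Matrix (Fin m ⊕ Fin m) (Fin m ⊕ Fin m) F) := D.hr.symm
  rw [e] at h
  have : Even 1 := h.1 hp
  exact absurd this (by decide)

theorem r_pair_one : Cfsg.IsSemisimilarityPair ⇑(plusForm m F) D.r (1 : F ≃+* F) :=
  ⟨1, fun u => by
    rw [Units.val_one, one_mul]
    exact D.r_iso u⟩

omit D in
theorem one_pair (m : ℕ) (τ : F ≃+* F) :
    Cfsg.IsSemisimilarityPair ⇑(plusForm m F) (1 : GL (Fin m ⊕ Fin m) F) τ :=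
  ⟨1, fun u => by
    rw [Units.val_one, Units.val_one, Matrix.one_mulVec, one_mul]
    exact plusForm_vmap (τ : F →+* F) m u⟩

theorem pair : Cfsg.IsSemisimilarityPair ⇑(plusForm m F) D.r D.σ :=
  ⟨1, fun u => by
    rw [Units.val_one, one_mul, D.r_iso]
    exact plusForm_vmap (D.σ : F →+* F) m u⟩

/-- the element `(r, σ)` of `ΓO` -/
def gamElt : ↥(GamO ⇑(plusForm m F)) := ⟨⟨D.r, D.σ⟩, D.pair⟩

/-- the standard graph-field automorphism -/
noncomputable def x₀ : MulAut (Cfsg.POmega F ⇑(plusForm m F)) := psi ⇑(plusForm m F) D.gamElt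

theorem x₀_eq_mul (γ φ : MulAut (Cfsg.POmega F (quadFormPlus m F)))
    (hγ : Cfsg.IsInducedBySemilinearPOmega (quadFormPlus m F) D.r (RingEquiv.refl F) γ)
    (hφ : Cfsg.IsFieldAutPOmegaOf (quadFormPlus m F) D.σ φ) : γ * φ = D.x₀ := by
  have h1 := eq_psi_of_isInduced ⇑(plusForm m F) D.r (1 : F ≃+* F) D.r_pair_one γ hγ
  have h2 := eq_psi_of_isFieldAut ⇑(plusForm m F) D.σ (Std.one_pair m D.σ) φ hφ
  rw [h1, h2]
  exact psi_pair_mul ⇑(plusForm m F) D.r D.σ D.r_pair_one (Std.one_pair m D.σ) D.pair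

theorem σ_sq : D.σ * D.σ = 1 := by
  ext c
  exact D.hσ c

theorem orderOf_σ : orderOf D.σ = 2 := by
  apply orderOf_eq_prime
  · rw [pow_two]
    exact D.σ_sq
  · exact D.hσ1

/-- `(r, σ)² = 1` -/
theorem gamElt_sq : D.gamElt * D.gamElt = 1 := by
  apply Subtype.ext
  apply gam_ext
  · show D.σ * D.σ = 1
    exact D.σ_sq
  · intro u
    show semiLin (D.gamElt.1 * D.gamElt.1).left (D.gamElt.1 * D.gamElt.1).right u = _
    rw [semiLin_mul]
    show semiLin D.r D.σ (semiLin D.r D.σ u) = semiLin (1 : Gam _ F).left (1 : Gam _ F).right u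
    rw [semiLin_one]
    exact semiT_semiT (D.r : Matrix (Fin m ⊕ Fin m) (Fin m ⊕ Fin m) F) D.σ D.hσ
      (by rw [D.r_map]; exact D.r_sq') u

theorem x₀_sq : D.x₀ * D.x₀ = 1 := by
  unfold x₀
  rw [← map_mul, D.gamElt_sq, map_one]

/-- `psi (r, 1)` commutes with `x₀` -/
theorem refl_comm : (⟨D.r, 1⟩ : Gam (Fin m ⊕ Fin m) F) * ⟨D.r, D.σ⟩ = ⟨D.r, D.σ⟩ * ⟨D.r, 1⟩ := by
  apply gam_conj
  intro u
  unfold semiLin
  have h := map_mulVec D.σ (D.r : Matrix (Fin m ⊕ Fin m) (Fin m ⊕ Fin m) F) u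
  rw [D.r_map] at h
  rw [h]

end Std

/-! ### part (1): a graph-field involution forces `σ² = 1` -/

section one

variable [Fintype F] {m : ℕ}

theorem sigma_sq_of_sq_eq_one (hm : 4 ≤ m) (σ : F ≃+* F) (r : GL (Fin m ⊕ Fin m) F)
    (h : Cfsg.IsSemisimilarityPair ⇑(plusForm m F) r σ)
    (hx : psi ⇑(plusForm m F) ⟨⟨r, σ⟩, h⟩ * psi ⇑(plusForm m F) ⟨⟨r, σ⟩, h⟩ = 1) :
    ∀ c : F, σ (σ c) = c := by
  have hcard : Fintype.card (Fin m ⊕ Fin m) = 2 * m := by
    rw [Fintype.card_sum, Fintype.card_fin]; ring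
  have hk : (⟨⟨r, σ⟩, h⟩ * ⟨⟨r, σ⟩, h⟩ : ↥(GamO ⇑(plusForm m F))) ∈ (psi ⇑(plusForm m F)).ker := by
    rw [MonoidHom.mem_ker, map_mul]
    exact hx
  have h1 := (mem_ker_psi (plusForm m F) (nondegenerate_plusForm m) (by rw [hcard]; omega) _ hk).1
  intro c
  have h2 : (σ * σ) c = (RingEquiv.refl F) c := by
    rw [← h1]
    rfl
  exact h2

theorem even_of_orderOf_two {p f : ℕ} [Fact p.Prime] (hF : Fintype.card F = p ^ f)
    (σ : F ≃+* F) (hσ : orderOf σ = 2) : Even f := by
  haveI : Fintype (Cfsg.Agent.Helper14.AutPSL.fixF σ) := Fintype.ofFinite _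
  have h := (Cfsg.Agent.Helper14.AutPSL.card_fixF σ hF).1
  rw [hσ] at h
  exact (even_iff_two_dvd).2 h

end one

end Cfsg.Agent.Helper12.GF
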