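import Mathlib
import Cfsg.Agent.Helper12.GFH
import Cfsg.Agent.Helper45.UnitaryOrth
import Cfsg.Agent.Helper45.OrthInvol

/-!
# Two standard graph-field pairs with the same `σ` are conjugate by a class-preserving isometry
(for S2717, part (2))
-/

set_option autoImplicit false
set_option linter.unusedSectionVars false

namespace Cfsg.Agent.Helper12.GF

open Matrix Cfsg Cfsg.Agent.Helper44 Cfsg.Agent.Helper12.GammaO Cfsg.Agent.Helper37.OddF
open Cfsg.Agent.Helper12.ClassPres Cfsg.Agent.Helper14.AutPSL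

variable {F : Type*} [Field F]

theorem exists_moved (σ : F ≃+* F) (h : σ ≠ RingEquiv.refl F) : ∃ θ : F, σ θ ≠ θ := by
  by_contra hcon
  push Not at hcon
  apply h
  ext c
  exact hcon c

/-- the inclusion of the fixed field -/
theorem fix_range (σ : F ≃+* F) (a : F) :
    σ a = a ↔ a ∈ ((fixF σ).subtype : ↥(fixF σ) →+* F).range := by
  constructor
  · intro h
    exact ⟨⟨a, (mem_fixF σ).2 h⟩, rfl⟩
  · rintro ⟨x, rfl⟩
    exact (mem_fixF σ).1 x.2

section core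

variable [Fintype F] {m : ℕ}

/-- **(2), core**: two standard pairs with the same field automorphism are conjugate by a
class-preserving isometry -/
theorem exists_conj_std {k : ℕ} (hk : k + 1 = m) (D D' : Std F m) (hσ : D'.σ = D.σ) :
    ∃ g : GL (Fin m ⊕ Fin m) F, g ∈ Cfsg.isometryGroup F ⇑(plusForm m F) ∧
      Cfsg.PreservesSingularClasses (quadFormPlus m F)
        (g : Matrix (Fin m ⊕ Fin m) (Fin m ⊕ Fin m) F) ∧
      (⟨g, 1⟩ : Gam (Fin m ⊕ Fin m) F) * ⟨D.r, D.σ⟩ = ⟨D'.r, D.σ⟩ * ⟨g, 1⟩ := by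
  have hfin : Fintype ↥(fixF D.σ) := Fintype.ofFinite _
  obtain ⟨θ, hθ⟩ := exists_moved D.σ D.hσ1
  obtain ⟨a₀, b₀, hab⟩ := Cfsg.Agent.Helper45.exists_aniso ↥(fixF D.σ)
  have hrm' : (D'.r : Matrix (Fin m ⊕ Fin m) (Fin m ⊕ Fin m) F).map D.σ = D'.r := by
    rw [← hσ]
    exact D'.r_map
  obtain ⟨C, hC1, hC2⟩ := exists_minus_equiv ((fixF D.σ).subtype) D.σ (fix_range D.σ) D.hσ θ hθ
    D.r D.r_map D.r_sq' D.r_iso D.r_not_psc hk a₀ b₀ hab
  obtain ⟨C', hC1', hC2'⟩ := exists_minus_equiv ((fixF D.σ).subtype) D.σ (fix_range D.σ) D.hσ θ hθ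
    D'.r hrm' D'.r_sq' D'.r_iso D'.r_not_psc hk a₀ b₀ hab
  set h : (Fin m ⊕ Fin m → F) ≃ₗ[F] (Fin m ⊕ Fin m → F) := C.symm.trans C' with hh
  set g₀ : GL (Fin m ⊕ Fin m) F := Cfsg.Agent.Helper45.WittQuad.glOfLin h with hg₀
  have hmv : ∀ u, (g₀ : Matrix (Fin m ⊕ Fin m) (Fin m ⊕ Fin m) F) *ᵥ u = C' (C.symm u) :=
    fun u => Cfsg.Agent.Helper45.WittQuad.glOfLin_mulVec h u
  have hiso : ∀ u, plusForm m F ((g₀ : Matrix (Fin m ⊕ Fin m) (Fin m ⊕ Fin m) F) *ᵥ u)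
      = plusForm m F u := by
    intro u
    rw [hmv, hC1', ← hC1, LinearEquiv.apply_symm_apply]
  have hint : ∀ u, semiLin D'.r D.σ ((g₀ : Matrix (Fin m ⊕ Fin m) (Fin m ⊕ Fin m) F) *ᵥ u)
      = (g₀ : Matrix (Fin m ⊕ Fin m) (Fin m ⊕ Fin m) F) *ᵥ semiLin D.r D.σ u := by
    intro u
    obtain ⟨w, rfl⟩ := C.surjective u
    have e1 : semiLin D.r D.σ (C w) = C (vmap (D.σ : F →+* F) w) := hC2 w
    have e2 : semiLin D'.r D.σ (C' w) = C' (vmap (D.σ : F →+* F) w) := hC2' w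
    rw [hmv, LinearEquiv.symm_apply_apply, e2, e1, hmv, LinearEquiv.symm_apply_apply]
  have hconj := gam_conj D.r D'.r g₀ D.σ hint
  by_cases hp : Cfsg.PreservesSingularClasses (quadFormPlus m F)
      (g₀ : Matrix (Fin m ⊕ Fin m) (Fin m ⊕ Fin m) F)
  · exact ⟨g₀, (Helper13.mem_isometryGroup_iff _ _).2 hiso, hp, hconj⟩
  · refine ⟨g₀ * D.r, ?_, ?_, ?_⟩
    · exact mul_mem ((Helper13.mem_isometryGroup_iff _ _).2 hiso) D.r_mem_iso
    · exact preservesSingularClasses_mul_of_not (isHyp_plusForm (F := F) m) g₀ D.r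
        (c := 1) (d := 1) (fun v => by rw [one_mul]; exact hiso v)
        (fun v => by rw [one_mul]; exact D.r_iso v) hp D.r_not_psc
    · have e : (⟨g₀ * D.r, 1⟩ : Gam (Fin m ⊕ Fin m) F) = ⟨g₀, 1⟩ * ⟨D.r, 1⟩ := by
        apply SemidirectProduct.ext
        · show g₀ * D.r = g₀ * fieldAct (1 : F ≃+* F) D.r
          rw [map_one]
          rfl
        · show (1 : F ≃+* F) = 1 * 1
          rw [mul_one]
      rw [e, mul_assoc, D.refl_comm, ← mul_assoc, hconj, mul_assoc]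

end core

end Cfsg.Agent.Helper12.GF
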