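import Mathlib
import Cfsg.Agent.Helper12.GFI
import Cfsg.Agent.Helper37.OutPslA
import Cfsg.Agent.S2695

/-!
# All conjugates of a standard graph-field involution are `Inndiag`-conjugate to it
(for S2717, part (2))
-/

set_option autoImplicit false
set_option linter.unusedSectionVars false

namespace Cfsg.Agent.Helper12.GF

open Matrix Cfsg Cfsg.Agent.Helper44 Cfsg.Agent.Helper12.GammaO Cfsg.Agent.Helper37.OddF
open Cfsg.Agent.Helper12.ClassPres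

variable {F : Type*} [Field F]

section twist

variable {m : ℕ}

/-- the twist of a standard pair by a field automorphism commuting with `σ` -/
noncomputable def Std.twist (D : Std F m) (τ : F ≃+* F) (hc : τ * D.σ = D.σ * τ) : Std F m where
  σ := D.σ
  v := vmap (τ : F →+* F) D.v
  r := glMap τ D.r
  hσ1 := D.hσ1
  hσ := D.hσ
  hv := by
    have h := plusForm_vmap (τ : F →+* F) m D.v
    have h1 : quadFormPlus m F (vmap (τ : F →+* F) D.v) = τ (quadFormPlus m F D.v) := h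
    rw [h1]
    intro h0
    apply D.hv
    have : τ (quadFormPlus m F D.v) = τ 0 := by rw [h0, map_zero]
    exact τ.injective this
  hσv := by
    intro k
    show D.σ (τ (D.v k)) = τ (D.v k)
    have h1 : (D.σ * τ) (D.v k) = (τ * D.σ) (D.v k) := by rw [hc]
    have h2 : D.σ (τ (D.v k)) = τ (D.σ (D.v k)) := h1
    rw [h2, D.hσv]
  hr := by
    rw [coe_glMap, D.hr]
    exact reflectionMatrix_map (τ : F →+* F) (plusForm m F) (plusForm m F)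
      (plusForm_vmap (τ : F →+* F) m) D.v

theorem Std.twist_σ (D : Std F m) (τ : F ≃+* F) (hc : τ * D.σ = D.σ * τ) :
    (D.twist τ hc).σ = D.σ := rfl

theorem Std.twist_r (D : Std F m) (τ : F ≃+* F) (hc : τ * D.σ = D.σ * τ) :
    (D.twist τ hc).r = glMap τ D.r := rfl

/-- `(1, τ) (r, σ) = (τ r, σ) (1, τ)` -/
theorem field_conj (r : GL (Fin m ⊕ Fin m) F) (σ τ : F ≃+* F) (hc : τ * σ = σ * τ) :
    (⟨1, τ⟩ : Gam (Fin m ⊕ Fin m) F) * ⟨r, σ⟩ = ⟨glMap τ r, σ⟩ * ⟨1, τ⟩ := by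
  apply SemidirectProduct.ext
  · show (1 : GL (Fin m ⊕ Fin m) F) * fieldAct τ r = glMap τ r * fieldAct σ 1
    rw [map_one, mul_one, one_mul]
    rfl
  · exact hc

end twist

section orbit

variable [Fintype F] {m : ℕ}

theorem conjAut_mem_cpAut (g : GL (Fin m ⊕ Fin m) F)
    (hg : g ∈ Cfsg.Geo.quadSimilarityGroup (F := F) ⇑(plusForm m F))
    (hp : Cfsg.PreservesSingularClasses (quadFormPlus m F)
      (g : Matrix (Fin m ⊕ Fin m) (Fin m ⊕ Fin m) F)) :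
    conjAut ⇑(plusForm m F) ⟨g, hg⟩ ∈ cpAut ⇑(plusForm m F) := by
  apply Subgroup.subset_closure
  exact ⟨g, hg, hp, (Helper44.isInduced_iff ⇑(plusForm m F) g hg _).2 rfl⟩

/-- **orbit lemma**: every conjugate of `x₀` under the full automorphism group is already an
`Inndiag`-conjugate -/
theorem orbit_x₀ (hm : 5 ≤ m) {p f : ℕ} [Fact p.Prime] (hF : Fintype.card F = p ^ f)
    (hf : 1 ≤ f) (D : Std F m) (t : MulAut (Cfsg.POmega F ⇑(plusForm m F))) :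
    ∃ d ∈ cpAut ⇑(plusForm m F), t * D.x₀ * t⁻¹ = d * D.x₀ * d⁻¹ := by
  obtain ⟨k, hk⟩ : ∃ k, k + 1 = m := ⟨m - 1, by omega⟩
  have hcyc := (Cfsg.Agent.Helper37.OutPsl.card_ringAut hF hf).2
  have htop : t ∈ Cfsg.gammaPOmega F (Cfsg.quadFormPlus m F) := by
    rw [Cfsg.Agent.S2695.result hm]
    exact Subgroup.mem_top t
  have htop' : t ∈ (psi ⇑(plusForm m F)).range := by
    rw [← gammaPOmega_eq_range]
    exact htop
  obtain ⟨X, rfl⟩ := htop'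
  set A : GL (Fin m ⊕ Fin m) F := X.1.left with hA
  set τ : F ≃+* F := X.1.right with hτ
  have hc : τ * D.σ = D.σ * τ := by
    obtain ⟨z, hz⟩ := hcyc.exists_generator
    obtain ⟨a, ha⟩ := Subgroup.mem_zpowers_iff.1 (hz τ)
    obtain ⟨b, hb⟩ := Subgroup.mem_zpowers_iff.1 (hz D.σ)
    rw [← ha, ← hb, ← _root_.zpow_add, ← _root_.zpow_add, add_comm]
  -- the twisted pair and the conjugating isometry
  obtain ⟨g, hgiso, hgp, hgc⟩ := exists_conj_std hk D (D.twist τ hc) rfl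
  rw [Std.twist_r] at hgc
  have hE1 := field_conj D.r D.σ τ hc
  have hgsim : g ∈ Cfsg.Geo.quadSimilarityGroup (F := F) ⇑(plusForm m F) :=
    isometryGroup_le_quadSimilarityGroup _ hgiso
  -- `X = (A, 1) (1, τ)`
  have hX : X.1 = (⟨A, 1⟩ : Gam (Fin m ⊕ Fin m) F) * ⟨1, τ⟩ := by
    rw [pair_mul]
  have h1τ : (⟨1, τ⟩ : Gam (Fin m ⊕ Fin m) F) ∈ GamO ⇑(plusForm m F) := Std.one_pair m τ
  have hA1 : (⟨A, 1⟩ : Gam (Fin m ⊕ Fin m) F) ∈ GamO ⇑(plusForm m F) := by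
    have : (⟨A, 1⟩ : Gam (Fin m ⊕ Fin m) F) = X.1 * (⟨1, τ⟩ : Gam (Fin m ⊕ Fin m) F)⁻¹ := by
      rw [hX, mul_inv_cancel_right]
    rw [this]
    exact mul_mem X.2 (inv_mem h1τ)
  have hAsim : A ∈ Cfsg.Geo.quadSimilarityGroup (F := F) ⇑(plusForm m F) :=
    left_mem_quadSimilarityGroup (plusForm m F) ⟨⟨A, 1⟩, hA1⟩ rfl
  -- `Z = (g,1)⁻¹ (1,τ)` commutes with `(r, σ)`
  have hZ : ((⟨g, 1⟩ : Gam (Fin m ⊕ Fin m) F)⁻¹ * ⟨1, τ⟩) * ⟨D.r, D.σ⟩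
      = ⟨D.r, D.σ⟩ * ((⟨g, 1⟩ : Gam (Fin m ⊕ Fin m) F)⁻¹ * ⟨1, τ⟩) := by
    have e2 : (⟨g, 1⟩ : Gam (Fin m ⊕ Fin m) F)⁻¹ * ⟨glMap τ D.r, D.σ⟩
        = ⟨D.r, D.σ⟩ * (⟨g, 1⟩ : Gam (Fin m ⊕ Fin m) F)⁻¹ := by
      rw [inv_mul_eq_iff_eq_mul, ← mul_assoc, hgc, mul_inv_cancel_right]
    rw [mul_assoc, hE1, ← mul_assoc, e2, mul_assoc]
  -- hence conjugation by `X` is conjugation by `(A g, 1)`
  have hconj : X.1 * ⟨D.r, D.σ⟩ * X.1⁻¹
      = (⟨A * g, 1⟩ : Gam (Fin m ⊕ Fin m) F) * ⟨D.r, D.σ⟩ * (⟨A * g, 1⟩ : Gam _ F)⁻¹ := by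
    have e3 : X.1 = (⟨A * g, 1⟩ : Gam (Fin m ⊕ Fin m) F)
        * ((⟨g, 1⟩ : Gam (Fin m ⊕ Fin m) F)⁻¹ * ⟨1, τ⟩) := by
      have e4 : (⟨A * g, 1⟩ : Gam (Fin m ⊕ Fin m) F) = ⟨A, 1⟩ * ⟨g, 1⟩ := by
        apply SemidirectProduct.ext
        · show A * g = A * fieldAct (1 : F ≃+* F) g
          rw [map_one]
          rfl
        · show (1 : F ≃+* F) = 1 * 1
          rw [mul_one]
      rw [e4, hX, mul_assoc, mul_inv_cancel_left]
    set Z := ((⟨g, 1⟩ : Gam (Fin m ⊕ Fin m) F)⁻¹ * ⟨1, τ⟩) with hZdef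
    rw [e3, _root_.mul_inv_rev, mul_assoc (⟨A * g, 1⟩ : Gam (Fin m ⊕ Fin m) F) Z, hZ]
    group
  have hAgsim : A * g ∈ Cfsg.Geo.quadSimilarityGroup (F := F) ⇑(plusForm m F) :=
    mul_mem hAsim hgsim
  obtain ⟨cA, hcA⟩ := hAsim
  have hgiso' : ∀ v, plusForm m F ((g : Matrix (Fin m ⊕ Fin m) (Fin m ⊕ Fin m) F) *ᵥ v)
      = 1 * plusForm m F v := by
    intro v
    rw [one_mul]
    exact (Helper13.mem_isometryGroup_iff _ _).1 hgiso v
  have hAgc : ∀ v, plusForm m F (((A * g : GL (Fin m ⊕ Fin m) F) :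
      Matrix (Fin m ⊕ Fin m) (Fin m ⊕ Fin m) F) *ᵥ v) = ((cA : F) * 1) * plusForm m F v := by
    intro v
    rw [Units.val_mul, ← Matrix.mulVec_mulVec, hcA, hgiso', mul_assoc]
  -- the conjugation identity at the level of `psi`
  have key : ∀ (B : GL (Fin m ⊕ Fin m) F)
      (hB : B ∈ Cfsg.Geo.quadSimilarityGroup (F := F) ⇑(plusForm m F)),
      X.1 * ⟨D.r, D.σ⟩ * X.1⁻¹
        = (⟨B, 1⟩ : Gam (Fin m ⊕ Fin m) F) * ⟨D.r, D.σ⟩ * (⟨B, 1⟩ : Gam _ F)⁻¹ →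
      psi ⇑(plusForm m F) X * D.x₀ * (psi ⇑(plusForm m F) X)⁻¹
        = conjAut ⇑(plusForm m F) ⟨B, hB⟩ * D.x₀ * (conjAut ⇑(plusForm m F) ⟨B, hB⟩)⁻¹ := by
    intro B hB hXB
    rw [← psi_ofSim (plusForm m F) ⟨B, hB⟩]
    unfold Std.x₀
    rw [← map_inv, ← map_mul, ← map_mul, ← map_inv, ← map_mul, ← map_mul]
    congr 1
    apply Subtype.ext
    exact hXB
  by_cases hp : Cfsg.PreservesSingularClasses (quadFormPlus m F)
      ((A * g : GL (Fin m ⊕ Fin m) F) : Matrix (Fin m ⊕ Fin m) (Fin m ⊕ Fin m) F)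
  · exact ⟨conjAut ⇑(plusForm m F) ⟨A * g, hAgsim⟩, conjAut_mem_cpAut _ hAgsim hp,
      key (A * g) hAgsim hconj⟩
  · have hBsim : A * g * D.r ∈ Cfsg.Geo.quadSimilarityGroup (F := F) ⇑(plusForm m F) :=
      mul_mem hAgsim (isometryGroup_le_quadSimilarityGroup _ D.r_mem_iso)
    have hBp : Cfsg.PreservesSingularClasses (quadFormPlus m F)
        ((A * g * D.r : GL (Fin m ⊕ Fin m) F) : Matrix (Fin m ⊕ Fin m) (Fin m ⊕ Fin m) F) :=
      preservesSingularClasses_mul_of_not (isHyp_plusForm (F := F) m) (A * g) D.r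
        (d := 1) hAgc (fun v => by rw [one_mul]; exact D.r_iso v) hp D.r_not_psc
    refine ⟨conjAut ⇑(plusForm m F) ⟨A * g * D.r, hBsim⟩, conjAut_mem_cpAut _ hBsim hBp,
      key (A * g * D.r) hBsim ?_⟩
    have e5 : (⟨A * g * D.r, 1⟩ : Gam (Fin m ⊕ Fin m) F) = ⟨A * g, 1⟩ * ⟨D.r, 1⟩ := by
      apply SemidirectProduct.ext
      · show A * g * D.r = A * g * fieldAct (1 : F ≃+* F) D.r
        rw [map_one]
        rfl
      · show (1 : F ≃+* F) = 1 * 1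
        rw [mul_one]
    rw [hconj, e5, _root_.mul_inv_rev, mul_assoc (⟨A * g, 1⟩ : Gam (Fin m ⊕ Fin m) F) ⟨D.r, 1⟩,
      D.refl_comm]
    group

end orbit

end Cfsg.Agent.Helper12.GF
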