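import Mathlib
import Cfsg.Agent.Helper12.GFK
import Cfsg.Agent.Helper12.GFD
import Cfsg.Agent.Helper37.EvFF
import Cfsg.Agent.S2725

/-!
# The class count of the standard field automorphism of the base-changed minus form, `q` odd
(for S2717, parts (5), (6))
-/

set_option autoImplicit false
set_option linter.unusedSectionVars false

namespace Cfsg.Agent.Helper12.GF

open Matrix Cfsg Cfsg.Agent.Helper44 Cfsg.Agent.Helper12.GammaO Cfsg.Agent.Helper37.OddF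

/-! ### generalities -/

theorem relIndex_of_hom {A Z : Type*} [Group A] [Group Z] (G T : Subgroup A)
    (φ : ↥G →* Z) (hφ : Function.Surjective φ) (hker : φ.ker = T.subgroupOf G) :
    T.relIndex G = Nat.card Z := by
  unfold Subgroup.relIndex
  rw [← hker, Subgroup.index_ker, MonoidHom.range_eq_top.2 hφ]
  exact Nat.card_congr Subgroup.topEquiv.toEquiv

theorem isSquare_mul_inv_of_not {K : Type*} [Field K] [Fintype K] {a b : K}
    (ha : ¬ IsSquare a) (hb : ¬ IsSquare b) : IsSquare (a * b⁻¹) := by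
  classical
  have ha0 : a ≠ 0 := by
    rintro rfl
    exact ha ⟨0, by simp⟩
  have hb0 : b ≠ 0 := by
    rintro rfl
    exact hb ⟨0, by simp⟩
  have h1 : quadraticChar K a = -1 := quadraticChar_neg_one_iff_not_isSquare.2 ha
  have h2 : quadraticChar K b = -1 := quadraticChar_neg_one_iff_not_isSquare.2 hb
  have h3 : quadraticChar K (a * b⁻¹) * quadraticChar K b = quadraticChar K a := by
    rw [← map_mul, mul_assoc, inv_mul_cancel₀ hb0, mul_one]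
  rw [h1, h2] at h3
  have h4 : quadraticChar K (a * b⁻¹) = 1 := by linarith
  exact (quadraticChar_one_iff_isSquare (mul_ne_zero ha0 (inv_ne_zero hb0))).1 h4

section sq

variable {F₀ F : Type*} [Field F₀] [Fintype F₀] [Field F] [Fintype F]
  {ι : Type} [Fintype ι] [DecidableEq ι]
  (i : F₀ →+* F) (Q₀ : QuadraticForm F₀ (ι → F₀)) (Q : QuadraticForm F (ι → F))
  (hQ : ∀ v : ι → F₀, Q (vmap i v) = i (Q₀ v))

theorem goIncl_scalarGO (c : F₀ˣ) :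
    goIncl i Q₀ Q hQ (scalarGO Q₀ c) = scalarGO Q (Units.map (i : F₀ →* F) c) := by
  apply Subtype.ext
  apply Units.ext
  rw [goIncl_coe]
  show ((Matrix.GeneralLinearGroup.scalar ι c : GL ι F₀) : Matrix ι ι F₀).map i
    = ((Matrix.GeneralLinearGroup.scalar ι (Units.map (i : F₀ →* F) c) : GL ι F) : Matrix ι ι F)
  rw [Matrix.GeneralLinearGroup.coe_scalar, Matrix.GeneralLinearGroup.coe_scalar]
  ext a b
  simp only [Matrix.map_apply, Matrix.scalar_apply, Matrix.diagonal_apply]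
  split_ifs
  · rfl
  · exact map_zero i

/-- a similarity over `F₀` with `dHom = 1` and square multiplier induces an inner automorphism
over `F`, when every element of `F₀` is a square in `F` -/
theorem conjAut_goIncl_mem_Inn_of_isSquare (h2 : (2 : F) ≠ 0)
    (hnd₀ : (QuadraticMap.polarBilin Q₀).Nondegenerate) (hsq : ∀ a : F₀, IsSquare (i a))
    {t₀ : ι → F₀} (ht₀ : Q₀ t₀ ≠ 0) (n : ℕ) (hn : Fintype.card ι = 2 * n)
    (g₀ : ↥(Cfsg.Geo.quadSimilarityGroup (F := F₀) ⇑Q₀)) (hd : dHom Q₀ ht₀ n g₀ = 1)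
    (hm : IsSquare ((multHom ⇑Q₀ ht₀ g₀ : F₀ˣ) : F₀)) :
    conjAut ⇑Q (goIncl i Q₀ Q hQ g₀) ∈ Cfsg.Inn (Cfsg.POmega F ⇑Q) := by
  obtain ⟨c, s, hs, rfl⟩ := exists_scalar_mul_SO Q₀ ht₀ n hn g₀ hd hm
  rw [map_mul, goIncl_toGO, goIncl_scalarGO]
  apply conjAut_scalar_mul_Omega_mem_Inn
  have h := range_soIncl_le_omSO i Q₀ Q hQ h2 hnd₀ hsq
    (⟨⟨s, MonoidHom.mem_ker.2 hs⟩, rfl⟩ :
      soIncl i Q₀ Q hQ ⟨s, MonoidHom.mem_ker.2 hs⟩ ∈ (soIncl i Q₀ Q hQ).range)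
  rw [mem_omSO, soIncl_coe] at h
  exact h

end sq

section count

variable {F₀ F : Type*} [Field F₀] [Fintype F₀] [Field F] [Fintype F]

theorem card_mod_four_of_sq (h2 : (2 : F) ≠ 0) (hcard : Fintype.card F = Fintype.card F₀ ^ 2) :
    Odd (Fintype.card F) ∧ Fintype.card F % 4 = 1 := by
  have h1 : Fintype.card F % 2 = 1 :=
    FiniteField.odd_card_of_char_ne_two (ringChar_ne_two_of_two_ne_zero h2)
  have h3 : Fintype.card F₀ % 2 = 1 := by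
    rw [hcard, Nat.pow_mod] at h1
    rcases Nat.mod_two_eq_zero_or_one (Fintype.card F₀) with h | h
    · rw [h] at h1
      norm_num at h1
    · exact h
  refine ⟨Nat.odd_iff.2 h1, ?_⟩
  have h4 : Fintype.card F₀ % 4 = 1 ∨ Fintype.card F₀ % 4 = 3 := by omega
  rw [hcard, Nat.pow_mod]
  rcases h4 with h | h <;> rw [h]

/-- `[Inndiag : Inn] = 4` for the hyperbolic form over a field of order `≡ 1 (mod 4)` -/
theorem relIndex_Inn_plus (hodd : Odd (Fintype.card F)) (h4 : Fintype.card F % 4 = 1) {m : ℕ}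
    (hm : 4 ≤ m) :
    (Cfsg.Inn (Cfsg.POmega F ⇑(plusForm m F))).relIndex (cpAut ⇑(plusForm m F)) = 4 := by
  obtain ⟨_, hB, hC⟩ := Cfsg.Agent.S2725.result (F := F) hodd hm
  rcases Nat.even_or_odd m with he | ho
  · obtain ⟨φ, hφ, hker⟩ := hC he
    have h := relIndex_of_hom (Cfsg.inndiagPOmegaPlus m F)
      (Cfsg.Inn (Cfsg.POmega F (Cfsg.quadFormPlus m F))) φ hφ hker
    rw [Nat.card_eq_fintype_card] at h
    exact h.trans rfl
  · obtain ⟨φ, hφ, hker⟩ := hB ⟨ho, h4⟩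
    have h := relIndex_of_hom (Cfsg.inndiagPOmegaPlus m F)
      (Cfsg.Inn (Cfsg.POmega F (Cfsg.quadFormPlus m F))) φ hφ hker
    rw [Nat.card_eq_fintype_card] at h
    exact h.trans rfl

/-- the class count of `phi1 σ` under the image of `ker dHom`, general forms -/
theorem count_phi1_gen {ι : Type} [Fintype ι] [DecidableEq ι] (h2 : (2 : F) ≠ 0) (i : F₀ →+* F)
    (Q₀ : QuadraticForm F₀ (ι → F₀)) (Q₁ : QuadraticForm F (ι → F))
    (hQ : ∀ v : ι → F₀, Q₁ (vmap i v) = i (Q₀ v)) (σ : F ≃+* F)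
    (hσ₁ : ∀ v : ι → F, Q₁ (vmap (σ : F →+* F) v) = σ (Q₁ v))
    (hi : ∀ a : F, σ a = a ↔ a ∈ i.range) (hsqF : ∀ a : F₀, IsSquare (i a))
    (hnd : (QuadraticMap.polarBilin Q₁).Nondegenerate)
    (hnd₀ : (QuadraticMap.polarBilin Q₀).Nondegenerate) (n : ℕ)
    (hcι : Fintype.card ι = 2 * n) (hn : 7 ≤ Fintype.card ι)
    {t₀ : ι → F₀} (ht₀ : Q₀ t₀ ≠ 0)
    (hrel : (Cfsg.Inn (Cfsg.POmega F ⇑Q₁)).relIndex
      (((dHom Q₁ (Q_vmap_ne_zero i Q₀ Q₁ hQ ht₀) n).ker).map (conjAut ⇑Q₁)) = 4)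
    (g₀ : ↥(Cfsg.Geo.quadSimilarityGroup (F := F₀) ⇑Q₀))
    (hg₀d : dHom Q₀ ht₀ n g₀ = 1)
    (hg₀m : ¬ IsSquare ((multHom ⇑Q₀ ht₀ g₀ : F₀ˣ) : F₀)) (P : Prop)
    (hg₀P : conjAut ⇑Q₁ (goIncl i Q₀ Q₁ hQ g₀) ∈ Cfsg.Inn (Cfsg.POmega F ⇑Q₁) ↔ P) :
    (P → Cfsg.splitClassCount
        (((dHom Q₁ (Q_vmap_ne_zero i Q₀ Q₁ hQ ht₀) n).ker).map (conjAut ⇑Q₁))
        (Cfsg.Inn (Cfsg.POmega F ⇑Q₁)) (phi1 Q₁ σ hσ₁) = 4) ∧
    (¬ P → Cfsg.splitClassCount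
        (((dHom Q₁ (Q_vmap_ne_zero i Q₀ Q₁ hQ ht₀) n).ker).map (conjAut ⇑Q₁))
        (Cfsg.Inn (Cfsg.POmega F ⇑Q₁)) (phi1 Q₁ σ hσ₁) = 2) := by
  classical
  have ht : Q₁ (vmap i t₀) ≠ 0 := Q_vmap_ne_zero i Q₀ Q₁ hQ ht₀
  have hsc : ∀ c : Fˣ, scalarGO Q₁ c ∈ (dHom Q₁ ht n).ker := by
    intro c
    rw [MonoidHom.mem_ker]
    exact dHom_scalarGO Q₁ ht n hcι c
  have hG₀ : ∀ g : ↥(Cfsg.Geo.quadSimilarityGroup (F := F₀) ⇑Q₀),
      g ∈ (dHom Q₀ ht₀ n).ker ↔ goIncl i Q₀ Q₁ hQ g ∈ (dHom Q₁ ht n).ker := by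
    intro g
    rw [MonoidHom.mem_ker, MonoidHom.mem_ker]
    have h3 : dHom Q₁ ht n (goIncl i Q₀ Q₁ hQ g)
        = Units.map (i : F₀ →* F) (dHom Q₀ ht₀ n g) :=
      dHom_goIncl i Q₀ Q₁ hQ ht₀ n g
    rw [h3]
    constructor
    · intro h
      rw [h, map_one]
    · intro h
      apply Units.map_injective (f := (i : F₀ →* F)) i.injective
      rw [h, map_one]
  have hInn : Cfsg.Inn (Cfsg.POmega F ⇑Q₁) ≤ ((dHom Q₁ ht n).ker).map (conjAut ⇑Q₁) := by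
    rw [Inn_eq_map]
    exact Subgroup.map_mono (OmegaGL_subgroupOf_le_ker_dHom Q₁ ht n)
  rw [splitClassCount_eq_index i Q₀ Q₁ hQ σ hσ₁ hi _ _ hsc hG₀ ht₀ hnd hn hInn]
  have hidx : (innG Q₁ (dHom Q₁ ht n).ker).index = 4 := by
    unfold innG
    rw [Subgroup.index_comap, range_thetaG]
    exact hrel
  have hr₁P : gI i Q₀ Q₁ hQ _ _ hG₀ ⟨g₀, MonoidHom.mem_ker.2 hg₀d⟩
      ∈ innG Q₁ (dHom Q₁ ht n).ker ↔ P := by
    rw [mem_innG]
    exact hg₀P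
  have hdich := index_sup_of_dichotomy (innG Q₁ (dHom Q₁ ht n).ker)
    (gI i Q₀ Q₁ hQ _ _ hG₀).range hidx
    (gI i Q₀ Q₁ hQ _ _ hG₀ ⟨g₀, MonoidHom.mem_ker.2 hg₀d⟩) ⟨_, rfl⟩ (by
      rintro _ ⟨g', rfl⟩
      by_cases hsq : IsSquare ((multHom ⇑Q₀ ht₀ g'.1 : F₀ˣ) : F₀)
      · left
        rw [mem_innG]
        exact conjAut_goIncl_mem_Inn_of_isSquare i Q₀ Q₁ hQ h2 hnd₀ hsqF ht₀ n hcι g'.1
          (MonoidHom.mem_ker.1 g'.2) hsq
      · right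
        rw [← map_inv, ← map_mul, mem_innG]
        apply conjAut_goIncl_mem_Inn_of_isSquare i Q₀ Q₁ hQ h2 hnd₀ hsqF ht₀ n hcι
        · exact MonoidHom.mem_ker.1 (g' * (⟨g₀, MonoidHom.mem_ker.2 hg₀d⟩ :
            ↥(dHom Q₀ ht₀ n).ker)⁻¹).2
        · show IsSquare ((multHom ⇑Q₀ ht₀ (g'.1 * g₀⁻¹) : F₀ˣ) : F₀)
          rw [map_mul, map_inv, Units.val_mul, Units.val_inv_eq_inv_val]
          exact isSquare_mul_inv_of_not hsq hg₀m)
  exact ⟨fun hP => hdich.1 (hr₁P.2 hP), fun hP => hdich.2 (fun h => hP (hr₁P.1 h))⟩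

/-- **the class count of the standard field automorphism** of the base-changed minus form, in
terms of one similarity over `F₀` with non-square multiplier -/
theorem count_phi1_odd (h2 : (2 : F) ≠ 0) (i : F₀ →+* F) (σ : F ≃+* F)
    (hi : ∀ a : F, σ a = a ↔ a ∈ i.range) (hcard : Fintype.card F = Fintype.card F₀ ^ 2)
    {k : ℕ} (hk : 3 ≤ k) (a₀ b₀ : F₀)
    (hab : ∀ z₁ z₂ : F₀, z₁ ^ 2 + a₀ * z₁ * z₂ + b₀ * z₂ ^ 2 = 0 → z₁ = 0 ∧ z₂ = 0)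
    (C : ((Fin k ⊕ Fin k) ⊕ Fin 2 → F) ≃ₗ[F] (Fin (k + 1) ⊕ Fin (k + 1) → F))
    (hC : ∀ u, plusForm (k + 1) F (C u) = minusForm k F (i a₀) (i b₀) u)
    (hσ₁ : ∀ v, minusForm k F (i a₀) (i b₀) (vmap (σ : F →+* F) v)
      = σ (minusForm k F (i a₀) (i b₀) v))
    {t₀ : (Fin k ⊕ Fin k) ⊕ Fin 2 → F₀} (ht₀ : minusForm k F₀ a₀ b₀ t₀ ≠ 0)
    (g₀ : ↥(Cfsg.Geo.quadSimilarityGroup (F := F₀) ⇑(minusForm k F₀ a₀ b₀)))
    (hg₀d : dHom (minusForm k F₀ a₀ b₀) ht₀ (k + 1) g₀ = 1)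
    (hg₀m : ¬ IsSquare ((multHom ⇑(minusForm k F₀ a₀ b₀) ht₀ g₀ : F₀ˣ) : F₀)) (P : Prop)
    (hg₀P : conjAut ⇑(minusForm k F (i a₀) (i b₀))
        (goIncl i (minusForm k F₀ a₀ b₀) (minusForm k F (i a₀) (i b₀))
          (Cfsg.Agent.Helper12.ClassPres.minusForm_vmap i k a₀ b₀) g₀)
        ∈ Cfsg.Inn (Cfsg.POmega F ⇑(minusForm k F (i a₀) (i b₀))) ↔ P) :
    (P → Cfsg.splitClassCount (cpAut ⇑(minusForm k F (i a₀) (i b₀)))
        (Cfsg.Inn (Cfsg.POmega F ⇑(minusForm k F (i a₀) (i b₀))))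
        (phi1 (minusForm k F (i a₀) (i b₀)) σ hσ₁) = 4) ∧
    (¬ P → Cfsg.splitClassCount (cpAut ⇑(minusForm k F (i a₀) (i b₀)))
        (Cfsg.Inn (Cfsg.POmega F ⇑(minusForm k F (i a₀) (i b₀))))
        (phi1 (minusForm k F (i a₀) (i b₀)) σ hσ₁) = 2) := by
  have hD₀ := disc_ne_zero_of_aniso' a₀ b₀ hab
  have hD : (i a₀) ^ 2 - 4 * (i b₀) ≠ 0 := by
    intro h
    apply hD₀
    apply i.injective
    rw [map_zero, map_sub, map_pow, map_mul, map_ofNat]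
    exact h
  have hcι := card_idx_minus k
  have hn : 7 ≤ Fintype.card ((Fin k ⊕ Fin k) ⊕ Fin 2) := by
    rw [hcι]
    omega
  have ht := Q_vmap_ne_zero i (minusForm k F₀ a₀ b₀) (minusForm k F (i a₀) (i b₀))
    (Cfsg.Agent.Helper12.ClassPres.minusForm_vmap i k a₀ b₀) ht₀
  have hcp := cpAut_eq_map_ker_dHom C (minusForm k F (i a₀) (i b₀)) hC ht h2
  obtain ⟨hodd, h4⟩ := card_mod_four_of_sq h2 hcard
  have hrel : (Cfsg.Inn (Cfsg.POmega F ⇑(minusForm k F (i a₀) (i b₀)))).relIndex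
      (((dHom (minusForm k F (i a₀) (i b₀)) ht (k + 1)).ker).map
        (conjAut ⇑(minusForm k F (i a₀) (i b₀)))) = 4 := by
    rw [← hcp, ← Subgroup.relIndex_map_map_of_injective _ _
        (f := (Theta C ⇑(minusForm k F (i a₀) (i b₀)) ⇑(plusForm (k + 1) F) hC).toMonoidHom)
        (Theta C ⇑(minusForm k F (i a₀) (i b₀)) ⇑(plusForm (k + 1) F) hC).injective,
      map_Inn_Theta, map_cpAut_Theta]
    exact relIndex_Inn_plus hodd h4 (by omega)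
  rw [hcp]
  exact count_phi1_gen h2 i (minusForm k F₀ a₀ b₀) (minusForm k F (i a₀) (i b₀))
    (Cfsg.Agent.Helper12.ClassPres.minusForm_vmap i k a₀ b₀) σ hσ₁ hi
    (isSquare_map_of_card_sq i h2 hcard) (nondegenerate_minusForm k _ _ hD)
    (nondegenerate_minusForm k _ _ hD₀) (k + 1) hcι hn ht₀ hrel g₀ hg₀d hg₀m P hg₀P

end count

end Cfsg.Agent.Helper12.GF
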