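import Mathlib
import Cfsg.Agent.Helper12.GFJ
import Cfsg.Agent.Helper12.GFL
import Cfsg.Agent.Helper12.ClassPresG
import Cfsg.Agent.Helper14.GFCentG
import Cfsg.Agent.Helper37.EvFG
import Cfsg.Agent.Helper37.FixF

/-!
# Involutory graph-field automorphisms of `PΩ⁺_{2m}(F)`, `m ≥ 5`: assembly (for S2717)
-/

set_option autoImplicit false
set_option linter.unusedSectionVars false

namespace Cfsg.Agent.Helper12.GF

open Matrix Cfsg Cfsg.Agent.Helper44 Cfsg.Agent.Helper12.GammaO Cfsg.Agent.Helper37.OddF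
open Cfsg.Agent.Helper12.ClassPres Cfsg.Agent.Helper14.AutPSL

/-- the explicit similarity with non-square multiplier and the criterion for it to induce an
inner automorphism over the quadratic extension (proved by helper44) -/
def LBProp (F₀ F : Type*) [Field F₀] [Fintype F₀] [Field F] [Fintype F] (k : ℕ) : Prop :=
  ∀ (i : F₀ →+* F) (a₀ b₀ : F₀),
    (∀ z₁ z₂ : F₀, z₁ ^ 2 + a₀ * z₁ * z₂ + b₀ * z₂ ^ 2 = 0 → z₁ = 0 ∧ z₂ = 0) →
    ∀ {t₀ : (Fin k ⊕ Fin k) ⊕ Fin 2 → F₀} (ht₀ : minusForm k F₀ a₀ b₀ t₀ ≠ 0),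
    ∃ g₀ : ↥(Cfsg.Geo.quadSimilarityGroup (F := F₀) ⇑(minusForm k F₀ a₀ b₀)),
      dHom (minusForm k F₀ a₀ b₀) ht₀ (k + 1) g₀ = 1 ∧
      ¬ IsSquare ((multHom ⇑(minusForm k F₀ a₀ b₀) ht₀ g₀ : F₀ˣ) : F₀) ∧
      (conjAut ⇑(minusForm k F (i a₀) (i b₀))
          (goIncl i (minusForm k F₀ a₀ b₀) (minusForm k F (i a₀) (i b₀))
            (Cfsg.Agent.Helper12.ClassPres.minusForm_vmap i k a₀ b₀) g₀)
        ∈ Cfsg.Inn (Cfsg.POmega F ⇑(minusForm k F (i a₀) (i b₀)))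
        ↔ (Odd (k + 1) ∧ Fintype.card F₀ % 4 = 1))

variable {F : Type*} [Field F]

section prelim

variable {m : ℕ}

theorem pair_of_refl (σ : F ≃+* F) (v : Fin m ⊕ Fin m → F) (r : GL (Fin m ⊕ Fin m) F)
    (hv : quadFormPlus m F v ≠ 0)
    (hr : (r : Matrix (Fin m ⊕ Fin m) (Fin m ⊕ Fin m) F)
      = reflectionMatrix (quadFormPlus m F) v) :
    Cfsg.IsSemisimilarityPair ⇑(plusForm m F) r σ := by
  refine ⟨1, fun u => ?_⟩
  rw [Units.val_one, one_mul, hr]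
  have h1 := Helper13.reflectionMatrix_isometry (plusForm m F) v hv (fun k => σ (u k))
  have h2 : plusForm m F (fun k => σ (u k)) = σ (plusForm m F u) :=
    plusForm_vmap (σ : F →+* F) m u
  rw [← h2]
  exact h1

theorem mul_eq_psi (σ : F ≃+* F) (v : Fin m ⊕ Fin m → F) (r : GL (Fin m ⊕ Fin m) F)
    (hv : quadFormPlus m F v ≠ 0)
    (hr : (r : Matrix (Fin m ⊕ Fin m) (Fin m ⊕ Fin m) F)
      = reflectionMatrix (quadFormPlus m F) v)
    (γ φ : MulAut (Cfsg.POmega F ⇑(plusForm m F)))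
    (hγ : Cfsg.IsInducedBySemilinearPOmega ⇑(plusForm m F) r (RingEquiv.refl F) γ)
    (hφ : Cfsg.IsFieldAutPOmegaOf ⇑(plusForm m F) σ φ) :
    γ * φ = psi ⇑(plusForm m F) ⟨⟨r, σ⟩, pair_of_refl σ v r hv hr⟩ := by
  have hp1 := pair_of_refl (1 : F ≃+* F) v r hv hr
  have h1 := eq_psi_of_isInduced ⇑(plusForm m F) r (1 : F ≃+* F) hp1 γ hγ
  have h2 := eq_psi_of_isFieldAut ⇑(plusForm m F) σ (Std.one_pair m σ) φ hφ
  rw [h1, h2]
  exact psi_pair_mul ⇑(plusForm m F) r σ hp1 (Std.one_pair m σ) (pair_of_refl σ v r hv hr)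

/-- two standard involutions with the same `σ` are conjugate under the class-preserving part -/
theorem x₀_conj [Fintype F] {k : ℕ} (hk : k + 1 = m) (D D' : Std F m) (hσ : D'.σ = D.σ) :
    ∃ e ∈ cpAut ⇑(plusForm m F), D'.x₀ = e * D.x₀ * e⁻¹ := by
  obtain ⟨g, hgiso, hgp, hgc⟩ := exists_conj_std hk D D' hσ
  have hgsim : g ∈ Cfsg.Geo.quadSimilarityGroup (F := F) ⇑(plusForm m F) :=
    isometryGroup_le_quadSimilarityGroup _ hgiso
  refine ⟨conjAut ⇑(plusForm m F) ⟨g, hgsim⟩, conjAut_mem_cpAut g hgsim hgp, ?_⟩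
  rw [eq_mul_inv_iff_mul_eq, ← psi_ofSim (plusForm m F) ⟨g, hgsim⟩]
  unfold Std.x₀
  rw [← map_mul, ← map_mul]
  congr 1
  apply Subtype.ext
  show (⟨D'.r, D'.σ⟩ : Gam (Fin m ⊕ Fin m) F) * ⟨g, 1⟩ = ⟨g, 1⟩ * ⟨D.r, D.σ⟩
  rw [hσ, hgc]

end prelim

section embed

variable [Fintype F]

/-- an abstract field of the right order embeds as the fixed field of an involution -/
theorem exists_embedding {p f : ℕ} [Fact p.Prime] (hF : Fintype.card F = p ^ f)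
    (σ : F ≃+* F) (hσ2 : orderOf σ = 2) (F₀ : Type*) [Field F₀] [Fintype F₀]
    (hF₀ : Fintype.card F₀ = p ^ (f / 2)) :
    ∃ i : F₀ →+* F, (∀ a : F, σ a = a ↔ a ∈ i.range) ∧
      Fintype.card F = Fintype.card F₀ ^ 2 := by
  have hft : Fintype (fixF σ) := Fintype.ofFinite _
  obtain ⟨hdvd, hcard⟩ := card_fixF σ hF
  rw [hσ2] at hdvd hcard
  obtain ⟨e⟩ : Nonempty (F₀ ≃+* fixF σ) :=
    ⟨FiniteField.ringEquivOfCardEq (by rw [hcard, hF₀])⟩
  refine ⟨(fixF σ).subtype.comp (e : F₀ →+* fixF σ), ?_, ?_⟩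
  · intro c
    rw [← mem_fixF]
    constructor
    · intro hc
      exact ⟨e.symm ⟨c, hc⟩, by simp⟩
    · rintro ⟨d, rfl⟩
      exact (e d).2
  · rw [hF, hF₀, ← pow_mul, Nat.div_mul_cancel hdvd]

end embed

end Cfsg.Agent.Helper12.GF
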