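import Mathlib
import Cfsg.Agent.Helper12.GFM

/-!
# Involutory graph-field automorphisms of `PΩ⁺_{2m}(F)`, `m ≥ 5`: the main theorem (for S2717)
-/

set_option autoImplicit false
set_option linter.unusedSectionVars false
set_option maxHeartbeats 1000000

namespace Cfsg.Agent.Helper12.GF

open Matrix Cfsg Cfsg.Agent.Helper44 Cfsg.Agent.Helper12.GammaO Cfsg.Agent.Helper37.OddF
open Cfsg.Agent.Helper12.ClassPres Cfsg.Agent.Helper14.AutPSL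

variable {F : Type*} [Field F] [Fintype F]

/-- unpacking an involutory graph-field automorphism: it is an `Inndiag`-conjugate of a standard
one -/
theorem exists_std {p f : ℕ} [Fact p.Prime] (hF : Fintype.card F = p ^ f) (hf : 1 ≤ f) {m : ℕ}
    (hm : 5 ≤ m) (x : MulAut (Cfsg.POmega F ⇑(plusForm m F)))
    (hx : Cfsg.IsGraphFieldAutClassPOmegaPlus m x) (hx2 : orderOf x = 2) :
    ∃ (D : Std F m) (d : MulAut (Cfsg.POmega F ⇑(plusForm m F))),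
      d ∈ cpAut ⇑(plusForm m F) ∧ x = d * D.x₀ * d⁻¹ := by
  have hx' : ∃ (α γ φ : MulAut (Cfsg.POmega F ⇑(plusForm m F))) (σ : F ≃+* F)
      (v : Fin m ⊕ Fin m → F) (r : GL (Fin m ⊕ Fin m) F),
      σ ≠ RingEquiv.refl F ∧ quadFormPlus m F v ≠ 0 ∧ (∀ i, σ (v i) = v i) ∧
      (r : Matrix (Fin m ⊕ Fin m) (Fin m ⊕ Fin m) F) = reflectionMatrix (quadFormPlus m F) v ∧
      Cfsg.IsInducedBySemilinearPOmega ⇑(plusForm m F) r (RingEquiv.refl F) γ ∧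
      Cfsg.IsFieldAutPOmegaOf ⇑(plusForm m F) σ φ ∧ α * x * α⁻¹ = γ * φ := hx
  obtain ⟨α, γ, φ, σ, v, r, hσ1, hv, hσv, hr, hγ, hφ, hconj⟩ := hx'
  have hx0 := mul_eq_psi σ v r hv hr γ φ hγ hφ
  have hxsq : x * x = 1 := by
    rw [← pow_two, ← hx2]
    exact pow_orderOf_eq_one x
  have hsq : (γ * φ) * (γ * φ) = 1 := by
    rw [← hconj]
    calc α * x * α⁻¹ * (α * x * α⁻¹) = α * (x * x) * α⁻¹ := by group
      _ = 1 := by rw [hxsq]; group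
  have hσ : ∀ c : F, σ (σ c) = c :=
    sigma_sq_of_sq_eq_one (by omega) σ r (pair_of_refl σ v r hv hr) (by
      rw [← hx0]
      exact hsq)
  let D : Std F m := ⟨σ, v, r, hσ1, hσ, hv, hσv, hr⟩
  have hDx : α * x * α⁻¹ = D.x₀ := by
    rw [hconj, hx0]
    rfl
  obtain ⟨d, hd, hdx⟩ := orbit_x₀ hm hF hf D α⁻¹
  refine ⟨D, d, hd, ?_⟩
  rw [← hdx, ← hDx]
  group

/-- **main theorem** (lib form, `m = k + 1`) -/
theorem main_graph_field {p f : ℕ} [Fact p.Prime] (hF : Fintype.card F = p ^ f) (hf : 1 ≤ f)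
    {k : ℕ} (hk : 4 ≤ k) (x : MulAut (Cfsg.POmega F ⇑(plusForm (k + 1) F)))
    (hx : Cfsg.IsGraphFieldAutClassPOmegaPlus (k + 1) x) (hx2 : orderOf x = 2)
    (F₀ : Type*) [Field F₀] [Fintype F₀] (hF₀ : Fintype.card F₀ = p ^ (f / 2))
    (hLB : (2 : F) ≠ 0 → Fintype.card F = Fintype.card F₀ ^ 2 → LBProp F₀ F k) :
    Even f ∧
    (∀ y : MulAut (Cfsg.POmega F ⇑(plusForm (k + 1) F)),
      Cfsg.IsGraphFieldAutClassPOmegaPlus (k + 1) y → orderOf y = 2 →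
      Cfsg.IsConjUnder (cpAut ⇑(plusForm (k + 1) F)) x y) ∧
    (∃ a₀ b₀ : F₀, (∀ z₁ z₂ : F₀, z₁ ^ 2 + a₀ * z₁ * z₂ + b₀ * z₂ ^ 2 = 0 → z₁ = 0 ∧ z₂ = 0) ∧
      Nonempty (↥(cpAut ⇑(plusForm (k + 1) F) ⊓ Subgroup.centralizer {x})
        ≃* ↥(Cfsg.inndiagPOmegaMinus k F₀ a₀ b₀))) ∧
    (p = 2 → Cfsg.splitClassCount (cpAut ⇑(plusForm (k + 1) F))
      (Cfsg.Inn (Cfsg.POmega F ⇑(plusForm (k + 1) F))) x = 1) ∧
    ((p ≠ 2 ∧ Odd (k + 1) ∧ p ^ (f / 2) % 4 = 1) →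
      Cfsg.splitClassCount (cpAut ⇑(plusForm (k + 1) F))
        (Cfsg.Inn (Cfsg.POmega F ⇑(plusForm (k + 1) F))) x = 4) ∧
    ((p ≠ 2 ∧ ¬ (Odd (k + 1) ∧ p ^ (f / 2) % 4 = 1)) →
      Cfsg.splitClassCount (cpAut ⇑(plusForm (k + 1) F))
        (Cfsg.Inn (Cfsg.POmega F ⇑(plusForm (k + 1) F))) x = 2) := by
  classical
  have hm : 5 ≤ k + 1 := by omega
  obtain ⟨D, d, hd, hxd⟩ := exists_std hF hf hm x hx hx2
  have hord : orderOf D.σ = 2 := D.orderOf_σ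
  have heven : Even f := even_of_orderOf_two hF D.σ hord
  have hcyc := (Cfsg.Agent.Helper37.OutPsl.card_ringAut hF hf).2
  -- part (2)
  have part2 : ∀ y : MulAut (Cfsg.POmega F ⇑(plusForm (k + 1) F)),
      Cfsg.IsGraphFieldAutClassPOmegaPlus (k + 1) y → orderOf y = 2 →
      Cfsg.IsConjUnder (cpAut ⇑(plusForm (k + 1) F)) x y := by
    intro y hy hy2
    obtain ⟨D', d', hd', hyd⟩ := exists_std hF hf hm y hy hy2
    have hσeq : D'.σ = D.σ := eq_of_orderOf_two D'.orderOf_σ hord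
    obtain ⟨e, he, hee⟩ := x₀_conj rfl D D' hσeq
    refine ⟨d' * e * d⁻¹, mul_mem (mul_mem hd' he) (inv_mem hd), ?_⟩
    rw [hyd, hee, hxd]
    group
  -- the adapted coordinates
  obtain ⟨i, hi, hcard⟩ := exists_embedding hF D.σ hord F₀ hF₀
  obtain ⟨a₀, b₀, hab⟩ := Cfsg.Agent.Helper45.exists_aniso F₀
  obtain ⟨θ, hθ⟩ := exists_moved D.σ D.hσ1
  obtain ⟨C, hC1, hC2⟩ := exists_minus_equiv i D.σ hi D.hσ θ hθ D.r D.r_map D.r_sq' D.r_iso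
    D.r_not_psc rfl a₀ b₀ hab
  have hσa : D.σ (i a₀) = i a₀ := (hi (i a₀)).2 ⟨a₀, rfl⟩
  have hσb : D.σ (i b₀) = i b₀ := (hi (i b₀)).2 ⟨b₀, rfl⟩
  have hσ₁ : ∀ w, minusForm k F (i a₀) (i b₀) (vmap (D.σ : F →+* F) w)
      = D.σ (minusForm k F (i a₀) (i b₀) w) := by
    intro w
    have h := Cfsg.Agent.Helper12.ClassPres.minusForm_vmap (D.σ : F →+* F) k (i a₀) (i b₀) w
    have ea : (D.σ : F →+* F) (i a₀) = i a₀ := hσa
    have eb : (D.σ : F →+* F) (i b₀) = i b₀ := hσb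
    rw [ea, eb] at h
    exact h
  have hΘ : Theta C ⇑(minusForm k F (i a₀) (i b₀)) ⇑(plusForm (k + 1) F) hC1
      (phi1 (minusForm k F (i a₀) (i b₀)) D.σ hσ₁) = D.x₀ :=
    Theta_field C (minusForm k F (i a₀) (i b₀)) (plusForm (k + 1) F) hC1 D.σ
      (fld (minusForm k F (i a₀) (i b₀)) D.σ hσ₁).2 D.r D.pair hC2
  -- conjugation by `d` normalises `cpAut` and `Inn`
  have hH : ∀ z ∈ cpAut ⇑(plusForm (k + 1) F), d * z * d⁻¹ ∈ cpAut ⇑(plusForm (k + 1) F) :=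
    fun z hz => mul_mem (mul_mem hd hz) (inv_mem hd)
  have hH' : ∀ z ∈ cpAut ⇑(plusForm (k + 1) F), d⁻¹ * z * d ∈ cpAut ⇑(plusForm (k + 1) F) :=
    fun z hz => mul_mem (mul_mem (inv_mem hd) hz) hd
  have hK : ∀ z ∈ Cfsg.Inn (Cfsg.POmega F ⇑(plusForm (k + 1) F)),
      d * z * d⁻¹ ∈ Cfsg.Inn (Cfsg.POmega F ⇑(plusForm (k + 1) F)) :=
    fun z hz => (Inn_normal _).conj_mem z hz d
  have hK' : ∀ z ∈ Cfsg.Inn (Cfsg.POmega F ⇑(plusForm (k + 1) F)),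
      d⁻¹ * z * d ∈ Cfsg.Inn (Cfsg.POmega F ⇑(plusForm (k + 1) F)) := by
    intro z hz
    have := (Inn_normal _).conj_mem z hz d⁻¹
    rwa [inv_inv] at this
  -- part (3)
  have part3 : Nonempty (↥(cpAut ⇑(plusForm (k + 1) F) ⊓ Subgroup.centralizer {x})
      ≃* ↥(Cfsg.inndiagPOmegaMinus k F₀ a₀ b₀)) := by
    have hfa : Cfsg.IsFieldAutPOmegaOf (quadFormMinus k F (i a₀) (i b₀)) D.σ
        (phi1 (minusForm k F (i a₀) (i b₀)) D.σ hσ₁) :=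
      isFieldAut_psi ⇑(minusForm k F (i a₀) (i b₀)) D.σ _
    obtain ⟨e₁⟩ := Cfsg.Agent.Helper14.GFCent.nonempty_cpAut_centralizer_equiv i D.σ hi hcard
      (by omega : 3 ≤ k) a₀ b₀ hab (phi1 (minusForm k F (i a₀) (i b₀)) D.σ hσ₁) hfa
    have e₂ := centralizerMapEquiv
      (Theta C ⇑(minusForm k F (i a₀) (i b₀)) ⇑(plusForm (k + 1) F) hC1)
      (cpAut ⇑(minusForm k F (i a₀) (i b₀))) (phi1 (minusForm k F (i a₀) (i b₀)) D.σ hσ₁)
    rw [map_cpAut_Theta, hΘ] at e₂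
    obtain ⟨e₃⟩ := Cfsg.Agent.Helper37.Lang.centralizer_conj_equiv (cpAut ⇑(plusForm (k + 1) F))
      d hH hH' D.x₀
    rw [← hxd] at e₃
    exact ⟨(e₃.symm.trans e₂.symm).trans e₁⟩
  refine ⟨heven, part2, ⟨a₀, b₀, hab, part3⟩, ?_, ?_⟩
  · -- part (4)
    intro hp2
    subst hp2
    have : CharP F 2 := charP_of_card_eq_prime_pow hF
    have h := inndiagPOmegaPlus_eq_Inn_two (F := F) (m := k + 1) (by omega)
    have h' : cpAut ⇑(plusForm (k + 1) F) = Cfsg.Inn (Cfsg.POmega F ⇑(plusForm (k + 1) F)) := h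
    rw [h']
    exact splitClassCount_self _ x
  · -- parts (5), (6)
    have key : p ≠ 2 →
        ((Odd (k + 1) ∧ Fintype.card F₀ % 4 = 1) →
          Cfsg.splitClassCount (cpAut ⇑(plusForm (k + 1) F))
            (Cfsg.Inn (Cfsg.POmega F ⇑(plusForm (k + 1) F))) x = 4) ∧
        (¬ (Odd (k + 1) ∧ Fintype.card F₀ % 4 = 1) →
          Cfsg.splitClassCount (cpAut ⇑(plusForm (k + 1) F))
            (Cfsg.Inn (Cfsg.POmega F ⇑(plusForm (k + 1) F))) x = 2) := by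
      intro hp
      have hpodd : Odd p := (Fact.out : p.Prime).odd_of_ne_two hp
      have h2 : (2 : F) ≠ 0 := two_ne_zero_of_odd_card hF hpodd.pow
      have hcount : Cfsg.splitClassCount (cpAut ⇑(plusForm (k + 1) F))
          (Cfsg.Inn (Cfsg.POmega F ⇑(plusForm (k + 1) F))) x
          = Cfsg.splitClassCount (cpAut ⇑(minusForm k F (i a₀) (i b₀)))
            (Cfsg.Inn (Cfsg.POmega F ⇑(minusForm k F (i a₀) (i b₀))))
            (phi1 (minusForm k F (i a₀) (i b₀)) D.σ hσ₁) := by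
        rw [hxd, Cfsg.Agent.Helper37.Lang.splitClassCount_conj _ _ d hH hH' hK hK' D.x₀, ← hΘ,
          ← map_cpAut_Theta C (minusForm k F (i a₀) (i b₀)) (plusForm (k + 1) F) hC1,
          ← map_Inn_Theta C ⇑(minusForm k F (i a₀) (i b₀)) ⇑(plusForm (k + 1) F) hC1]
        exact splitClassCount_map _ _ _ _
      have ht₀ : minusForm k F₀ a₀ b₀ (Pi.single (Sum.inr 0) 1) ≠ 0 := by
        rw [minusForm_single]
        exact one_ne_zero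
      obtain ⟨g₀, hg₀d, hg₀m, hg₀P⟩ := hLB h2 hcard i a₀ b₀ hab ht₀
      have hcnt := count_phi1_odd h2 i D.σ hi hcard (by omega) a₀ b₀ hab C hC1 hσ₁ ht₀ g₀
        hg₀d hg₀m _ hg₀P
      rw [hcount]
      exact hcnt
    constructor
    · rintro ⟨hp, ho, h4⟩
      exact (key hp).1 ⟨ho, by rw [hF₀]; exact h4⟩
    · rintro ⟨hp, hn⟩
      exact (key hp).2 (fun h => hn ⟨h.1, by rw [← hF₀]; exact h.2⟩)

end Cfsg.Agent.Helper12.GF
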