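import Mathlib

/-!
# The quadratic-character arithmetic for the split count of graph-field involutions (S2717)

`F/F₀` quadratic extension of finite fields of odd order `q₀² / q₀`, `ν` a non-square of `F₀`,
`λ² = ν`, `η^(q₀+1) = ν` (so `η` has norm `ν`): `λ^k η λ⁻¹` is a square in `F` iff `k + 1` is odd
and `q₀ ≡ 1 (mod 4)`.
-/

set_option autoImplicit false

namespace Cfsg.Agent.Helper12.GF

theorem ringChar_ne_two' {K : Type*} [Field K] (h2 : (2 : K) ≠ 0) : ringChar K ≠ 2 := by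
  intro h
  have : CharP K 2 := by rw [← h]; exact ringChar.charP K
  exact h2 (CharTwo.two_eq_zero)

theorem neg_one_pow_eq_one_iff' {K : Type*} [Field K] (h2 : (2 : K) ≠ 0) (n : ℕ) :
    (-1 : K) ^ n = 1 ↔ Even n := by
  constructor
  · intro h
    by_contra hn
    rw [Nat.not_even_iff_odd] at hn
    rw [hn.neg_one_pow] at h
    apply h2
    linear_combination -h
  · intro h
    exact h.neg_one_pow

theorem isSquare_det_iff {F₀ F : Type*} [Field F₀] [Fintype F₀] [Field F] [Fintype F]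
    (h2 : (2 : F) ≠ 0) (i : F₀ →+* F) (hcard : Fintype.card F = Fintype.card F₀ ^ 2)
    {ν₀ : F₀} (hν₀ : ¬ IsSquare ν₀) {lam η : F} (hlam : lam ^ 2 = i ν₀)
    (hη : η ^ (Fintype.card F₀ + 1) = i ν₀) (k : ℕ) :
    IsSquare (lam ^ k * η * lam⁻¹) ↔ (Odd (k + 1) ∧ Fintype.card F₀ % 4 = 1) := by
  have h2₀ : (2 : F₀) ≠ 0 := by
    intro h
    apply h2
    have := congrArg i h
    rwa [map_ofNat, map_zero] at this
  have hc : ringChar F ≠ 2 := ringChar_ne_two' h2
  have hc₀ : ringChar F₀ ≠ 2 := ringChar_ne_two' h2₀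
  have hodd₀ : Fintype.card F₀ % 2 = 1 := FiniteField.odd_card_of_char_ne_two hc₀
  obtain ⟨n, hn⟩ : ∃ n, Fintype.card F₀ = 2 * n + 1 := ⟨Fintype.card F₀ / 2, by omega⟩
  have hq2 : Fintype.card F / 2 = 2 * n * (n + 1) := by
    rw [hcard, hn]
    have : (2 * n + 1) ^ 2 = 2 * (2 * n * (n + 1)) + 1 := by ring
    rw [this]
    omega
  have hn2 : Fintype.card F₀ / 2 = n := by
    rw [hn]
    omega
  have hν0 : ν₀ ≠ 0 := by
    rintro rfl
    exact hν₀ ⟨0, by simp⟩
  have hiν0 : i ν₀ ≠ 0 := by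
    intro h
    apply hν0
    apply i.injective
    rw [h, map_zero]
  -- Euler's criterion in `F₀`
  have hE₀ : ν₀ ^ n = -1 := by
    rcases FiniteField.pow_dichotomy hc₀ hν0 with h | h
    · exact absurd ((FiniteField.isSquare_iff hc₀ hν0).2 h) hν₀
    · rw [hn2] at h
      exact h
  have hE : (i ν₀) ^ n = -1 := by
    rw [← map_pow, hE₀, map_neg, map_one]
  have hlam0 : lam ≠ 0 := by
    rintro rfl
    apply hiν0
    rw [← hlam]
    simp
  have hη0 : η ≠ 0 := by
    rintro rfl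
    apply hiν0
    rw [← hη]
    simp
  -- the characters
  have hχlam : lam ^ (2 * n * (n + 1)) = (-1) ^ (n + 1) := by
    rw [mul_assoc, pow_mul, hlam, pow_mul, hE]
  have hχη : η ^ (2 * n * (n + 1)) = -1 := by
    have : 2 * n * (n + 1) = (Fintype.card F₀ + 1) * n := by
      rw [hn]
      ring
    rw [this, pow_mul, hη, hE]
  have hx0 : lam ^ k * η * lam⁻¹ ≠ 0 :=
    mul_ne_zero (mul_ne_zero (pow_ne_zero _ hlam0) hη0) (inv_ne_zero hlam0)
  rw [FiniteField.isSquare_iff hc hx0, hq2, mul_pow, mul_pow, ← pow_mul, mul_comm k, pow_mul,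
    hχlam, hχη, inv_pow, hχlam]
  have e : ((-1 : F) ^ (n + 1)) ^ k * -1 * ((-1 : F) ^ (n + 1))⁻¹
      = (-1) ^ ((n + 1) * k + 1 + (n + 1)) := by
    have h3 : ((-1 : F) ^ (n + 1))⁻¹ = (-1) ^ (n + 1) := by
      rw [← inv_pow, inv_neg_one]
    rw [h3, ← pow_mul, pow_add ((-1 : F)) ((n + 1) * k + 1) (n + 1),
      pow_add ((-1 : F)) ((n + 1) * k) 1, pow_one]
  rw [e, neg_one_pow_eq_one_iff' h2]
  rw [hn]
  constructor
  · intro h
    have h5 : ¬ Even ((n + 1) * (k + 1)) := by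
      intro h6
      have : (n + 1) * k + 1 + (n + 1) = (n + 1) * (k + 1) + 1 := by ring
      rw [this] at h
      exact (Nat.even_add_one.1 h) h6
    rw [Nat.not_even_iff_odd, Nat.odd_mul] at h5
    refine ⟨h5.2, ?_⟩
    obtain ⟨j, hj⟩ := h5.1
    omega
  · rintro ⟨hk, h4⟩
    have hn1 : Odd (n + 1) := by
      rw [Nat.odd_iff]
      omega
    have h5 : Odd ((n + 1) * (k + 1)) := Nat.odd_mul.2 ⟨hn1, hk⟩
    have : (n + 1) * k + 1 + (n + 1) = (n + 1) * (k + 1) + 1 := by ring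
    rw [this]
    exact h5.add_one

end Cfsg.Agent.Helper12.GF
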