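import Mathlib
import Cfsg.Agent.Helper12.GammaOP
import Cfsg.Agent.S2728

/-!
# `Out(PΩ⁻_{2m}(q))`, `q` odd, conditional on `gammaPOmega = ⊤`

`D₈ × C_f` if `q ≡ 3 (mod 4)` and `m` is odd, `C₂ × C_{2f}` otherwise.
-/

set_option autoImplicit false
set_option linter.unusedSectionVars false

namespace Cfsg.Agent.Helper12.GammaO

open Matrix Module QuadraticMap Cfsg.Agent.Helper44

variable {F : Type*} [Field F]

section kerTau

variable {ι : Type} [Fintype ι] [DecidableEq ι] (Q : QuadraticForm F (ι → F)) [Fintype F]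
  (hQ : (QuadraticMap.polarBilin Q).Nondegenerate) (hn : 7 ≤ Fintype.card ι)
  (htop : Cfsg.gammaPOmega F ⇑Q = ⊤)

/-- the kernel of `tauOut` is `PGO / Inn(PΩ)` -/
theorem nonempty_ker_tauOut_equiv {D : Type*} [Group D] (φ : ↥(Cfsg.pgoAut F ⇑Q) →* D)
    (hs : Function.Surjective φ)
    (hk : φ.ker = (Cfsg.Inn (Cfsg.POmega F ⇑Q)).subgroupOf (Cfsg.pgoAut F ⇑Q)) :
    Nonempty (↥(tauOut Q hQ hn htop).ker ≃* D) := by
  set j : ↥(Cfsg.pgoAut F ⇑Q) →* Cfsg.Out (Cfsg.POmega F ⇑Q) :=
    (QuotientGroup.mk' (Cfsg.Inn (Cfsg.POmega F ⇑Q))).comp (Cfsg.pgoAut F ⇑Q).subtype with hj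
  have hjk : j.ker = φ.ker := by
    rw [hk]
    ext x
    rw [MonoidHom.mem_ker, Subgroup.mem_subgroupOf]
    show (QuotientGroup.mk x.1 : Cfsg.Out (Cfsg.POmega F ⇑Q)) = 1 ↔ _
    exact QuotientGroup.eq_one_iff _
  have hjr : j.range = (tauOut Q hQ hn htop).ker := by
    ext y
    constructor
    · rintro ⟨x, rfl⟩
      rw [MonoidHom.mem_ker]
      show tauOut Q hQ hn htop (QuotientGroup.mk x.1) = 1
      rw [tauOut_mk]
      have h1 : x.1 ∈ (tau Q hQ hn htop).ker := by
        rw [ker_tau Q hQ hn htop]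
        exact x.2
      exact h1
    · intro hy
      obtain ⟨β, rfl⟩ := QuotientGroup.mk_surjective y
      rw [MonoidHom.mem_ker, tauOut_mk] at hy
      have h1 : β ∈ Cfsg.pgoAut F ⇑Q := by
        rw [← ker_tau Q hQ hn htop]
        exact hy
      exact ⟨⟨β, h1⟩, rfl⟩
  exact ⟨(MulEquiv.subgroupCongr hjr).symm.trans
    ((QuotientGroup.quotientKerEquivRange j).symm.trans
      ((QuotientGroup.quotientMulEquivOfEq hjk).trans
        (QuotientGroup.quotientKerEquivOfSurjective φ hs)))⟩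

end kerTau

theorem odd_of_pow_mod_four {p f : ℕ} (h : p ^ f % 4 = 3) : Odd f := by
  by_contra hne
  rw [Nat.not_odd_iff_even] at hne
  obtain ⟨j, rfl⟩ := hne
  rw [← two_mul, pow_mul', pow_two, Nat.mul_mod] at h
  have h1 : p ^ j % 4 < 4 := Nat.mod_lt _ (by norm_num)
  interval_cases (p ^ j % 4) <;> omega

section main

variable [Fintype F]

theorem out_minusForm_odd_aux {p f k : ℕ} [Fact p.Prime] (hf : 1 ≤ f)
    (hF : Fintype.card F = p ^ f) (hp : p ≠ 2) (hk3 : 3 ≤ k) (a b : F)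
    (hab : ∀ z₁ z₂ : F, z₁ ^ 2 + a * z₁ * z₂ + b * z₂ ^ 2 = 0 → z₁ = 0 ∧ z₂ = 0)
    (htop : Cfsg.gammaPOmega F (Cfsg.quadFormMinus k F a b) = ⊤) :
    ((Even k ∧ Fintype.card F % 4 = 3) →
      Nonempty (Cfsg.Out (Cfsg.POmega F (Cfsg.quadFormMinus k F a b))
        ≃* DihedralGroup 4 × Multiplicative (ZMod f))) ∧
    (¬ (Even k ∧ Fintype.card F % 4 = 3) →
      Nonempty (Cfsg.Out (Cfsg.POmega F (Cfsg.quadFormMinus k F a b))
        ≃* Multiplicative (ZMod 2 × ZMod (2 * f)))) := by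
  have hpo : Odd p := (Fact.out : p.Prime).odd_of_ne_two hp
  have hq : Odd (Fintype.card F) := by
    rw [hF]
    exact hpo.pow
  have h2 : (2 : F) ≠ 0 := two_ne_zero_of_odd_card rfl hq
  have hchar : CharP F p := charP_of_card_eq_prime_pow hF
  have hD0 : a ^ 2 - 4 * b ≠ 0 := disc_ne_zero a b hab h2
  have hQ := Cfsg.Agent.Helper5.nondegenerate_minusForm_of_aniso (F := F) k a b hab
  have hcardι : Fintype.card ((Fin k ⊕ Fin k) ⊕ Fin 2) = 2 * (k + 1) := card_index_minus k
  have hn : 7 ≤ Fintype.card ((Fin k ⊕ Fin k) ⊕ Fin 2) := by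
    rw [hcardι]
    omega
  have htop' : Cfsg.gammaPOmega F ⇑(minusForm k F a b) = ⊤ := htop
  obtain ⟨hcardF, hcyc⟩ := Cfsg.Agent.Helper37.OutPsl.card_ringAut hF hf
  have hσ : ∀ σ : F ≃+* F, ∃ g : GL ((Fin k ⊕ Fin k) ⊕ Fin 2) F,
      Cfsg.IsSemisimilarityPair ⇑(minusForm k F a b) g σ :=
    fun σ => exists_isSemisimilarityPair_minus k a b hab σ
  have hsurj : Function.Surjective (tauOut (minusForm k F a b) hQ hn htop') := by
    intro σ
    obtain ⟨g, hg⟩ := hσ σ
    refine ⟨QuotientGroup.mk (psi ⇑(minusForm k F a b) ⟨⟨g, σ⟩, hg⟩), ?_⟩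
    rw [tauOut_mk, tau_psi]
  have hcrit := exists_neg_one_mem_Omega_minus_iff (F := F) rfl hq (k + 1) (by omega) a b hab
  have hiff : negOne (minusForm k F a b) ∈ Cfsg.Omega F (Cfsg.quadFormMinus k F a b)
      ↔ (Even k ∧ Fintype.card F % 4 = 3) := by
    have h3 : (Even k ∧ Fintype.card F % 4 = 3) ↔ (Odd (k + 1) ∧ Fintype.card F % 4 = 3) := by
      rw [Nat.odd_add_one, Nat.not_odd_iff_even]
    rw [h3, ← pow_mod_four_eq_three_iff _ _ hq, ← hcrit]
    exact negOne_mem_iff (minusForm k F a b)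
  constructor
  · -- the dihedral case
    intro hc
    obtain ⟨φ, hs, hkφ⟩ := (Cfsg.Agent.S2728.result hq hk3 a b hab).1 hc
    have hfodd : Odd f := by
      have h3 := hc.2
      rw [hF] at h3
      exact odd_of_pow_mod_four h3
    obtain ⟨e⟩ := nonempty_ker_tauOut_equiv (minusForm k F a b) hQ hn htop' φ hs hkφ
    have h0 := card_mulAut_of_gamma_eq_top (minusForm k F a b) hQ hn hσ htop'
    have hfinA : Finite (MulAut (Cfsg.POmega F ⇑(minusForm k F a b))) := by
      apply Nat.finite_of_card_ne_zero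
      rw [h0, hcardF, card_pgoAut_of_hom (minusForm k F a b) h2 hQ hn φ hs hkφ,
        DihedralGroup.nat_card]
      have hpos : 0 < Nat.card (Cfsg.POmega F ⇑(minusForm k F a b)) := Nat.card_pos
      have : 0 < f * (2 * 4 * Nat.card (Cfsg.POmega F ⇑(minusForm k F a b))) := by positivity
      exact this.ne'
    exact nonempty_mulEquiv_dihedral_prod (tauOut (minusForm k F a b) hQ hn htop') hsurj hfodd
      hcardF e
  · -- the abelian case
    intro hc
    obtain ⟨φ, hs, hkφ⟩ := (Cfsg.Agent.S2728.result hq hk3 a b hab).2 hc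
    have hneg : negOne (minusForm k F a b) ∉ Cfsg.Omega F ⇑(minusForm k F a b) :=
      fun h => hc (hiff.1 h)
    obtain ⟨e⟩ := nonempty_ker_tauOut_equiv (minusForm k F a b) hQ hn htop' φ hs hkφ
    have h4 : Nat.card (Multiplicative (ZMod 2 × ZMod 2)) = 4 := by
      rw [Nat.card_eq_fintype_card]
      rfl
    have h0 := card_mulAut_of_gamma_eq_top (minusForm k F a b) hQ hn hσ htop'
    rw [hcardF, card_pgoAut_of_hom (minusForm k F a b) h2 hQ hn φ hs hkφ, h4] at h0
    have hfinA : Finite (MulAut (Cfsg.POmega F ⇑(minusForm k F a b))) := by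
      apply Nat.finite_of_card_ne_zero
      rw [h0]
      have hpos : 0 < Nat.card (Cfsg.POmega F ⇑(minusForm k F a b)) := Nat.card_pos
      have : 0 < f * (4 * Nat.card (Cfsg.POmega F ⇑(minusForm k F a b))) := by positivity
      exact this.ne'
    have h3 := card_mulAut_eq_out_mul (minusForm k F a b) hQ hn
    have hcard : Nat.card (Cfsg.Out (Cfsg.POmega F ⇑(minusForm k F a b))) = 4 * f := by
      have hpos : 0 < Nat.card (Cfsg.POmega F ⇑(minusForm k F a b)) := Nat.card_pos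
      apply Nat.eq_of_mul_eq_mul_right hpos
      rw [← h3, h0]
      ring
    have hker : Nat.card ↥(tauOut (minusForm k F a b) hQ hn htop').ker = 4 := by
      rw [Nat.card_congr e.toEquiv, h4]
    have hK : ∀ y ∈ (tauOut (minusForm k F a b) hQ hn htop').ker, y * y = 1 := by
      intro y hy
      have h5 : ∀ z : Multiplicative (ZMod 2 × ZMod 2), z * z = 1 := by decide
      have h6 : e (⟨y, hy⟩ * ⟨y, hy⟩) = e 1 := by
        rw [map_mul, h5, map_one]
      exact congrArg Subtype.val (e.injective h6)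
    have hw : minusForm k F a b (wD k a) ≠ 0 := by
      show Cfsg.quadFormMinus k F a b (wD k a) ≠ 0
      rw [quadFormMinus_wD]
      exact neg_ne_zero.2 hD0
    have hcomm : ∀ x y : Cfsg.Out (Cfsg.POmega F ⇑(minusForm k F a b)), x * y = y * x :=
      commutative_of_cyclic_center_quotient (tauOut (minusForm k F a b) hQ hn htop')
        (ker_tauOut_le_center (minusForm k F a b) h2 hQ hw (k + 1) hcardι hn htop' hneg)
    -- the generator
    set x₀ : ↥(GamO ⇑(minusForm k F a b)) :=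
      ⟨frobPairP p k a b (eI_ne_zero p a b hab h2 1),
        frobPairP_mem p k a b h2 hpo (eI_ne_zero p a b hab h2 1)⟩ with hx₀
    set o : Cfsg.Out (Cfsg.POmega F ⇑(minusForm k F a b)) :=
      QuotientGroup.mk (psi ⇑(minusForm k F a b) x₀) with ho
    apply nonempty_mulEquiv_two_prod_cyclic (tauOut (minusForm k F a b) hQ hn htop') hcomm
      (by omega : 0 < f) hcard hker hK o
    · rw [ho, tauOut_mk, tau_psi]
      exact orderOf_frobP p hf hF
    · intro h
      have h5 : o ^ f = QuotientGroup.mk (psi ⇑(minusForm k F a b) (x₀ ^ f)) := by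
        rw [ho, map_pow]
        rfl
      rw [h5, QuotientGroup.eq_one_iff] at h
      have hr : x₀ ^ f = ofSim (minusForm k F a b)
          (toGO (minusForm k F a b) (reflT (minusForm k F a b) (wD k a))) := by
        apply Subtype.ext
        rw [Subgroup.coe_pow]
        show frobPairP p k a b _ ^ f = _
        rw [frobPairP_pow_card p k a b hab h2 hpo hF, triGL_eq_reflT_odd k a b hD0]
        rfl
      rw [hr, psi_ofSim] at h
      have h6 := goChar_eq_one_of_conjAut_mem_Inn (minusForm k F a b) h2 hQ hn hw (k + 1) hcardι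
        _ h
      have h7 : toGO (minusForm k F a b) (reflT (minusForm k F a b) (wD k a))
          = reflGO (minusForm k F a b) hw := by
        apply Subtype.ext
        show ((reflT (minusForm k F a b) (wD k a)).1 : GL _ F) = (refl (minusForm k F a b) _ hw).1
        rw [reflT_of_ne _ _ hw]
      rw [h7, goChar_reflGO] at h6
      have h8 := congrArg Prod.snd h6
      revert h8
      decide

/-- `Out(PΩ⁻_{2m}(q))`, `q` odd, if all automorphisms come from semisimilarities -/
theorem out_minusForm_odd {p f m : ℕ} [Fact p.Prime] (hf : 1 ≤ f)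
    (hF : Fintype.card F = p ^ f) (hp : p ≠ 2) (hm : 4 ≤ m) (a b : F)
    (hab : ∀ z₁ z₂ : F, z₁ ^ 2 + a * z₁ * z₂ + b * z₂ ^ 2 = 0 → z₁ = 0 ∧ z₂ = 0)
    (htop : Cfsg.gammaPOmega F (Cfsg.quadFormMinus (m - 1) F a b) = ⊤) :
    if p ^ f % 4 = 3 ∧ Odd m then
      Nonempty (Cfsg.Out (Cfsg.POmega F (Cfsg.quadFormMinus (m - 1) F a b))
        ≃* DihedralGroup 4 × Multiplicative (ZMod f))
    else
      Nonempty (Cfsg.Out (Cfsg.POmega F (Cfsg.quadFormMinus (m - 1) F a b))
        ≃* Multiplicative (ZMod 2 × ZMod (2 * f))) := by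
  obtain ⟨hA, hB⟩ := out_minusForm_odd_aux hf hF hp (by omega : 3 ≤ m - 1) a b hab htop
  have hiff : (p ^ f % 4 = 3 ∧ Odd m) ↔ (Even (m - 1) ∧ Fintype.card F % 4 = 3) := by
    rw [hF]
    have h1 : Odd m ↔ Even (m - 1) := by
      rw [Nat.odd_iff, Nat.even_iff]
      omega
    rw [h1]
    exact and_comm
  by_cases hc : p ^ f % 4 = 3 ∧ Odd m
  · rw [if_pos hc]
    exact hA (hiff.1 hc)
  · rw [if_neg hc]
    exact hB (fun h => hc (hiff.2 h))

end main

end Cfsg.Agent.Helper12.GammaO
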