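import Mathlib
import Cfsg.Agent.Helper12.GammaOQ

/-!
# Involutions of `PΓO⁻_{2m}(q)`, `q` odd, are induced by similarities

If `γ = psi x` with `γ² = 1`, then the field automorphism of `x` is trivial: otherwise it is the
`f/2`-th power of the Frobenius, `x = δ · x₀^(f/2)` with `δ` a similarity, and
`γ² = conjAut (δ · δ' · r_w)` where `δ'` has the same characters as `δ` and `r_w` is a reflection, so
`γ² ≠ 1`.  (No hypothesis `gammaPOmega = ⊤` is needed.)
-/

set_option autoImplicit false
set_option linter.unusedSectionVars false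

namespace Cfsg.Agent.Helper12.GammaO

open Matrix Module QuadraticMap Cfsg.Agent.Helper44

variable {F : Type*} [Field F] [Fintype F]

theorem right_eq_refl_of_psi_sq_eq_one {p f k : ℕ} [Fact p.Prime] (hf : 1 ≤ f)
    (hF : Fintype.card F = p ^ f) (hp : p ≠ 2) (hk3 : 3 ≤ k) (a b : F)
    (hab : ∀ z₁ z₂ : F, z₁ ^ 2 + a * z₁ * z₂ + b * z₂ ^ 2 = 0 → z₁ = 0 ∧ z₂ = 0)
    (x : ↥(GamO ⇑(minusForm k F a b)))
    (hx : psi ⇑(minusForm k F a b) x * psi ⇑(minusForm k F a b) x = 1) :
    x.1.right = RingEquiv.refl F := by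
  have hpo : Odd p := (Fact.out : p.Prime).odd_of_ne_two hp
  have hq : Odd (Fintype.card F) := by
    rw [hF]
    exact hpo.pow
  have h2 : (2 : F) ≠ 0 := two_ne_zero_of_odd_card rfl hq
  have hchar : CharP F p := charP_of_card_eq_prime_pow hF
  have hD0 : a ^ 2 - 4 * b ≠ 0 := disc_ne_zero a b hab h2
  have hQ := Cfsg.Agent.Helper5.nondegenerate_minusForm_of_aniso (F := F) k a b hab
  have hcardι : Fintype.card ((Fin k ⊕ Fin k) ⊕ Fin 2) = 2 * (k + 1) := card_index_minus k
  have hn : 7 ≤ Fintype.card ((Fin k ⊕ Fin k) ⊕ Fin 2) := by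
    rw [hcardι]
    omega
  obtain ⟨hcardF, hcyc⟩ := Cfsg.Agent.Helper37.OutPsl.card_ringAut hF hf
  have hφ : orderOf (frobP F p) = f := orderOf_frobP p hf hF
  have hw : minusForm k F a b (wD k a) ≠ 0 := by
    show Cfsg.quadFormMinus k F a b (wD k a) ≠ 0
    rw [quadFormMinus_wD]
    exact neg_ne_zero.2 hD0
  by_contra hσ
  -- `σ² = 1`
  have hσ2 : piHom (minusForm k F a b) x * piHom (minusForm k F a b) x = 1 := by
    have hk : x * x ∈ (psi ⇑(minusForm k F a b)).ker := by
      rw [MonoidHom.mem_ker, map_mul]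
      exact hx
    have h1 := (mem_ker_psi (minusForm k F a b) hQ hn (x * x) hk).1
    rw [← map_mul]
    exact h1
  -- `σ` is a power of the Frobenius
  have hgen : piHom (minusForm k F a b) x ∈ Subgroup.zpowers (frobP F p) := by
    have h1 : Subgroup.zpowers (frobP F p) = ⊤ := by
      apply Subgroup.eq_top_of_card_eq
      rw [Nat.card_zpowers, hφ, hcardF]
    rw [h1]
    trivial
  obtain ⟨j₀, hj₀⟩ := (Submonoid.mem_powers_iff _ _).1 (mem_powers_iff_mem_zpowers.2 hgen)
  set j := j₀ % f with hjdef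
  have hj : frobP F p ^ j = piHom (minusForm k F a b) x := by
    rw [hjdef, ← hφ, pow_mod_orderOf]
    exact hj₀
  have hjlt : j < f := Nat.mod_lt _ (by omega)
  have hj0 : j ≠ 0 := by
    intro h0
    apply hσ
    rw [h0, pow_zero] at hj
    exact hj.symm
  have hjf : j + j = f := by
    have h1 : frobP F p ^ (j + j) = 1 := by
      rw [pow_add, hj]
      exact hσ2
    have h3 : f ∣ j + j := hφ ▸ orderOf_dvd_of_pow_eq_one h1
    obtain ⟨c, hc⟩ := h3
    have hc1 : c = 1 := by
      rcases Nat.lt_or_ge c 1 with h | h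
      · have : c = 0 := by omega
        rw [this, mul_zero] at hc
        omega
      · rcases Nat.lt_or_ge c 2 with h' | h'
        · omega
        · exfalso
          have : f * 2 ≤ f * c := Nat.mul_le_mul_left f h'
          omega
    rw [hc1, mul_one] at hc
    exact hc
  -- the Frobenius pair and its `j`-th power
  set x₀ : ↥(GamO ⇑(minusForm k F a b)) :=
    ⟨frobPairP p k a b (eI_ne_zero p a b hab h2 1),
      frobPairP_mem p k a b h2 hpo (eI_ne_zero p a b hab h2 1)⟩ with hx₀
  have hr : x₀ ^ f = ofSim (minusForm k F a b)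
      (toGO (minusForm k F a b) (reflT (minusForm k F a b) (wD k a))) := by
    apply Subtype.ext
    rw [Subgroup.coe_pow]
    show frobPairP p k a b _ ^ f = _
    rw [frobPairP_pow_card p k a b hab h2 hpo hF, triGL_eq_reflT_odd k a b hD0]
    rfl
  set y : ↥(GamO ⇑(minusForm k F a b)) := x₀ ^ j with hy
  have hyy : y * y = ofSim (minusForm k F a b)
      (toGO (minusForm k F a b) (reflT (minusForm k F a b) (wD k a))) := by
    rw [hy, ← pow_add, hjf, hr]
  have hpy : piHom (minusForm k F a b) y = piHom (minusForm k F a b) x := by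
    rw [hy, map_pow, ← hj]
    rfl
  -- `x = z * y` with `z` linear
  set z : ↥(GamO ⇑(minusForm k F a b)) := x * y⁻¹ with hz
  have hzr : z.1.right = RingEquiv.refl F := by
    have h1 : piHom (minusForm k F a b) z = 1 := by
      rw [hz, map_mul, map_inv, hpy, mul_inv_cancel]
    exact h1
  set δ : ↥(Cfsg.Geo.quadSimilarityGroup (F := F) ⇑(minusForm k F a b)) :=
    ⟨z.1.left, left_mem_quadSimilarityGroup (minusForm k F a b) z hzr⟩ with hδ
  have hpz : psi ⇑(minusForm k F a b) z = conjAut ⇑(minusForm k F a b) δ :=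
    psi_eq_conjAut (minusForm k F a b) z hzr
  have hxzy : x = z * y := by
    rw [hz]
    group
  have hconj := psi_conj (minusForm k F a b) y δ
  have hyy' : psi ⇑(minusForm k F a b) y * psi ⇑(minusForm k F a b) y
      = conjAut ⇑(minusForm k F a b)
        (toGO (minusForm k F a b) (reflT (minusForm k F a b) (wD k a))) := by
    rw [← map_mul, hyy, psi_ofSim]
  have hΔ : conjAut ⇑(minusForm k F a b) (δ * conjSim (minusForm k F a b) y δ
      * toGO (minusForm k F a b) (reflT (minusForm k F a b) (wD k a))) = 1 := by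
    rw [map_mul, map_mul, ← hconj, ← hyy', ← hpz, ← hx]
    conv_rhs => rw [hxzy, map_mul]
    group
  have hker : δ * conjSim (minusForm k F a b) y δ
      * toGO (minusForm k F a b) (reflT (minusForm k F a b) (wD k a))
      ∈ (conjAut ⇑(minusForm k F a b)).ker := MonoidHom.mem_ker.2 hΔ
  rw [ker_conjAut (minusForm k F a b) hQ hn, Subgroup.mem_subgroupOf,
    mem_scalars_iff_eq_scalarGO] at hker
  obtain ⟨c, hc⟩ := hker
  have h6 := congrArg (goChar (minusForm k F a b) h2 hQ hw (k + 1) hcardι) hc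
  have h7 : toGO (minusForm k F a b) (reflT (minusForm k F a b) (wD k a))
      = reflGO (minusForm k F a b) hw := by
    apply Subtype.ext
    show ((reflT (minusForm k F a b) (wD k a)).1 : GL _ F) = (refl (minusForm k F a b) _ hw).1
    rw [reflT_of_ne _ _ hw]
  rw [goChar_scalarGO, map_mul, map_mul, goChar_conjSim, h7, goChar_reflGO] at h6
  have h8 : ∀ u : ℤˣ × ℤˣ, u * u = 1 := fun u =>
    Prod.ext (Int.units_mul_self u.1) (Int.units_mul_self u.2)
  rw [h8, one_mul] at h6
  have h9 := congrArg Prod.snd h6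
  revert h9
  decide

/-- an involution in the image of the semisimilarity group of the minus form (`q` odd) is induced by
a similarity -/
theorem involution_mem_pgoAut_minus (hodd : Odd (Fintype.card F)) {m : ℕ} (hm : 3 ≤ m) (a b : F)
    (hab : ∀ z₁ z₂ : F, z₁ ^ 2 + a * z₁ * z₂ + b * z₂ ^ 2 = 0 → z₁ = 0 ∧ z₂ = 0)
    (γ : MulAut (Cfsg.POmega F (Cfsg.quadFormMinus m F a b)))
    (hγ : γ ∈ Cfsg.gammaPOmega F (Cfsg.quadFormMinus m F a b)) (hγ2 : γ * γ = 1) :
    γ ∈ Cfsg.pgoAut F (Cfsg.quadFormMinus m F a b) := by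
  have h2 : (2 : F) ≠ 0 := two_ne_zero_of_odd_card rfl hodd
  obtain ⟨n, hprime, hcard⟩ := FiniteField.card F (ringChar F)
  have : Fact (ringChar F).Prime := ⟨hprime⟩
  have hp : ringChar F ≠ 2 := ringChar_ne_two_of_two_ne_zero h2
  have hγ' : γ ∈ Cfsg.gammaPOmega F ⇑(minusForm m F a b) := hγ
  rw [gammaPOmega_eq_range] at hγ'
  obtain ⟨x, rfl⟩ := hγ'
  have hr := right_eq_refl_of_psi_sq_eq_one n.pos hcard hp hm a b hab x hγ2
  show psi ⇑(minusForm m F a b) x ∈ Cfsg.pgoAut F ⇑(minusForm m F a b)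
  rw [← range_psi_comp_ker]
  exact ⟨⟨x, (mem_ker_piHom (minusForm m F a b) x).2 hr⟩, rfl⟩

end Cfsg.Agent.Helper12.GammaO
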