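import Mathlib
import Cfsg.Agent.Helper12.GammaOM

/-!
# Abstract group theory for `Out(PΩ⁺_{2m}(q))`, `q` odd

* a subgroup of a group of order eight containing two non-commuting elements is everything;
* a group with a normal subgroup `K`, cyclic quotient of order `f`, and an element `c` of order
  dividing `f` centralising `K` and mapping onto a generator, is `K × C_f`;
* the version with a dihedral kernel and a lift which centralises the kernel up to an involution.
-/

set_option autoImplicit false

namespace Cfsg.Agent.Helper12.GammaO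

section abstract_plus

/-- a subgroup of a group of order eight containing two non-commuting elements is the whole group -/
theorem eq_top_of_noncomm_of_card_eight {K : Type*} [Group K] (hK : Nat.card K = 8)
    (S : Subgroup K) (x d : K) (hx : x ∈ S) (hd : d ∈ S) (hxd : x * d ≠ d * x) : S = ⊤ := by
  have hfin : Finite K := Nat.finite_of_card_ne_zero (by rw [hK]; norm_num)
  have hdvd : Nat.card ↥S ∣ 8 := hK ▸ Subgroup.card_subgroup_dvd_card S
  have hcomm_absurd : (∀ a b : ↥S, a * b = b * a) → False := by
    intro h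
    have := h ⟨x, hx⟩ ⟨d, hd⟩
    exact hxd (congrArg Subtype.val this)
  have hmem : Nat.card ↥S ∈ Nat.divisors 8 := Nat.mem_divisors.2 ⟨hdvd, by norm_num⟩
  have hdiv : Nat.divisors 8 = {1, 2, 4, 8} := by decide
  rw [hdiv] at hmem
  simp only [Finset.mem_insert, Finset.mem_singleton] at hmem
  rcases hmem with h | h | h | h
  · exfalso
    apply hcomm_absurd
    intro a b
    have hsub : Subsingleton ↥S := (Nat.card_eq_one_iff_unique.1 h).1
    exact Subsingleton.elim _ _
  · exfalso
    apply hcomm_absurd
    have : Fact (Nat.Prime 2) := ⟨Nat.prime_two⟩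
    have hcyc : IsCyclic ↥S := isCyclic_of_prime_card h
    intro a b
    exact (IsCyclic.commGroup (α := ↥S)).mul_comm a b
  · exfalso
    apply hcomm_absurd
    have : Fact (Nat.Prime 2) := ⟨Nat.prime_two⟩
    exact IsPGroup.commutative_of_card_eq_prime_sq (p := 2) (by rw [h]; norm_num)
  · exact Subgroup.eq_top_of_card_eq S (by rw [h, hK])

/-- a group with a normal subgroup `K = ker t`, cyclic quotient of order `f`, and an element `c`
with `c ^ f = 1` centralising `K` and mapping onto a generator, is `K × C_f` -/
theorem nonempty_mulEquiv_prod_of_centralizing {G C D : Type*} [Group G] [Finite G] [Group C]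
    [Group D] (t : G →* C) (ht : Function.Surjective t) {f : ℕ} (hC : Nat.card C = f)
    (e : ↥t.ker ≃* D) (c : G) (htc : orderOf (t c) = f) (hcf : c ^ f = 1)
    (hcent : ∀ k ∈ t.ker, k * c = c * k) :
    Nonempty (G ≃* D × Multiplicative (ZMod f)) := by
  have hoc : orderOf c = f := by
    apply Nat.dvd_antisymm (orderOf_dvd_of_pow_eq_one hcf)
    rw [← htc]
    exact orderOf_map_dvd t c
  have hcomm : ∀ h ∈ t.ker, ∀ z ∈ Subgroup.zpowers c, h * z = z * h := by
    intro h hh z hz
    obtain ⟨n, rfl⟩ := Subgroup.mem_zpowers_iff.1 hz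
    exact ((show Commute h c from hcent h hh).zpow_right n).eq
  have hdisj : t.ker ⊓ Subgroup.zpowers c = ⊥ := by
    rw [eq_bot_iff]
    rintro x ⟨hx1, hx2⟩
    obtain ⟨n, rfl⟩ := Subgroup.mem_zpowers_iff.1 hx2
    rw [Subgroup.mem_bot]
    have h1 : t c ^ n = 1 := by
      rw [← map_zpow]
      exact hx1
    have h2 : (orderOf (t c) : ℤ) ∣ n := orderOf_dvd_iff_zpow_eq_one.2 h1
    rw [htc, ← hoc] at h2
    exact orderOf_dvd_iff_zpow_eq_one.1 h2
  have hZ : Nat.card ↥(Subgroup.zpowers c) = f := by
    rw [Nat.card_zpowers, hoc]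
  have hG : Nat.card ↥t.ker * Nat.card ↥(Subgroup.zpowers c) = Nat.card G := by
    have h1 := Subgroup.card_mul_index t.ker
    rw [Subgroup.index_ker, MonoidHom.range_eq_top.2 ht, Subgroup.card_top, hC] at h1
    rw [hZ]
    exact h1
  obtain ⟨e1⟩ := nonempty_mulEquiv_prod_of_commute t.ker (Subgroup.zpowers c) hcomm hdisj hG
  have hcyc : IsCyclic ↥(Subgroup.zpowers c) := inferInstance
  have e2 := zmodCyclicMulEquiv hcyc
  rw [hZ] at e2
  exact ⟨e1.trans (MulEquiv.prodCongr e e2.symm)⟩

/-- a group with a normal dihedral subgroup `K` of order eight generated by `x`, `d`, cyclic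
quotient of order `f`, and a lift `g` of a generator with `g ^ f = 1` which centralises `x` and
either centralises `d` or (`f` even) acts on `d` as `x` does -/
theorem nonempty_mulEquiv_dihedral_prod_of_lift {G C : Type*} [Group G] [Finite G] [Group C]
    (t : G →* C) (ht : Function.Surjective t) {f : ℕ} (hC : Nat.card C = f)
    (e : ↥t.ker ≃* DihedralGroup 4) (g x d : G) (hg : orderOf (t g) = f) (hgf : g ^ f = 1)
    (hx : x ∈ t.ker) (hd : d ∈ t.ker) (hxx : x * x = 1) (hxd : x * d ≠ d * x)
    (hgx : g * x = x * g)
    (hgd : g * d * g⁻¹ = d ∨ (g * d * g⁻¹ = x * d * x⁻¹ ∧ Even f)) :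
    Nonempty (G ≃* DihedralGroup 4 × Multiplicative (ZMod f)) := by
  have hK8 : Nat.card ↥t.ker = 8 := by
    rw [Nat.card_congr e.toEquiv, DihedralGroup.nat_card]
  -- it suffices to find `c` commuting with `x` and `d`
  have key : ∀ c : G, orderOf (t c) = f → c ^ f = 1 → x * c = c * x → d * c = c * d →
      Nonempty (G ≃* DihedralGroup 4 × Multiplicative (ZMod f)) := by
    intro c htc hcf hcx hcd
    apply nonempty_mulEquiv_prod_of_centralizing t ht hC e c htc hcf
    set S : Subgroup ↥t.ker :=
      { carrier := {k | k.1 * c = c * k.1}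
        one_mem' := by simp
        mul_mem' := fun {a b} ha hb => by
          simp only [Set.mem_ofPred_eq] at ha hb ⊢
          rw [Subgroup.coe_mul, mul_assoc, hb, ← mul_assoc, ha, mul_assoc]
        inv_mem' := fun {a} ha => by
          simp only [Set.mem_ofPred_eq] at ha ⊢
          rw [Subgroup.coe_inv]
          calc a.1⁻¹ * c = a.1⁻¹ * (c * a.1) * a.1⁻¹ := by group
            _ = a.1⁻¹ * (a.1 * c) * a.1⁻¹ := by rw [ha]
            _ = c * a.1⁻¹ := by group } with hS
    have hStop : S = ⊤ := by
      apply eq_top_of_noncomm_of_card_eight hK8 S ⟨x, hx⟩ ⟨d, hd⟩ hcx hcd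
      intro h
      exact hxd (congrArg Subtype.val h)
    intro k hk
    have : (⟨k, hk⟩ : ↥t.ker) ∈ S := by
      rw [hStop]
      trivial
    exact this
  rcases hgd with h | ⟨h, hfe⟩
  · apply key g hg hgf hgx.symm
    calc d * g = (g * d * g⁻¹) * g := by rw [h]
      _ = g * d := by group
  · have hxinv : x⁻¹ = x := inv_eq_of_mul_eq_one_left hxx
    apply key (x * g)
    · rw [map_mul, MonoidHom.mem_ker.1 hx, one_mul]
      exact hg
    · have hcomm : Commute x g := hgx.symm
      rw [hcomm.mul_pow, hgf, mul_one]
      obtain ⟨j, rfl⟩ := hfe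
      rw [pow_add, ← pow_add, ← two_mul, pow_mul, pow_two, hxx, one_pow]
    · rw [mul_assoc x g x, hgx]
    · have h1 : g * d = x * d * x * g := by
        calc g * d = (g * d * g⁻¹) * g := by group
          _ = x * d * x * g := by rw [h, hxinv]
      calc d * (x * g) = (x * x) * d * x * g := by rw [hxx]; group
        _ = x * (x * d * x * g) := by group
        _ = x * g * d := by rw [← h1]; group

end abstract_plus

end Cfsg.Agent.Helper12.GammaO
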