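import Mathlib
import Cfsg.Agent.Helper12.GammaOQ
import Cfsg.Agent.Helper12.GammaOS
import Cfsg.Agent.Helper44.SwapOmega
import Cfsg.Agent.Helper44.InndiagPlus
import Cfsg.Agent.S2724

/-!
# `Out(PΩ⁺_{2m}(q))`, `q` odd, `m ≥ 5`, conditional on `gammaPOmega = ⊤`

`C₂ × C₂ × C_f` if `q ≡ 3 (mod 4)` and `m` is odd, `D₈ × C_f` otherwise.
-/

set_option autoImplicit false
set_option linter.unusedSectionVars false

namespace Cfsg.Agent.Helper12.GammaO

open Matrix Module QuadraticMap Cfsg.Agent.Helper44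

variable {F : Type*} [Field F]

section kappa

variable {ι : Type} [Fintype ι] [DecidableEq ι] (Q : QuadraticForm F (ι → F))

/-- the image of a similarity in `Out(PΩ)` -/
noncomputable def kap : ↥(Cfsg.Geo.quadSimilarityGroup (F := F) ⇑Q) →*
    Cfsg.Out (Cfsg.POmega F ⇑Q) :=
  (QuotientGroup.mk' (Cfsg.Inn (Cfsg.POmega F ⇑Q))).comp (conjAut ⇑Q)

theorem kap_apply (δ : ↥(Cfsg.Geo.quadSimilarityGroup (F := F) ⇑Q)) :
    kap Q δ = QuotientGroup.mk (conjAut ⇑Q δ) := rfl

theorem kap_eq_one_iff (δ : ↥(Cfsg.Geo.quadSimilarityGroup (F := F) ⇑Q)) :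
    kap Q δ = 1 ↔ conjAut ⇑Q δ ∈ Cfsg.Inn (Cfsg.POmega F ⇑Q) := by
  rw [kap_apply]
  exact QuotientGroup.eq_one_iff _

theorem kap_scalarGO (c : Fˣ) : kap Q (scalarGO Q c) = 1 := by
  rw [kap_eq_one_iff]
  have hk : scalarGO Q c ∈ (conjAut ⇑Q).ker :=
    mem_ker_of_mem_scalars ⇑Q _ (scalarGO_mem_scalars Q c)
  rw [MonoidHom.mem_ker.1 hk]
  exact one_mem _

variable [Fintype F] (hQ : (QuadraticMap.polarBilin Q).Nondegenerate) (hn : 7 ≤ Fintype.card ι)
  (htop : Cfsg.gammaPOmega F ⇑Q = ⊤)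

theorem kap_mem_ker (δ : ↥(Cfsg.Geo.quadSimilarityGroup (F := F) ⇑Q)) :
    kap Q δ ∈ (tauOut Q hQ hn htop).ker := by
  rw [MonoidHom.mem_ker, kap_apply, tauOut_mk, ← psi_ofSim, tau_psi]
  rfl

include hQ hn in
theorem kap_toGO_eq_one_iff (hneg : negOne Q ∈ Cfsg.Omega F ⇑Q)
    (x : ↥(Cfsg.isometryGroup F ⇑Q)) : kap Q (toGO Q x) = 1 ↔ x ∈ Cfsg.Omega F ⇑Q := by
  rw [kap_eq_one_iff, conjAut_toGO_mem_Inn_iff Q hQ hn hneg]

variable (hstd : ∀ σ : F ≃+* F, Cfsg.IsSemisimilarityPair ⇑Q (1 : GL ι F) σ)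

theorem coe_conjSim_stdField (σ : F ≃+* F)
    (δ : ↥(Cfsg.Geo.quadSimilarityGroup (F := F) ⇑Q)) :
    ((conjSim Q (stdField Q hstd σ) δ : ↥(Cfsg.Geo.quadSimilarityGroup (F := F) ⇑Q)) : GL ι F)
      = glMap σ δ.1 := by
  rw [coe_conjSim, conjLeft_eq]
  show (1 : GL ι F) * glMap σ δ.1 * (1 : GL ι F)⁻¹ = _
  rw [one_mul, inv_one, mul_one]

theorem secOut_conj (σ : F ≃+* F) (δ : ↥(Cfsg.Geo.quadSimilarityGroup (F := F) ⇑Q)) :
    secOut Q hstd σ * kap Q δ * (secOut Q hstd σ)⁻¹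
      = kap Q (conjSim Q (stdField Q hstd σ) δ) := by
  rw [kap_apply, kap_apply, ← psi_conj]
  rfl

theorem secOut_conj_of_eq (σ : F ≃+* F) (δ δ' : ↥(Cfsg.Geo.quadSimilarityGroup (F := F) ⇑Q))
    (h : glMap σ δ.1 = δ'.1) :
    secOut Q hstd σ * kap Q δ * (secOut Q hstd σ)⁻¹ = kap Q δ' := by
  rw [secOut_conj]
  congr 1
  apply Subtype.ext
  rw [coe_conjSim_stdField, h]

end kappa

section plus

variable {m : ℕ}

/-- the coordinatewise field automorphism is a semisimilarity of the standard plus form -/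
theorem isSemisimilarityPair_plusForm (m : ℕ) (σ : F ≃+* F) :
    Cfsg.IsSemisimilarityPair (Cfsg.quadFormPlus m F) (1 : GL (Fin m ⊕ Fin m) F) σ := by
  refine ⟨1, fun v => ?_⟩
  rw [Units.val_one, Units.val_one, Matrix.one_mulVec, one_mul]
  unfold Cfsg.quadFormPlus
  simp only [map_sum, map_mul]

theorem card_index_plus (m : ℕ) : Fintype.card (Fin m ⊕ Fin m) = 2 * m := by
  rw [Fintype.card_sum, Fintype.card_fin]
  omega

/-- the reflection swapping `e_i` and `f_i` -/
noncomputable def swapAt (i : Fin m) : ↥(Cfsg.isometryGroup F ⇑(plusForm m F)) :=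
  refl (plusForm m F) (uVec m F i) (plusForm_uVec_ne_zero i)

theorem swapAt_mulVec (i : Fin m) (v : Fin m ⊕ Fin m → F) :
    (((swapAt i : ↥(Cfsg.isometryGroup F ⇑(plusForm m F))) : GL (Fin m ⊕ Fin m) F) :
      Matrix (Fin m ⊕ Fin m) (Fin m ⊕ Fin m) F) *ᵥ v
      = fun c => v (Equiv.swap (Sum.inl i) (Sum.inr i) c) := by
  unfold swapAt
  rw [refl_coe]
  exact (isHypPair_plusForm m i).reflection_sub_mulVec v

theorem swapAt_mul_self (i : Fin m) :
    (swapAt i : ↥(Cfsg.isometryGroup F ⇑(plusForm m F))) * swapAt i = 1 :=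
  refl_mul_self _ _ _

theorem swapAt_apply (i : Fin m) (a b : Fin m ⊕ Fin m) :
    (((swapAt i : ↥(Cfsg.isometryGroup F ⇑(plusForm m F))) : GL (Fin m ⊕ Fin m) F) :
      Matrix (Fin m ⊕ Fin m) (Fin m ⊕ Fin m) F) a b
      = if Equiv.swap (Sum.inl i) (Sum.inr i) a = b then 1 else 0 := by
  have h := congrFun (swapAt_mulVec (F := F) i (Pi.single b 1)) a
  rw [Matrix.mulVec_single_one] at h
  rw [show (((swapAt i : ↥(Cfsg.isometryGroup F ⇑(plusForm m F))) : GL (Fin m ⊕ Fin m) F) :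
      Matrix (Fin m ⊕ Fin m) (Fin m ⊕ Fin m) F) a b = (((swapAt i :
      ↥(Cfsg.isometryGroup F ⇑(plusForm m F))) : GL (Fin m ⊕ Fin m) F) :
      Matrix (Fin m ⊕ Fin m) (Fin m ⊕ Fin m) F).col b a from rfl, h, Pi.single_apply]

theorem glMap_swapAt (σ : F ≃+* F) (i : Fin m) :
    glMap σ ((swapAt i : ↥(Cfsg.isometryGroup F ⇑(plusForm m F))) : GL (Fin m ⊕ Fin m) F)
      = ((swapAt i : ↥(Cfsg.isometryGroup F ⇑(plusForm m F))) : GL (Fin m ⊕ Fin m) F) := by
  apply Units.ext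
  ext a b
  rw [coe_glMap, Matrix.map_apply, swapAt_apply]
  split_ifs
  · exact map_one σ
  · exact map_zero σ

theorem glMap_deltaGL (σ : F ≃+* F) (ν : Fˣ) :
    glMap σ (deltaGL m ν) = deltaGL m (Units.map (σ : F →+* F).toMonoidHom ν) := by
  apply Units.ext
  ext a b
  rw [coe_glMap, Matrix.map_apply]
  show σ (deltaMat m (ν : F) a b) = deltaMat m (σ (ν : F)) a b
  unfold deltaMat
  rcases a with a | a <;> rcases b with b | b <;>
    simp [Matrix.one_apply, apply_ite σ]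

theorem deltaGO_mul (a b : Fˣ) : deltaGO m (a * b) = deltaGO m a * deltaGO m b := by
  apply Subtype.ext
  apply Units.ext
  show deltaMat m ((a * b : Fˣ) : F) = deltaMat m (a : F) * deltaMat m (b : F)
  rw [deltaMat_mul, Units.val_mul]

/-- conjugating `diag(ν I, I)` by the reflection swapping `e_i` and `f_i` -/
theorem swapAt_conj_deltaGO (i : Fin m) (ν : Fˣ) :
    toGO (plusForm m F) (swapAt i) * deltaGO m ν * toGO (plusForm m F) (swapAt i)
      = toGO (plusForm m F) (plusEmbed (diagAt i ((ν⁻¹ : Fˣ) : F) (ν⁻¹).ne_zero)) * deltaGO m ν := by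
  apply Subtype.ext
  apply Units.ext
  apply Matrix.mulVec_injective
  funext v
  show (((swapAt i : ↥(Cfsg.isometryGroup F ⇑(plusForm m F))).1 * deltaGL m ν
      * (swapAt i : ↥(Cfsg.isometryGroup F ⇑(plusForm m F))).1 : GL (Fin m ⊕ Fin m) F) :
        Matrix (Fin m ⊕ Fin m) (Fin m ⊕ Fin m) F) *ᵥ v
    = (((plusEmbed (diagAt i ((ν⁻¹ : Fˣ) : F) (ν⁻¹).ne_zero) :
        Cfsg.isometryGroup F (quadFormPlus m F)).1 * deltaGL m ν : GL (Fin m ⊕ Fin m) F) :
        Matrix (Fin m ⊕ Fin m) (Fin m ⊕ Fin m) F) *ᵥ v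
  rw [Units.val_mul, Units.val_mul, Units.val_mul, ← Matrix.mulVec_mulVec,
    ← Matrix.mulVec_mulVec, ← Matrix.mulVec_mulVec, swapAt_mulVec, deltaGL_mulVec, swapAt_mulVec,
    deltaGL_mulVec, plusEmbed_diagAt_coe]
  funext c
  rw [Matrix.mulVec_diagonal]
  have hν : ((ν⁻¹ : Fˣ) : F) * (ν : F) = 1 := by rw [← Units.val_mul, inv_mul_cancel, Units.val_one]
  have hν' : (((ν⁻¹ : Fˣ) : F))⁻¹ = (ν : F) := by rw [Units.val_inv_eq_inv_val, inv_inv]
  rw [hν']
  rcases c with c | c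
  · by_cases hc : c = i
    · subst hc
      simp [Equiv.swap_apply_left]
    · have h1 : Equiv.swap (Sum.inl i) (Sum.inr i) (Sum.inl c) = Sum.inl c :=
        Equiv.swap_apply_of_ne_of_ne (by simpa using hc) (by simp)
      simp [h1, hc]
  · by_cases hc : c = i
    · subst hc
      simp [Equiv.swap_apply_right]
    · have h1 : Equiv.swap (Sum.inl i) (Sum.inr i) (Sum.inr c) = Sum.inr c :=
        Equiv.swap_apply_of_ne_of_ne (by simp) (by simpa using hc)
      simp [h1, hc]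

theorem det_scalarGL (c : Fˣ) :
    Matrix.GeneralLinearGroup.det
      (Matrix.GeneralLinearGroup.scalar (Fin m) c : GL (Fin m) F) = c ^ m := by
  apply Units.ext
  rw [Matrix.GeneralLinearGroup.val_det_apply, Matrix.GeneralLinearGroup.coe_scalar,
    Matrix.scalar_apply, Matrix.det_diagonal, Finset.prod_const, Finset.card_univ,
    Fintype.card_fin, Units.val_pow_eq_pow_val]

/-- the image of `diag(A, A⁻ᵀ)` in `Out(PΩ⁺)` -/
noncomputable def kapEmbed (m : ℕ) (F : Type*) [Field F] :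
    GL (Fin m) F →* Cfsg.Out (Cfsg.POmega F ⇑(plusForm m F)) :=
  (kap (plusForm m F)).comp ((toGO (plusForm m F)).comp (plusEmbed (F := F) (m := m)))

theorem kapEmbed_apply (A : GL (Fin m) F) :
    kapEmbed m F A = kap (plusForm m F) (toGO (plusForm m F) (plusEmbed A)) := rfl

theorem kapEmbed_eq_one_iff [Fintype F] (hm : 4 ≤ m)
    (hneg : negOne (plusForm m F) ∈ Cfsg.Omega F ⇑(plusForm m F)) (A : GL (Fin m) F) :
    kapEmbed m F A = 1 ↔ IsSquare ((Matrix.GeneralLinearGroup.det A : Fˣ) : F) := by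
  have hQ := nondegenerate_plusForm (F := F) m
  have hn : 7 ≤ Fintype.card (Fin m ⊕ Fin m) := by
    rw [card_index_plus]
    omega
  rw [Matrix.GeneralLinearGroup.val_det_apply,
    ← plusEmbed_mem_Omega_iff (by omega) (Or.inr (by omega)) A]
  exact kap_toGO_eq_one_iff (plusForm m F) hQ hn hneg (plusEmbed A)

end plus

theorem pow_mod_four_of_odd {p f : ℕ} (hp : p % 4 = 3) (hf : Odd f) : p ^ f % 4 = 3 := by
  obtain ⟨j, rfl⟩ := hf
  have h1 : p ^ 2 % 4 = 1 := by
    rw [pow_two, Nat.mul_mod, hp]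
  rw [pow_succ, pow_mul, Nat.mul_mod, Nat.pow_mod, h1, one_pow, hp]
  norm_num

section main

variable [Fintype F]

/-- `Out(PΩ⁺_{2m}(q))`, `q` odd, `m ≥ 5`, if all automorphisms come from semisimilarities -/
theorem out_plusForm_odd {p f m : ℕ} [Fact p.Prime] (hf : 1 ≤ f)
    (hF : Fintype.card F = p ^ f) (hp : p ≠ 2) (hm : 5 ≤ m)
    (htop : Cfsg.gammaPOmega F (Cfsg.quadFormPlus m F) = ⊤) :
    if p ^ f % 4 = 3 ∧ Odd m then
      Nonempty (Cfsg.Out (Cfsg.POmega F (Cfsg.quadFormPlus m F))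
        ≃* Multiplicative (ZMod 2 × ZMod 2 × ZMod f))
    else
      Nonempty (Cfsg.Out (Cfsg.POmega F (Cfsg.quadFormPlus m F))
        ≃* DihedralGroup 4 × Multiplicative (ZMod f)) := by
  have hpo : Odd p := (Fact.out : p.Prime).odd_of_ne_two hp
  have hq : Odd (Fintype.card F) := by
    rw [hF]
    exact hpo.pow
  have h2 : (2 : F) ≠ 0 := two_ne_zero_of_odd_card rfl hq
  have hchar : CharP F p := charP_of_card_eq_prime_pow hF
  have hQ := nondegenerate_plusForm (F := F) m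
  have hcardι : Fintype.card (Fin m ⊕ Fin m) = 2 * m := card_index_plus m
  have hn : 7 ≤ Fintype.card (Fin m ⊕ Fin m) := by
    rw [hcardι]
    omega
  have htop' : Cfsg.gammaPOmega F ⇑(plusForm m F) = ⊤ := htop
  obtain ⟨hcardF, hcyc⟩ := Cfsg.Agent.Helper37.OutPsl.card_ringAut hF hf
  have hstd : ∀ σ : F ≃+* F, Cfsg.IsSemisimilarityPair ⇑(plusForm m F)
      (1 : GL (Fin m ⊕ Fin m) F) σ := fun σ => isSemisimilarityPair_plusForm m σ
  have hσ : ∀ σ : F ≃+* F, ∃ g : GL (Fin m ⊕ Fin m) F,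
      Cfsg.IsSemisimilarityPair ⇑(plusForm m F) g σ := fun σ => ⟨1, hstd σ⟩
  have hsurj : Function.Surjective (tauOut (plusForm m F) hQ hn htop') := fun σ =>
    ⟨secOut (plusForm m F) hstd σ, tauOut_secOut (plusForm m F) hQ hn htop' hstd σ⟩
  have hcrit := exists_neg_one_mem_Omega_plus_iff (F := F) rfl hq m
  have hiff : negOne (plusForm m F) ∈ Cfsg.Omega F (Cfsg.quadFormPlus m F)
      ↔ ¬ (Odd m ∧ Fintype.card F % 4 = 3) := by
    rw [← pow_mod_four_eq_one_iff _ _ hq, ← hcrit]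
    exact negOne_mem_iff (plusForm m F)
  set i₀ : Fin m := ⟨0, by omega⟩ with hi₀
  have ht : plusForm m F (uVec m F i₀) ≠ 0 := plusForm_uVec_ne_zero i₀
  by_cases hc : p ^ f % 4 = 3 ∧ Odd m
  · -- the abelian case
    rw [if_pos hc]
    have hc' : Odd m ∧ Fintype.card F % 4 = 3 := ⟨hc.2, by rw [hF]; exact hc.1⟩
    obtain ⟨φ, hs, hkφ⟩ := (Cfsg.Agent.S2724.result hq (by omega : 4 ≤ m)).1 hc'
    have hneg : negOne (plusForm m F) ∉ Cfsg.Omega F ⇑(plusForm m F) :=
      fun h => (hiff.1 h) hc'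
    obtain ⟨e⟩ := nonempty_ker_tauOut_equiv (plusForm m F) hQ hn htop' φ hs hkφ
    have hcomm : ∀ x y : Cfsg.Out (Cfsg.POmega F ⇑(plusForm m F)), x * y = y * x :=
      commutative_of_cyclic_center_quotient (tauOut (plusForm m F) hQ hn htop')
        (ker_tauOut_le_center (plusForm m F) h2 hQ ht m hcardι hn htop' hneg)
    obtain ⟨e1⟩ := nonempty_mulEquiv_ker_prod hcomm (tauOut (plusForm m F) hQ hn htop')
      (secOut (plusForm m F) hstd) (tauOut_secOut (plusForm m F) hQ hn htop' hstd)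
    obtain ⟨g⟩ := Cfsg.Agent.Helper37.OutPsl.nonempty_galIso hF hf
    exact ⟨((e1.trans (MulEquiv.prodCongr e g)).trans
      (MulEquiv.prodMultiplicative (ZMod 2 × ZMod 2) (ZMod f)).symm).trans
        (AddEquiv.toMultiplicative AddEquiv.prodAssoc)⟩
  · -- the dihedral case
    rw [if_neg hc]
    have hc' : ¬ (Odd m ∧ Fintype.card F % 4 = 3) := fun h => hc ⟨by rw [← hF]; exact h.2, h.1⟩
    obtain ⟨φ, hs, hkφ⟩ := (Cfsg.Agent.S2724.result hq (by omega : 4 ≤ m)).2 hc'
    have hneg : negOne (plusForm m F) ∈ Cfsg.Omega F ⇑(plusForm m F) := hiff.2 hc'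
    obtain ⟨e⟩ := nonempty_ker_tauOut_equiv (plusForm m F) hQ hn htop' φ hs hkφ
    have h0 := card_mulAut_of_gamma_eq_top (plusForm m F) hQ hn hσ htop'
    have hfinA : Finite (MulAut (Cfsg.POmega F ⇑(plusForm m F))) := by
      apply Nat.finite_of_card_ne_zero
      rw [h0, hcardF, card_pgoAut_of_hom (plusForm m F) h2 hQ hn φ hs hkφ,
        DihedralGroup.nat_card]
      have hpos : 0 < Nat.card (Cfsg.POmega F ⇑(plusForm m F)) := Nat.card_pos
      have : 0 < f * (2 * 4 * Nat.card (Cfsg.POmega F ⇑(plusForm m F))) := by positivity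
      exact this.ne'
    obtain ⟨ν, hν⟩ := FiniteField.exists_nonsquare (F := F) (ringChar_ne_two_of_two_ne_zero h2)
    have hν0 : ν ≠ 0 := by
      rintro rfl
      exact hν ⟨0, by simp⟩
    set u : Fˣ := Units.mk0 ν hν0 with hu
    have huν : (u : F) = ν := Units.val_mk0 hν0
    set g : Cfsg.Out (Cfsg.POmega F ⇑(plusForm m F)) :=
      secOut (plusForm m F) hstd (frobP F p) with hg
    set x : Cfsg.Out (Cfsg.POmega F ⇑(plusForm m F)) :=
      kap (plusForm m F) (toGO (plusForm m F) (swapAt i₀)) with hx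
    set d : Cfsg.Out (Cfsg.POmega F ⇑(plusForm m F)) :=
      kap (plusForm m F) (deltaGO m u) with hd
    set y : Cfsg.Out (Cfsg.POmega F ⇑(plusForm m F)) :=
      kapEmbed m F (diagAt i₀ ((u⁻¹ : Fˣ) : F) (u⁻¹).ne_zero) with hy
    have hdB : Matrix.GeneralLinearGroup.det (diagAt i₀ ((u⁻¹ : Fˣ) : F) (u⁻¹).ne_zero)
        = u⁻¹ := by
      apply Units.ext
      rw [Matrix.GeneralLinearGroup.val_det_apply]
      exact det_diagAt _ _ _
    have hxx : x * x = 1 := by
      rw [hx, ← map_mul, ← map_mul, swapAt_mul_self, map_one, map_one]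
    have hxdx : x * d * x = y * d := by
      rw [hx, hd, hy, kapEmbed_apply, ← map_mul, ← map_mul, swapAt_conj_deltaGO, map_mul]
    have hxinv : x⁻¹ = x := inv_eq_of_mul_eq_one_left hxx
    have hy1 : y ≠ 1 := by
      intro h
      rw [hy, kapEmbed_eq_one_iff (by omega) hneg, hdB] at h
      apply hν
      obtain ⟨r, hr⟩ := h
      refine ⟨r⁻¹, ?_⟩
      rw [← huν, ← mul_inv, ← hr, Units.val_inv_eq_inv_val, inv_inv]
    apply nonempty_mulEquiv_dihedral_prod_of_lift (tauOut (plusForm m F) hQ hn htop') hsurj hcardF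
      e g x d
    · rw [hg, tauOut_secOut]
      exact orderOf_frobP p hf hF
    · rw [hg, ← map_pow, frobP_pow_card p hF, map_one]
    · exact kap_mem_ker (plusForm m F) hQ hn htop' _
    · exact kap_mem_ker (plusForm m F) hQ hn htop' _
    · exact hxx
    · intro h
      apply hy1
      have h1 : x * d * x = d := by rw [h, mul_assoc, hxx, mul_one]
      rw [h1] at hxdx
      exact (mul_eq_right.1 hxdx.symm)
    · have h1 := secOut_conj_of_eq (plusForm m F) hstd (frobP F p)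
        (toGO (plusForm m F) (swapAt i₀)) (toGO (plusForm m F) (swapAt i₀)) (glMap_swapAt _ _)
      calc g * x = (g * x * g⁻¹) * g := by group
        _ = x * g := by rw [hg, hx, h1]
    · have hgd : g * d * g⁻¹ = kap (plusForm m F)
          (deltaGO m (Units.map ((frobP F p : F ≃+* F) : F →+* F).toMonoidHom u)) :=
        secOut_conj_of_eq (plusForm m F) hstd (frobP F p) (deltaGO m u) _ (glMap_deltaGL _ _)
      have hup : Units.map ((frobP F p : F ≃+* F) : F →+* F).toMonoidHom u = u ^ p := by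
        apply Units.ext
        rw [Units.val_pow_eq_pow_val]
        rfl
      obtain ⟨k, hk⟩ := hpo
      set c : Fˣ := u ^ k with hcdef
      have h4 : u ^ p = (c * c) * u := by
        rw [hk, hcdef, pow_succ, two_mul, pow_add]
      have h5 : g * d * g⁻¹ = kapEmbed m F (Matrix.GeneralLinearGroup.scalar (Fin m) c) * d := by
        rw [hgd, hup, h4, deltaGO_mul, deltaGO_mul, deltaGO_mul_self, map_mul, map_mul,
          kap_scalarGO, one_mul]
        rfl
      have hdetA : Matrix.GeneralLinearGroup.det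
          (Matrix.GeneralLinearGroup.scalar (Fin m) c : GL (Fin m) F) = c ^ m := det_scalarGL c
      have hcm : ((c ^ m : Fˣ) : F) = ν ^ (k * m) := by
        rw [hcdef, Units.val_pow_eq_pow_val, Units.val_pow_eq_pow_val, huν, pow_mul]
      by_cases hsq : IsSquare ((c ^ m : Fˣ) : F)
      · left
        rw [h5, (kapEmbed_eq_one_iff (by omega) hneg _).2 (by rw [hdetA]; exact hsq), one_mul]
      · right
        constructor
        · rw [hxinv, hxdx, h5]
          congr 1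
          -- the two elements of `PSO / Inn` agree
          rw [← mul_inv_eq_one, hy, ← map_inv, ← map_mul,
            kapEmbed_eq_one_iff (by omega) hneg, map_mul, map_inv, hdetA, hdB, inv_inv,
            Units.val_mul, huν,
            isSquare_mul_nonsquare_iff (c ^ m).ne_zero hν]
          exact hsq
        · by_contra hfo
          rw [Nat.not_even_iff_odd] at hfo
          rw [hcm, isSquare_nonsquare_pow_iff hν, Nat.not_even_iff_odd, Nat.odd_mul] at hsq
          apply hc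
          refine ⟨pow_mod_four_of_odd ?_ hfo, hsq.2⟩
          obtain ⟨j, hj⟩ := hsq.1
          omega

end main

end Cfsg.Agent.Helper12.GammaO
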