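import Mathlib

/-!
# Piece (KA1) of S4501 (helper54's plan, board #8177)
-/

set_option autoImplicit false

namespace Cfsg.Agent.Helper12.K4

/-- a natural number all of whose prime divisors are equal to the prime `q` is a power of `q` -/
theorem k4_eq_pow_of_primes (m q : ℕ) (hm : m ≠ 0) (h : ∀ ℓ : ℕ, ℓ.Prime → ℓ ∣ m → ℓ = q) :
    ∃ k : ℕ, m = q ^ k :=
  ⟨_, Nat.eq_prime_pow_of_unique_prime_dvd hm (fun {d} hd hdm => h d hd hdm)⟩

/-- (KA1) shape of a degree `d` with `d + s = 2 (mod 4)` a `{2,p,q}`-number -/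
theorem shape_of_dvd (p q a b d : ℕ) (s : ℤ) (hp : p.Prime) (hq : q.Prime) (hpq : p ≠ q)
    (hp2 : p ≠ 2) (hq2 : q ≠ 2) (hs : s = 1 ∨ s = -1) (hd : 2 ≤ d) (hdd : d ∣ p ^ a * q ^ b)
    (h4 : (4 : ℤ) ∣ (d : ℤ) - s)
    (hprimes : ∀ ℓ : ℕ, ℓ.Prime → (ℓ : ℤ) ∣ (d : ℤ) + s → ℓ = 2 ∨ ℓ = p ∨ ℓ = q) :
    (∃ x k : ℕ, 1 ≤ x ∧ d = p ^ x ∧ (d : ℤ) + s = 2 * (q : ℤ) ^ k) ∨
    (∃ y k : ℕ, 1 ≤ y ∧ d = q ^ y ∧ (d : ℤ) + s = 2 * (p : ℤ) ^ k) := by
  have hp3 : 3 ≤ p := by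
    have := hp.two_le
    omega
  have hq3 : 3 ≤ q := by
    have := hq.two_le
    omega
  -- `d = p ^ x * q ^ y`
  obtain ⟨d1, d2, hd1, hd2, hdeq⟩ := (Nat.dvd_mul).mp hdd
  obtain ⟨x, -, rfl⟩ := (Nat.dvd_prime_pow hp).mp hd1
  obtain ⟨y, -, rfl⟩ := (Nat.dvd_prime_pow hq).mp hd2
  -- `e = d + s = 2 m`, `m` odd
  obtain ⟨e, he⟩ : ∃ e : ℕ, (e : ℤ) = (d : ℤ) + s := by
    rcases hs with rfl | rfl
    · exact ⟨d + 1, by push_cast; ring⟩
    · exact ⟨d - 1, by omega⟩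
  have he2 : e % 4 = 2 := by
    obtain ⟨c, hc⟩ := h4
    rcases hs with rfl | rfl <;> omega
  obtain ⟨m, hm⟩ : ∃ m, e = 2 * m := ⟨e / 2, by omega⟩
  have hmodd : m % 2 = 1 := by omega
  have hm0 : m ≠ 0 := by omega
  have hes : e = d + 1 ∨ e + 1 = d := by
    rcases hs with rfl | rfl
    · left; omega
    · right; omega
  -- a prime dividing `d` does not divide `m`
  have hnd : ∀ ℓ : ℕ, ℓ.Prime → ℓ ∣ d → ¬ ℓ ∣ m := by
    intro ℓ hℓ hℓd hℓm
    have hℓe : ℓ ∣ e := by rw [hm]; exact Dvd.dvd.mul_left hℓm 2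
    have : ℓ ∣ 1 := by
      rcases hes with h | h
      · rw [h] at hℓe
        exact (Nat.dvd_add_right hℓd).mp hℓe
      · rw [← h] at hℓd
        exact (Nat.dvd_add_right hℓe).mp hℓd
    exact hℓ.one_lt.ne' (Nat.dvd_one.mp this)
  have hmprimes : ∀ ℓ : ℕ, ℓ.Prime → ℓ ∣ m → ℓ = p ∨ ℓ = q := by
    intro ℓ hℓ hℓm
    have h1 : (ℓ : ℤ) ∣ (d : ℤ) + s := by
      rw [← he, hm]
      exact_mod_cast Dvd.dvd.mul_left hℓm 2
    rcases hprimes ℓ hℓ h1 with h | h | h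
    · subst h
      obtain ⟨c, hc⟩ := hℓm
      omega
    · left; exact h
    · right; exact h
  have hfin : (d : ℤ) + s = 2 * (m : ℤ) := by
    rw [← he, hm]; push_cast; ring
  by_cases hx : x = 0
  · -- `d = q ^ y`
    subst hx
    rw [pow_zero, one_mul] at hdeq
    have hy : 1 ≤ y := by
      by_contra hcon
      have : y = 0 := by omega
      subst this
      rw [pow_zero] at hdeq
      omega
    have hqd : q ∣ d := by
      rw [← hdeq]; exact dvd_pow_self q (by omega)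
    obtain ⟨k, hk⟩ := k4_eq_pow_of_primes m p hm0 (fun ℓ hℓ hℓm => by
      rcases hmprimes ℓ hℓ hℓm with h | h
      · exact h
      · exfalso; subst h; exact hnd _ hℓ hqd hℓm)
    right
    refine ⟨y, k, hy, hdeq.symm, ?_⟩
    rw [hfin, hk]; push_cast; ring
  · have hx1 : 1 ≤ x := by omega
    have hpd : p ∣ d := by
      rw [← hdeq]; exact Dvd.dvd.mul_right (dvd_pow_self p (by omega)) _
    by_cases hy : y = 0
    · subst hy
      rw [pow_zero, mul_one] at hdeq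
      obtain ⟨k, hk⟩ := k4_eq_pow_of_primes m q hm0 (fun ℓ hℓ hℓm => by
        rcases hmprimes ℓ hℓ hℓm with h | h
        · exfalso; subst h; exact hnd _ hℓ hpd hℓm
        · exact h)
      left
      refine ⟨x, k, hx1, hdeq.symm, ?_⟩
      rw [hfin, hk]; push_cast; ring
    · -- both `p` and `q` divide `d`: `m = 1`, impossible
      exfalso
      have hqd : q ∣ d := by
        rw [← hdeq]; exact Dvd.dvd.mul_left (dvd_pow_self q hy) _
      have hm1 : m = 1 := by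
        rw [Nat.eq_one_iff_not_exists_prime_dvd]
        intro ℓ hℓ hℓm
        rcases hmprimes ℓ hℓ hℓm with h | h
        · subst h; exact hnd _ hℓ hpd hℓm
        · subst h; exact hnd _ hℓ hqd hℓm
      have h9 : 9 ≤ d := by
        rw [← hdeq]
        have h1 : p ≤ p ^ x := Nat.le_self_pow (by omega) p
        have h2 : q ≤ q ^ y := Nat.le_self_pow hy q
        nlinarith
      omega

end Cfsg.Agent.Helper12.K4
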