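import Mathlib

/-!
# Piece (KA2) of S4501 (helper54's plan, board #8177): the Diophantine core
-/

set_option autoImplicit false

namespace Cfsg.Agent.Helper12.K4

theorem k4_not_dvd_one (q : ℕ) (hq : q.Prime) : ¬ ((q : ℤ) ∣ 1) := by
  intro h
  have h1 := Int.le_of_dvd one_pos h
  have h2 := hq.two_le
  omega

theorem k4_three_le_pow (p x : ℕ) (hp : 3 ≤ p) (hx : 1 ≤ x) : 3 ≤ p ^ x :=
  le_trans hp (Nat.le_self_pow (by omega) p)

/-- `3 ^ x - 3 = 2 * 3 ^ k` forces `x = 2`, `k = 1` -/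
theorem k4_pow_three_sub (x k : ℕ) (h : 3 ^ x = 2 * 3 ^ k + 3) : x = 2 ∧ k = 1 := by
  have hk : 0 < 3 ^ k := by positivity
  rcases x with _ | _ | n
  · omega
  · omega
  · have e1 : 3 ^ (n + 1 + 1) = 9 * 3 ^ n := by ring
    have hn : 0 < 3 ^ n := by positivity
    rcases k with _ | _ | l
    · omega
    · have h1 : 3 ^ n = 1 := by omega
      have : n = 0 := by
        rcases Nat.pow_eq_one.mp h1 with h2 | h2
        · omega
        · exact h2
      subst this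
      exact ⟨rfl, rfl⟩
    · exfalso
      have e2 : 3 ^ (l + 1 + 1) = 9 * 3 ^ l := by ring
      omega

/-- `3 ^ y + 3 = 2 * 3 ^ k` forces `y = 1` -/
theorem k4_pow_three_add (y k : ℕ) (h : 3 ^ y + 3 = 2 * 3 ^ k) : y = 1 := by
  rcases y with _ | _ | n
  · exfalso
    rcases k with _ | m
    · omega
    · have e : 3 ^ (m + 1) = 3 * 3 ^ m := by ring
      omega
  · rfl
  · exfalso
    have e1 : 3 ^ (n + 1 + 1) = 9 * 3 ^ n := by ring
    have hn : 0 < 3 ^ n := by positivity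
    rcases k with _ | _ | l
    · omega
    · omega
    · have e2 : 3 ^ (l + 1 + 1) = 9 * 3 ^ l := by ring
      omega

/-- `7` is not a positive power of `5` -/
theorem k4_seven_ne_five_pow (y : ℕ) (hy : 1 ≤ y) : 7 ≠ 5 ^ y := by
  obtain ⟨n, rfl⟩ : ∃ n, y = n + 1 := ⟨y - 1, by omega⟩
  have e : 5 ^ (n + 1) = 5 * 5 ^ n := by ring
  omega

/-- the core analysis when `u` is of type `P` -/
theorem k4_core_aux (p q u v w : ℕ) (ε : ℤ) (hp : p.Prime) (hq : q.Prime)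
    (hp2 : p ≠ 2) (hq2 : q ≠ 2) (hε : ε = 1 ∨ ε = -1)
    (hrel : 1 + (u : ℤ) + ε * (v : ℤ) - (w : ℤ) = 0)
    (hu : ∃ x k : ℕ, 1 ≤ x ∧ u = p ^ x ∧ (u : ℤ) + 1 = 2 * (q : ℤ) ^ k)
    (hv : (∃ x k : ℕ, 1 ≤ x ∧ v = p ^ x ∧ (v : ℤ) + ε = 2 * (q : ℤ) ^ k) ∨
      (∃ y k : ℕ, 1 ≤ y ∧ v = q ^ y ∧ (v : ℤ) + ε = 2 * (p : ℤ) ^ k))
    (hw : (∃ x k : ℕ, 1 ≤ x ∧ w = p ^ x ∧ (w : ℤ) + -1 = 2 * (q : ℤ) ^ k) ∨
      (∃ y k : ℕ, 1 ≤ y ∧ w = q ^ y ∧ (w : ℤ) + -1 = 2 * (p : ℤ) ^ k)) :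
    u = 5 ∧ v = 3 ∧ w = 3 ∧ p = 5 ∧ q = 3 := by
  have hp3 : 3 ≤ p := Nat.lt_of_le_of_ne hp.two_le (Ne.symm hp2)
  have hq3 : 3 ≤ q := Nat.lt_of_le_of_ne hq.two_le (Ne.symm hq2)
  have hε2 : ε * ε = 1 := by rcases hε with rfl | rfl <;> norm_num
  obtain ⟨xu, ku, hxu, hu1, hu2⟩ := hu
  have hu3 : 3 ≤ u := hu1 ▸ k4_three_le_pow p xu hp3 hxu
  have hu1' : (u : ℤ) = (p : ℤ) ^ xu := by exact_mod_cast hu1
  have hu2n : u + 1 = 2 * q ^ ku := by exact_mod_cast hu2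
  have hku : ku ≠ 0 := by
    rintro rfl
    rw [pow_zero] at hu2
    omega
  have hqu : (q : ℤ) ∣ (u : ℤ) + 1 := by
    rw [hu2]; exact Dvd.dvd.mul_left (dvd_pow_self _ hku) 2
  have hpu : (p : ℤ) ∣ (u : ℤ) := by
    rw [hu1']; exact dvd_pow_self _ (by omega)
  -- the end of the two contradictory cases: `u = 9`, then `q = 5` and `7 = 5 ^ y`
  have hfin : ∀ y : ℕ, 1 ≤ y → u = 9 → 7 = q ^ y → False := by
    intro y hy h9 h7
    have h5 : q ^ ku = 5 := by omega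
    obtain ⟨rfl, -⟩ := (Nat.Prime.pow_eq_iff (by norm_num : Nat.Prime 5)).mp h5
    exact k4_seven_ne_five_pow y hy h7
  rcases hv with ⟨xv, kv, hxv, hv1, hv2⟩ | ⟨yv, kv, hyv, hv1, hv2⟩
  · -- `v` of type `P`
    have hv3 : 3 ≤ v := hv1 ▸ k4_three_le_pow p xv hp3 hxv
    have hv1' : (v : ℤ) = (p : ℤ) ^ xv := by exact_mod_cast hv1
    have hpv : (p : ℤ) ∣ (v : ℤ) := by
      rw [hv1']; exact dvd_pow_self _ (by omega)
    rcases hw with ⟨xw, kw, hxw, hw1, hw2⟩ | ⟨yw, kw, hyw, hw1, hw2⟩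
    · -- PPP
      exfalso
      have hw1' : (w : ℤ) = (p : ℤ) ^ xw := by exact_mod_cast hw1
      have hpw : (p : ℤ) ∣ (w : ℤ) := by
        rw [hw1']; exact dvd_pow_self _ (by omega)
      have e : (1 : ℤ) = (w : ℤ) - (u : ℤ) - ε * (v : ℤ) := by linarith
      exact k4_not_dvd_one p hp
        (by rw [e]; exact dvd_sub (dvd_sub hpw hpu) (Dvd.dvd.mul_left hpv ε))
    · -- PPQ
      exfalso
      have hw1' : (w : ℤ) = (q : ℤ) ^ yw := by exact_mod_cast hw1
      have hqw : (q : ℤ) ∣ (w : ℤ) := by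
        rw [hw1']; exact dvd_pow_self _ (by omega)
      have hw2n : w = 2 * p ^ kw + 1 := by
        have : (w : ℤ) = 2 * (p : ℤ) ^ kw + 1 := by linarith
        exact_mod_cast this
      have hkv : kv = 0 := by
        by_contra hkv
        have hqv : (q : ℤ) ∣ (v : ℤ) + ε := by
          rw [hv2]; exact Dvd.dvd.mul_left (dvd_pow_self _ hkv) 2
        have e : (1 : ℤ) = ((u : ℤ) + 1) + ε * ((v : ℤ) + ε) - (w : ℤ) := by
          linear_combination -hrel - hε2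
        exact k4_not_dvd_one q hq
          (by rw [e]; exact dvd_sub (dvd_add hqu (Dvd.dvd.mul_left hqv ε)) hqw)
      subst hkv
      rw [pow_zero] at hv2
      rcases hε with rfl | rfl
      · omega
      · have hv3' : v = 3 := by omega
        subst hv3'
        obtain ⟨rfl, -⟩ := (Nat.Prime.pow_eq_iff Nat.prime_three).mp hv1.symm
        have hreln : 1 + u = w + 3 := by
          have : (1 : ℤ) + (u : ℤ) = (w : ℤ) + 3 := by push_cast at hrel; linarith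
          exact_mod_cast this
        obtain ⟨rfl, rfl⟩ := k4_pow_three_sub xu kw (by omega)
        exact hfin yw hyw (by omega) (by omega)
  · -- `v` of type `Q`
    have hv3 : 3 ≤ v := hv1 ▸ k4_three_le_pow q yv hq3 hyv
    have hv1' : (v : ℤ) = (q : ℤ) ^ yv := by exact_mod_cast hv1
    have hqv : (q : ℤ) ∣ (v : ℤ) := by
      rw [hv1']; exact dvd_pow_self _ (by omega)
    rcases hw with ⟨xw, kw, hxw, hw1, hw2⟩ | ⟨yw, kw, hyw, hw1, hw2⟩
    · -- PQP
      exfalso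
      have hkw : kw = 0 := by
        by_contra hkw
        have hqw : (q : ℤ) ∣ (w : ℤ) + -1 := by
          rw [hw2]; exact Dvd.dvd.mul_left (dvd_pow_self _ hkw) 2
        have e : (1 : ℤ) = ((u : ℤ) + 1) + ε * (v : ℤ) - ((w : ℤ) + -1) := by
          linear_combination -hrel
        exact k4_not_dvd_one q hq
          (by rw [e]; exact dvd_sub (dvd_add hqu (Dvd.dvd.mul_left hqv ε)) hqw)
      subst hkw
      rw [pow_zero] at hw2
      have hw3' : w = 3 := by omega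
      subst hw3'
      obtain ⟨rfl, -⟩ := (Nat.Prime.pow_eq_iff Nat.prime_three).mp hw1.symm
      rcases hε with rfl | rfl
      · push_cast at hrel
        omega
      · have hreln : u = v + 2 := by
          have : (u : ℤ) = (v : ℤ) + 2 := by push_cast at hrel; linarith
          exact_mod_cast this
        have hv2n : v = 2 * 3 ^ kv + 1 := by
          have : (v : ℤ) = 2 * (3 : ℤ) ^ kv + 1 := by push_cast at hv2; linarith
          exact_mod_cast this
        obtain ⟨rfl, rfl⟩ := k4_pow_three_sub xu kv (by omega)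
        exact hfin yv hyv (by omega) (by omega)
    · -- PQQ
      have hw3 : 3 ≤ w := hw1 ▸ k4_three_le_pow q yw hq3 hyw
      have hk : kv = 0 ∨ kw = 0 := by
        by_contra hcon
        push Not at hcon
        obtain ⟨hkv, hkw⟩ := hcon
        have hpv : (p : ℤ) ∣ (v : ℤ) + ε := by
          rw [hv2]; exact Dvd.dvd.mul_left (dvd_pow_self _ hkv) 2
        have hpw : (p : ℤ) ∣ (w : ℤ) + -1 := by
          rw [hw2]; exact Dvd.dvd.mul_left (dvd_pow_self _ hkw) 2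
        have e : (1 : ℤ) = (u : ℤ) - ((w : ℤ) + -1) + ε * ((v : ℤ) + ε) := by
          linear_combination -hrel - hε2
        exact k4_not_dvd_one p hp
          (by rw [e]; exact dvd_add (dvd_sub hpu hpw) (Dvd.dvd.mul_left hpv ε))
      rcases hk with rfl | rfl
      · -- `kv = 0`
        rw [pow_zero] at hv2
        rcases hε with rfl | rfl
        · omega
        · have hv3' : v = 3 := by omega
          subst hv3'
          obtain ⟨rfl, -⟩ := (Nat.Prime.pow_eq_iff Nat.prime_three).mp hv1.symm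
          have hreln : u = w + 2 := by
            have : (u : ℤ) = (w : ℤ) + 2 := by push_cast at hrel; linarith
            exact_mod_cast this
          have hyw1 : yw = 1 := k4_pow_three_add yw ku (by omega)
          subst hyw1
          rw [pow_one] at hw1
          subst hw1
          have hu5 : u = 5 := by omega
          subst hu5
          obtain ⟨rfl, -⟩ := (Nat.Prime.pow_eq_iff (by norm_num : Nat.Prime 5)).mp hu1.symm
          exact ⟨rfl, rfl, rfl, rfl, rfl⟩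
      · -- `kw = 0`
        rw [pow_zero] at hw2
        have hw3' : w = 3 := by omega
        subst hw3'
        obtain ⟨rfl, -⟩ := (Nat.Prime.pow_eq_iff Nat.prime_three).mp hw1.symm
        rcases hε with rfl | rfl
        · push_cast at hrel
          omega
        · have hreln : u = v + 2 := by
            have : (u : ℤ) = (v : ℤ) + 2 := by push_cast at hrel; linarith
            exact_mod_cast this
          have hyv1 : yv = 1 := k4_pow_three_add yv ku (by omega)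
          subst hyv1
          rw [pow_one] at hv1
          subst hv1
          have hu5 : u = 5 := by omega
          subst hu5
          obtain ⟨rfl, -⟩ := (Nat.Prime.pow_eq_iff (by norm_num : Nat.Prime 5)).mp hu1.symm
          exact ⟨rfl, rfl, rfl, rfl, rfl⟩

/-- (KA2) the Diophantine analysis of the degrees in the principal `2`-block -/
theorem klein_arith_core (p q u v w : ℕ) (ε : ℤ) (hp : p.Prime) (hq : q.Prime) (hpq : p ≠ q)
    (hp2 : p ≠ 2) (hq2 : q ≠ 2) (hε : ε = 1 ∨ ε = -1)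
    (hu4 : (4 : ℤ) ∣ (u : ℤ) - 1) (hv4 : (4 : ℤ) ∣ (v : ℤ) - ε) (hw4 : (4 : ℤ) ∣ (w : ℤ) + 1)
    (hrel : 1 + (u : ℤ) + ε * (v : ℤ) - (w : ℤ) = 0)
    (hu : (∃ x k : ℕ, 1 ≤ x ∧ u = p ^ x ∧ (u : ℤ) + 1 = 2 * (q : ℤ) ^ k) ∨
      (∃ y k : ℕ, 1 ≤ y ∧ u = q ^ y ∧ (u : ℤ) + 1 = 2 * (p : ℤ) ^ k))
    (hv : (∃ x k : ℕ, 1 ≤ x ∧ v = p ^ x ∧ (v : ℤ) + ε = 2 * (q : ℤ) ^ k) ∨
      (∃ y k : ℕ, 1 ≤ y ∧ v = q ^ y ∧ (v : ℤ) + ε = 2 * (p : ℤ) ^ k))
    (hw : (∃ x k : ℕ, 1 ≤ x ∧ w = p ^ x ∧ (w : ℤ) + -1 = 2 * (q : ℤ) ^ k) ∨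
      (∃ y k : ℕ, 1 ≤ y ∧ w = q ^ y ∧ (w : ℤ) + -1 = 2 * (p : ℤ) ^ k)) :
    u = 5 ∧ v = 3 ∧ w = 3 ∧ ((p = 3 ∧ q = 5) ∨ (p = 5 ∧ q = 3)) := by
  rcases hu with hu | hu
  · obtain ⟨h1, h2, h3, h4, h5⟩ := k4_core_aux p q u v w ε hp hq hp2 hq2 hε hrel hu hv hw
    exact ⟨h1, h2, h3, Or.inr ⟨h4, h5⟩⟩
  · obtain ⟨h1, h2, h3, h4, h5⟩ :=
      k4_core_aux q p u v w ε hq hp hq2 hp2 hε hrel hu hv.symm hw.symm
    exact ⟨h1, h2, h3, Or.inl ⟨h5, h4⟩⟩

end Cfsg.Agent.Helper12.K4
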