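import Mathlib

/-!
# Piece (KB) of S4501 (helper54's plan, board #8177): consecutive divisors of `p ^ 2 * q ^ b`
-/

set_option autoImplicit false

namespace Cfsg.Agent.Helper12.K4

theorem k4_eq_two_of_even_pow (q j : ℕ) (hq : q.Prime) (h : 2 ∣ q ^ j) : q = 2 :=
  ((Nat.prime_dvd_prime_iff_eq Nat.prime_two hq).mp (Nat.prime_two.dvd_of_dvd_pow h)).symm

theorem k4_not_three_dvd_two_pow (j : ℕ) : ¬ 3 ∣ 2 ^ j := by
  intro h
  have := Nat.prime_three.dvd_of_dvd_pow h
  omega

theorem k4_sq_mod_three (p : ℕ) (hp : p.Prime) (hp3 : p ≠ 3) : p ^ 2 % 3 = 1 := by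
  have h0 : p % 3 ≠ 0 := by
    intro h
    have : 3 ∣ p := Nat.dvd_of_mod_eq_zero h
    exact hp3 ((Nat.prime_dvd_prime_iff_eq Nat.prime_three hp).mp this).symm
  have h1 : p % 3 = 1 ∨ p % 3 = 2 := by omega
  rw [pow_two, Nat.mul_mod]
  rcases h1 with h | h <;> rw [h]

/-- (KB) consecutive divisors `d`, `d + 1` of `p ^ 2 * q ^ b` -/
theorem consec_arith (p q b d : ℕ) (hp : p.Prime) (hq : q.Prime) (hpq : p ≠ q) (hp3 : p ≠ 3)
    (hq3 : q ≠ 3) (hd : 2 ≤ d) (h1 : d ∣ p ^ 2 * q ^ b) (h2 : d + 1 ∣ p ^ 2 * q ^ b) :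
    (p = 2 ∧ q = 5 ∧ d = 4) ∨ (q = 2 ∧ (d = p ∨ d + 1 = p)) := by
  obtain ⟨d1, d2, hd1, hd2, hdeq⟩ := (Nat.dvd_mul).mp h1
  obtain ⟨i, hi, rfl⟩ := (Nat.dvd_prime_pow hp).mp hd1
  obtain ⟨j, -, rfl⟩ := (Nat.dvd_prime_pow hq).mp hd2
  obtain ⟨e1, e2, he1, he2, heeq⟩ := (Nat.dvd_mul).mp h2
  obtain ⟨i', hi', rfl⟩ := (Nat.dvd_prime_pow hp).mp he1
  obtain ⟨j', -, rfl⟩ := (Nat.dvd_prime_pow hq).mp he2
  have hp2 := hp.two_le
  have hq2 := hq.two_le
  -- no prime divides both `d` and `d + 1`
  have hcop : ∀ ℓ : ℕ, ℓ.Prime → ℓ ∣ d → ℓ ∣ d + 1 → False := by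
    intro ℓ hℓ ha hb
    have : ℓ ∣ 1 := (Nat.dvd_add_right ha).mp hb
    exact hℓ.one_lt.ne' (Nat.dvd_one.mp this)
  by_cases hi0 : i = 0
  · -- `d = q ^ j`
    subst hi0
    rw [pow_zero, one_mul] at hdeq
    have hj : j ≠ 0 := by
      rintro rfl
      rw [pow_zero] at hdeq
      omega
    have hqd : q ∣ d := by rw [← hdeq]; exact dvd_pow_self q hj
    have hj'0 : j' = 0 := by
      by_contra hcon
      exact hcop q hq hqd (by rw [← heeq]; exact Dvd.dvd.mul_left (dvd_pow_self q hcon) _)
    subst hj'0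
    rw [pow_zero, mul_one] at heeq
    -- `d + 1 = p ^ i'`, `i' ∈ {1, 2}`
    have hi'0 : i' ≠ 0 := by
      rintro rfl
      rw [pow_zero] at heeq
      omega
    have hi'12 : i' = 1 ∨ i' = 2 := by omega
    rcases hi'12 with rfl | rfl
    · -- `d + 1 = p`
      rw [pow_one] at heeq
      right
      refine ⟨?_, Or.inr heeq.symm⟩
      -- `d` is even, else `p = d + 1` is even
      by_cases hev : 2 ∣ d
      · exact k4_eq_two_of_even_pow q j hq (by rw [hdeq]; exact hev)
      · exfalso
        have h2p : 2 ∣ p := by rw [heeq]; omega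
        have := (Nat.prime_dvd_prime_iff_eq Nat.prime_two hp).mp h2p
        omega
    · -- `d + 1 = p ^ 2`
      exfalso
      by_cases hpe : p = 2
      · subst hpe
        have hd3 : d = 3 := by norm_num at heeq; omega
        rw [hd3] at hdeq
        have : q ∣ 3 := by rw [← hdeq]; exact dvd_pow_self q hj
        exact hq3 ((Nat.prime_dvd_prime_iff_eq hq Nat.prime_three).mp this)
      · -- `p` odd: `d` even, `q = 2`, and `3 ∣ d`
        have hpodd : p % 2 = 1 := by
          rcases hp.eq_two_or_odd with h | h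
          · exact absurd h hpe
          · exact h
        have hsq2 : p ^ 2 % 2 = 1 := by
          rw [pow_two, Nat.mul_mod, hpodd]
        have hq2' : q = 2 := k4_eq_two_of_even_pow q j hq (by rw [hdeq]; omega)
        subst hq2'
        have hsq3 := k4_sq_mod_three p hp hp3
        exact k4_not_three_dvd_two_pow j (by rw [hdeq]; omega)
  · -- `p ∣ d`
    have hpd : p ∣ d := by rw [← hdeq]; exact Dvd.dvd.mul_right (dvd_pow_self p hi0) _
    have hi'0 : i' = 0 := by
      by_contra hcon
      exact hcop p hp hpd (by rw [← heeq]; exact Dvd.dvd.mul_right (dvd_pow_self p hcon) _)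
    subst hi'0
    rw [pow_zero, one_mul] at heeq
    have hj'0 : j' ≠ 0 := by
      rintro rfl
      rw [pow_zero] at heeq
      omega
    have hqd1 : q ∣ d + 1 := by rw [← heeq]; exact dvd_pow_self q hj'0
    have hj0 : j = 0 := by
      by_contra hcon
      exact hcop q hq (by rw [← hdeq]; exact Dvd.dvd.mul_left (dvd_pow_self q hcon) _) hqd1
    subst hj0
    rw [pow_zero, mul_one] at hdeq
    have hi12 : i = 1 ∨ i = 2 := by omega
    rcases hi12 with rfl | rfl
    · -- `d = p`
      rw [pow_one] at hdeq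
      by_cases hev : 2 ∣ d + 1
      · right
        exact ⟨k4_eq_two_of_even_pow q j' hq (by rw [heeq]; exact hev), Or.inl hdeq.symm⟩
      · exfalso
        have h2p : 2 ∣ p := by rw [hdeq]; omega
        have hp2' := (Nat.prime_dvd_prime_iff_eq Nat.prime_two hp).mp h2p
        have hd2 : d = 2 := by omega
        rw [hd2] at heeq
        have : q ∣ 3 := by
          have h3 : q ^ j' = 3 := by omega
          rw [← h3]; exact dvd_pow_self q hj'0
        exact hq3 ((Nat.prime_dvd_prime_iff_eq hq Nat.prime_three).mp this)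
    · -- `d = p ^ 2`
      by_cases hpe : p = 2
      · subst hpe
        left
        have hd4 : d = 4 := by norm_num at hdeq; omega
        refine ⟨rfl, ?_, hd4⟩
        have : q ∣ 5 := by
          have h5 : q ^ j' = 5 := by omega
          rw [← h5]; exact dvd_pow_self q hj'0
        exact (Nat.prime_dvd_prime_iff_eq hq (by norm_num)).mp this
      · exfalso
        have hpodd : p % 2 = 1 := by
          rcases hp.eq_two_or_odd with h | h
          · exact absurd h hpe
          · exact h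
        have hsq4 : p ^ 2 % 4 = 1 := by
          have h4 : p % 4 = 1 ∨ p % 4 = 3 := by omega
          rw [pow_two, Nat.mul_mod]
          rcases h4 with h | h <;> rw [h]
        have hq2' : q = 2 := k4_eq_two_of_even_pow q j' hq (by rw [heeq]; omega)
        subst hq2'
        -- `2 ^ j' = p ^ 2 + 1 = 2 (mod 4)` forces `j' = 1`
        rcases j' with _ | _ | n
        · exact hj'0 rfl
        · norm_num at heeq
          have : p ^ 2 = 1 := by omega
          have h4 : 4 ≤ p ^ 2 := by nlinarith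
          omega
        · have : 2 ^ (n + 1 + 1) = 4 * 2 ^ n := by ring
          omega

end Cfsg.Agent.Helper12.K4
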