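import Mathlib
import Cfsg.Agent.Helper73.LBUB
import Cfsg.Agent.Helper13.UIwa4
import Cfsg.Agent.Helper14.LBUb

/-!
# (U-A32) for S2687: the Iwasawa piece for `PSU₃(2)` (which is not simple)
-/

set_option autoImplicit false
set_option linter.unusedSectionVars false
set_option linter.unusedVariables false

namespace Cfsg.Agent.Helper12.LBU32

open Matrix MulAction Cfsg.Agent.Helper13 Cfsg.Agent.Helper37.AutU Cfsg.Agent.Helper14.AutPSL
  Cfsg.Agent.Helper14.AutPSU Cfsg.Agent.Helper73.LBU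
open scoped Pointwise

/-! ### group theory -/

/-- if `T` has exponent two and `u ∈ M ⊔ T` has `u³ = 1`, then `u ∈ M` -/
theorem mem_of_pow_three {G : Type*} [Group G] (M T : Subgroup G) [hM : M.Normal]
    (hT : ∀ s ∈ T, s * s = 1) {u : G} (hu : u ∈ M ⊔ T) (hu3 : u ^ 3 = 1) : u ∈ M := by
  have h1 : u ∈ ((M ⊔ T : Subgroup G) : Set G) := hu
  rw [Subgroup.normal_mul] at h1
  obtain ⟨m, hm, s, hs, rfl⟩ := h1
  have hs2 := hT s hs
  have hsinv : s⁻¹ = s := inv_eq_of_mul_eq_one_left hs2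
  have h2 : (m * s) ^ 2 ∈ M := by
    have : (m * s) ^ 2 = m * (s * m * s⁻¹) := by
      rw [hsinv, pow_two]
      group
    rw [this]
    exact M.mul_mem hm (hM.conj_mem m hm s)
  have h3 : m * s = ((m * s) ^ 2)⁻¹ := by
    rw [eq_inv_iff_mul_eq_one, ← pow_succ', hu3]
  show m * s ∈ M
  rw [h3]
  exact M.inv_mem h2

variable {F₀ : Type*} [Field F₀] [Fintype F₀] {n q₀ : ℕ}

local notation "⟪" x ", " y "⟫" => Cfsg.hermForm n F₀ q₀ x y

/-- a normal subgroup acting nontrivially on the isotropic points: every root group lies in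
`M ⊔ rootOf a` -/
theorem rootOf_le_sup (hF₀ : Fintype.card F₀ = q₀ ^ 2) (hn : 3 ≤ n)
    (M : Subgroup (Cfsg.SU n F₀ q₀)) [hM : M.Normal]
    (hNX : MulAction.fixedPoints M (IsoPt n F₀ q₀) ≠ Set.univ)
    {a v : Fin n → F₀} (ha0 : a ≠ 0) (ha : ⟪a, a⟫ = 0) (hv0 : v ≠ 0) (hv : ⟪v, v⟫ = 0) :
    rootOf hF₀ v hv ≤ M ⊔ rootOf hF₀ a ha := by
  haveI := isoPt_isPreprimitive hF₀ hn
  have is_transN := IsQuasiPreprimitive.isPretransitive_of_normal hNX
  obtain ⟨g, hg⟩ := MulAction.exists_smul_eq M (IsoPt.mk a ha0 ha) (IsoPt.mk v hv0 hv)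
  have hg' : (g : Cfsg.SU n F₀ q₀) • IsoPt.mk a ha0 ha = IsoPt.mk v hv0 hv := hg
  rw [IsoPt.smul_mk, IsoPt.mk_eq_mk_iff] at hg'
  obtain ⟨c, hc0, hc⟩ := hg'
  have h1 : rootOf hF₀ v hv = rootOf hF₀ (suMat (g : Cfsg.SU n F₀ q₀) *ᵥ a)
      (by rw [isU_suMat, ha]) := by
    have h2 := rootOf_smul hF₀ (v := suMat (g : Cfsg.SU n F₀ q₀) *ᵥ a)
      (by rw [isU_suMat, ha]) hc0
    rw [← h2]
    congr 1
  rw [h1, rootOf_conj hF₀ _ ha]
  rintro _ ⟨k, hk, rfl⟩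
  have hg'' : (g : Cfsg.SU n F₀ q₀) ∈ M ⊔ rootOf hF₀ a ha := Subgroup.mem_sup_left g.2
  have hk' : k ∈ M ⊔ rootOf hF₀ a ha := Subgroup.mem_sup_right hk
  exact (M ⊔ rootOf hF₀ a ha).mul_mem ((M ⊔ rootOf hF₀ a ha).mul_mem hg'' hk')
    ((M ⊔ rootOf hF₀ a ha).inv_mem hg'')

/-- in characteristic two the root groups have exponent two -/
theorem rootOf_sq (hF₀ : Fintype.card F₀ = q₀ ^ 2) (h2 : (2 : F₀) = 0) {a : Fin n → F₀}
    (ha : ⟪a, a⟫ = 0) : ∀ s ∈ rootOf hF₀ a ha, s * s = 1 := by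
  rintro s ⟨c, hc, hs⟩
  apply suMat_injective
  rw [suMat_mul, hs, unitaryTransvection_mul a c c ha, suMat_one]
  have : c + c = 0 := by rw [← two_mul, h2, zero_mul]
  rw [this, unitaryTransvection_zero]

/-! ### the explicit elements of `SU₃(F₄)` -/

section three

variable {K : Type*} [Field K] [Fintype K]

theorem two_eq_zero_of_card (hK : Fintype.card K = 2 ^ 2) : (2 : K) = 0 := by
  have h1 : ((Fintype.card K : ℕ) : K) = 0 := Nat.cast_card_eq_zero K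
  rw [hK] at h1
  have h2 : (2 : K) ^ 2 = 0 := by
    have : ((2 ^ 2 : ℕ) : K) = (2 : K) ^ 2 := by norm_num
    rw [← this]
    exact h1
  exact pow_eq_zero_iff (by norm_num) |>.1 h2

/-- the isotropic vectors `(1,1,0)` and `(0,1,1)` -/
def w1 : Fin 3 → K := ![1, 1, 0]
def w2 : Fin 3 → K := ![0, 1, 1]

theorem herm_w1 (x : Fin 3 → K) : Cfsg.hermForm 3 K 2 x w1 = x 0 + x 1 := by
  unfold Cfsg.hermForm w1
  rw [Fin.sum_univ_three]
  simp

theorem herm_w2 (x : Fin 3 → K) : Cfsg.hermForm 3 K 2 x w2 = x 1 + x 2 := by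
  unfold Cfsg.hermForm w2
  rw [Fin.sum_univ_three]
  simp

theorem w1_iso (h2 : (2 : K) = 0) : Cfsg.hermForm 3 K 2 (w1 : Fin 3 → K) w1 = 0 := by
  rw [herm_w1]
  show (1 : K) + 1 = 0
  rw [one_add_one_eq_two, h2]

theorem w2_iso (h2 : (2 : K) = 0) : Cfsg.hermForm 3 K 2 (w2 : Fin 3 → K) w2 = 0 := by
  rw [herm_w2]
  show (1 : K) + 1 = 0
  rw [one_add_one_eq_two, h2]

theorem w1_ne_zero : (w1 : Fin 3 → K) ≠ 0 := by
  intro h
  have := congrFun h 0
  simp [w1] at this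

theorem w2_ne_zero : (w2 : Fin 3 → K) ≠ 0 := by
  intro h
  have := congrFun h 1
  simp [w2] at this

theorem one_trace (h2 : (2 : K) = 0) : (1 : K) + 1 ^ 2 = 0 := by
  rw [one_pow, one_add_one_eq_two, h2]

/-- the transpositions `(0 1)` and `(1 2)` as unitary transvections -/
def tr1 (hK : Fintype.card K = 2 ^ 2) : Cfsg.SU 3 K 2 :=
  tvElt hK w1 1 (w1_iso (two_eq_zero_of_card hK)) (one_trace (two_eq_zero_of_card hK))

def tr2 (hK : Fintype.card K = 2 ^ 2) : Cfsg.SU 3 K 2 :=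
  tvElt hK w2 1 (w2_iso (two_eq_zero_of_card hK)) (one_trace (two_eq_zero_of_card hK))

theorem add_self_K (h2 : (2 : K) = 0) (a : K) : a + a = 0 := by
  rw [← two_mul, h2, zero_mul]

theorem tr1_mulVec (hK : Fintype.card K = 2 ^ 2) (x : Fin 3 → K) :
    suMat (tr1 hK) *ᵥ x = ![x 1, x 0, x 2] := by
  have h2 := two_eq_zero_of_card hK
  unfold tr1
  rw [suMat_tvElt, unitaryTransvection_mulVec, herm_w1, one_mul]
  funext i
  fin_cases i
  · show x 0 + (x 0 + x 1) * 1 = x 1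
    rw [mul_one, ← add_assoc, add_self_K h2, zero_add]
  · show x 1 + (x 0 + x 1) * 1 = x 0
    rw [mul_one, add_comm (x 0), ← add_assoc, add_self_K h2, zero_add]
  · show x 2 + (x 0 + x 1) * 0 = x 2
    rw [mul_zero, add_zero]

theorem tr2_mulVec (hK : Fintype.card K = 2 ^ 2) (x : Fin 3 → K) :
    suMat (tr2 hK) *ᵥ x = ![x 0, x 2, x 1] := by
  have h2 := two_eq_zero_of_card hK
  unfold tr2
  rw [suMat_tvElt, unitaryTransvection_mulVec, herm_w2, one_mul]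
  funext i
  fin_cases i
  · show x 0 + (x 1 + x 2) * 0 = x 0
    rw [mul_zero, add_zero]
  · show x 1 + (x 1 + x 2) * 1 = x 2
    rw [mul_one, ← add_assoc, add_self_K h2, zero_add]
  · show x 2 + (x 1 + x 2) * 1 = x 1
    rw [mul_one, add_comm (x 1), ← add_assoc, add_self_K h2, zero_add]

/-- the three-cycle -/
def cyc (hK : Fintype.card K = 2 ^ 2) : Cfsg.SU 3 K 2 := tr1 hK * tr2 hK

theorem cyc_mulVec (hK : Fintype.card K = 2 ^ 2) (x : Fin 3 → K) :
    suMat (cyc hK) *ᵥ x = ![x 2, x 0, x 1] := by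
  unfold cyc
  rw [suMat_mul, ← Matrix.mulVec_mulVec, tr2_mulVec, tr1_mulVec]
  rfl

theorem cyc_pow_three (hK : Fintype.card K = 2 ^ 2) : cyc hK ^ 3 = 1 := by
  apply suMat_injective
  apply mat_ext_mulVec
  intro x
  rw [pow_succ, pow_two, suMat_mul, suMat_mul, ← Matrix.mulVec_mulVec, ← Matrix.mulVec_mulVec,
    cyc_mulVec, cyc_mulVec, cyc_mulVec, suMat_one, Matrix.one_mulVec]
  funext i
  fin_cases i <;> rfl

theorem cyc_not_scalar (hK : Fintype.card K = 2 ^ 2) (c : K) :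
    suMat (cyc hK) ≠ c • (1 : Matrix (Fin 3) (Fin 3) K) := by
  intro h
  have h1 := cyc_mulVec hK ![1, 0, 0]
  rw [h, Matrix.smul_mulVec, Matrix.one_mulVec] at h1
  have := congrFun h1 1
  simp at this

end three

/-! ### the theorem -/

variable {F : Type*} [Field F] [Fintype F] {F₁ : Type*} [Field F₁] [Fintype F₁] {q r : ℕ}
  {σ τ : F ≃+* F} {i : F₁ →+* F} {τ₀ : F₁ ≃+* F₁}

/-- `subTU D s = 1` iff `s` is a scalar matrix -/
theorem subTU_eq_one_of_scalar {p₀ f : ℕ} (H : Hyp F p₀ f q 3) (D : FldData q 2 σ τ i τ₀ r)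
    (s : Cfsg.SU 3 F₁ 2) (ζ : F₁) (hs : suMat s = ζ • (1 : Matrix (Fin 3) (Fin 3) F₁)) :
    subTU D s = 1 := by
  have hζ : ζ ≠ 0 := by
    rintro rfl
    have h1 := det_suMat s
    rw [hs, zero_smul, Matrix.det_zero] at h1
    exact zero_ne_one h1
  have h1 : suGU s ∈ (fixHomU (n := 3) D).ker := by
    rw [ker_fixHomU H D, Subgroup.mem_subgroupOf, Cfsg.Geo.mem_scalars_iff]
    exact ⟨Units.mk0 ζ hζ, hs⟩
  exact h1

theorem subTU_ne_one_of_not_scalar {p₀ f : ℕ} (H : Hyp F p₀ f q 3)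
    (D : FldData q 2 σ τ i τ₀ r) (s : Cfsg.SU 3 F₁ 2)
    (hs : ∀ ζ : F₁, suMat s ≠ ζ • (1 : Matrix (Fin 3) (Fin 3) F₁)) : subTU D s ≠ 1 := by
  intro h
  have h1 : suGU s ∈ (fixHomU (n := 3) D).ker := h
  rw [ker_fixHomU H D, Subgroup.mem_subgroupOf, Cfsg.Geo.mem_scalars_iff] at h1
  obtain ⟨c, hc⟩ := h1
  exact hs (c : F₁) hc

theorem subTU_range_inf_eq_bot_three_two {p₀ f : ℕ} (H : Hyp F p₀ f q 3)
    (D : FldData q 2 σ τ i τ₀ r) {p : ℕ} [hpp : Fact p.Prime] (hp : p ≠ ringChar F)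
    (N0 : Subgroup (MulAut (Cfsg.PSU 3 F q)))
    (hnorm : ∀ s n', n' ∈ N0 → subTU D s * n' * (subTU D s)⁻¹ ∈ N0)
    (hcop : (Nat.card N0).Coprime p)
    (hdvd : p ∣ Nat.card ↥(MonoidHom.eqLocus (fldHom 3 F q σ).toMonoidHom
      (MonoidHom.id (Cfsg.PSU 3 F q)))) :
    N0 ⊓ (subTU (n := 3) D).range = ⊥ := by
  classical
  have hF₁ : Fintype.card F₁ = 2 ^ 2 := D.hF₀
  have h2 := two_eq_zero_of_card hF₁
  set M : Subgroup (Cfsg.SU 3 F₁ 2) := N0.comap (subTU (n := 3) D) with hMdef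
  have hMn : M.Normal := ⟨fun m hm s => by
    show subTU D (s * m * s⁻¹) ∈ N0
    rw [map_mul, map_mul, map_inv]
    exact hnorm s _ hm⟩
  rw [eq_bot_iff]
  rintro x ⟨hx1, s, rfl⟩
  have hsM : s ∈ M := hx1
  rw [Subgroup.mem_bot]
  by_cases hNX : MulAction.fixedPoints M (IsoPt 3 F₁ 2) = Set.univ
  · -- `s` fixes all isotropic points, hence is scalar
    have hG : suMat s ≠ 0 := by
      intro h0
      have h1 := det_suMat s
      rw [h0, Matrix.det_zero] at h1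
      exact zero_ne_one h1
    have heig : ∀ v₀ : Fin 3 → F₁, v₀ ≠ 0 → Cfsg.hermForm 3 F₁ 2 v₀ v₀ = 0 →
        ∃ a : F₁, semi (suMat s) (RingEquiv.refl F₁) (fun k => (RingHom.id F₁) (v₀ k))
          = a • (fun k => (RingHom.id F₁) (v₀ k)) := by
      intro v₀ hv0 hv
      have h1 : IsoPt.mk v₀ hv0 hv ∈ MulAction.fixedPoints M (IsoPt 3 F₁ 2) := by
        rw [hNX]; exact Set.mem_univ _
      have h3 : s • IsoPt.mk v₀ hv0 hv = IsoPt.mk v₀ hv0 hv := h1 ⟨s, hsM⟩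
      rw [IsoPt.smul_mk, IsoPt.mk_eq_mk_iff] at h3
      obtain ⟨a, ha, e⟩ := h3
      refine ⟨a⁻¹, ?_⟩
      show suMat s *ᵥ v₀ = a⁻¹ • v₀
      conv_rhs => rw [e]
      rw [smul_smul, inv_mul_cancel₀ ha, one_smul]
    obtain ⟨-, ζ, hζ⟩ := Cfsg.Agent.Helper14.LBU.scalar_of_eigen hF₁ le_rfl (RingHom.id F₁)
      (suMat s) hG (RingEquiv.refl F₁) heig
    exact subTU_eq_one_of_scalar H D s ζ hζ
  · -- otherwise `M` contains the three-cycle: contradiction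
    exfalso
    haveI := hMn
    have ht1 : tr1 hF₁ ∈ M ⊔ rootOf hF₁ w1 (w1_iso h2) :=
      Subgroup.mem_sup_right ⟨1, one_trace h2, rfl⟩
    have ht2 : tr2 hF₁ ∈ M ⊔ rootOf hF₁ w1 (w1_iso h2) :=
      rootOf_le_sup hF₁ le_rfl M hNX w1_ne_zero (w1_iso h2) w2_ne_zero (w2_iso h2)
        ⟨1, one_trace h2, rfl⟩
    have hu : cyc hF₁ ∈ M :=
      mem_of_pow_three M (rootOf hF₁ w1 (w1_iso h2)) (rootOf_sq hF₁ h2 _)
        (Subgroup.mul_mem _ ht1 ht2) (cyc_pow_three hF₁)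
    have h3 : subTU D (cyc hF₁) ∈ N0 := hu
    have hne : subTU D (cyc hF₁) ≠ 1 :=
      subTU_ne_one_of_not_scalar H D _ (fun ζ => cyc_not_scalar hF₁ ζ)
    have hpow : (subTU D (cyc hF₁)) ^ 3 = 1 := by
      rw [← map_pow, cyc_pow_three, map_one]
    have hord : orderOf (subTU D (cyc hF₁)) = 3 :=
      haveI : Fact (Nat.Prime 3) := ⟨Nat.prime_three⟩
      orderOf_eq_prime hpow hne
    have hdvd3 : 3 ∣ Nat.card N0 := by
      have h4 := orderOf_dvd_natCard (⟨_, h3⟩ : N0)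
      rwa [Subgroup.orderOf_mk, hord] at h4
    -- `p = 3`
    have hchar : ringChar F = 2 := by
      have h5 : (2 : F) = 0 := by
        have := congrArg i h2
        rwa [map_ofNat, map_zero] at this
      have h6 : ringChar F ∣ 2 := by
        apply ringChar.dvd
        exact_mod_cast h5
      rcases (Nat.dvd_prime Nat.prime_two).1 h6 with h | h
      · exact absurd h CharP.ringChar_ne_one
      · exact h
    have hp2 : p ≠ 2 := by rw [← hchar]; exact hp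
    have hcardGU : Nat.card (Cfsg.GU 3 F₁ 2) = 648 := by
      rw [Cfsg.Agent.Helper45.GU.card_GU_eq hF₁ 3 (by norm_num),
        Cfsg.Agent.Helper45.GU.card_SU hF₁ 3 (by norm_num)]
      decide
    have hp648 : p ∣ 648 := by
      rw [Cfsg.Agent.Helper37.Bal.card_eqLocus_eq (center_psu_eq_bot H)] at hdvd
      have hle : Cfsg.Agent.Helper37.Bal.innCent (fldHom 3 F q σ)
          ≤ (fixHomU (n := 3) D).range := by
        rw [range_fixHomU H D]
        intro y hy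
        obtain ⟨hy1, hy2⟩ := Subgroup.mem_inf.1 hy
        refine Subgroup.mem_inf.2 ⟨?_, hy2⟩
        obtain ⟨g, hg⟩ := inn_le_range hy1
        exact mem_inndiagPSU.mpr ⟨g, hg.symm⟩
      have h7 := Subgroup.card_dvd_of_le hle
      have h8 : Nat.card ↥(fixHomU (n := 3) D).range ∣ Nat.card (Cfsg.GU 3 F₁ 2) :=
        Subgroup.card_range_dvd _
      rw [hcardGU] at h8
      exact dvd_trans hdvd (dvd_trans h7 h8)
    have hp3 : p = 3 := by
      have h9 : (648 : ℕ) = 2 ^ 3 * 3 ^ 4 := by norm_num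
      rw [h9] at hp648
      rcases (Nat.Prime.dvd_mul hpp.out).1 hp648 with h | h
      · exact absurd ((Nat.prime_dvd_prime_iff_eq hpp.out Nat.prime_two).1
          (hpp.out.dvd_of_dvd_pow h)) hp2
      · exact (Nat.prime_dvd_prime_iff_eq hpp.out Nat.prime_three).1 (hpp.out.dvd_of_dvd_pow h)
    rw [hp3] at hcop
    have := Nat.Coprime.eq_one_of_dvd hcop.symm hdvd3
    omega

end Cfsg.Agent.Helper12.LBU32
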