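import Mathlib
import Cfsg.Agent.Helper79.Mult.Defs

/-!
# (AB) for helper79's S4756: `G/D` is abelian
-/

set_option autoImplicit false
set_option linter.unusedSectionVars false

universe u

namespace Cfsg.Agent.Helper12.Mult

open Cfsg Cfsg.Agent.Helper79.Mult

variable {G : Type u} [Group G] [Finite G]

/-- (AB) `G/D` is abelian when `G` is generated by `D` and two commuting abelian subgroups. -/
theorem commutator_le_of_struct (A C D : Subgroup G) [D.Normal]
    (hA : ∀ a ∈ A, ∀ b ∈ A, a * b = b * a) (hC : ∀ a ∈ C, ∀ b ∈ C, a * b = b * a)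
    (hAC : ∀ a ∈ A, ∀ c ∈ C, a * c = c * a) (hgen : A ⊔ (C ⊔ D) = ⊤) : commutator G ≤ D := by
  have key : ∀ x y : G ⧸ D, x * y = y * x := by
    set S : Set (G ⧸ D) := (QuotientGroup.mk' D) '' (A : Set G) ∪ (QuotientGroup.mk' D) '' (C : Set G)
      with hSdef
    have hS : ∀ s ∈ S, ∀ t ∈ S, s * t = t * s := by
      rintro s (⟨a, ha, rfl⟩ | ⟨c, hc, rfl⟩) t (⟨b, hb, rfl⟩ | ⟨d, hd, rfl⟩)
      · rw [← map_mul, ← map_mul, hA a ha b hb]
      · rw [← map_mul, ← map_mul, hAC a ha d hd]
      · rw [← map_mul, ← map_mul, ← hAC b hb c hc]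
      · rw [← map_mul, ← map_mul, hC c hc d hd]
    have hcl : Subgroup.closure S = ⊤ := by
      have h1 : (A ⊔ (C ⊔ D)).map (QuotientGroup.mk' D) = ⊤ := by
        rw [hgen, ← MonoidHom.range_eq_map, MonoidHom.range_eq_top]
        exact QuotientGroup.mk'_surjective D
      rw [Subgroup.map_sup, Subgroup.map_sup, QuotientGroup.map_mk'_self, sup_bot_eq] at h1
      rw [eq_top_iff, ← h1, sup_le_iff]
      constructor
      · rintro x ⟨a, ha, rfl⟩
        exact Subgroup.subset_closure (Or.inl ⟨a, ha, rfl⟩)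
      · rintro x ⟨c, hc, rfl⟩
        exact Subgroup.subset_closure (Or.inr ⟨c, hc, rfl⟩)
    have hcent : ∀ x : G ⧸ D, x ∈ Subgroup.centralizer S := by
      intro x
      have h2 : Subgroup.closure S ≤ Subgroup.centralizer S := by
        rw [Subgroup.closure_le]
        intro s hs
        rw [SetLike.mem_coe, Subgroup.mem_centralizer_iff]
        intro t ht
        exact hS t ht s hs
      exact h2 (by rw [hcl]; exact Subgroup.mem_top x)
    have hcenter : Subgroup.closure S ≤ Subgroup.center (G ⧸ D) := by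
      rw [Subgroup.closure_le]
      intro s hs
      rw [SetLike.mem_coe, Subgroup.mem_center_iff]
      intro x
      have := hcent x
      rw [Subgroup.mem_centralizer_iff] at this
      exact (this s hs).symm
    intro x y
    have hy : y ∈ Subgroup.center (G ⧸ D) := hcenter (by rw [hcl]; exact Subgroup.mem_top y)
    rw [Subgroup.mem_center_iff] at hy
    exact hy x
  rw [commutator_def, Subgroup.commutator_le]
  intro g _ h _
  rw [← QuotientGroup.eq_one_iff, commutatorElement_def, QuotientGroup.mk_mul, QuotientGroup.mk_mul,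
    QuotientGroup.mk_mul, QuotientGroup.mk_inv, QuotientGroup.mk_inv,
    key (g : G ⧸ D) (h : G ⧸ D)]
  group

end Cfsg.Agent.Helper12.Mult
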