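import Mathlib
import Cfsg.Agent.Helper79.Mult.Defs

/-!
# (CEN) for helper79's S4756: `C_G(g) ∩ D = 1` ⇒ `|C_G(g)| ≤ |G : D|`
-/

set_option autoImplicit false
set_option linter.unusedSectionVars false

universe u

namespace Cfsg.Agent.Helper12.Mult

open Cfsg Cfsg.Agent.Helper79.Mult

variable {G : Type u} [Group G] [Finite G]

/-- (CEN) `C_G(g) ∩ D = 1` ⇒ `C_G(g)` embeds in `G/D`. -/
theorem card_centralizer_le_index (D : Subgroup G) [D.Normal] (g : G)
    (hfpf : ∀ d ∈ D, g * d = d * g → d = 1) :
    Nat.card (Subgroup.centralizer ({g} : Set G)) ≤ D.index := by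
  rw [Subgroup.index_eq_card]
  apply Nat.card_le_card_of_injective
    ((QuotientGroup.mk' D).comp (Subgroup.centralizer ({g} : Set G)).subtype)
  rw [injective_iff_map_eq_one]
  intro x hx
  rw [MonoidHom.comp_apply, Subgroup.coe_subtype, QuotientGroup.mk'_apply,
    QuotientGroup.eq_one_iff] at hx
  have hc := x.2
  rw [Subgroup.mem_centralizer_iff] at hc
  have := hfpf x.1 hx (hc g (Set.mem_singleton g))
  exact Subtype.ext this

end Cfsg.Agent.Helper12.Mult
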