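import Mathlib

set_option autoImplicit false

namespace Cfsg.Agent.Helper12

open MulAction SubMulAction

/-- If `G` is `|s|`-transitive and the pointwise stabiliser of `s` is `k`-transitive on the
complement of `s`, then `G` is `(|s| + k)`-transitive. -/
theorem isMultiplyPretransitive_add_of_fixingSubgroup {G α : Type*} [Group G] [MulAction G α]
    (s : Set α) [Finite s] {k : ℕ}
    (hm : IsMultiplyPretransitive G α s.ncard)
    (hk : IsMultiplyPretransitive (fixingSubgroup G s) (ofFixingSubgroup G s) k) :
    IsMultiplyPretransitive G α (s.ncard + k) := by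
  have Hs : Nonempty (Fin (s.ncard) ≃ s) :=
    Finite.card_eq.mp (by simp [Nat.card_coe_set_eq])
  -- key: every embedding is conjugate to an `append`
  have key : ∀ z : Fin (s.ncard + k) ↪ α, ∃ g : G, ∃ x : Fin k ↪ ofFixingSubgroup G s,
      g • z = ofFixingSubgroup.append x := by
    intro z
    let e : Fin s.ncard ↪ α :=
      (Classical.choice Hs).toEmbedding.trans (Function.Embedding.subtype _)
    let z₁ : Fin s.ncard ↪ α := (Fin.castAddEmb k).trans z
    obtain ⟨g, hg⟩ := hm.exists_smul_eq z₁ e
    have hg' : ∀ i : Fin s.ncard, g • z (Fin.castAdd k i) = (Classical.choice Hs) i := by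
      intro i
      have := congrArg (fun w : Fin s.ncard ↪ α => w i) hg
      exact this
    have htail : ∀ i : Fin k, g • z (Fin.natAdd s.ncard i) ∉ s := by
      intro i hi
      let j : Fin s.ncard := (Classical.choice Hs).symm ⟨_, hi⟩
      have hj : ((Classical.choice Hs) j : α) = g • z (Fin.natAdd s.ncard i) := by
        simp [j]
      rw [← hg' j] at hj
      have h1 : z (Fin.castAdd k j) = z (Fin.natAdd s.ncard i) := smul_left_cancel g hj
      have h2 : Fin.castAdd k j = Fin.natAdd s.ncard i := z.injective h1
      have h3 := congrArg Fin.val h2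
      simp only [Fin.val_castAdd, Fin.val_natAdd] at h3
      have := j.2
      omega
    let x : Fin k ↪ ofFixingSubgroup G s :=
      ⟨fun i => ⟨g • z (Fin.natAdd s.ncard i), htail i⟩, by
        intro i i' h
        have h1 : g • z (Fin.natAdd s.ncard i) = g • z (Fin.natAdd s.ncard i') :=
          congrArg Subtype.val h
        have h2 := z.injective (smul_left_cancel g h1)
        have h3 := congrArg Fin.val h2
        simp only [Fin.val_natAdd] at h3
        exact Fin.ext (by omega)⟩
    refine ⟨g, x, ?_⟩
    ext i
    refine Fin.addCases (fun i => ?_) (fun i => ?_) i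
    · rw [ofFixingSubgroup.append_left]
      exact hg' i
    · rw [ofFixingSubgroup.append_right]
      rfl
  rw [isMultiplyPretransitive_iff]
  intro z z'
  obtain ⟨g, x, hx⟩ := key z
  obtain ⟨g', x', hx'⟩ := key z'
  obtain ⟨h, hh⟩ := hk.exists_smul_eq x x'
  refine ⟨g'⁻¹ * (h : G) * g, ?_⟩
  rw [mul_smul, mul_smul, hx, inv_smul_eq_iff, hx']
  ext i
  refine Fin.addCases (fun i => ?_) (fun i => ?_) i
  · rw [Function.Embedding.smul_apply, ofFixingSubgroup.append_left,
      ofFixingSubgroup.append_left]
    exact (mem_fixingSubgroup_iff G).mp h.2 _ (Subtype.coe_prop _)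
  · rw [Function.Embedding.smul_apply, ofFixingSubgroup.append_right,
      ofFixingSubgroup.append_right, ← hh]
    rfl

end Cfsg.Agent.Helper12
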