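import Mathlib

/-!
# Piece (COUNT) of S3612 (helper61's plan, board #8773)
-/

set_option autoImplicit false

namespace Cfsg.Agent.Helper12.N2

open MulAction

/-- (COUNT) disjoint translates of a set under a group fixing `α` and acting freely on the
translates -/
theorem card_mul_card_le {G : Type*} [Group G] {Ω : Type*} [Fintype Ω] [DecidableEq Ω]
    [MulAction G Ω] (E : Subgroup G) [Finite E] (α : Ω) (hα : ∀ n ∈ E, n • α = α) (S : Finset Ω)
    (hαS : α ∉ S)
    (hblk : ∀ n ∈ E, S.image (fun x => n • x) = S ∨ Disjoint (S.image (fun x => n • x)) S)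
    (hfree : ∀ n ∈ E, S.image (fun x => n • x) = S → n = 1) :
    Nat.card E * S.card ≤ Fintype.card Ω - 1 := by
  classical
  have := Fintype.ofFinite E
  -- the translates are pairwise disjoint
  have hdisj : ∀ n ∈ (Finset.univ : Finset E), ∀ n' ∈ (Finset.univ : Finset E), n ≠ n' →
      Disjoint (S.image (fun x => (n : G) • x)) (S.image (fun x => (n' : G) • x)) := by
    intro n _ n' _ hnn'
    have hm : (n : G)⁻¹ * (n' : G) ∈ E := E.mul_mem (E.inv_mem n.2) n'.2
    have hm1 : (n : G)⁻¹ * (n' : G) ≠ 1 := by
      intro h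
      apply hnn'
      apply Subtype.ext
      have := inv_eq_of_mul_eq_one_right h
      rw [inv_inv] at this
      exact this
    have hd : Disjoint (S.image (fun x => ((n : G)⁻¹ * (n' : G)) • x)) S := by
      rcases hblk _ hm with h | h
      · exact absurd (hfree _ hm h) hm1
      · exact h
    rw [Finset.disjoint_left] at hd ⊢
    intro x hx hx'
    obtain ⟨s, hs, rfl⟩ := Finset.mem_image.mp hx
    obtain ⟨s', hs', hss'⟩ := Finset.mem_image.mp hx'
    apply hd _ hs
    rw [Finset.mem_image]
    refine ⟨s', hs', ?_⟩
    have hss'' : (n' : G) • s' = (n : G) • s := hss'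
    rw [mul_smul, hss'', inv_smul_smul]
  have hcard : ∀ n : E, (S.image (fun x => (n : G) • x)).card = S.card := fun n =>
    Finset.card_image_of_injective S (MulAction.injective (n : G))
  have hsub : (Finset.univ : Finset E).biUnion (fun n => S.image (fun x => (n : G) • x)) ⊆
      Finset.univ.erase α := by
    intro x hx
    obtain ⟨n, -, hxn⟩ := Finset.mem_biUnion.mp hx
    obtain ⟨s, hs, rfl⟩ := Finset.mem_image.mp hxn
    rw [Finset.mem_erase]
    refine ⟨?_, Finset.mem_univ _⟩
    intro h
    apply hαS
    have h' : (n : G) • s = α := h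
    have : s = α := by
      have h2 : s = (n : G)⁻¹ • α := by rw [← h', inv_smul_smul]
      rw [h2]
      exact hα _ (E.inv_mem n.2)
    rw [← this]; exact hs
  have h1 := Finset.card_le_card hsub
  rw [Finset.card_biUnion hdisj, Finset.sum_congr rfl (fun n _ => hcard n), Finset.sum_const,
    smul_eq_mul, Finset.card_univ, Finset.card_erase_of_mem (Finset.mem_univ α),
    Finset.card_univ] at h1
  rw [Nat.card_eq_fintype_card]
  exact h1

end Cfsg.Agent.Helper12.N2
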