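import Mathlib
import Cfsg.Agent.Helper61.N2Lab

/-!
# Piece (ECARD) of S3612 (helper61's plan, board #8773)
-/

set_option autoImplicit false

namespace Cfsg.Agent.Helper12.N2

open MulAction Cfsg.Agent.Helper61.N2

/-- (ECARD) the point stabiliser in the Sylow normaliser has index `p` -/
theorem card_normalizer_inf_stabilizer {G : Type*} [Group G] [Finite G] {Ω : Type*} [Fintype Ω]
    [DecidableEq Ω] [MulAction G Ω] [FaithfulSMul G Ω] [IsPretransitive G Ω] {p : ℕ}
    [Fact p.Prime] (hΩ : Fintype.card Ω = p) (P : Sylow p G) (α : Ω) :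
    Nat.card ↥(Subgroup.normalizer ((P : Subgroup G) : Set G) ⊓ stabilizer G α) * p =
      Nat.card ↥(Subgroup.normalizer ((P : Subgroup G) : Set G)) := by
  classical
  have hp : p.Prime := Fact.out
  have : NeZero p := ⟨hp.ne_zero⟩
  obtain ⟨e, ⟨t, htP, ht⟩, -⟩ := exists_label_trans hΩ P
  have htN : t ∈ Subgroup.normalizer ((P : Subgroup G) : Set G) := Subgroup.le_normalizer htP
  -- the normaliser is transitive
  have horb : orbit ↥(Subgroup.normalizer ((P : Subgroup G) : Set G)) α = Set.univ := by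
    rw [Set.eq_univ_iff_forall]
    intro β
    obtain ⟨i, hi⟩ := exists_pow_smul_label e t ht (e.symm β - e.symm α)
    refine ⟨⟨t ^ i, Subgroup.pow_mem _ htN i⟩, ?_⟩
    show t ^ i • α = β
    have h1 := hi (e.symm α)
    rw [e.apply_symm_apply, add_sub_cancel, e.apply_symm_apply] at h1
    exact h1
  have := Fintype.ofFinite ↥(Subgroup.normalizer ((P : Subgroup G) : Set G))
  have h1 := MulAction.card_orbit_mul_card_stabilizer_eq_card_group
    ↥(Subgroup.normalizer ((P : Subgroup G) : Set G)) α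
  have h2 : Fintype.card (orbit ↥(Subgroup.normalizer ((P : Subgroup G) : Set G)) α) = p := by
    calc Fintype.card (orbit ↥(Subgroup.normalizer ((P : Subgroup G) : Set G)) α)
        = Nat.card (orbit ↥(Subgroup.normalizer ((P : Subgroup G) : Set G)) α) :=
          Nat.card_eq_fintype_card.symm
      _ = Nat.card (Set.univ : Set Ω) := by rw [horb]
      _ = Nat.card Ω := Nat.card_congr (Equiv.Set.univ Ω)
      _ = Fintype.card Ω := Nat.card_eq_fintype_card
      _ = p := hΩ
  -- the stabilisers agree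
  have h3 : Nat.card ↥(Subgroup.normalizer ((P : Subgroup G) : Set G) ⊓ stabilizer G α) =
      Fintype.card (stabilizer ↥(Subgroup.normalizer ((P : Subgroup G) : Set G)) α) := by
    rw [← Nat.card_eq_fintype_card]
    refine Nat.card_congr ⟨fun g => ⟨⟨g.1, g.2.1⟩, g.2.2⟩, fun h => ⟨h.1.1, ⟨h.1.2, h.2⟩⟩, ?_, ?_⟩
    · intro g; rfl
    · intro h; rfl
  rw [h3, Nat.card_eq_fintype_card, ← h1, h2, mul_comm]

end Cfsg.Agent.Helper12.N2
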