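import Mathlib

/-!
# Pieces (ORB4) + (UNIQ) of S3612 (helper61's plan, board #8773)
-/

set_option autoImplicit false

namespace Cfsg.Agent.Helper12.N2

open MulAction

/-- (ORB4) at most four orbits and three fixed points: transitive on the rest -/
theorem exists_smul_of_card_orbits_le_four {K : Type*} [Group K] {Ω : Type*} [Finite Ω]
    [MulAction K Ω] (h4 : Nat.card (orbitRel.Quotient K Ω) ≤ 4) (a b c : Ω) (hab : a ≠ b)
    (hac : a ≠ c) (hbc : b ≠ c) (ha : ∀ k : K, k • a = a) (hb : ∀ k : K, k • b = b)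
    (hc : ∀ k : K, k • c = c) (x y : Ω) (hxa : x ≠ a) (hxb : x ≠ b) (hxc : x ≠ c) (hya : y ≠ a)
    (hyb : y ≠ b) (hyc : y ≠ c) : ∃ k : K, k • x = y := by
  classical
  by_contra hno
  push Not at hno
  have key : ∀ u v : Ω, (∀ k : K, k • u = u) → v ≠ u →
      (Quotient.mk'' u : orbitRel.Quotient K Ω) ≠ Quotient.mk'' v := by
    intro u v hu hvu h
    have h1 : u ∈ orbit K v := orbitRel_apply.mp (Quotient.eq''.mp h)
    obtain ⟨k, hk⟩ := h1
    apply hvu
    have hk' : k • v = u := hk
    have : v = k⁻¹ • u := by rw [← hk', inv_smul_smul]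
    rw [this, hu]
  have hxy : (Quotient.mk'' x : orbitRel.Quotient K Ω) ≠ Quotient.mk'' y := by
    intro h
    have h1 : x ∈ orbit K y := orbitRel_apply.mp (Quotient.eq''.mp h)
    obtain ⟨k, hk⟩ := h1
    have hk' : k • y = x := hk
    exact hno k⁻¹ (by rw [← hk', inv_smul_smul])
  have := Fintype.ofFinite (orbitRel.Quotient K Ω)
  have hab' := key a b ha hab.symm
  have hac' := key a c ha hac.symm
  have hax := key a x ha hxa
  have hay := key a y ha hya
  have hbc' := key b c hb hbc.symm
  have hbx := key b x hb hxb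
  have hby := key b y hb hyb
  have hcx := key c x hc hxc
  have hcy := key c y hc hyc
  have hs : ({Quotient.mk'' a, Quotient.mk'' b, Quotient.mk'' c, Quotient.mk'' x,
      Quotient.mk'' y} : Finset (orbitRel.Quotient K Ω)).card = 5 := by
    rw [Finset.card_insert_of_notMem (by simp [hab', hac', hax, hay]),
      Finset.card_insert_of_notMem (by simp [hbc', hbx, hby]),
      Finset.card_insert_of_notMem (by simp [hcx, hcy]),
      Finset.card_insert_of_notMem (by simp [hxy]), Finset.card_singleton]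
  have h5 := Finset.card_le_univ ({Quotient.mk'' a, Quotient.mk'' b, Quotient.mk'' c,
    Quotient.mk'' x, Quotient.mk'' y} : Finset (orbitRel.Quotient K Ω))
  rw [hs, ← Nat.card_eq_fintype_card] at h5
  omega

/-- (UNIQ) uniqueness of the third fixed point -/
theorem third_unique {G : Type*} [Group G] {Ω : Type*} [Fintype Ω] [DecidableEq Ω]
    [MulAction G Ω] (h5 : 5 ≤ Fintype.card Ω) (a b c c' : Ω) (hca : c ≠ a) (hcb : c ≠ b)
    (hc'a : c' ≠ a) (hc'b : c' ≠ b)
    (htr : ∀ x y, x ≠ a → x ≠ b → x ≠ c → y ≠ a → y ≠ b → y ≠ c →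
      ∃ g : G, g • a = a ∧ g • b = b ∧ g • x = y)
    (hc' : ∀ g : G, g • a = a → g • b = b → g • c' = c') : c' = c := by
  by_contra hne
  have hlt : ({a, b, c, c'} : Finset Ω).card < (Finset.univ : Finset Ω).card := by
    have := Finset.card_le_four (a := a) (b := b) (c := c) (d := c')
    rw [Finset.card_univ]
    omega
  obtain ⟨y, -, hy⟩ := Finset.exists_mem_notMem_of_card_lt_card hlt
  simp only [Finset.mem_insert, Finset.mem_singleton, not_or] at hy
  obtain ⟨hya, hyb, hyc, hyc'⟩ := hy
  obtain ⟨g, hga, hgb, hgy⟩ := htr c' y hc'a hc'b hne hya hyb hyc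
  rw [hc' g hga hgb] at hgy
  exact hyc' hgy.symm

end Cfsg.Agent.Helper12.N2
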