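import Mathlib
import Cfsg.Prelude.Def_Perm

set_option autoImplicit false

namespace Cfsg.Agent.Helper12

namespace NF

variable {F : Type*} [Cfsg.NearField F]

theorem add_mul' (a b c : F) : (a + b) * c = a * c + b * c := Cfsg.NearField.right_distrib a b c

theorem mul_zero' (a : F) : a * 0 = 0 := Cfsg.NearField.mul_zero a

theorem zero_ne_one' : (0 : F) ≠ 1 := Cfsg.NearField.zero_ne_one

theorem zero_mul' (c : F) : (0 : F) * c = 0 := by
  have h := add_mul' (0 : F) 0 c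
  rw [add_zero] at h
  have h2 : (0 : F) * c + 0 = 0 * c + 0 * c := by rw [add_zero]; exact h
  exact (add_left_cancel h2).symm

theorem neg_mul' (a c : F) : (-a) * c = -(a * c) := by
  have h := add_mul' a (-a) c
  rw [add_neg_cancel, zero_mul'] at h
  exact (neg_eq_of_add_eq_zero_right h.symm).symm

theorem sub_mul' (a b c : F) : (a - b) * c = a * c - b * c := by
  rw [sub_eq_add_neg, add_mul', neg_mul', ← sub_eq_add_neg]

theorem exists_inv' {a : F} (ha : a ≠ 0) : ∃ b : F, a * b = 1 ∧ b * a = 1 :=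
  Cfsg.NearField.exists_inv a ha

theorem eq_zero_of_mul_eq_zero {a b : F} (h : a * b = 0) (ha : a ≠ 0) : b = 0 := by
  obtain ⟨a', _, h2⟩ := exists_inv' ha
  calc b = 1 * b := (one_mul b).symm
    _ = a' * a * b := by rw [h2]
    _ = a' * (a * b) := mul_assoc _ _ _
    _ = 0 := by rw [h, mul_zero']

theorem mul_ne_zero' {a b : F} (ha : a ≠ 0) (hb : b ≠ 0) : a * b ≠ 0 :=
  fun h => hb (eq_zero_of_mul_eq_zero h ha)

theorem inv_ne_zero' {a b : F} (h : a * b = 1) : b ≠ 0 := by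
  rintro rfl
  rw [mul_zero'] at h
  exact zero_ne_one' h

theorem mul_left_cancel' {a b c : F} (ha : a ≠ 0) (h : a * b = a * c) : b = c := by
  obtain ⟨a', _, h2⟩ := exists_inv' ha
  calc b = a' * a * b := by rw [h2, one_mul]
    _ = a' * (a * b) := mul_assoc _ _ _
    _ = a' * (a * c) := by rw [h]
    _ = a' * a * c := (mul_assoc _ _ _).symm
    _ = c := by rw [h2, one_mul]

theorem mul_right_cancel' {a b c : F} (hc : c ≠ 0) (h : a * c = b * c) : a = b := by
  obtain ⟨c', h1, _⟩ := exists_inv' hc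
  calc a = a * (c * c') := by rw [h1, mul_one]
    _ = a * c * c' := (mul_assoc _ _ _).symm
    _ = b * c * c' := by rw [h]
    _ = b * (c * c') := mul_assoc _ _ _
    _ = b := by rw [h1, mul_one]

/-- The group of affine maps `x ↦ x * a + b`, `a ≠ 0`, of a near-field. -/
def affine (F : Type*) [Cfsg.NearField F] : Subgroup (Equiv.Perm F) where
  carrier := {σ | ∃ a b : F, a ≠ 0 ∧ ∀ x : F, σ x = x * a + b}
  one_mem' := ⟨1, 0, zero_ne_one'.symm, fun x => by simp⟩
  mul_mem' := by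
    rintro σ τ ⟨a, b, ha, hσ⟩ ⟨c, d, hc, hτ⟩
    refine ⟨c * a, d * a + b, mul_ne_zero' hc ha, fun x => ?_⟩
    rw [Equiv.Perm.coe_mul, Function.comp_apply, hτ, hσ, add_mul', mul_assoc, add_assoc]
  inv_mem' := by
    rintro σ ⟨a, b, ha, hσ⟩
    obtain ⟨a', h1, h2⟩ := exists_inv' ha
    refine ⟨a', (-b) * a', inv_ne_zero' h1, fun x => ?_⟩
    apply σ.injective
    rw [Equiv.Perm.inv_def, Equiv.apply_symm_apply, hσ, add_mul', mul_assoc, mul_assoc, h2,
      mul_one, mul_one, add_assoc, neg_add_cancel, add_zero]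

theorem mem_affine (σ : Equiv.Perm F) :
    σ ∈ affine F ↔ ∃ a b : F, a ≠ 0 ∧ ∀ x : F, σ x = x * a + b := Iff.rfl

theorem affine_two_transitive {x₁ x₂ y₁ y₂ : F} (hx : x₁ ≠ x₂) (hy : y₁ ≠ y₂) :
    ∃ σ : affine F, σ • x₁ = y₁ ∧ σ • x₂ = y₂ := by
  have hu : x₁ - x₂ ≠ 0 := sub_ne_zero.mpr hx
  have hv : y₁ - y₂ ≠ 0 := sub_ne_zero.mpr hy
  obtain ⟨u', h1, h2⟩ := exists_inv' hu
  have hu' : u' ≠ 0 := inv_ne_zero' h1
  set a : F := u' * (y₁ - y₂) with ha_def
  have ha : a ≠ 0 := mul_ne_zero' hu' hv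
  obtain ⟨a', ha1, ha2⟩ := exists_inv' ha
  set b : F := -(x₁ * a) + y₁ with hb_def
  have key1 : x₁ * a + b = y₁ := by
    rw [hb_def, ← add_assoc, add_neg_cancel, zero_add]
  have key2 : x₂ * a + b = y₂ := by
    have h3 : (x₁ - x₂) * a = y₁ - y₂ := by
      rw [ha_def, ← mul_assoc, h1, one_mul]
    have h4 : x₂ * a - x₁ * a = y₂ - y₁ := by
      rw [← neg_sub (x₁ * a), ← sub_mul', h3, neg_sub]
    rw [hb_def, ← add_assoc, ← sub_eq_add_neg, h4, sub_add_cancel]
  -- the permutation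
  let σ : Equiv.Perm F :=
    { toFun := fun x => x * a + b
      invFun := fun y => (y - b) * a'
      left_inv := by
        intro x
        change (x * a + b - b) * a' = x
        rw [add_sub_cancel_right, mul_assoc, ha1, mul_one]
      right_inv := by
        intro y
        change (y - b) * a' * a + b = y
        rw [mul_assoc, ha2, mul_one, sub_add_cancel] }
  have hσ : σ ∈ affine F := ⟨a, b, ha, fun x => rfl⟩
  exact ⟨⟨σ, hσ⟩, key1, key2⟩

theorem affine_sharp {x₁ x₂ : F} (hx : x₁ ≠ x₂) (σ : Equiv.Perm F) (hσ : σ ∈ affine F)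
    (h1 : σ x₁ = x₁) (h2 : σ x₂ = x₂) : σ = 1 := by
  obtain ⟨a, b, ha, hab⟩ := hσ
  have hu : x₁ - x₂ ≠ 0 := sub_ne_zero.mpr hx
  rw [hab] at h1 h2
  have h3 : (x₁ - x₂) * a = (x₁ - x₂) * 1 := by
    rw [sub_mul', mul_one]
    calc x₁ * a - x₂ * a = (x₁ * a + b) - (x₂ * a + b) := (add_sub_add_right_eq_sub _ _ _).symm
      _ = x₁ - x₂ := by rw [h1, h2]
  have ha1 : a = 1 := mul_left_cancel' hu h3
  have hb : b = 0 := by
    rw [ha1, mul_one] at h1
    exact add_eq_left.mp h1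
  ext x
  rw [hab, ha1, hb, mul_one, add_zero, Equiv.Perm.coe_one, id]

end NF

end Cfsg.Agent.Helper12
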