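import Mathlib
import Cfsg.Agent.S0684

/-!
Basic facts on linear groups over a prime field that are regular on nonzero vectors (helper12).
-/

set_option autoImplicit false

namespace Cfsg.Agent.Helper12.NfBasic

open Cfsg.Agent.S0684 (actHom actHom_apply fpf_of_reg)

variable {p : ℕ} [Fact p.Prime] {V : Type*} [AddCommGroup V] [Module (ZMod p) V]

/-- `|H| + 1 = |V|` -/
theorem card_add_one [Finite V] [Nontrivial V] (H : Subgroup (V ≃ₗ[ZMod p] V))
    (hreg : ∀ v w : V, v ≠ 0 → w ≠ 0 → ∃! h : H, (h : V ≃ₗ[ZMod p] V) v = w) :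
    Nat.card H + 1 = Nat.card V := by
  obtain ⟨w, hw0⟩ := exists_ne (0 : V)
  have hbij : Function.Bijective (fun g : H => (⟨(g : V ≃ₗ[ZMod p] V) w, by
      intro h0
      exact hw0 ((LinearEquiv.map_eq_zero_iff _).mp h0)⟩ : {x : V // x ≠ 0})) := by
    constructor
    · intro g g' hgg
      have h1 : (g : V ≃ₗ[ZMod p] V) w = (g' : V ≃ₗ[ZMod p] V) w := congrArg Subtype.val hgg
      have hne : (g' : V ≃ₗ[ZMod p] V) w ≠ 0 := fun h0 =>
        hw0 ((LinearEquiv.map_eq_zero_iff _).mp h0)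
      obtain ⟨g0, _, huniq⟩ := hreg w _ hw0 hne
      rw [huniq g h1, huniq g' rfl]
    · rintro ⟨x, hx⟩
      obtain ⟨g, hg, _⟩ := hreg w x hw0 hx
      exact ⟨g, Subtype.ext hg⟩
  have h1 : Nat.card H = Nat.card {x : V // x ≠ 0} := Nat.card_congr (Equiv.ofBijective _ hbij)
  have h3 : Nat.card {x : V // x ≠ 0} = ({x : V | x ≠ 0} : Set V).ncard := by
    rw [← Nat.card_coe_set_eq]
    rfl
  have h4 : ({x : V | x ≠ 0} : Set V) = (Set.univ : Set V) \ {0} := by
    ext x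
    simp
  rw [h1, h3, h4, Set.ncard_sdiff_singleton_of_mem (Set.mem_univ _), Set.ncard_univ]
  have : 0 < Nat.card V := Nat.card_pos
  omega

/-- no elementary abelian subgroups of rank two -/
theorem nr2 [Finite V] [Nontrivial V] (H : Subgroup (V ≃ₗ[ZMod p] V))
    (hreg : ∀ v w : V, v ≠ 0 → w ≠ 0 → ∃! h : H, (h : V ≃ₗ[ZMod p] V) v = w)
    (r : ℕ) (hr : r.Prime) (a b : H) (hab : Commute a b) (ha : a ^ r = 1) (hb : b ^ r = 1)
    (hb1 : b ≠ 1) : ∃ i : ℕ, a * b ^ i = 1 := by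
  by_contra hcon
  push Not at hcon
  haveI : Fact r.Prime := ⟨hr⟩
  let φ : H →* MulAut (Multiplicative V) := actHom.comp H.subtype
  refine Cfsg.Agent.Helper1.fpf_no_rank_two φ ?_ a b hab ha hb hb1 hcon
  intro c hc v hv
  by_contra hv1
  apply hc
  have hv0 : Multiplicative.toAdd v ≠ 0 := fun h => hv1 (by
    rw [← ofAdd_toAdd v, h]; rfl)
  have hfix : (c : V ≃ₗ[ZMod p] V) (Multiplicative.toAdd v) = Multiplicative.toAdd v := by
    have := congrArg Multiplicative.toAdd hv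
    exact this
  exact fpf_of_reg H hreg c _ hv0 hfix

/-- an involution of a regular linear group is `-1` -/
theorem involution_neg (H : Subgroup (V ≃ₗ[ZMod p] V))
    (hreg : ∀ v w : V, v ≠ 0 → w ≠ 0 → ∃! h : H, (h : V ≃ₗ[ZMod p] V) v = w)
    (h : H) (h1 : h ≠ 1) (hh : h * h = 1) (v : V) : (h : V ≃ₗ[ZMod p] V) v = -v := by
  have hfix : (h : V ≃ₗ[ZMod p] V) (v + (h : V ≃ₗ[ZMod p] V) v) = v + (h : V ≃ₗ[ZMod p] V) v := by
    rw [map_add]
    have : (h : V ≃ₗ[ZMod p] V) ((h : V ≃ₗ[ZMod p] V) v) = v := by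
      have h2 := congrArg (fun g : H => (g : V ≃ₗ[ZMod p] V) v) hh
      simpa using h2
    rw [this, add_comm]
  by_contra hne
  have hw0 : v + (h : V ≃ₗ[ZMod p] V) v ≠ 0 := by
    intro h0
    apply hne
    rw [add_comm] at h0
    exact eq_neg_of_add_eq_zero_left h0
  exact h1 (fpf_of_reg H hreg h _ hw0 hfix)

end Cfsg.Agent.Helper12.NfBasic
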