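import Mathlib
import Cfsg.Agent.S0016

/-!
Group-theoretic part of the analysis of soluble Frobenius complements without irreducible cyclic
normal subgroups (helper12): a minimal non-abelian normal subgroup centralising a maximal normal
abelian subgroup is quaternion of order 8, provided the group is soluble and has no
elementary abelian subgroups of rank two.
-/

set_option autoImplicit false

namespace Cfsg.Agent.Helper12.NfGrp

open scoped Pointwise commutatorElement

variable {H : Type*} [Group H]

theorem exists_maximal_normal_abelian [Finite H] :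
    ∃ A : Subgroup H, A.Normal ∧ IsMulCommutative A ∧
      ∀ B : Subgroup H, B.Normal → IsMulCommutative B → A ≤ B → B = A := by
  let s : Set (Subgroup H) := {B | B.Normal ∧ IsMulCommutative B}
  have hbot : (⊥ : Subgroup H) ∈ s := by
    refine ⟨inferInstance, ⟨⟨fun a b => ?_⟩⟩⟩
    apply Subtype.ext
    have ha := Subgroup.mem_bot.mp a.2
    have hb := Subgroup.mem_bot.mp b.2
    simp [ha, hb]
  obtain ⟨A, -, hA⟩ := (Set.toFinite s).exists_le_maximal hbot
  refine ⟨A, hA.1.1, hA.1.2, fun B hBn hBc hAB => ?_⟩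
  exact le_antisymm (hA.2 ⟨hBn, hBc⟩ hAB) hAB

theorem exists_minimal_nonabelian_normal [Finite H] (C : Subgroup H) (hCn : C.Normal)
    (hC : ¬ IsMulCommutative C) :
    ∃ N : Subgroup H, N.Normal ∧ N ≤ C ∧ ¬ IsMulCommutative N ∧
      ∀ M : Subgroup H, M.Normal → M ≤ N → ¬ IsMulCommutative M → M = N := by
  let s : Set (Subgroup H) := {B | B.Normal ∧ ¬ IsMulCommutative B}
  have hmem : C ∈ s := ⟨hCn, hC⟩
  obtain ⟨N, hNC, hN⟩ := (Set.toFinite s).exists_le_minimal hmem
  refine ⟨N, hN.1.1, hNC, hN.1.2, fun M hMn hMN hMc => ?_⟩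
  exact le_antisymm hMN (hN.2 ⟨hMn, hMc⟩ hMN)

/-- two commuting commutative subgroups, one of them normal, generate a commutative subgroup -/
theorem isMulCommutative_sup (A M : Subgroup H) [A.Normal] (hA : IsMulCommutative A)
    (hM : IsMulCommutative M) (hc : ∀ a ∈ A, ∀ m ∈ M, a * m = m * a) :
    IsMulCommutative (A ⊔ M : Subgroup H) := by
  refine ⟨⟨fun x y => ?_⟩⟩
  apply Subtype.ext
  have hx : (x : H) ∈ (A : Set H) * (M : Set H) := by
    rw [← Subgroup.normal_mul]
    exact x.2
  have hy : (y : H) ∈ (A : Set H) * (M : Set H) := by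
    rw [← Subgroup.normal_mul]
    exact y.2
  obtain ⟨a, ha, m, hm, hxe⟩ := hx
  obtain ⟨a', ha', m', hm', hye⟩ := hy
  have e1 : a * a' = a' * a := congrArg Subtype.val (mul_comm' (⟨a, ha⟩ : A) ⟨a', ha'⟩)
  have e2 : m * m' = m' * m := congrArg Subtype.val (mul_comm' (⟨m, hm⟩ : M) ⟨m', hm'⟩)
  have e3 := hc a' ha' m hm
  have e4 := hc a ha m' hm'
  show (x : H) * (y : H) = (y : H) * (x : H)
  rw [← hxe, ← hye]
  show a * m * (a' * m') = a' * m' * (a * m)
  calc a * m * (a' * m') = a * (m * a') * m' := by group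
    _ = a * (a' * m) * m' := by rw [e3]
    _ = (a * a') * (m * m') := by group
    _ = (a' * a) * (m' * m) := by rw [e1, e2]
    _ = a' * (a * m') * m := by group
    _ = a' * (m' * a) * m := by rw [e4]
    _ = a' * m' * (a * m) := by group

section main

variable [Finite H]
  (A : Subgroup H) (hAn : A.Normal) (hAc : IsMulCommutative A)
  (hAmax : ∀ B : Subgroup H, B.Normal → IsMulCommutative B → A ≤ B → B = A)
  (N : Subgroup H) (hNn : N.Normal) (hNle : N ≤ Subgroup.centralizer (A : Set H))
  (hNmin : ∀ M : Subgroup H, M.Normal → M ≤ N → ¬ IsMulCommutative M → M = N)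

include hAn hAc hAmax hNle in
/-- commutative normal subgroups inside `N` lie in `A` -/
theorem le_of_comm (M : Subgroup H) (hMn : M.Normal) (hMN : M ≤ N) (hMc : IsMulCommutative M) :
    M ≤ A := by
  haveI := hAn
  haveI := hMn
  have hsup : IsMulCommutative (A ⊔ M : Subgroup H) := by
    apply isMulCommutative_sup A M hAc hMc
    intro a ha m hm
    exact ((Subgroup.mem_centralizer_iff.mp (hNle (hMN hm))) a ha)
  have := hAmax (A ⊔ M) inferInstance hsup le_sup_left
  rw [← this]
  exact le_sup_right

include hAn hAc hAmax hNle hNn hNmin in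
/-- `N` has class at most two when it is soluble -/
theorem commutator_central (hsolv : Group.IsSolvable H) (hNna : ¬ IsMulCommutative N)
    (x y z : H) (hx : x ∈ N) (hy : y ∈ N) (hz : z ∈ N) : ⁅x, y⁆ * z = z * ⁅x, y⁆ := by
  haveI := hNn
  have hcn : (⁅N, N⁆ : Subgroup H).Normal := inferInstance
  have hcle : (⁅N, N⁆ : Subgroup H) ≤ N := Subgroup.commutator_le_left N N
  have hcc : IsMulCommutative (⁅N, N⁆ : Subgroup H) := by
    by_contra hcon
    have heq := hNmin _ hcn hcle hcon
    -- `N` perfect and soluble, hence trivial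
    by_cases hnt : N = ⊥
    · apply hNna
      refine ⟨⟨fun a b => ?_⟩⟩
      apply Subtype.ext
      have ha : (a : H) = 1 := (Subgroup.eq_bot_iff_forall N).mp hnt a a.2
      have hb : (b : H) = 1 := (Subgroup.eq_bot_iff_forall N).mp hnt b b.2
      simp [ha, hb]
    · exact absurd heq (ne_of_lt (Group.IsSolvable.commutator_lt_of_ne_bot hnt))
  have hcA := le_of_comm A hAn hAc hAmax N hNle _ hcn hcle hcc
  have hmem : ⁅x, y⁆ ∈ A := hcA (Subgroup.commutator_mem_commutator hx hy)
  exact ((Subgroup.mem_centralizer_iff.mp (hNle hz)) _ hmem)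

end main

/-- a minimal non-abelian normal subgroup of class two is a group of prime power order -/
theorem isPGroup_of_minimal [Finite H] (N : Subgroup H) (hNn : N.Normal)
    (hNna : ¬ IsMulCommutative N)
    (hNmin : ∀ M : Subgroup H, M.Normal → M ≤ N → ¬ IsMulCommutative M → M = N)
    (hcl2 : ∀ x y z : H, x ∈ N → y ∈ N → z ∈ N → ⁅x, y⁆ * z = z * ⁅x, y⁆) :
    ∃ r : ℕ, r.Prime ∧ IsPGroup r N := by
  haveI := hNn
  have hnil : Group.IsNilpotent N := by
    rw [Subgroup.nilpotent_iff_lowerCentralSeries]
    refine ⟨2, ?_⟩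
    rw [Subgroup.lowerCentralSeries_succ, Subgroup.lowerCentralSeries_succ,
      Subgroup.lowerCentralSeries_zero, Subgroup.commutator_eq_bot_iff_le_centralizer,
      Subgroup.commutator_le]
    intro x _ y _
    rw [Subgroup.mem_centralizer_iff]
    intro z _
    apply Subtype.ext
    have := hcl2 x y z x.2 y.2 z.2
    exact this.symm
  by_cases hex : ∃ (r : ℕ) (hr : r.Prime), ∃ P : Sylow r N, ¬ IsMulCommutative (P : Subgroup N)
  · obtain ⟨r, hr, P, hP⟩ := hex
    haveI : Fact r.Prime := ⟨hr⟩
    refine ⟨r, hr, ?_⟩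
    have hPn : (P : Subgroup N).Normal := inferInstance
    haveI : (P : Subgroup N).Characteristic := Sylow.characteristic_of_normal P hPn
    have hMn : ((P : Subgroup N).map N.subtype).Normal := inferInstance
    have hMle : (P : Subgroup N).map N.subtype ≤ N := by
      rintro _ ⟨x, _, rfl⟩
      exact x.2
    have hMna : ¬ IsMulCommutative ((P : Subgroup N).map N.subtype) := by
      intro hc
      apply hP
      refine ⟨⟨fun a b => ?_⟩⟩
      let e := (P : Subgroup N).equivMapOfInjective N.subtype N.subtype_injective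
      apply e.injective
      rw [map_mul, map_mul]
      exact mul_comm' _ _
    have hMeq := hNmin _ hMn hMle hMna
    have hPtop : (P : Subgroup N) = ⊤ := by
      apply Subgroup.map_injective N.subtype_injective
      rw [hMeq, ← MonoidHom.range_eq_map, Subgroup.range_subtype]
    have h1 : IsPGroup r (P : Subgroup N) := P.isPGroup'
    rw [hPtop] at h1
    exact h1.of_equiv Subgroup.topEquiv
  · exfalso
    push Not at hex
    apply hNna
    let e := Sylow.directProductOfNormal (G := N) (fun {p} _ P => inferInstance)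
    refine ⟨⟨fun a b => ?_⟩⟩
    apply e.symm.injective
    rw [map_mul, map_mul]
    funext q P
    have hq : (q : ℕ).Prime := Nat.prime_of_mem_primeFactors q.2
    haveI := hex q hq P
    show e.symm a q P * e.symm b q P = e.symm b q P * e.symm a q P
    exact mul_comm' _ _

theorem isMulCommutative_of_isCyclic {G : Type*} [Group G] (h : IsCyclic G) :
    IsMulCommutative G := by
  letI := IsCyclic.commGroup (α := G)
  exact ⟨⟨fun a b => mul_comm a b⟩⟩

/-- a generalised quaternion group of class two has order eight (or four) -/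
theorem quaternion_class_two (m : ℕ) [NeZero m]
    (h : ∀ x y : QuaternionGroup m, x * (y * x * y⁻¹) = y * x * y⁻¹ * x) : m ∣ 2 := by
  have hinv : (QuaternionGroup.a 1 : QuaternionGroup m)⁻¹ = QuaternionGroup.a (-1) := by
    apply inv_eq_of_mul_eq_one_right
    rw [QuaternionGroup.a_mul_a, add_neg_cancel, QuaternionGroup.a_zero]
  have h1 := h (QuaternionGroup.xa 0) (QuaternionGroup.a 1)
  rw [hinv] at h1
  simp only [QuaternionGroup.a_mul_xa, QuaternionGroup.xa_mul_a, QuaternionGroup.xa_mul_xa,
    QuaternionGroup.a.injEq] at h1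
  have h2 : ((4 : ℕ) : ZMod (2 * m)) = 0 := by
    push_cast
    linear_combination (-1 : ZMod (2 * m)) * h1
  have h3 := (ZMod.natCast_eq_zero_iff 4 (2 * m)).mp h2
  have : 2 * m ∣ 2 * 2 := h3
  exact (Nat.mul_dvd_mul_iff_left (by norm_num)).mp this

/-- a non-abelian `r`-group of class two without elementary abelian subgroups of rank two is
quaternion of order eight -/
theorem quaternion_of_pgroup [Finite H]
    (hNR2 : ∀ r : ℕ, r.Prime → ∀ a b : H, Commute a b → a ^ r = 1 → b ^ r = 1 → b ≠ 1 →
      ∃ i : ℕ, a * b ^ i = 1)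
    (N : Subgroup H) (hNna : ¬ IsMulCommutative N) (r : ℕ) (hr : r.Prime) (hN : IsPGroup r N)
    (hcl2 : ∀ x y z : H, x ∈ N → y ∈ N → z ∈ N → ⁅x, y⁆ * z = z * ⁅x, y⁆) :
    Nonempty (N ≃* QuaternionGroup 2) := by
  haveI : Fact r.Prime := ⟨hr⟩
  haveI : Nontrivial N := by
    by_contra hnt
    rw [not_nontrivial_iff_subsingleton] at hnt
    exact hNna ⟨⟨fun a b => Subsingleton.elim _ _⟩⟩
  haveI : Nontrivial (Subgroup.center N) := hN.center_nontrivial
  have hdvd : r ∣ Nat.card (Subgroup.center N) := by
    rcases (hN.to_subgroup (Subgroup.center N)).card_eq_or_dvd with h1 | h1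
    · have := Finite.one_lt_card (α := Subgroup.center N)
      omega
    · exact h1
  obtain ⟨z, hz⟩ := exists_prime_orderOf_dvd_card' r hdvd
  have hz1 : ((z : N) : H) ≠ 1 := by
    intro h
    have : z = 1 := Subtype.ext (Subtype.ext h)
    rw [this, orderOf_one] at hz
    exact hr.one_lt.ne hz
  have hzr : ((z : N) : H) ^ r = 1 := by
    have := pow_orderOf_eq_one z
    rw [hz] at this
    have h2 := congrArg (fun t : Subgroup.center N => ((t : N) : H)) this
    simpa using h2
  have hzo : orderOf (z : N) = r := by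
    rw [← hz]
    exact Subgroup.orderOf_coe z
  have uniq : ∀ K : Subgroup N, Nat.card K = r → K = Subgroup.zpowers (z : N) := by
    intro K hK
    apply Subgroup.eq_of_le_of_card_ge
    · intro x hx
      have hxr : (x : H) ^ r = 1 := by
        have := pow_card_eq_one' (G := K) (x := ⟨x, hx⟩)
        rw [hK] at this
        have h2 := congrArg (fun t : K => ((t : N) : H)) this
        simpa using h2
      have hcomm : Commute (x : H) ((z : N) : H) := by
        have := (Subgroup.mem_center_iff.mp z.2) x
        have h2 := congrArg (Subtype.val : N → H) this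
        exact h2
      obtain ⟨i, hi⟩ := hNR2 r hr (x : H) ((z : N) : H) hcomm hxr hzr hz1
      have hi' : x * (z : N) ^ i = 1 := Subtype.ext (by simpa using hi)
      have : x = ((z : N) ^ i)⁻¹ := eq_inv_of_mul_eq_one_left hi'
      rw [this]
      exact Subgroup.inv_mem _ (Subgroup.pow_mem _ (Subgroup.mem_zpowers _) i)
    · rw [Nat.card_zpowers, hzo, hK]
  rcases Cfsg.Agent.S0016.result (G := N) r hN
    (fun K1 K2 h1 h2 => (uniq K1 h1).trans (uniq K2 h2).symm) with hc | ⟨_, n, ⟨e⟩⟩
  · exact absurd (isMulCommutative_of_isCyclic hc) hNna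
  · have hcl : ∀ x y : QuaternionGroup (2 ^ n), x * (y * x * y⁻¹) = y * x * y⁻¹ * x := by
      intro x y
      obtain ⟨x', rfl⟩ := e.surjective x
      obtain ⟨y', rfl⟩ := e.surjective y
      rw [← map_inv, ← map_mul, ← map_mul, ← map_mul, ← map_mul]
      congr 1
      apply Subtype.ext
      have h0 := hcl2 y' x' x' y'.2 x'.2 x'.2
      rw [commutatorElement_def] at h0
      show (x' : H) * ((y' : H) * (x' : H) * (y' : H)⁻¹) = (y' : H) * (x' : H) * (y' : H)⁻¹ * (x' : H)
      have e1 : (y' : H) * (x' : H) * (y' : H)⁻¹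
          = (y' : H) * (x' : H) * (y' : H)⁻¹ * (x' : H)⁻¹ * (x' : H) := by
        group
      rw [e1]
      calc (x' : H) * ((y' : H) * (x' : H) * (y' : H)⁻¹ * (x' : H)⁻¹ * (x' : H))
          = ((x' : H) * ((y' : H) * (x' : H) * (y' : H)⁻¹ * (x' : H)⁻¹)) * (x' : H) := by
            simp only [mul_assoc]
        _ = (y' : H) * (x' : H) * (y' : H)⁻¹ * (x' : H)⁻¹ * (x' : H) * (x' : H) := by
            rw [← h0]
    have hdiv := quaternion_class_two (2 ^ n) hcl
    have hn : n = 0 ∨ n = 1 := by
      have hle : 2 ^ n ≤ 2 ^ 1 := Nat.le_of_dvd (by norm_num) hdiv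
      have := (Nat.pow_le_pow_iff_right (by norm_num : 1 < 2)).mp hle
      omega
    rcases hn with rfl | rfl
    · exfalso
      apply hNna
      have hc : IsCyclic (QuaternionGroup (2 ^ 0)) := QuaternionGroup.quaternionGroup_one_isCyclic
      have hc' : IsCyclic N := isCyclic_of_surjective e.symm e.symm.surjective
      exact isMulCommutative_of_isCyclic hc'
    · exact ⟨e⟩

end Cfsg.Agent.Helper12.NfGrp
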