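import Mathlib

/-!
Linear groups transitive on nonzero vectors (helper12): a subgroup normalised by such a group
is either commutative or irreducible; the centraliser of an irreducible subgroup is commutative.
Both via the enveloping algebra being a finite domain (Wedderburn).
-/

set_option autoImplicit false

namespace Cfsg.Agent.Helper12.NfIrr

variable {k : Type*} [Field k] {V : Type*} [AddCommGroup V] [Module k V]

/-- the endomorphisms coming from a subgroup of linear automorphisms -/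
def endSet (S : Subgroup (V ≃ₗ[k] V)) : Set (Module.End k V) :=
  {f | ∃ s ∈ S, f = (s : V →ₗ[k] V)}

/-- the enveloping algebra of `S` -/
def env (S : Subgroup (V ≃ₗ[k] V)) : Subalgebra k (Module.End k V) :=
  Algebra.adjoin k (endSet S)

/-- the cyclic submodule `env S • v` -/
def cyc (S : Subgroup (V ≃ₗ[k] V)) (v : V) : Submodule k V :=
  (Subalgebra.toSubmodule (env S)).map (LinearMap.applyₗ v)

theorem mem_cyc {S : Subgroup (V ≃ₗ[k] V)} {v x : V} :
    x ∈ cyc S v ↔ ∃ e ∈ env S, e v = x := by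
  unfold cyc
  rw [Submodule.mem_map]
  constructor
  · rintro ⟨e, he, rfl⟩
    exact ⟨e, he, rfl⟩
  · rintro ⟨e, he, rfl⟩
    exact ⟨e, he, rfl⟩

theorem self_mem_cyc (S : Subgroup (V ≃ₗ[k] V)) (v : V) : v ∈ cyc S v :=
  mem_cyc.mpr ⟨1, Subalgebra.one_mem _, rfl⟩

theorem apply_mem_cyc {S : Subgroup (V ≃ₗ[k] V)} {e : Module.End k V} (he : e ∈ env S) (v : V) :
    e v ∈ cyc S v :=
  mem_cyc.mpr ⟨e, he, rfl⟩

theorem cyc_le_of_mem {S : Subgroup (V ≃ₗ[k] V)} {v w : V} (h : w ∈ cyc S v) :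
    cyc S w ≤ cyc S v := by
  intro x hx
  obtain ⟨e, he, rfl⟩ := mem_cyc.mp hx
  obtain ⟨f, hf, rfl⟩ := mem_cyc.mp h
  exact mem_cyc.mpr ⟨e * f, Subalgebra.mul_mem _ he hf, rfl⟩

theorem mem_env_of_mem {S : Subgroup (V ≃ₗ[k] V)} {s : V ≃ₗ[k] V} (hs : s ∈ S) :
    ((s : V →ₗ[k] V) : Module.End k V) ∈ env S :=
  Algebra.subset_adjoin ⟨s, hs, rfl⟩

/-- invariance under `S` gives invariance under the enveloping algebra -/
theorem env_invariant {S : Subgroup (V ≃ₗ[k] V)} (W : Submodule k V)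
    (hW : ∀ s ∈ S, ∀ v ∈ W, s v ∈ W) {e : Module.End k V} (he : e ∈ env S) :
    ∀ v ∈ W, e v ∈ W := by
  unfold env at he
  induction he using Algebra.adjoin_induction with
  | mem x hx =>
    obtain ⟨s, hs, rfl⟩ := hx
    intro v hv
    exact hW s hs v hv
  | algebraMap r =>
    intro v hv
    rw [Module.algebraMap_end_apply]
    exact W.smul_mem r hv
  | add x y _ _ hx hy =>
    intro v hv
    rw [LinearMap.add_apply]
    exact W.add_mem (hx v hv) (hy v hv)
  | mul x y _ _ hx hy =>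
    intro v hv
    rw [Module.End.mul_apply]
    exact hx _ (hy v hv)

/-- conjugation by a normalising element preserves the enveloping algebra -/
theorem env_conj {S : Subgroup (V ≃ₗ[k] V)} (h : V ≃ₗ[k] V)
    (hn : ∀ s ∈ S, h * s * h⁻¹ ∈ S) {e : Module.End k V} (he : e ∈ env S) :
    (h : V →ₗ[k] V) ∘ₗ e ∘ₗ (h.symm : V →ₗ[k] V) ∈ env S := by
  unfold env at he
  induction he using Algebra.adjoin_induction with
  | mem x hx =>
    obtain ⟨s, hs, rfl⟩ := hx
    have := mem_env_of_mem (hn s hs)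
    convert this using 1
    ext v
    rfl
  | algebraMap r =>
    have : (h : V →ₗ[k] V) ∘ₗ (algebraMap k (Module.End k V) r) ∘ₗ (h.symm : V →ₗ[k] V)
        = algebraMap k (Module.End k V) r := by
      ext v
      simp [Module.algebraMap_end_apply]
    rw [this]
    exact Subalgebra.algebraMap_mem _ r
  | add x y _ _ hx hy =>
    have : (h : V →ₗ[k] V) ∘ₗ (x + y) ∘ₗ (h.symm : V →ₗ[k] V)
        = (h : V →ₗ[k] V) ∘ₗ x ∘ₗ (h.symm : V →ₗ[k] V)
          + (h : V →ₗ[k] V) ∘ₗ y ∘ₗ (h.symm : V →ₗ[k] V) := by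
      ext v
      simp
    rw [this]
    exact Subalgebra.add_mem _ hx hy
  | mul x y _ _ hx hy =>
    have : (h : V →ₗ[k] V) ∘ₗ (x * y) ∘ₗ (h.symm : V →ₗ[k] V)
        = ((h : V →ₗ[k] V) ∘ₗ x ∘ₗ (h.symm : V →ₗ[k] V))
          * ((h : V →ₗ[k] V) ∘ₗ y ∘ₗ (h.symm : V →ₗ[k] V)) := by
      ext v
      simp [Module.End.mul_apply]
    rw [this]
    exact Subalgebra.mul_mem _ hx hy

theorem map_cyc_le {S : Subgroup (V ≃ₗ[k] V)} (h : V ≃ₗ[k] V)
    (hn : ∀ s ∈ S, h * s * h⁻¹ ∈ S) (v : V) :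
    (cyc S v).map (h : V →ₗ[k] V) ≤ cyc S (h v) := by
  rintro x ⟨y, hy, rfl⟩
  obtain ⟨e, he, rfl⟩ := mem_cyc.mp hy
  refine mem_cyc.mpr ⟨_, env_conj h hn he, ?_⟩
  simp

section finite

variable [Finite V]

theorem card_cyc_le {S : Subgroup (V ≃ₗ[k] V)} (h : V ≃ₗ[k] V)
    (hn : ∀ s ∈ S, h * s * h⁻¹ ∈ S) (v : V) :
    Nat.card (cyc S v) ≤ Nat.card (cyc S (h v)) := by
  have h1 : Nat.card (cyc S v) = Nat.card ((cyc S v).map (h : V →ₗ[k] V)) :=
    Nat.card_congr (h.submoduleMap (cyc S v)).toEquiv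
  rw [h1]
  exact Nat.card_mono (Set.toFinite _) (map_cyc_le h hn v)

variable (H S : Subgroup (V ≃ₗ[k] V))

/-- the spread property -/
theorem cyc_eq_of_mem
    (htr : ∀ v w : V, v ≠ 0 → w ≠ 0 → ∃ h ∈ H, h v = w)
    (hnorm : ∀ h ∈ H, ∀ s ∈ S, h * s * h⁻¹ ∈ S)
    {v w : V} (hw : w ≠ 0) (hwv : w ∈ cyc S v) : cyc S w = cyc S v := by
  have hv : v ≠ 0 := by
    rintro rfl
    obtain ⟨e, _, rfl⟩ := mem_cyc.mp hwv
    exact hw (map_zero e)
  obtain ⟨h, hh, rfl⟩ := htr v w hv hw
  have hle := cyc_le_of_mem hwv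
  have hcard := card_cyc_le (S := S) h (hnorm h hh) v
  apply SetLike.coe_injective
  apply Set.eq_of_subset_of_ncard_le hle _ (Set.toFinite _)
  rw [← Nat.card_coe_set_eq, ← Nat.card_coe_set_eq]
  exact hcard

theorem ann_of_notMem
    (htr : ∀ v w : V, v ≠ 0 → w ≠ 0 → ∃ h ∈ H, h v = w)
    (hnorm : ∀ h ∈ H, ∀ s ∈ S, h * s * h⁻¹ ∈ S)
    {u w : V} (hu : u ≠ 0) (hw : w ∉ cyc S u) {e : Module.End k V} (he : e ∈ env S)
    (heu : e u = 0) : e w = 0 := by
  by_contra hew
  have h1 : e w ∈ cyc S (u + w) := by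
    have := apply_mem_cyc he (u + w)
    rwa [map_add, heu, zero_add] at this
  have h2 : e w ∈ cyc S w := apply_mem_cyc he w
  have e1 := cyc_eq_of_mem H S htr hnorm hew h1
  have e2 := cyc_eq_of_mem H S htr hnorm hew h2
  have h3 : u + w ∈ cyc S w := by
    rw [← e2, e1]
    exact self_mem_cyc S _
  have h4 : u ∈ cyc S w := by
    have := (cyc S w).sub_mem h3 (self_mem_cyc S w)
    rwa [add_sub_cancel_right] at this
  have e3 := cyc_eq_of_mem H S htr hnorm hu h4
  exact hw (e3 ▸ self_mem_cyc S w)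

theorem eq_zero_of_apply_eq_zero
    (htr : ∀ v w : V, v ≠ 0 → w ≠ 0 → ∃ h ∈ H, h v = w)
    (hnorm : ∀ h ∈ H, ∀ s ∈ S, h * s * h⁻¹ ∈ S)
    {u : V} (hu : u ≠ 0) (hcu : cyc S u ≠ ⊤)
    {e : Module.End k V} (he : e ∈ env S) {v : V} (hv : v ≠ 0) (hev : e v = 0) : e = 0 := by
  have hcv : cyc S v ≠ ⊤ := by
    intro htop
    have : u ∈ cyc S v := htop ▸ Submodule.mem_top
    exact hcu ((cyc_eq_of_mem H S htr hnorm hu this).trans htop)
  obtain ⟨y, hy⟩ : ∃ y : V, y ∉ cyc S v := by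
    by_contra hcon
    push Not at hcon
    exact hcv (eq_top_iff.mpr fun x _ => hcon x)
  have hy0 : y ≠ 0 := fun h => hy (h ▸ (cyc S v).zero_mem)
  have hey : e y = 0 := ann_of_notMem H S htr hnorm hv hy he hev
  ext x
  rw [LinearMap.zero_apply]
  by_cases hx0 : x = 0
  · rw [hx0, map_zero]
  by_cases hx : x ∈ cyc S v
  · have e1 := cyc_eq_of_mem H S htr hnorm hx0 hx
    have hxy : x ∉ cyc S y := by
      intro hxy
      have e2 := cyc_eq_of_mem H S htr hnorm hx0 hxy
      apply hy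
      rw [← e1, e2]
      exact self_mem_cyc S y
    exact ann_of_notMem H S htr hnorm hy0 hxy he hey
  · exact ann_of_notMem H S htr hnorm hv hx he hev

/-- if some cyclic submodule is proper, the enveloping algebra is commutative -/
theorem env_comm
    (htr : ∀ v w : V, v ≠ 0 → w ≠ 0 → ∃ h ∈ H, h v = w)
    (hnorm : ∀ h ∈ H, ∀ s ∈ S, h * s * h⁻¹ ∈ S)
    {u : V} (hu : u ≠ 0) (hcu : cyc S u ≠ ⊤)
    {e f : Module.End k V} (he : e ∈ env S) (hf : f ∈ env S) : e * f = f * e := by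
  haveI : Finite (Module.End k V) :=
    Finite.of_injective (fun g : Module.End k V => (g : V → V)) DFunLike.coe_injective
  haveI : Nontrivial (env S) := by
    refine ⟨⟨0, 1, ?_⟩⟩
    intro h01
    have : (0 : Module.End k V) = 1 := congrArg Subtype.val h01
    have h2 : (0 : Module.End k V) u = (1 : Module.End k V) u := by rw [this]
    rw [LinearMap.zero_apply, Module.End.one_apply] at h2
    exact hu h2.symm
  haveI : NoZeroDivisors (env S) := by
    refine ⟨fun {a b} hab => ?_⟩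
    by_cases hb : b = 0
    · exact Or.inr hb
    left
    have hb' : (b : Module.End k V) ≠ 0 := fun h => hb (Subtype.ext h)
    obtain ⟨x, hx⟩ : ∃ x : V, (b : Module.End k V) x ≠ 0 := by
      by_contra hcon
      push Not at hcon
      exact hb' (LinearMap.ext hcon)
    have hab' : (a : Module.End k V) * (b : Module.End k V) = 0 := by
      have := congrArg Subtype.val hab
      simpa using this
    have h0 : (a : Module.End k V) ((b : Module.End k V) x) = 0 := by
      rw [← Module.End.mul_apply, hab', LinearMap.zero_apply]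
    exact Subtype.ext (eq_zero_of_apply_eq_zero H S htr hnorm hu hcu a.2 hx h0)
  haveI : IsDomain (env S) := NoZeroDivisors.to_isDomain _
  have hF := Finite.isDomain_to_isField (env S)
  have := hF.mul_comm ⟨e, he⟩ ⟨f, hf⟩
  exact congrArg Subtype.val this

/-- **Dichotomy**: a subgroup normalised by a linear group transitive on nonzero vectors is
commutative or irreducible. -/
theorem irreducible_of_not_comm
    (htr : ∀ v w : V, v ≠ 0 → w ≠ 0 → ∃ h ∈ H, h v = w)
    (hnorm : ∀ h ∈ H, ∀ s ∈ S, h * s * h⁻¹ ∈ S)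
    (hnc : ¬ ∀ s ∈ S, ∀ t ∈ S, s * t = t * s)
    (W : Submodule k V) (hW : ∀ s ∈ S, ∀ v ∈ W, s v ∈ W) : W = ⊥ ∨ W = ⊤ := by
  by_cases hWb : W = ⊥
  · exact Or.inl hWb
  right
  obtain ⟨u, huW, hu0⟩ := (Submodule.ne_bot_iff W).mp hWb
  by_cases hcu : cyc S u = ⊤
  · rw [eq_top_iff, ← hcu]
    intro x hx
    obtain ⟨e, he, rfl⟩ := mem_cyc.mp hx
    exact env_invariant W hW he u huW
  · exfalso
    apply hnc
    intro s hs t ht
    have := env_comm H S htr hnorm hu0 hcu (mem_env_of_mem hs) (mem_env_of_mem ht)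
    ext v
    have h2 := LinearMap.congr_fun this v
    simpa using h2

/-- the centraliser of an irreducible subgroup is commutative -/
theorem centralizer_comm
    (hirr : ∀ W : Submodule k V, (∀ s ∈ S, ∀ v ∈ W, s v ∈ W) → W = ⊥ ∨ W = ⊤)
    (c d : V ≃ₗ[k] V) (hc : ∀ s ∈ S, c * s = s * c) (hd : ∀ s ∈ S, d * s = s * d) :
    c * d = d * c := by
  rcases subsingleton_or_nontrivial V with hV | hV
  · ext v
    exact Subsingleton.elim _ _
  obtain ⟨u, hu⟩ := exists_ne (0 : V)
  haveI : Finite (Module.End k V) :=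
    Finite.of_injective (fun g : Module.End k V => (g : V → V)) DFunLike.coe_injective
  let D : Subalgebra k (Module.End k V) := Subalgebra.centralizer k (endSet S)
  have hinj : ∀ a ∈ D, a ≠ 0 → ∀ x : V, a x = 0 → x = 0 := by
    intro a ha ha0 x hx
    have hker : LinearMap.ker a = ⊥ ∨ LinearMap.ker a = ⊤ := by
      apply hirr
      intro s hs v hv
      rw [LinearMap.mem_ker] at hv ⊢
      have hcomm := (Subalgebra.mem_centralizer_iff k).mp ha (s : V →ₗ[k] V) ⟨s, hs, rfl⟩
      have := LinearMap.congr_fun hcomm v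
      rw [Module.End.mul_apply, Module.End.mul_apply, hv, map_zero] at this
      simpa using this.symm
    rcases hker with hk | hk
    · have : x ∈ LinearMap.ker a := LinearMap.mem_ker.mpr hx
      rw [hk] at this
      exact (Submodule.mem_bot k).mp this
    · exact absurd (LinearMap.ker_eq_top.mp hk) ha0
  haveI : Nontrivial D := by
    refine ⟨⟨0, 1, ?_⟩⟩
    intro h01
    have : (0 : Module.End k V) = 1 := congrArg Subtype.val h01
    have h2 : (0 : Module.End k V) u = (1 : Module.End k V) u := by rw [this]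
    rw [LinearMap.zero_apply, Module.End.one_apply] at h2
    exact hu h2.symm
  haveI : NoZeroDivisors D := by
    refine ⟨fun {a b} hab => ?_⟩
    by_cases ha : a = 0
    · exact Or.inl ha
    right
    have ha' : (a : Module.End k V) ≠ 0 := fun h => ha (Subtype.ext h)
    have hab' : (a : Module.End k V) * (b : Module.End k V) = 0 := by
      have := congrArg Subtype.val hab
      simpa using this
    apply Subtype.ext
    apply LinearMap.ext
    intro x
    have h0 : (a : Module.End k V) ((b : Module.End k V) x) = 0 := by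
      rw [← Module.End.mul_apply, hab', LinearMap.zero_apply]
    exact hinj a a.2 ha' _ h0
  haveI : IsDomain D := NoZeroDivisors.to_isDomain _
  have hF := Finite.isDomain_to_isField D
  have hcD : ((c : V →ₗ[k] V) : Module.End k V) ∈ D := by
    rw [Subalgebra.mem_centralizer_iff]
    rintro _ ⟨s, hs, rfl⟩
    have := hc s hs
    ext v
    have h2 := congrArg (fun g : V ≃ₗ[k] V => g v) this
    simpa using h2.symm
  have hdD : ((d : V →ₗ[k] V) : Module.End k V) ∈ D := by
    rw [Subalgebra.mem_centralizer_iff]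
    rintro _ ⟨s, hs, rfl⟩
    have := hd s hs
    ext v
    have h2 := congrArg (fun g : V ≃ₗ[k] V => g v) this
    simpa using h2.symm
  have := hF.mul_comm (⟨_, hcD⟩ : D) ⟨_, hdD⟩
  have h3 := congrArg Subtype.val this
  ext v
  have h4 := LinearMap.congr_fun h3 v
  simpa using h4

/-- subgroup-of-subgroup form of the dichotomy -/
theorem irreducible_of_normal_not_comm (H : Subgroup (V ≃ₗ[k] V))
    (htr : ∀ v w : V, v ≠ 0 → w ≠ 0 → ∃ h : H, (h : V ≃ₗ[k] V) v = w)
    (N : Subgroup H) (hNn : N.Normal) (hNna : ¬ IsMulCommutative N)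
    (W : Submodule k V) (hW : ∀ n ∈ N, ∀ v ∈ W, ((n : H) : V ≃ₗ[k] V) v ∈ W) :
    W = ⊥ ∨ W = ⊤ := by
  apply irreducible_of_not_comm H (N.map H.subtype) _ _ _ W
  · rintro s ⟨n, hn, rfl⟩ v hv
    exact hW n hn v hv
  · intro v w hv hw
    obtain ⟨h, hh⟩ := htr v w hv hw
    exact ⟨h, h.2, hh⟩
  · rintro h hh s ⟨n, hn, rfl⟩
    refine ⟨(⟨h, hh⟩ : H) * n * (⟨h, hh⟩ : H)⁻¹, hNn.conj_mem n hn _, ?_⟩
    simp
  · intro hcomm
    apply hNna
    refine ⟨⟨fun a b => ?_⟩⟩
    have := hcomm _ ⟨a, a.2, rfl⟩ _ ⟨b, b.2, rfl⟩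
    apply Subtype.ext
    apply Subtype.ext
    simpa using this

/-- the centraliser of an irreducible subgroup is commutative (subgroup-of-subgroup form) -/
theorem centralizer_isMulCommutative (H : Subgroup (V ≃ₗ[k] V)) (N : Subgroup H)
    (hirr : ∀ W : Submodule k V, (∀ n ∈ N, ∀ v ∈ W, ((n : H) : V ≃ₗ[k] V) v ∈ W) →
      W = ⊥ ∨ W = ⊤) :
    IsMulCommutative (Subgroup.centralizer (N : Set H)) := by
  refine ⟨⟨fun c d => ?_⟩⟩
  have key := centralizer_comm (N.map H.subtype)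
    (fun W hW => hirr W (fun n hn v hv => hW _ ⟨n, hn, rfl⟩ v hv))
    ((c : H) : V ≃ₗ[k] V) ((d : H) : V ≃ₗ[k] V) ?_ ?_
  · apply Subtype.ext
    apply Subtype.ext
    simpa using key
  · rintro s ⟨n, hn, rfl⟩
    have := (Subgroup.mem_centralizer_iff.mp c.2) n hn
    have h2 := congrArg (Subtype.val : H → V ≃ₗ[k] V) this
    simpa using h2.symm
  · rintro s ⟨n, hn, rfl⟩
    have := (Subgroup.mem_centralizer_iff.mp d.2) n hn
    have h2 := congrArg (Subtype.val : H → V ≃ₗ[k] V) this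
    simpa using h2.symm

end finite

end Cfsg.Agent.Helper12.NfIrr
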