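import Mathlib

/-!
A quaternion pair `I, J` (with `I² = J² = -1`, `IJ = -JI`) acting irreducibly on a vector space
over a prime field of odd characteristic forces dimension two (helper12).
-/

set_option autoImplicit false

namespace Cfsg.Agent.Helper12.NfQ8Lin

variable {p : ℕ} [Fact p.Prime] {V : Type*} [AddCommGroup V] [Module (ZMod p) V]

theorem finrank_eq_two [Nontrivial V]
    (h2 : (2 : ZMod p) ≠ 0) (I J : Module.End (ZMod p) V)
    (hII : ∀ v, I (I v) = -v) (hJJ : ∀ v, J (J v) = -v) (hIJ : ∀ v, I (J v) = -(J (I v)))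
    (hirr : ∀ W : Submodule (ZMod p) V, (∀ v ∈ W, I v ∈ W) → (∀ v ∈ W, J v ∈ W) →
      W = ⊥ ∨ W = ⊤) :
    Module.finrank (ZMod p) V = 2 := by
  obtain ⟨a, b, hab⟩ := ZMod.sq_add_sq p (-1)
  obtain ⟨e, he⟩ : ∃ e : Module.End (ZMod p) V, e = a • I + b • J := ⟨_, rfl⟩
  obtain ⟨f, hf⟩ : ∃ f : Module.End (ZMod p) V, f = b • I - a • J := ⟨_, rfl⟩
  have ee : ∀ v, e (e v) = v := by
    intro v
    rw [he]
    simp only [LinearMap.add_apply, LinearMap.smul_apply, map_add, map_smul, hII, hJJ, hIJ]
    linear_combination (norm := module) (-hab) • v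
  have ff : ∀ v, f (f v) = v := by
    intro v
    rw [hf]
    simp only [LinearMap.sub_apply, LinearMap.smul_apply, map_sub, map_smul, hII, hJJ, hIJ]
    linear_combination (norm := module) (-hab) • v
  have ef : ∀ v, e (f v) = -(f (e v)) := by
    intro v
    rw [he, hf]
    simp only [LinearMap.add_apply, LinearMap.sub_apply, LinearMap.smul_apply, map_add, map_sub,
      map_smul, hII, hJJ, hIJ]
    module
  have hI : ∀ v, I v = -(a • e v + b • f v) := by
    intro v
    rw [he, hf]
    simp only [LinearMap.add_apply, LinearMap.sub_apply, LinearMap.smul_apply]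
    linear_combination (norm := module) hab • I v
  have hJ : ∀ v, J v = -(b • e v - a • f v) := by
    intro v
    rw [he, hf]
    simp only [LinearMap.add_apply, LinearMap.sub_apply, LinearMap.smul_apply]
    linear_combination (norm := module) hab • J v
  obtain ⟨v0, hv0⟩ := exists_ne (0 : V)
  obtain ⟨x, hx0, ε, hε, hex⟩ : ∃ x : V, x ≠ 0 ∧ ∃ ε : ZMod p, ε * ε = 1 ∧ e x = ε • x := by
    by_cases h : v0 + e v0 = 0
    · refine ⟨v0 - e v0, ?_, -1, by ring, ?_⟩
      · have h1 : e v0 = -v0 := by
          rw [add_comm] at h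
          exact eq_neg_of_add_eq_zero_left h
        rw [h1, sub_neg_eq_add]
        intro h0
        have h3 : (2 : ZMod p) • v0 = 0 := by
          rw [two_smul]
          exact h0
        rcases smul_eq_zero.mp h3 with h4 | h4
        · exact h2 h4
        · exact hv0 h4
      · rw [map_sub, ee]
        module
    · refine ⟨v0 + e v0, h, 1, by ring, ?_⟩
      rw [map_add, ee]
      module
  have hε0 : ε ≠ 0 := by
    rintro rfl
    simp at hε
  have hfx0 : f x ≠ 0 := by
    intro h0
    apply hx0
    rw [← ff x, h0, map_zero]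
  have hefx : e (f x) = (-ε) • f x := by
    rw [ef, hex, map_smul]
    module
  let W : Submodule (ZMod p) V := Submodule.span (ZMod p) {x, f x}
  have hxW : x ∈ W := Submodule.subset_span (by simp)
  have hfxW : f x ∈ W := Submodule.subset_span (by simp)
  have hWI : ∀ v ∈ W, I v ∈ W := by
    have : W ≤ W.comap I := by
      apply Submodule.span_le.mpr
      intro y hy
      rcases hy with rfl | hy
      · show I y ∈ W
        rw [hI, hex]
        exact W.neg_mem (W.add_mem (W.smul_mem _ (W.smul_mem _ hxW)) (W.smul_mem _ hfxW))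
      · rw [Set.mem_singleton_iff] at hy
        subst hy
        show I (f x) ∈ W
        rw [hI, hefx, ff]
        exact W.neg_mem (W.add_mem (W.smul_mem _ (W.smul_mem _ hfxW)) (W.smul_mem _ hxW))
    exact fun v hv => this hv
  have hWJ : ∀ v ∈ W, J v ∈ W := by
    have : W ≤ W.comap J := by
      apply Submodule.span_le.mpr
      intro y hy
      rcases hy with rfl | hy
      · show J y ∈ W
        rw [hJ, hex]
        exact W.neg_mem (W.sub_mem (W.smul_mem _ (W.smul_mem _ hxW)) (W.smul_mem _ hfxW))
      · rw [Set.mem_singleton_iff] at hy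
        subst hy
        show J (f x) ∈ W
        rw [hJ, hefx, ff]
        exact W.neg_mem (W.sub_mem (W.smul_mem _ (W.smul_mem _ hfxW)) (W.smul_mem _ hxW))
    exact fun v hv => this hv
  have hWtop : W = ⊤ := by
    rcases hirr W hWI hWJ with h | h
    · exfalso
      rw [h] at hxW
      exact hx0 ((Submodule.mem_bot _).mp hxW)
    · exact h
  have hli : LinearIndependent (ZMod p) ![x, f x] := by
    rw [LinearIndependent.pair_iff]
    intro s t hst
    have h1 : e (s • x + t • f x) = 0 := by rw [hst, map_zero]
    rw [map_add, map_smul, map_smul, hex, hefx] at h1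
    have h3 : (2 * ε * s) • x = 0 := by
      linear_combination (norm := module) h1 + ε • hst
    have hs : s = 0 := by
      rcases smul_eq_zero.mp h3 with h4 | h4
      · rcases mul_eq_zero.mp h4 with h5 | h5
        · rcases mul_eq_zero.mp h5 with h6 | h6
          · exact absurd h6 h2
          · exact absurd h6 hε0
        · exact h5
      · exact absurd h4 hx0
    rw [hs, zero_smul, zero_add] at hst
    rcases smul_eq_zero.mp hst with h4 | h4
    · exact ⟨hs, h4⟩
    · exact absurd h4 hfx0
  have h5 := finrank_span_eq_card hli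
  have h6 : Submodule.span (ZMod p) (Set.range ![x, f x]) = W := by
    congr 1
    ext y
    simp only [Set.mem_range, Set.mem_insert_iff, Set.mem_singleton_iff]
    constructor
    · rintro ⟨i, rfl⟩
      fin_cases i
      · left; rfl
      · right; rfl
    · rintro (rfl | rfl)
      · exact ⟨0, rfl⟩
      · exact ⟨1, rfl⟩
  rw [h6, hWtop, finrank_top] at h5
  rw [h5]
  simp

end Cfsg.Agent.Helper12.NfQ8Lin
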