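import Mathlib
import Cfsg.Prelude.Def_Characters
import Cfsg.Prelude.Def_Blocks

/-!
# (CSTR) for helper17's S1022: structure of `C(P)` of order `76`
-/

set_option autoImplicit false
set_option linter.style.haveILetI false

namespace Cfsg.Agent.Helper12.O459

open Cfsg Subgroup
universe u
variable {G : Type u} [Group G] [Finite G]

/-- The centralizer `C` of a subgroup `P` of prime order `p` is abelian if `|C| = p * r ^ 2` for a
prime `r ≠ p`. -/
theorem centralizer_comm_of_card {p r : ℕ} [Fact p.Prime] [Fact r.Prime] (hpr : p ≠ r)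
    (P : Subgroup G) (hP : Nat.card P = p)
    (hC : Nat.card (centralizer (P : Set G)) = p * r ^ 2) :
    ∀ a ∈ centralizer (P : Set G), ∀ b ∈ centralizer (P : Set G), a * b = b * a := by
  classical
  have hp : p.Prime := Fact.out
  have hr : r.Prime := Fact.out
  set C : Subgroup G := centralizer (P : Set G) with hCdef
  -- `P` is abelian, so `P ≤ C`
  have hPcomm : ∀ a b : P, a * b = b * a := by
    haveI : Fact (Nat.card P).Prime := ⟨hP.symm ▸ hp⟩
    haveI := isCyclic_of_prime_card (α := P) rfl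
    intro a b
    exact (IsCyclic.commGroup (α := P)).mul_comm a b
  have hPC : P ≤ C := by
    intro x hx
    rw [hCdef, mem_centralizer_iff]
    intro y hy
    have := hPcomm ⟨y, hy⟩ ⟨x, hx⟩
    exact congrArg Subtype.val this
  -- `P ≤ centralizer C`
  have hPZ : P ≤ centralizer (C : Set G) := by
    rw [le_centralizer_iff]
  -- a subgroup of order `r ^ 2`
  obtain ⟨K, hK⟩ := Sylow.exists_subgroup_card_pow_prime (G := C) r (n := 2)
    (by rw [hC]; exact Dvd.intro_left p rfl)
  set T : Subgroup G := K.map C.subtype with hT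
  have hTcard : Nat.card T = r ^ 2 := by
    rw [hT, Subgroup.card_map_of_injective (Subgroup.subtype_injective C), hK]
  have hTC : T ≤ C := Subgroup.map_subtype_le K
  have hKcomm : ∀ a b : K, a * b = b * a := fun a b =>
    (IsPGroup.isMulCommutative_of_card_eq_prime_sq hK).is_comm.comm a b
  have hTT : T ≤ centralizer (T : Set G) := by
    intro x hx
    rw [mem_centralizer_iff]
    intro y hy
    obtain ⟨x', hx', rfl⟩ := Subgroup.mem_map.mp hx
    obtain ⟨y', hy', rfl⟩ := Subgroup.mem_map.mp hy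
    have := hKcomm ⟨y', hy'⟩ ⟨x', hx'⟩
    have h2 : y' * x' = x' * y' := congrArg Subtype.val this
    exact congrArg Subtype.val h2
  -- `P ⊔ T = C`
  have hsup : P ⊔ T = C := by
    have hle : P ⊔ T ≤ C := sup_le hPC hTC
    have h1 : p ∣ Nat.card (P ⊔ T : Subgroup G) := hP ▸ Subgroup.card_dvd_of_le le_sup_left
    have h2 : r ^ 2 ∣ Nat.card (P ⊔ T : Subgroup G) := hTcard ▸ Subgroup.card_dvd_of_le le_sup_right
    have hcop : Nat.Coprime p (r ^ 2) :=
      Nat.Coprime.pow_right 2 ((Nat.coprime_primes hp hr).mpr hpr)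
    have h3 : p * r ^ 2 ∣ Nat.card (P ⊔ T : Subgroup G) := hcop.mul_dvd_of_dvd_of_dvd h1 h2
    have h4 : Nat.card C ≤ Nat.card (P ⊔ T : Subgroup G) := by
      rw [hC]
      exact Nat.le_of_dvd Nat.card_pos h3
    have h5 : Nat.card (P ⊔ T : Subgroup G) ≤ Nat.card C :=
      Nat.le_of_dvd Nat.card_pos (Subgroup.card_dvd_of_le hle)
    exact Subgroup.eq_of_le_of_card_ge hle h4
  -- `C ≤ centralizer T`
  have hCT : C ≤ centralizer (T : Set G) := by
    rw [← hsup]
    refine sup_le ?_ hTT
    exact hPZ.trans (Subgroup.centralizer_le hTC)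
  have hTZ : T ≤ centralizer (C : Set G) := le_centralizer_iff.mp hCT
  have hCC : C ≤ centralizer (C : Set G) := by
    conv_lhs => rw [← hsup]
    exact sup_le hPZ hTZ
  intro a ha b hb
  exact ((mem_centralizer_iff.mp (hCC ha)) b hb).symm

/-- In a finite group, if the elements of a subgroup `C` of order `4 * m` (`m` odd) commute, then
`C` contains `1` or `3` involutions. -/
theorem card_involutions_of_comm (C : Subgroup G) (m : ℕ) (hm : ¬ 2 ∣ m)
    (hC : Nat.card C = 4 * m) (hcomm : ∀ a ∈ C, ∀ b ∈ C, a * b = b * a) :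
    Nat.card {y : G // y ∈ C ∧ orderOf y = 2} = 1 ∨
      Nat.card {y : G // y ∈ C ∧ orderOf y = 2} = 3 := by
  classical
  -- the subgroup of elements of order dividing `2`
  let E : Subgroup G :=
    { carrier := {y | y ∈ C ∧ y * y = 1}
      one_mem' := ⟨C.one_mem, by simp⟩
      mul_mem' := by
        rintro a b ⟨ha, ha2⟩ ⟨hb, hb2⟩
        refine ⟨C.mul_mem ha hb, ?_⟩
        calc a * b * (a * b) = a * (b * a) * b := by group
          _ = a * (a * b) * b := by rw [hcomm b hb a ha]
          _ = (a * a) * (b * b) := by group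
          _ = 1 := by rw [ha2, hb2, one_mul]
      inv_mem' := by
        rintro a ⟨ha, ha2⟩
        refine ⟨C.inv_mem ha, ?_⟩
        rw [← mul_inv_rev, ha2, inv_one] }
  have hmemE : ∀ y : G, y ∈ E ↔ y ∈ C ∧ y * y = 1 := fun y => Iff.rfl
  have hEC : E ≤ C := fun y hy => ((hmemE y).mp hy).1
  -- `E` is a `2`-group
  have hE2 : IsPGroup 2 E := by
    intro y
    refine ⟨1, ?_⟩
    apply Subtype.ext
    have := ((hmemE (y : G)).mp y.2).2
    simp only [pow_one, pow_two, Subgroup.coe_mul, Subgroup.coe_one]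
    exact this
  obtain ⟨n, hn⟩ := IsPGroup.iff_card.mp hE2
  have hdvd : 2 ^ n ∣ 4 * m := by
    rw [← hn, ← hC]
    exact Subgroup.card_dvd_of_le hEC
  have hn2 : n ≤ 2 := by
    by_contra hlt
    push Not at hlt
    have h8 : 2 ^ 3 ∣ 4 * m := (pow_dvd_pow 2 (by omega)).trans hdvd
    have : 2 ∣ m := by
      have h8' : 4 * 2 ∣ 4 * m := by simpa using h8
      exact (Nat.mul_dvd_mul_iff_left (by norm_num)).mp h8'
    exact hm this
  -- an involution in `C`
  obtain ⟨y', hy'⟩ := exists_prime_orderOf_dvd_card' (G := C) 2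
    (by rw [hC]; exact Dvd.intro (2 * m) (by ring))
  have hy2 : orderOf (y' : G) = 2 := by rw [Subgroup.orderOf_coe]; exact hy'
  have hyE : (y' : G) ∈ E := by
    rw [hmemE]
    refine ⟨y'.2, ?_⟩
    rw [← pow_two, ← hy2, pow_orderOf_eq_one]
  have hy1 : (y' : G) ≠ 1 := by
    intro h
    rw [h, orderOf_one] at hy2
    norm_num at hy2
  have hn1 : 1 ≤ n := by
    by_contra hlt
    have hn0 : n = 0 := by omega
    rw [hn0, pow_zero] at hn
    haveI : Subsingleton E := (Nat.card_eq_one_iff_unique.mp hn).1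
    have : (⟨(y' : G), hyE⟩ : E) = 1 := Subsingleton.elim _ _
    exact hy1 (congrArg Subtype.val this)
  -- the involutions are `E ∖ {1}`
  have hset : Nat.card {y : G // y ∈ C ∧ orderOf y = 2} = ((E : Set G) \ {1}).ncard := by
    rw [← Nat.card_coe_set_eq]
    refine Nat.card_congr (Equiv.subtypeEquivRight (fun y => ?_))
    rw [Set.mem_sdiff, Set.mem_singleton_iff, SetLike.mem_coe, hmemE,
      orderOf_eq_prime_iff (p := 2), pow_two]
    tauto
  have hcardE : (E : Set G).ncard = 2 ^ n := by
    rw [← hn, ← Nat.card_coe_set_eq]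
    rfl
  rw [hset, Set.ncard_sdiff_singleton_of_mem (E.one_mem), hcardE]
  have hcases : n = 1 ∨ n = 2 := by omega
  rcases hcases with h | h
  · left; rw [h]; norm_num
  · right; rw [h]; norm_num

/-- (CSTR) -/
theorem centralizer_structure (P : Sylow 19 G) (hP : Nat.card (P : Subgroup G) = 19)
    (hC : Nat.card (centralizer ((P : Subgroup G) : Set G)) = 76) :
    (∀ a ∈ centralizer ((P : Subgroup G) : Set G), ∀ b ∈ centralizer ((P : Subgroup G) : Set G),
      a * b = b * a) ∧
    (Nat.card {y : G // y ∈ centralizer ((P : Subgroup G) : Set G) ∧ orderOf y = 2} = 1 ∨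
     Nat.card {y : G // y ∈ centralizer ((P : Subgroup G) : Set G) ∧ orderOf y = 2} = 3) := by
  haveI : Fact (Nat.Prime 19) := ⟨by norm_num⟩
  haveI : Fact (Nat.Prime 2) := ⟨by norm_num⟩
  have hcomm := centralizer_comm_of_card (p := 19) (r := 2) (by norm_num) (P : Subgroup G) hP
    (by rw [hC]; norm_num)
  exact ⟨hcomm, card_involutions_of_comm _ 19 (by norm_num) (by rw [hC]) hcomm⟩

end Cfsg.Agent.Helper12.O459
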