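import Mathlib
import Cfsg.Prelude.Def_Characters
import Cfsg.Prelude.Def_Blocks

/-!
# (FIXP), (FIXQ) for helper17's S1022: fixed Sylow subgroups of an element
-/

set_option autoImplicit false

namespace Cfsg.Agent.Helper12.O459

open Cfsg Subgroup
universe u
variable {G : Type u} [Group G] [Finite G]

/-- (FIXP) an element centralizing a Sylow `p`-subgroup fixes `≡ 1 (mod p)` Sylow
`p`-subgroups. -/
theorem card_fixed_sylow_modEq_one {p : ℕ} [Fact p.Prime] (P : Sylow p G) (c : G)
    (hc : c ∈ centralizer ((P : Subgroup G) : Set G)) :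
    Nat.card {Q : Sylow p G // c • Q = Q} ≡ 1 [MOD p] := by
  classical
  -- the sub-action of `P` on the fixed points of `c`
  let S : SubMulAction (P : Subgroup G) (Sylow p G) :=
    { carrier := {Q | c • Q = Q}
      smul_mem' := by
        intro g Q hQ
        show c • (g • Q) = g • Q
        have hcomm : c * (g : G) = (g : G) * c := ((mem_centralizer_iff.mp hc) (g : G) g.2).symm
        rw [Subgroup.smul_def, ← mul_smul, hcomm, mul_smul]
        exact congrArg _ hQ }
  have hmemS : ∀ Q : Sylow p G, Q ∈ S ↔ c • Q = Q := fun Q => Iff.rfl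
  have hPS : P ∈ S := by
    rw [hmemS, Sylow.smul_eq_iff_mem_normalizer]
    exact Subgroup.centralizer_le_normalizer _ hc
  have h1 := (P.isPGroup').card_modEq_card_fixedPoints (α := S)
  have hfix : MulAction.fixedPoints (P : Subgroup G) S = {⟨P, hPS⟩} := by
    ext x
    rw [Set.mem_singleton_iff, MulAction.mem_fixedPoints]
    constructor
    · intro hx
      have hx' : (x : Sylow p G) ∈ MulAction.fixedPoints (P : Subgroup G) (Sylow p G) := by
        rw [MulAction.mem_fixedPoints]
        intro g
        have := congrArg Subtype.val (hx g)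
        exact this
      rw [P.isPGroup'.sylow_mem_fixedPoints_iff] at hx'
      apply Subtype.ext
      show (x : Sylow p G) = P
      exact Sylow.ext (P.3 (x : Sylow p G).2 hx')
    · rintro rfl g
      apply Subtype.ext
      show g • P = P
      rw [Subgroup.smul_def, Sylow.smul_eq_iff_mem_normalizer]
      exact Subgroup.le_normalizer g.2
  have hcard1 : Nat.card (MulAction.fixedPoints (P : Subgroup G) S) = 1 := by
    rw [hfix, Nat.card_coe_set_eq, Set.ncard_singleton]
  rw [hcard1] at h1
  have hcong : Nat.card {Q : Sylow p G // c • Q = Q} = Nat.card S :=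
    Nat.card_congr (Equiv.subtypeEquivRight (fun Q => (hmemS Q).symm))
  rw [hcong]
  exact h1

/-- (FIXQ) an element of prime order `q` fixes `≡ n_p (mod q)` Sylow `p`-subgroups. -/
theorem card_fixed_sylow_modEq_card {p q : ℕ} [Fact p.Prime] [Fact q.Prime] (c : G)
    (hc : orderOf c = q) :
    Nat.card {Q : Sylow p G // c • Q = Q} ≡ Nat.card (Sylow p G) [MOD q] := by
  classical
  have hq : IsPGroup q (zpowers c) := by
    apply IsPGroup.of_card (n := 1)
    rw [Nat.card_zpowers, hc, pow_one]
  have h1 := hq.card_modEq_card_fixedPoints (α := Sylow p G)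
  have hfix : ∀ Q : Sylow p G, Q ∈ MulAction.fixedPoints (zpowers c) (Sylow p G) ↔ c • Q = Q := by
    intro Q
    rw [MulAction.mem_fixedPoints]
    constructor
    · intro h
      exact h ⟨c, mem_zpowers c⟩
    · intro h g
      have hle : zpowers c ≤ MulAction.stabilizer G Q := by
        rw [zpowers_le]
        exact MulAction.mem_stabilizer_iff.mpr h
      exact MulAction.mem_stabilizer_iff.mp (hle g.2)
  have hcong : Nat.card {Q : Sylow p G // c • Q = Q} =
      Nat.card (MulAction.fixedPoints (zpowers c) (Sylow p G)) :=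
    Nat.card_congr (Equiv.subtypeEquivRight (fun Q => (hfix Q).symm))
  rw [hcong]
  exact h1.symm

end Cfsg.Agent.Helper12.O459
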