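import Mathlib
import Cfsg.Prelude.Def_Characters
import Cfsg.Prelude.Def_Blocks
import Cfsg.Agent.Helper17.O459Defs
import Cfsg.Agent.Helper17.SylowKit
import Cfsg.Agent.Helper29.O459SubSyl

/-!
# (HORD) for helper17's S1022: the order of the centralizer of an involution of `C(P)`
-/

set_option autoImplicit false
set_option linter.style.haveILetI false
set_option linter.unusedSectionVars false

namespace Cfsg.Agent.Helper12.O459

open Cfsg Subgroup
open Cfsg.Agent.Helper17.O459
universe u
variable {G : Type u} [Group G] [Finite G]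

/-- In a simple group, a subgroup containing all Sylow `p`-subgroups (with `p ∣ |G|`) is `⊤`. -/
theorem eq_top_of_forall_sylow_le [IsSimpleGroup G] {p : ℕ} [Fact p.Prime] (P : Sylow p G)
    (hP : (P : Subgroup G) ≠ ⊥) (H : Subgroup G) (hall : ∀ Q : Sylow p G, (Q : Subgroup G) ≤ H) :
    H = ⊤ := by
  have hle : Subgroup.normalClosure ((P : Subgroup G) : Set G) ≤ H := by
    rw [Subgroup.normalClosure, Subgroup.closure_le]
    intro a ha
    obtain ⟨x, hx, hxa⟩ := Group.mem_conjugatesOfSet_iff.mp ha
    obtain ⟨c, hc⟩ := isConj_iff.mp hxa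
    have h1 : a ∈ ((c • P : Sylow p G) : Subgroup G) := by
      rw [Sylow.coe_subgroup_smul, ← hc]
      have := Subgroup.smul_mem_pointwise_smul x (MulAut.conj c) (P : Subgroup G) hx
      simpa [MulAut.smul_def] using this
    exact hall _ h1
  have hnc : Subgroup.normalClosure ((P : Subgroup G) : Set G) = ⊤ := by
    rcases (Subgroup.normalClosure_normal (s := ((P : Subgroup G) : Set G))).eq_bot_or_eq_top with
      h | h
    · exfalso
      apply hP
      have := Subgroup.le_normalClosure (H := (P : Subgroup G))
      rw [h] at this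
      exact le_bot_iff.mp this
    · exact h
  rw [hnc] at hle
  exact top_le_iff.mp hle

/-- (HORD) -/
theorem card_centralizer_involution [IsSimpleGroup G] (hG : Nat.card G = 459648) (P : Sylow 19 G)
    (hP : Nat.card (P : Subgroup G) = 19) (hn : Nat.card (Sylow 19 G) = 1008)
    (hCab : ∀ a ∈ centralizer ((P : Subgroup G) : Set G),
      ∀ b ∈ centralizer ((P : Subgroup G) : Set G), a * b = b * a)
    (hC : Nat.card (centralizer ((P : Subgroup G) : Set G)) = 76)
    (y : G) (hyC : y ∈ centralizer ((P : Subgroup G) : Set G)) (hy : orderOf y = 2)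
    (hbig : 456 < Nat.card (centralizer ({y} : Set G))) :
    Nat.card (centralizer ({y} : Set G)) = 7296 ∨ Nat.card (centralizer ({y} : Set G)) = 21888 := by
  classical
  haveI : Fact (Nat.Prime 19) := ⟨by norm_num⟩
  set H : Subgroup G := centralizer ({y} : Set G) with hH
  set N : Subgroup G := normalizer ((P : Subgroup G) : Set G) with hNdef
  -- `C(P) ≤ H` and `P ≤ H`
  have hCH : centralizer ((P : Subgroup G) : Set G) ≤ H := by
    intro a ha
    rw [hH, mem_centralizer_singleton_iff]
    exact hCab a ha y hyC
  have hPH : (P : Subgroup G) ≤ H := by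
    intro x hx
    rw [hH, mem_centralizer_singleton_iff]
    exact (mem_centralizer_iff.mp hyC) x hx
  obtain ⟨hs1, hs2⟩ := Cfsg.Agent.Helper29.O459.card_sylow_le_mul P H hPH
  set s := Nat.card {Q : Sylow 19 G // (Q : Subgroup G) ≤ H} with hs
  set k := Nat.card (H ⊓ N : Subgroup G) with hk
  -- `|N| = 456`
  have hN := Cfsg.Agent.Helper17.card_normalizer_mul_card_sylow P
  rw [hn, hG] at hN
  have hN' : Nat.card N = 456 := by rw [hNdef]; omega
  -- `s ∣ 24192`
  have hHG : Nat.card H ∣ 459648 := hG ▸ Subgroup.card_subgroup_dvd_card H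
  have hsH : s ∣ Nat.card H := Dvd.intro _ hs1
  have hs19 : Nat.Coprime s 19 := by
    rw [Nat.coprime_comm, Nat.Prime.coprime_iff_not_dvd (by norm_num)]
    intro h19
    have h0 : s % 19 = 0 := Nat.mod_eq_zero_of_dvd h19
    unfold Nat.ModEq at hs2
    omega
  have hsd : s ∣ 24192 := by
    have h1 : s ∣ 24192 * 19 := hsH.trans (by norm_num at hHG ⊢; exact hHG)
    exact hs19.dvd_of_dvd_mul_right h1
  have hscases : s = 1 ∨ s = 96 ∨ s = 1008 := by
    apply divisors_arith s (Nat.mem_divisors.mpr ⟨hsd, by norm_num⟩)
    unfold Nat.ModEq at hs2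
    omega
  -- `76 ∣ k ∣ 456`
  have hk1 : 76 ∣ k := by
    rw [← hC]
    exact Subgroup.card_dvd_of_le (le_inf hCH (Subgroup.centralizer_le_normalizer _))
  have hk2 : k ∣ 456 := by
    rw [← hN']
    exact Subgroup.card_dvd_of_le inf_le_right
  rcases hscases with h1 | h96 | h1008
  · -- `s = 1`
    exfalso
    rw [h1, one_mul] at hs1
    have : k ≤ 456 := Nat.le_of_dvd (by norm_num) hk2
    omega
  · -- `s = 96`
    rw [h96] at hs1
    obtain ⟨e', he'⟩ := hk1
    have he6 : e' ∣ 6 := by
      rw [he'] at hk2
      have : 76 * e' ∣ 76 * 6 := by norm_num; exact hk2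
      exact (Nat.mul_dvd_mul_iff_left (by norm_num)).mp this
    have hdvd : 96 * (76 * e') ∣ 459648 := by
      rw [← he', hs1]; exact hHG
    have he63 : e' ∣ 63 := by
      have : 7296 * e' ∣ 7296 * 63 := by
        have e : 96 * (76 * e') = 7296 * e' := by ring
        rw [e] at hdvd
        norm_num
        exact hdvd
      exact (Nat.mul_dvd_mul_iff_left (by norm_num)).mp this
    have he3 : e' ∣ 3 := by
      have := Nat.dvd_gcd he6 he63
      norm_num at this
      exact this
    have hcases : e' = 1 ∨ e' = 3 := by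
      have hle : e' ≤ 3 := Nat.le_of_dvd (by norm_num) he3
      interval_cases e'
      · norm_num at he3
      · left; rfl
      · norm_num at he3
      · right; rfl
    rw [he'] at hs1
    rcases hcases with h | h
    · left; rw [← hs1, h]
    · right; rw [← hs1, h]
  · -- `s = 1008`
    exfalso
    have hbij : Function.Bijective
        (Subtype.val : {Q : Sylow 19 G // (Q : Subgroup G) ≤ H} → Sylow 19 G) :=
      Function.Injective.bijective_of_nat_card_le Subtype.val_injective (by rw [hn, ← hs, h1008])
    have hall : ∀ Q : Sylow 19 G, (Q : Subgroup G) ≤ H := by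
      intro Q
      obtain ⟨x, rfl⟩ := hbij.2 Q
      exact x.2
    have hPne : (P : Subgroup G) ≠ ⊥ := by
      intro h
      rw [h, Subgroup.card_bot] at hP
      norm_num at hP
    have htop := eq_top_of_forall_sylow_le P hPne H hall
    -- `y` is central
    have hyZ : y ∈ center G := by
      rw [Subgroup.mem_center_iff]
      intro g
      have hg : g ∈ H := by rw [htop]; exact Subgroup.mem_top g
      rw [hH, mem_centralizer_singleton_iff] at hg
      exact hg
    have hy1 : y ≠ 1 := by
      intro h
      rw [h, orderOf_one] at hy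
      norm_num at hy
    rcases (inferInstance : (center G).Normal).eq_bot_or_eq_top with h | h
    · rw [h] at hyZ
      exact hy1 (Subgroup.mem_bot.mp hyZ)
    · have hnp : ¬ (Nat.card G).Prime := by rw [hG]; norm_num
      apply Cfsg.Agent.Helper17.not_comm_of_simple_of_not_prime hnp
      refine ⟨⟨fun a b => ?_⟩⟩
      have ha : a ∈ center G := by rw [h]; exact Subgroup.mem_top a
      exact ((Subgroup.mem_center_iff.mp ha) b).symm

end Cfsg.Agent.Helper12.O459
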