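import Mathlib
import Cfsg.Prelude.Def_Characters
import Cfsg.Prelude.Def_Blocks
import Cfsg.Agent.Helper17.SylowKit
import Cfsg.Agent.Helper12.O459Fix

/-!
# (N96) for helper17's S1022: a simple group of order 459648 does not have 96 Sylow 19-subgroups
-/

set_option autoImplicit false
set_option linter.style.haveILetI false

namespace Cfsg.Agent.Helper12.O459

open Cfsg Subgroup
universe u
variable {G : Type u} [Group G] [Finite G]

/-- An element fixing every Sylow `p`-subgroup of a simple group with more than one Sylow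
`p`-subgroup is trivial. -/
theorem eq_one_of_forall_smul_sylow_eq [IsSimpleGroup G] {p : ℕ} [Fact p.Prime]
    (hn : 1 < Nat.card (Sylow p G)) (c : G) (hc : ∀ Q : Sylow p G, c • Q = Q) : c = 1 := by
  classical
  have hcK : c ∈ (MulAction.toPermHom G (Sylow p G)).ker := by
    rw [MonoidHom.mem_ker]
    ext Q
    simp only [MulAction.toPermHom_apply, MulAction.toPerm_apply, Equiv.Perm.coe_one, id_eq]
    rw [hc Q]
  rcases (MonoidHom.normal_ker (MulAction.toPermHom G (Sylow p G))).eq_bot_or_eq_top with h | h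
  · rw [h] at hcK
    exact Subgroup.mem_bot.mp hcK
  · exfalso
    haveI : Nontrivial (Sylow p G) := Finite.one_lt_card_iff_nontrivial.mp hn
    obtain ⟨Q1, Q2, hQ⟩ := exists_pair_ne (Sylow p G)
    obtain ⟨g, hg⟩ := MulAction.exists_smul_eq G Q1 Q2
    have hgK : g ∈ (MulAction.toPermHom G (Sylow p G)).ker := by rw [h]; exact Subgroup.mem_top g
    rw [MonoidHom.mem_ker] at hgK
    have h1 : (MulAction.toPermHom G (Sylow p G) g) Q1 = Q1 := by rw [hgK]; rfl
    rw [MulAction.toPermHom_apply, MulAction.toPerm_apply, hg] at h1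
    exact hQ h1.symm

/-- (N96) -/
theorem card_sylow_ne_96 [IsSimpleGroup G] (hG : Nat.card G = 459648) :
    Nat.card (Sylow 19 G) ≠ 96 := by
  classical
  haveI : Fact (Nat.Prime 19) := ⟨by norm_num⟩
  haveI : Fact (Nat.Prime 7) := ⟨by norm_num⟩
  intro h96
  obtain ⟨P⟩ : Nonempty (Sylow 19 G) := inferInstance
  have hN := Cfsg.Agent.Helper17.card_normalizer_mul_card_sylow P
  rw [h96, hG] at hN
  have hN' : Nat.card (normalizer ((P : Subgroup G) : Set G)) = 4788 := by omega
  have hP : Nat.card (P : Subgroup G) = 19 := by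
    have := Cfsg.Agent.Helper17.card_sylow_subgroup_of_card_eq (G := G) (p := 19) (k := 1)
      (m := 24192) (by rw [hG]; norm_num) (by norm_num) P
    simpa using this
  obtain ⟨he, -⟩ := Cfsg.Agent.Helper17.relIndex_dvd_of_card_sylow_prime P hP
  have hCe := Cfsg.Agent.Helper17.card_centralizer_mul_relIndex (P : Subgroup G)
  rw [hN'] at hCe
  have h7 : 7 ∣ Nat.card (centralizer ((P : Subgroup G) : Set G)) := by
    have h7' : 7 ∣ Nat.card (centralizer ((P : Subgroup G) : Set G)) *
        (centralizer ((P : Subgroup G) : Set G)).relIndex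
          (normalizer ((P : Subgroup G) : Set G)) := by
      rw [hCe]; norm_num
    rcases (Nat.Prime.dvd_mul (by norm_num : Nat.Prime 7)).mp h7' with h | h
    · exact h
    · exfalso
      have : 7 ∣ 19 - 1 := h.trans he
      norm_num at this
  obtain ⟨c', hc'⟩ := exists_prime_orderOf_dvd_card' (G := centralizer ((P : Subgroup G) : Set G))
    7 h7
  have hc7 : orderOf (c' : G) = 7 := by rw [Subgroup.orderOf_coe]; exact hc'
  have hF1 := card_fixed_sylow_modEq_one P (c' : G) c'.2
  have hF2 := card_fixed_sylow_modEq_card (p := 19) (q := 7) (c' : G) hc7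
  rw [h96] at hF2
  have hle : Nat.card {Q : Sylow 19 G // (c' : G) • Q = Q} ≤ Nat.card (Sylow 19 G) :=
    Nat.card_le_card_of_injective _ Subtype.val_injective
  rw [h96] at hle
  have hf : Nat.card {Q : Sylow 19 G // (c' : G) • Q = Q} = 96 := by
    unfold Nat.ModEq at hF1 hF2
    omega
  have hbij : Function.Bijective (Subtype.val : {Q : Sylow 19 G // (c' : G) • Q = Q} → Sylow 19 G) :=
    Function.Injective.bijective_of_nat_card_le Subtype.val_injective (by rw [hf, h96])
  have hall : ∀ Q : Sylow 19 G, (c' : G) • Q = Q := by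
    intro Q
    obtain ⟨x, rfl⟩ := hbij.2 Q
    exact x.2
  have h1 := eq_one_of_forall_smul_sylow_eq (p := 19) (by rw [h96]; norm_num) (c' : G) hall
  rw [h1, orderOf_one] at hc7
  norm_num at hc7

end Cfsg.Agent.Helper12.O459
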