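import Cfsg.Agent.Helper91.O7.Defs

/-!
# S5514 (helper91) piece (F): counting fixed vectors of a given norm
-/

set_option autoImplicit false

namespace Cfsg.Agent.Helper12.O7

open Matrix Cfsg.Agent.Helper91.O7

theorem vdig_lt (n i : ℕ) : vdig n i < 3 := Nat.mod_lt _ (by norm_num)

/-- naturals below three are determined by their residue classes -/
theorem natCast_zmod3_inj {a b : ℕ} (ha : a < 3) (hb : b < 3)
    (h : ((a : ℕ) : ZMod 3) = ((b : ℕ) : ZMod 3)) : a = b := by
  rw [ZMod.natCast_eq_natCast_iff'] at h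
  rwa [Nat.mod_eq_of_lt ha, Nat.mod_eq_of_lt hb] at h

/-- the base three expansion -/
theorem digits_sum (n : ℕ) (hn : n < 2187) :
    n = vdig n 0 + 3 * vdig n 1 + 9 * vdig n 2 + 27 * vdig n 3 + 81 * vdig n 4 + 243 * vdig n 5
      + 729 * vdig n 6 := by
  unfold vdig
  norm_num
  omega

theorem vecOf_injOn {n m : ℕ} (hn : n < 2187) (hm : m < 2187) (h : vecOf n = vecOf m) : n = m := by
  have hd : ∀ i : Fin 7, vdig n i = vdig m i := fun i =>
    natCast_zmod3_inj (vdig_lt n i) (vdig_lt m i) (congrFun h i)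
  have h0 := hd 0
  have h1 := hd 1
  have h2 := hd 2
  have h3 := hd 3
  have h4 := hd 4
  have h5 := hd 5
  have h6 := hd 6
  simp only [Fin.val_zero, Fin.val_one, Fin.val_two] at h0 h1 h2
  have e3 : ((3 : Fin 7) : ℕ) = 3 := rfl
  have e4 : ((4 : Fin 7) : ℕ) = 4 := rfl
  have e5 : ((5 : Fin 7) : ℕ) = 5 := rfl
  have e6 : ((6 : Fin 7) : ℕ) = 6 := rfl
  rw [e3] at h3
  rw [e4] at h4
  rw [e5] at h5
  rw [e6] at h6
  rw [digits_sum n hn, digits_sum m hm, h0, h1, h2, h3, h4, h5, h6]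

theorem vecOf_bijective :
    Function.Bijective (fun k : Fin 2187 => vecOf (k : ℕ)) := by
  rw [Fintype.bijective_iff_injective_and_card]
  constructor
  · intro k k' h
    exact Fin.ext (vecOf_injOn k.isLt k'.isLt h)
  · simp [ZMod.card]

/-- the image of the vector with number `n` -/
theorem toMat_mulVec_vecOf (A n : ℕ) (i : Fin 7) :
    (toMat A *ᵥ vecOf n) i = ((mvEnt A n i : ℕ) : ZMod 3) := by
  simp only [Matrix.mulVec, dotProduct, Fin.sum_univ_seven, toMat, vecOf, mvEnt, ZMod.natCast_mod]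
  push_cast
  rfl

theorem Q7_vecOf (n : ℕ) : Q7 (vecOf n) = ((q7Nat n : ℕ) : ZMod 3) := by
  simp only [Q7, vecOf, q7Nat, ZMod.natCast_mod]
  push_cast
  have e3 : ((3 : Fin 7) : ℕ) = 3 := rfl
  have e4 : ((4 : Fin 7) : ℕ) = 4 := rfl
  have e5 : ((5 : Fin 7) : ℕ) = 5 := rfl
  have e6 : ((6 : Fin 7) : ℕ) = 6 := rfl
  simp only [Fin.val_zero, Fin.val_one, Fin.val_two, e3, e4, e5, e6]
  ring

theorem mvEnt_lt (A n i : ℕ) : mvEnt A n i < 3 := Nat.mod_lt _ (by norm_num)

theorem q7Nat_lt (n : ℕ) : q7Nat n < 3 := Nat.mod_lt _ (by norm_num)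

theorem fixedB_iff (A n : ℕ) : fixedB A n = true ↔ toMat A *ᵥ vecOf n = vecOf n := by
  unfold fixedB
  rw [List.all_eq_true]
  constructor
  · intro h
    funext i
    rw [toMat_mulVec_vecOf]
    have := h i (List.mem_range.2 i.isLt)
    rw [beq_iff_eq] at this
    show ((mvEnt A n i : ℕ) : ZMod 3) = ((vdig n i : ℕ) : ZMod 3)
    rw [this]
  · intro h i hi
    rw [List.mem_range] at hi
    rw [beq_iff_eq]
    have := congrFun h ⟨i, hi⟩
    rw [toMat_mulVec_vecOf] at this
    exact natCast_zmod3_inj (mvEnt_lt A n i) (vdig_lt n i) this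

theorem pred_iff (A c n : ℕ) (hc : c < 3) :
    (fixedB A n && q7Nat n == c) = true ↔
      (toMat A *ᵥ vecOf n = vecOf n ∧ Q7 (vecOf n) = ((c : ℕ) : ZMod 3)) := by
  rw [Bool.and_eq_true, fixedB_iff, beq_iff_eq, Q7_vecOf]
  constructor
  · rintro ⟨h1, h2⟩
    exact ⟨h1, by rw [h2]⟩
  · rintro ⟨h1, h2⟩
    exact ⟨h1, natCast_zmod3_inj (q7Nat_lt n) hc h2⟩

theorem fixCount_toMat (A c : ℕ) (hc : c < 3) :
    fixCount (toMat A) ((c : ℕ) : ZMod 3) = countFix A c := by
  classical
  unfold fixCount countFix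
  -- the list count as the cardinality of a subtype of `Fin 2187`
  have h1 : ((List.range 2187).filter fun n => fixedB A n && q7Nat n == c).length =
      Fintype.card {k : Fin 2187 // (fixedB A k && q7Nat k == c) = true} := by
    rw [Fintype.card_subtype, ← List.countP_eq_length_filter]
    have : ∀ N : ℕ, ∀ p : ℕ → Bool, (List.range N).countP p =
        (Finset.univ.filter fun k : Fin N => p k = true).card := by
      intro N p
      induction N with
      | zero => simp
      | succ N ih =>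
        rw [List.range_succ, List.countP_append, ih, List.countP_singleton]
        rw [Finset.card_filter, Finset.card_filter, Fin.sum_univ_castSucc]
        simp only [Fin.val_castSucc, Fin.val_last]
    exact this 2187 _
  rw [h1, ← Nat.card_eq_fintype_card]
  symm
  apply Nat.card_congr
  refine Equiv.ofBijective (fun k => ⟨vecOf (k.1 : ℕ), (pred_iff A c k.1 hc).1 k.2⟩) ⟨?_, ?_⟩
  · intro k k' h
    apply Subtype.ext
    apply vecOf_bijective.1
    exact congrArg Subtype.val h
  · rintro ⟨v, hv⟩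
    obtain ⟨k, rfl⟩ := vecOf_bijective.2 v
    exact ⟨⟨k, (pred_iff A c k hc).2 hv⟩, rfl⟩

/-- the stabiliser of a vector -/
def vecStab (v : Fin 7 → ZMod 3) : Subgroup U7 where
  carrier := {g | g.val *ᵥ v = v}
  mul_mem' {a b} ha hb := by
    show (a * b).val *ᵥ v = v
    rw [Units.val_mul, ← Matrix.mulVec_mulVec, show b.val *ᵥ v = v from hb]
    exact ha
  one_mem' := by
    show (1 : U7).val *ᵥ v = v
    rw [Units.val_one, Matrix.one_mulVec]
  inv_mem' {a} ha := by
    show a⁻¹.val *ᵥ v = v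
    have h1 : a⁻¹.val *ᵥ (a.val *ᵥ v) = v := by
      rw [Matrix.mulVec_mulVec, ← Units.val_mul, inv_mul_cancel, Units.val_one, Matrix.one_mulVec]
    rw [show a.val *ᵥ v = v from ha] at h1
    exact h1

theorem mem_vecStab {v : Fin 7 → ZMod 3} {g : U7} : g ∈ vecStab v ↔ g.val *ᵥ v = v := Iff.rfl

/-- generators of the same cyclic group have the same fixed vectors -/
theorem fixed_iff_of_zpowers_eq {z y : U7} (h : Subgroup.zpowers z = Subgroup.zpowers y)
    (v : Fin 7 → ZMod 3) : z.val *ᵥ v = v ↔ y.val *ᵥ v = v := by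
  constructor
  · intro hz
    have h1 : Subgroup.zpowers z ≤ vecStab v := by
      rw [Subgroup.zpowers_le]
      exact hz
    have h2 : y ∈ Subgroup.zpowers z := by
      rw [h]
      exact Subgroup.mem_zpowers y
    exact h1 h2
  · intro hy
    have h1 : Subgroup.zpowers y ≤ vecStab v := by
      rw [Subgroup.zpowers_le]
      exact hy
    have h2 : z ∈ Subgroup.zpowers y := by
      rw [← h]
      exact Subgroup.mem_zpowers z
    exact h1 h2

theorem fixCount_of_zconj {K : Subgroup U7} (hK : K ≤ OM) {x y : U7} (h : zconj K x y)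
    (c : ZMod 3) : fixCount x.val c = fixCount y.val c := by
  obtain ⟨k, hk, hz⟩ := h
  have hkO : k ∈ OM := hK hk
  have hkO' : k⁻¹ ∈ OM := OM.inv_mem hkO
  unfold fixCount
  apply Nat.card_congr
  have hcancel : ∀ v : Fin 7 → ZMod 3, k⁻¹.val *ᵥ (k.val *ᵥ v) = v := by
    intro v
    rw [Matrix.mulVec_mulVec, ← Units.val_mul, inv_mul_cancel, Units.val_one, Matrix.one_mulVec]
  have hcancel' : ∀ v : Fin 7 → ZMod 3, k.val *ᵥ (k⁻¹.val *ᵥ v) = v := by
    intro v
    rw [Matrix.mulVec_mulVec, ← Units.val_mul, mul_inv_cancel, Units.val_one, Matrix.one_mulVec]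
  refine
    { toFun := fun v => ⟨k.val *ᵥ v.1, ?_, ?_⟩
      invFun := fun w => ⟨k⁻¹.val *ᵥ w.1, ?_, ?_⟩
      left_inv := fun v => Subtype.ext (hcancel v.1)
      right_inv := fun w => Subtype.ext (hcancel' w.1) }
  · rw [← fixed_iff_of_zpowers_eq hz]
    rw [Units.val_mul, Units.val_mul, ← Matrix.mulVec_mulVec, ← Matrix.mulVec_mulVec, hcancel,
      v.2.1]
  · rw [mem_OM.1 hkO]
    exact v.2.2
  · have hw : (k * x * k⁻¹).val *ᵥ w.1 = w.1 := (fixed_iff_of_zpowers_eq hz w.1).2 w.2.1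
    rw [Units.val_mul, Units.val_mul, ← Matrix.mulVec_mulVec, ← Matrix.mulVec_mulVec] at hw
    have := congrArg (fun u => k⁻¹.val *ᵥ u) hw
    simp only [hcancel] at this
    exact this
  · rw [mem_OM.1 hkO']
    exact w.2.2

end Cfsg.Agent.Helper12.O7
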