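import Cfsg.Agent.Helper91.O7.Defs

/-!
# S5514 (helper91) piece (P): a subgroup from its multiplication table
-/

set_option autoImplicit false

namespace Cfsg.Agent.Helper12.O7

open Matrix Cfsg.Agent.Helper91.O7

theorem table_injective (T n : ℕ) (hnorm : ∀ c < n, normCode (tab T c) = tab T c)
    (hsort : ∀ c, c + 1 < n → tab T c < tab T (c + 1)) :
    ∀ c < n, ∀ c' < n, toMat (tab T c) = toMat (tab T c') → c = c' := by
  have hmono : ∀ d c, c + d + 1 < n → tab T c < tab T (c + d + 1) := by
    intro d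
    induction d with
    | zero => intro c hc; exact hsort c hc
    | succ d ih =>
      intro c hc
      have h1 := ih c (by omega)
      have h2 := hsort (c + d + 1) (by omega)
      exact lt_trans h1 h2
  have hlt : ∀ c c', c < c' → c' < n → tab T c < tab T c' := by
    intro c c' hcc hc'
    obtain ⟨d, rfl⟩ : ∃ d, c' = c + d + 1 := ⟨c' - c - 1, by omega⟩
    exact hmono d c hc'
  intro c hc c' hc' h
  have h1 : tab T c = tab T c' := by
    rw [← hnorm c hc, ← hnorm c' hc']
    exact normCode_congr h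
  rcases Nat.lt_trichotomy c c' with hlt' | heq | hgt
  · exact absurd h1 (ne_of_lt (hlt c c' hlt' hc'))
  · exact heq
  · exact absurd h1.symm (ne_of_lt (hlt c' c hgt hc))

/-- the same with an abstract table (nothing about `tab` is unfolded) -/
theorem closure_table_aux (U : ℕ → U7) (U_eq : ∀ {A : ℕ} {u : U7}, u.val = toMat A → U A = u)
    (tb : ℕ → ℕ) (n : ℕ) (g : Fin 3 → ℕ) (nxt : Fin 3 → ℕ → ℕ)
    (par dep : ℕ → ℕ)
    (gu : Fin 3 → U7) (hgu : ∀ i, (gu i).val = toMat (g i)) (hg3 : ∀ i, gu i ^ 3 = 1)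
    (hn : 0 < n) (h0 : toMat (tb 0) = 1)
    (hnxt : ∀ i, ∀ c < n, nxt i c < n ∧ mulCode (g i) (tb c) = tb (nxt i c))
    (htree : ∀ c < n, c = 0 ∨
      (par c < n ∧ dep (par c) < dep c ∧ ∃ i : Fin 3, nxt i (par c) = c))
    (hinj : ∀ c < n, ∀ c' < n, toMat (tb c) = toMat (tb c') → c = c') :
    ∃ t : ℕ → U7, (∀ c < n, (t c).val = toMat (tb c)) ∧
      (∀ u, u ∈ Subgroup.closure (Set.range gu) ↔ ∃ c < n, u = t c) ∧
      Nat.card (Subgroup.closure (Set.range gu)) = n := by
  -- every entry of the table is the matrix of an element of the closure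
  have hex : ∀ d c, dep c = d → c < n →
      ∃ u ∈ Subgroup.closure (Set.range gu), u.val = toMat (tb c) := by
    intro d
    induction d using Nat.strong_induction_on with
    | _ d ih =>
      intro c hd hc
      rcases htree c hc with rfl | ⟨hp, hdep, i, hi⟩
      · exact ⟨1, Subgroup.one_mem _, by rw [h0, Units.val_one]⟩
      · obtain ⟨u, hu, huv⟩ := ih (dep (par c)) (by omega) (par c) rfl hp
        refine ⟨gu i * u, Subgroup.mul_mem _ (Subgroup.subset_closure ⟨i, rfl⟩) hu, ?_⟩
        rw [Units.val_mul, hgu, huv, ← toMat_mulCode, (hnxt i (par c) hp).2, hi]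
  have hU : ∀ c < n, U (tb c) ∈ Subgroup.closure (Set.range gu) ∧
      (U (tb c)).val = toMat (tb c) := by
    intro c hc
    obtain ⟨u, hu, huv⟩ := hex (dep c) c rfl hc
    rw [U_eq huv]
    exact ⟨hu, huv⟩
  -- left multiplication by a generator
  have hstep : ∀ i, ∀ c < n, gu i * U (tb c) = U (tb (nxt i c)) := by
    intro i c hc
    symm
    apply U_eq
    rw [Units.val_mul, hgu, (hU c hc).2, ← toMat_mulCode, (hnxt i c hc).2]
  refine ⟨fun c => U (tb c), fun c hc => (hU c hc).2, ?_, ?_⟩
  · intro u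
    constructor
    · intro hu
      induction hu using Subgroup.closure_induction_left with
      | one =>
        refine ⟨0, hn, ?_⟩
        symm
        apply U_eq
        rw [h0, Units.val_one]
      | mul_left x hx y _ ih =>
        obtain ⟨i, rfl⟩ := hx
        obtain ⟨c, hc, hyc⟩ := ih
        exact ⟨nxt i c, (hnxt i c hc).1, by rw [hyc]; exact hstep i c hc⟩
      | inv_mul_cancel x hx y _ ih =>
        obtain ⟨i, rfl⟩ := hx
        obtain ⟨c, hc, hyc⟩ := ih
        have hinv : (gu i)⁻¹ = gu i * gu i := by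
          apply inv_eq_of_mul_eq_one_left
          rw [← pow_two, ← pow_succ]
          exact hg3 i
        refine ⟨nxt i (nxt i c), (hnxt i _ (hnxt i c hc).1).1, ?_⟩
        rw [hyc, hinv, mul_assoc, hstep i c hc, hstep i _ (hnxt i c hc).1]
    · rintro ⟨c, hc, huc⟩
      rw [huc]
      exact (hU c hc).1
  · have hbij : Function.Bijective
        (fun c : Fin n => (⟨U (tb c), (hU c c.isLt).1⟩ : Subgroup.closure (Set.range gu))) := by
      constructor
      · intro c c' hcc
        have h1 : U (tb c) = U (tb c') := congrArg Subtype.val hcc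
        have h2 : toMat (tb c) = toMat (tb c') := by
          rw [← (hU c c.isLt).2, ← (hU c' c'.isLt).2, h1]
        exact Fin.ext (hinj c c.isLt c' c'.isLt h2)
      · rintro ⟨u, hu⟩
        -- membership, by the first part
        have hmem : ∃ c < n, u = U (tb c) := by
          induction hu using Subgroup.closure_induction_left with
          | one =>
            refine ⟨0, hn, ?_⟩
            symm
            apply U_eq
            rw [h0, Units.val_one]
          | mul_left x hx y _ ih =>
            obtain ⟨i, rfl⟩ := hx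
            obtain ⟨c, hc, hyc⟩ := ih
            exact ⟨nxt i c, (hnxt i c hc).1, by rw [hyc]; exact hstep i c hc⟩
          | inv_mul_cancel x hx y _ ih =>
            obtain ⟨i, rfl⟩ := hx
            obtain ⟨c, hc, hyc⟩ := ih
            have hinv : (gu i)⁻¹ = gu i * gu i := by
              apply inv_eq_of_mul_eq_one_left
              rw [← pow_two, ← pow_succ]
              exact hg3 i
            refine ⟨nxt i (nxt i c), (hnxt i _ (hnxt i c hc).1).1, ?_⟩
            rw [hyc, hinv, mul_assoc, hstep i c hc, hstep i _ (hnxt i c hc).1]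
        obtain ⟨c, hc, huc⟩ := hmem
        exact ⟨⟨c, hc⟩, Subtype.ext huc.symm⟩
    rw [← Nat.card_eq_of_bijective _ hbij, Nat.card_eq_fintype_card, Fintype.card_fin]

theorem closure_table (T n : ℕ) (g : Fin 3 → ℕ) (nxt : Fin 3 → ℕ → ℕ) (par dep : ℕ → ℕ)
    (gu : Fin 3 → U7) (hgu : ∀ i, (gu i).val = toMat (g i)) (hg3 : ∀ i, gu i ^ 3 = 1)
    (hn : 0 < n) (h0 : tab T 0 = idCode)
    (hnxt : ∀ i, ∀ c < n, nxt i c < n ∧ mulCode (g i) (tab T c) = tab T (nxt i c))
    (htree : ∀ c < n, c = 0 ∨
      (par c < n ∧ dep (par c) < dep c ∧ ∃ i : Fin 3, nxt i (par c) = c))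
    (hinj : ∀ c < n, ∀ c' < n, toMat (tab T c) = toMat (tab T c') → c = c') :
    ∃ t : ℕ → U7, (∀ c < n, (t c).val = toMat (tab T c)) ∧
      (∀ u, u ∈ Subgroup.closure (Set.range gu) ↔ ∃ c < n, u = t c) ∧
      Nat.card (Subgroup.closure (Set.range gu)) = n := by
  apply closure_table_aux Cfsg.Agent.Helper91.O7.U (fun h => Cfsg.Agent.Helper91.O7.U_eq h)
    (fun c => tab T c) n g nxt par dep gu hgu hg3 hn ?_ hnxt htree hinj
  show toMat (tab T 0) = 1
  rw [h0, toMat_idCode]

end Cfsg.Agent.Helper12.O7
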