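import Mathlib
import Cfsg.Agent.Helper99.O9.Defs
import Cfsg.Agent.Helper99.O9.C7Defs

/-!
# (ARO1) for helper99's S2517 (C7): arithmetic of the covering, half-dimension 1
-/

set_option autoImplicit false
set_option linter.unusedSectionVars false
set_option linter.unusedVariables false

namespace Cfsg.Agent.Helper12.O9

open Cfsg.Agent.Helper99.O9

/-- (ARO1) -/
theorem arO1 (q p : ℕ) (hq : Odd q) (hq3 : 3 ≤ q) (hp : p.Prime) (hp2 : p ≠ 2) (k μ e N' : ℕ)
    (hk : 1 ≤ k) (hμ : 1 ≤ μ) (hkμ : k * μ ≤ 1) (he : e = q ^ k + 1 ∨ e = q ^ k - 1)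
    (hN' : N' ∈ LrO (1 - k * μ) q p) :
    ∃ N ∈ LrO 1 q p, Nat.lcm (e * p ^ Nat.clog p μ) N' ∣ N := by
  have hk1 : k = 1 := by nlinarith
  have hμ1 : μ = 1 := by nlinarith
  subst hk1 hμ1
  rw [show 1 - 1 * 1 = 0 by norm_num, LrO_zero] at hN'
  simp only [List.mem_singleton] at hN'
  subst hN'
  rw [Nat.clog_one_right, pow_zero, mul_one, Nat.lcm_one_right, pow_one] at *
  rw [LrO_one]
  rcases he with rfl | rfl
  · exact ⟨q + 1, by simp, dvd_rfl⟩
  · exact ⟨q - 1, by simp, dvd_rfl⟩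

end Cfsg.Agent.Helper12.O9
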