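import Mathlib
import Cfsg.Agent.Helper99.O9.Defs
import Cfsg.Agent.Helper99.O9.C7Defs

/-!
# (ARO2) for helper99's S2517 (C7): arithmetic of the covering, half-dimension 2
-/

set_option autoImplicit false
set_option linter.unusedSectionVars false
set_option linter.unusedVariables false

namespace Cfsg.Agent.Helper12.O9

open Cfsg.Agent.Helper99.O9

theorem aro2_sq (q : ℕ) (hq : 1 ≤ q) : q ^ 2 - 1 = (q + 1) * (q - 1) := by
  obtain ⟨a, rfl⟩ : ∃ a, q = a + 1 := ⟨q - 1, by omega⟩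
  have : (a + 1) ^ 2 = (a + 1 + 1) * a + 1 := by ring
  rw [this]
  simp

/-- (ARO2) all by `Nat.lcm_dvd` and explicit divisibilities -/
theorem arO2 (q p : ℕ) (hq : Odd q) (hq3 : 3 ≤ q) (hp : p.Prime) (hp2 : p ≠ 2) (k μ e N' : ℕ)
    (hk : 1 ≤ k) (hμ : 1 ≤ μ) (hkμ : k * μ ≤ 2) (he : e = q ^ k + 1 ∨ e = q ^ k - 1)
    (hN' : N' ∈ LrO (2 - k * μ) q p) :
    ∃ N ∈ LrO 2 q p, Nat.lcm (e * p ^ Nat.clog p μ) N' ∣ N := by
  have hp3 : 3 ≤ p := by
    have := hp.two_le
    omega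
  have hsq := aro2_sq q (by omega)
  have hcases : (k = 1 ∧ μ = 1) ∨ (k = 1 ∧ μ = 2) ∨ (k = 2 ∧ μ = 1) := by
    have hk2 : k ≤ 2 := by nlinarith
    have hμ2 : μ ≤ 2 := by nlinarith
    interval_cases k <;> interval_cases μ <;> simp_all
  rw [LrO_two]
  rcases hcases with ⟨rfl, rfl⟩ | ⟨rfl, rfl⟩ | ⟨rfl, rfl⟩
  · -- (1,1)
    rw [show 2 - 1 * 1 = 1 by norm_num, LrO_one] at hN'
    simp only [List.mem_cons, List.not_mem_nil, or_false] at hN'
    rw [Nat.clog_one_right, pow_zero, mul_one, pow_one] at *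
    refine ⟨q ^ 2 - 1, by simp, ?_⟩
    rw [hsq]
    apply Nat.lcm_dvd
    · rcases he with rfl | rfl
      · exact dvd_mul_right _ _
      · exact dvd_mul_left _ _
    · rcases hN' with rfl | rfl
      · exact dvd_mul_left _ _
      · exact dvd_mul_right _ _
  · -- (1,2)
    rw [show 2 - 1 * 2 = 0 by norm_num, LrO_zero] at hN'
    simp only [List.mem_singleton] at hN'
    subst hN'
    rw [Nat.clog_eq_one (le_refl 2) (by omega), pow_one, Nat.lcm_one_right] at *
    rcases he with rfl | rfl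
    · exact ⟨p * (q + 1), by simp, by rw [mul_comm]⟩
    · exact ⟨p * (q - 1), by simp, by rw [mul_comm]⟩
  · -- (2,1)
    rw [show 2 - 2 * 1 = 0 by norm_num, LrO_zero] at hN'
    simp only [List.mem_singleton] at hN'
    subst hN'
    rw [Nat.clog_one_right, pow_zero, mul_one, Nat.lcm_one_right] at *
    rcases he with rfl | rfl
    · exact ⟨q ^ 2 + 1, by simp, dvd_rfl⟩
    · exact ⟨q ^ 2 - 1, by simp, dvd_rfl⟩

end Cfsg.Agent.Helper12.O9
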