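import Mathlib
import Cfsg.Agent.Helper5.OmBN.Defs

/-!
# (RED) of helper5's S2549 farm (#11709): reduction of a singular vector by induction on its last
nonzero coordinate (adapted from helper72's `SuBNRED` / helper63's `OpBNRED`).
-/

set_option autoImplicit false

namespace Cfsg.Agent.Helper12.OmBN

open Matrix Cfsg.Agent.Helper5.OmBN

variable {F : Type*} [Field F] {m : ℕ} {α β : F}

theorem RED_fixj_one (j : ℕ) : Fixj j (1 : OG m α β) := by
  intro a b _
  rw [mat_one, Matrix.one_apply]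

theorem RED_fixj_mul (j : ℕ) (h₂ h₁ : OG m α β) (H₂ : Fixj j h₂) (H₁ : Fixj j h₁) :
    Fixj j (h₂ * h₁) := by
  intro a b hb
  rw [mat_mul, Matrix.mul_apply, Finset.sum_eq_single b]
  · rw [H₁ b b hb, if_pos rfl, mul_one, H₂ a b hb]
  · intro x _ hx
    rw [H₁ x b hb, if_neg hx, mul_zero]
  · intro h; exact absurd (Finset.mem_univ _) h

/-- (RED) reduction of a singular vector to the `j`-th basis vector modulo the first `j` ones -/
theorem exists_reduce
    (hstep : ∀ (j A : ℕ), j < A → A + j ≤ 2 * m + 1 → ∀ v : Fin (2 * m + 2) → F, Qm α β v = 0 →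
      (∀ r : Fin (2 * m + 2), A < r.val → v r = 0) → ∀ a : Fin (2 * m + 2), a.val = A → v a ≠ 0 →
      ∃ h ∈ G1 m α β, Fixj j h ∧ ∀ r : Fin (2 * m + 2), A ≤ r.val → (mat h *ᵥ v) r = 0)
    (j : ℕ) (hj : j < m) (v : Fin (2 * m + 2) → F) (hv : Qm α β v = 0)
    (hv0 : ∀ r : Fin (2 * m + 2), 2 * m + 1 - j < r.val → v r = 0)
    (hv1 : ∃ r : Fin (2 * m + 2), j ≤ r.val ∧ v r ≠ 0) :
    ∃ h ∈ G1 m α β, Fixj j h ∧ ∀ r : Fin (2 * m + 2), j < r.val → (mat h *ᵥ v) r = 0 := by
  have key : ∀ A : ℕ, ∀ v : Fin (2 * m + 2) → F, Qm α β v = 0 →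
      (∀ a : Fin (2 * m + 2), 2 * m + 1 - j < a.val → v a = 0) →
      (∀ a : Fin (2 * m + 2), A < a.val → v a = 0) →
      ∃ h ∈ G1 m α β, Fixj j h ∧ ∀ a : Fin (2 * m + 2), j < a.val → (mat h *ᵥ v) a = 0 := by
    intro A
    induction A with
    | zero =>
      intro v _ _ hb
      refine ⟨1, Subgroup.one_mem _, RED_fixj_one j, fun a ha => ?_⟩
      rw [mat_one, Matrix.one_mulVec]
      exact hb a (by omega)
    | succ A ih =>
      intro v hv hv0 hb
      by_cases hAj : A + 1 ≤ j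
      · refine ⟨1, Subgroup.one_mem _, RED_fixj_one j, fun a ha => ?_⟩
        rw [mat_one, Matrix.one_mulVec]
        exact hb a (by omega)
      · by_cases hz : ∀ a : Fin (2 * m + 2), a.val = A + 1 → v a = 0
        · apply ih v hv hv0
          intro a ha
          by_cases h1 : a.val = A + 1
          · exact hz a h1
          · exact hb a (by omega)
        · push Not at hz
          obtain ⟨a₀, ha₀, hne⟩ := hz
          have hle : A + 1 + j ≤ 2 * m + 1 := by
            by_contra hlt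
            exact hne (hv0 a₀ (by omega))
          obtain ⟨h₁, hh₁, hF₁, hz₁⟩ := hstep j (A + 1) (by omega) hle v hv hb a₀ ha₀ hne
          obtain ⟨h₂, hh₂, hF₂, hz₂⟩ := ih (mat h₁ *ᵥ v)
            (by rw [Qm_mulVec]; exact hv)
            (fun a ha => hz₁ a (by omega))
            (fun a ha => hz₁ a (by omega))
          refine ⟨h₂ * h₁, Subgroup.mul_mem _ hh₂ hh₁, RED_fixj_mul j h₂ h₁ hF₂ hF₁, fun a ha => ?_⟩
          rw [mat_mul, ← Matrix.mulVec_mulVec]
          exact hz₂ a ha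
  exact key (2 * m + 2) v hv hv0 (fun a ha => absurd a.2 (by omega))

end Cfsg.Agent.Helper12.OmBN
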