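import Mathlib
import Cfsg.Agent.Helper5.OmBN.Defs

/-!
# (STEP2-I) of helper5's S2549 farm (#11709): reduction step, last nonzero coordinate `A > m + 2`, the root
`k = 2m + 1 - A` is of kind I (adapted from helper47's `OpBNSTEP1` / `OpBNSTEP2`).
-/

set_option autoImplicit false

namespace Cfsg.Agent.Helper12.OmBN

open Matrix Cfsg.Agent.Helper5.OmBN

variable {F : Type*} [Field F] {m : ℕ} {α β : F}

/-- the action of a root element on a vector -/
theorem S2I_xMat_mulVec (a b : Fin (2 * m + 2)) (t : F) (v : Fin (2 * m + 2) → F)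
    (l : Fin (2 * m + 2)) :
    (xMat a b t *ᵥ v) l = v l + (if l = a then t * v b else 0)
      - (if l = Fin.rev b then t * v (Fin.rev a) else 0) := by
  unfold xMat
  rw [Matrix.sub_mulVec, Matrix.add_mulVec, Matrix.one_mulVec,
    Matrix.smul_mulVec, Matrix.smul_mulVec, Matrix.single_mulVec, Matrix.single_mulVec]
  simp only [Pi.add_apply, Pi.sub_apply, Pi.smul_apply, Function.update_apply, Pi.zero_apply,
    smul_eq_mul, one_mul, mul_ite, mul_zero]

/-- the action of a permutation matrix on a vector -/
theorem S2I_pMat_mulVec (π : Equiv.Perm (Fin (2 * m + 2))) (v : Fin (2 * m + 2) → F)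
    (p : Fin (2 * m + 2)) : ((pMat π : Matrix _ _ F) *ᵥ v) p = v (π⁻¹ p) := by
  rw [Matrix.mulVec, dotProduct, Finset.sum_eq_single (π⁻¹ p)]
  · rw [pMat_apply, if_pos (by simp), one_mul]
  · intro b _ hb
    rw [pMat_apply, if_neg, zero_mul]
    intro h
    apply hb
    rw [h]
    simp
  · intro h
    exact absurd (Finset.mem_univ _) h

/-- the common core: for a root `k` of kind I the element `s_k x_k(t)` lies in `G1`, fixes the first `k` basis
vectors and acts as `x_k(t)` followed by the permutation `sPerm k` -/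
theorem S2I_core (hXI : HasXI m α β) (hS : HasS m α β) (k : Fin m) (hk : k.val + 1 < m) (t : F) (j : ℕ)
    (hjk : j ≤ k.val) :
    ∃ h ∈ G1 m α β, Fixj j h ∧ ∀ (v : Fin (2 * m + 2) → F) (p : Fin (2 * m + 2)),
      (mat h *ᵥ v) p = (xMat (lo k) (ib k) t *ᵥ v) (sPerm k p) := by
  have hib1 : ib k ≠ c1 := by
    intro h
    have := congrArg Fin.val h
    rw [val_ib, val_c1] at this
    omega
  have hib2 : ib k ≠ c2 := by
    intro h
    have := congrArg Fin.val h
    rw [val_ib, val_c2] at this
    omega
  have hab : lo k ≠ ib k := by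
    intro h
    have := congrArg Fin.val h
    rw [val_lo, val_ib] at this
    omega
  have harb : lo k ≠ Fin.rev (ib k) := by
    intro h
    have := congrArg Fin.val h
    rw [val_lo, val_rev, val_ib] at this
    omega
  obtain ⟨x, hx⟩ := hXI (lo k) (ib k) (lo_ne_c1 k) (lo_ne_c2 k) hib1 hib2 hab harb t
  obtain ⟨s, hs⟩ := hS k
  rw [sMat_of_lt α k hk] at hs
  -- entries of `x`
  have hxe : ∀ p q : Fin (2 * m + 2), ¬ (p.val = k.val ∧ q.val = k.val + 1) →
      ¬ (p.val = 2 * m - k.val ∧ q.val = 2 * m + 1 - k.val) →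
      mat x p q = if p = q then 1 else 0 := by
    intro p q h1 h2
    rw [hx, xMat_apply]
    have h1' : ¬ (lo k = p ∧ ib k = q) := by
      rintro ⟨e1, e2⟩
      have e1' := congrArg Fin.val e1
      have e2' := congrArg Fin.val e2
      rw [val_lo] at e1'
      rw [val_ib] at e2'
      exact h1 ⟨e1'.symm, e2'.symm⟩
    have h2' : ¬ (Fin.rev (ib k) = p ∧ Fin.rev (lo k) = q) := by
      rintro ⟨e1, e2⟩
      have e1' := congrArg Fin.val e1
      have e2' := congrArg Fin.val e2
      rw [val_rev, val_ib] at e1'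
      rw [val_rev, val_lo] at e2'
      apply h2
      constructor <;> omega
    rw [if_neg h1', if_neg h2']
    simp
  -- `x ∈ B`
  have hxB : x ∈ Bsub m α β := by
    rw [mem_Bsub_iff]
    constructor
    · intro p q hqp
      have hp := p.2
      have hq := q.2
      have hpq : p ≠ q := by
        rintro rfl
        exact lt_irrefl _ hqp
      rw [hxe p q, if_neg hpq]
      · rintro ⟨e1, e2⟩
        unfold pos at hqp
        rw [e1, e2] at hqp
        split_ifs at hqp <;> omega
      · rintro ⟨e1, e2⟩
        unfold pos at hqp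
        rw [e1, e2] at hqp
        split_ifs at hqp <;> omega
    · constructor
      · rw [hxe c1 c2, hxe c2 c1, if_neg c1_ne_c2, if_neg c1_ne_c2.symm, mul_zero]
        · rw [val_c2, val_c1]; omega
        · rw [val_c2, val_c1]; omega
        · rw [val_c2, val_c1]; omega
        · rw [val_c2, val_c1]; omega
      · rw [hxe c2 c2, hxe c1 c1, hxe c2 c1, if_pos rfl, if_pos rfl, if_neg c1_ne_c2.symm, mul_zero,
          add_zero]
        · rw [val_c2, val_c1]; omega
        · rw [val_c2, val_c1]; omega
        · rw [val_c1]; omega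
        · rw [val_c1]; omega
        · rw [val_c2]; omega
        · rw [val_c2]; omega
  have hsN : s ∈ Nsub m α β := Sset_subset_Nsub ⟨k, by rw [hs, sMat_of_lt α k hk]⟩
  have hsinv : (sPerm k)⁻¹ = sPerm k := by
    rw [inv_eq_iff_mul_eq_one]
    ext q
    rw [Equiv.Perm.mul_apply, sPerm_sPerm k hk]
    rfl
  refine ⟨s * x, Subgroup.mul_mem _ (Nsub_le_G1 hsN) (Bsub_le_G1 hxB), ?_, ?_⟩
  · -- the first `j` columns
    intro p q hq
    rw [mat_mul, Matrix.mul_apply]
    have hqn := q.2
    have hcol : ∀ l : Fin (2 * m + 2), mat x l q = if l = q then 1 else 0 := by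
      intro l
      apply hxe l q
      · rintro ⟨_, e2⟩
        omega
      · rintro ⟨_, e2⟩
        omega
    rw [Finset.sum_eq_single q]
    · rw [hcol q, if_pos rfl, mul_one, hs, pMat_apply]
      have hfix : sPerm k q = q := by
        apply Fin.ext
        rw [val_sPerm k hk]
        rw [if_neg (by omega), if_neg (by omega), if_neg (by omega), if_neg (by omega)]
      rw [hfix]
    · intro l _ hl
      rw [hcol l, if_neg hl, mul_zero]
    · intro h
      exact absurd (Finset.mem_univ _) h
  · intro v p
    rw [mat_mul, ← Matrix.mulVec_mulVec, hs, S2I_pMat_mulVec, hsinv, hx]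

/-- (STEP2-I) the last nonzero coordinate `A` is in the right part, `A > m + 2`: the root `k = 2m + 1 - A` is of
kind I -/
theorem step_second_I (hXI : HasXI m α β) (hS : HasS m α β)
    (j A : ℕ) (hA : A + j ≤ 2 * m + 1) (hmA : m + 2 < A) (hAn : A < 2 * m + 2)
    (v : Fin (2 * m + 2) → F)
    (hvA : ∀ r : Fin (2 * m + 2), A < r.val → v r = 0) (a : Fin (2 * m + 2)) (ha : a.val = A)
    (hva : v a ≠ 0) :
    ∃ h ∈ G1 m α β, Fixj j h ∧ ∀ r : Fin (2 * m + 2), A ≤ r.val → (mat h *ᵥ v) r = 0 := by
  have hkm : 2 * m + 1 - A < m := by omega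
  set k : Fin m := ⟨2 * m + 1 - A, hkm⟩ with hkdef
  have hkval : k.val = 2 * m + 1 - A := rfl
  have hk : k.val + 1 < m := by rw [hkval]; omega
  have hra : Fin.rev (lo k) = a := by
    apply Fin.ext
    rw [val_rev, val_lo, hkval, ha]
    omega
  obtain ⟨h, hh, hfix, hact⟩ := S2I_core hXI hS k hk (v (Fin.rev (ib k)) / v a) j
    (by rw [hkval]; omega)
  refine ⟨h, hh, hfix, ?_⟩
  intro p hp
  rw [hact, S2I_xMat_mulVec, hra]
  have hpn := p.2
  by_cases hpA : p.val = A
  · have e : sPerm k p = Fin.rev (ib k) := by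
      apply Fin.ext
      rw [val_sPerm k hk, val_rev, val_ib, hkval]
      rw [if_neg (by omega), if_neg (by omega), if_neg (by omega), if_pos (by omega)]
      omega
    have hne : Fin.rev (ib k) ≠ lo k := by
      intro h'
      have := congrArg Fin.val h'
      rw [val_rev, val_ib, val_lo, hkval] at this
      omega
    rw [e, if_neg hne, if_pos rfl, add_zero]
    field_simp
    ring
  · have hfixp : sPerm k p = p := by
      apply Fin.ext
      rw [val_sPerm k hk, hkval]
      rw [if_neg (by omega), if_neg (by omega), if_neg (by omega), if_neg (by omega)]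
    have hne1 : p ≠ lo k := by
      intro h'
      have := congrArg Fin.val h'
      rw [val_lo, hkval] at this
      omega
    have hne2 : p ≠ Fin.rev (ib k) := by
      intro h'
      have := congrArg Fin.val h'
      rw [val_rev, val_ib, hkval] at this
      omega
    rw [hfixp, if_neg hne1, if_neg hne2, add_zero, sub_zero]
    exact hvA p (by omega)

end Cfsg.Agent.Helper12.OmBN
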