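import Mathlib
import Cfsg.Prelude.Def_ClassicalGeometry
import Cfsg.Agent.Helper45.TsMax2
import Cfsg.Agent.Helper13.SymmForm
import Cfsg.Agent.Helper44.Singular

/-!
# Geometry of an orthogonal splitting `V = A ⊥ S` of a quadratic space (odd characteristic)

Preparation for the maximality of the stabiliser of a non-degenerate subspace in `Ω`.
-/

set_option autoImplicit false
set_option linter.unusedSectionVars false

namespace Cfsg.Agent.Helper12.OmNd

open Matrix QuadraticMap Module Cfsg.Agent.Helper44 Cfsg.Agent.Helper45.OmegaParity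

variable {F : Type*} [Field F] {ι : Type} [Fintype ι] [DecidableEq ι]
variable (Q : QuadraticForm F (ι → F))

/-- the polar form is non-degenerate on the subspace `A` -/
def NdOn (A : Submodule F (ι → F)) : Prop :=
  ∀ a ∈ A, (∀ a' ∈ A, polar ⇑Q a a' = 0) → a = 0

/-- `V = A ⊥ S` -/
structure OrthSplit (A S : Submodule F (ι → F)) : Prop where
  orth : ∀ a ∈ A, ∀ s ∈ S, polar ⇑Q a s = 0
  dec : ∀ x : ι → F, ∃ a ∈ A, ∃ s ∈ S, x = a + s

variable {Q}

theorem OrthSplit.symm {A S : Submodule F (ι → F)} (h : OrthSplit Q A S) : OrthSplit Q S A := by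
  refine ⟨fun s hs a ha => ?_, fun x => ?_⟩
  · rw [polar_comm]; exact h.orth a ha s hs
  · obtain ⟨a, ha, s, hs, rfl⟩ := h.dec x
    exact ⟨s, hs, a, ha, add_comm a s⟩

theorem polar_self_zero {u : ι → F} (hu : Q u = 0) : polar ⇑Q u u = 0 := by
  rw [QuadraticMap.polar_self, hu, smul_zero]

theorem OrthSplit.ndOn_left (hQ : (QuadraticMap.polarBilin Q).Nondegenerate)
    {A S : Submodule F (ι → F)} (h : OrthSplit Q A S) : NdOn Q A := by
  intro a ha hor
  apply hQ.1 a
  intro x
  obtain ⟨a', ha', s, hs, rfl⟩ := h.dec x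
  rw [QuadraticMap.polarBilin_apply_apply, polar_add_right, hor a' ha', h.orth a ha s hs, add_zero]

theorem OrthSplit.ndOn_right (hQ : (QuadraticMap.polarBilin Q).Nondegenerate)
    {A S : Submodule F (ι → F)} (h : OrthSplit Q A S) : NdOn Q S :=
  h.symm.ndOn_left hQ

/-- a vector orthogonal to `A` lies in `S` -/
theorem OrthSplit.mem_right_of_orth (hQ : (QuadraticMap.polarBilin Q).Nondegenerate)
    {A S : Submodule F (ι → F)} (h : OrthSplit Q A S) {x : ι → F}
    (hx : ∀ a ∈ A, polar ⇑Q x a = 0) : x ∈ S := by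
  obtain ⟨a, ha, s, hs, rfl⟩ := h.dec x
  have ha0 : a = 0 := by
    apply h.ndOn_left hQ a ha
    intro a' ha'
    have := hx a' ha'
    rw [polar_add_left, polar_comm ⇑Q s a', h.orth a' ha' s hs, add_zero] at this
    exact this
  rw [ha0, zero_add]
  exact hs

theorem OrthSplit.mem_left_of_orth (hQ : (QuadraticMap.polarBilin Q).Nondegenerate)
    {A S : Submodule F (ι → F)} (h : OrthSplit Q A S) {x : ι → F}
    (hx : ∀ s ∈ S, polar ⇑Q x s = 0) : x ∈ A :=
  h.symm.mem_right_of_orth hQ hx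

theorem OrthSplit.eq_zero_of_mem (hQ : (QuadraticMap.polarBilin Q).Nondegenerate)
    {A S : Submodule F (ι → F)} (h : OrthSplit Q A S) {x : ι → F} (hxA : x ∈ A) (hxS : x ∈ S) :
    x = 0 := by
  apply h.ndOn_left hQ x hxA
  intro a' ha'
  rw [polar_comm]
  exact h.orth a' ha' x hxS

/-- if `a + s ∈ A` with `a ∈ A`, `s ∈ S` then `s = 0` -/
theorem OrthSplit.right_eq_zero (hQ : (QuadraticMap.polarBilin Q).Nondegenerate)
    {A S : Submodule F (ι → F)} (h : OrthSplit Q A S) {a s : ι → F} (ha : a ∈ A) (hs : s ∈ S)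
    (hx : a + s ∈ A) : s = 0 := by
  apply h.eq_zero_of_mem hQ _ hs
  have : s = (a + s) - a := by abel
  rw [this]
  exact A.sub_mem hx ha

/-! ### hyperbolic partners inside a non-degenerate subspace -/

theorem exists_partner_in {A : Submodule F (ι → F)} (hA : NdOn Q A) {u : ι → F} (huA : u ∈ A)
    (hu0 : u ≠ 0) (hu : Q u = 0) : ∃ u' ∈ A, Q u' = 0 ∧ polar ⇑Q u u' = 1 := by
  obtain ⟨y, hyA, hy⟩ : ∃ y ∈ A, polar ⇑Q u y ≠ 0 := by
    by_contra hcon
    push Not at hcon
    exact hu0 (hA u huA hcon)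
  obtain ⟨w, hwA, hw1⟩ : ∃ w ∈ A, polar ⇑Q u w = 1 :=
    ⟨(polar ⇑Q u y)⁻¹ • y, A.smul_mem _ hyA, by
      rw [polar_smul_right, smul_eq_mul, inv_mul_cancel₀ hy]⟩
  have huu : polar ⇑Q u u = 0 := polar_self_zero hu
  refine ⟨w - Q w • u, A.sub_mem hwA (A.smul_mem _ huA), ?_, ?_⟩
  · have h1 : w - Q w • u = w + (-(Q w)) • u := by rw [neg_smul, sub_eq_add_neg]
    rw [h1, QuadraticMap.map_add ⇑Q, QuadraticMap.map_smul, polar_smul_right, hu, polar_comm, hw1]
    simp
  · rw [polar_sub_right, polar_smul_right, hw1, huu]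
    simp

/-- if `a ∈ A` is orthogonal to `A ∩ x^⊥` (with `x ∈ A`) then `a` is a multiple of `x` -/
theorem double_orth {A : Submodule F (ι → F)} (hA : NdOn Q A) {x a : ι → F} (hxA : x ∈ A)
    (haA : a ∈ A) (h : ∀ a' ∈ A, polar ⇑Q x a' = 0 → polar ⇑Q a a' = 0) : ∃ c : F, a = c • x := by
  by_cases hx0 : ∀ t ∈ A, polar ⇑Q x t = 0
  · refine ⟨0, ?_⟩
    rw [zero_smul]
    exact hA a haA (fun a' ha' => h a' ha' (hx0 a' ha'))
  push Not at hx0
  obtain ⟨t, htA, ht⟩ := hx0
  refine ⟨polar ⇑Q a t / polar ⇑Q x t, ?_⟩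
  rw [← sub_eq_zero]
  apply hA _ (A.sub_mem haA (A.smul_mem _ hxA))
  intro a' ha'
  have h1 : polar ⇑Q x (a' - (polar ⇑Q x a' / polar ⇑Q x t) • t) = 0 := by
    rw [polar_sub_right, polar_smul_right, smul_eq_mul, div_mul_cancel₀ _ ht, sub_self]
  have h2 := h _ (A.sub_mem ha' (A.smul_mem _ htA)) h1
  rw [polar_sub_right, polar_smul_right, smul_eq_mul] at h2
  rw [polar_sub_left, polar_smul_left, smul_eq_mul]
  field_simp
  field_simp at h2
  linear_combination h2

/-! ### singular vectors in subspaces (odd characteristic) -/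

/-- the kernel of `B(y, ·)` cuts the dimension by at most one -/
theorem finrank_le_inf_perp (U : Submodule F (ι → F)) (y : ι → F) :
    finrank F U ≤ finrank F ↥(U ⊓ LinearMap.ker (QuadraticMap.polarBilin Q y)) + 1 :=
  Helper14.finrank_le_inf_ker_add_one U _

theorem mem_inf_perp {U : Submodule F (ι → F)} {y x : ι → F} :
    x ∈ U ⊓ LinearMap.ker (QuadraticMap.polarBilin Q y) ↔ x ∈ U ∧ polar ⇑Q y x = 0 := by
  rw [Submodule.mem_inf, LinearMap.mem_ker, QuadraticMap.polarBilin_apply_apply]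

theorem exists_ne_zero_of_finrank_pos (U : Submodule F (ι → F)) (h : 0 < finrank F U) :
    ∃ y ∈ U, y ≠ 0 := by
  by_contra hcon
  push Not at hcon
  have : U = ⊥ := by
    rw [eq_bot_iff]
    intro y hy
    rw [Submodule.mem_bot]
    exact hcon y hy
  rw [this, finrank_bot] at h
  exact lt_irrefl 0 h

/-- every subspace of dimension at least three contains a non-zero singular vector
(Chevalley-Warning, any characteristic) -/
theorem exists_singular_of_finrank [Fintype F] (Y : Submodule F (ι → F))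
    (hY : 3 ≤ finrank F Y) : ∃ u ∈ Y, u ≠ 0 ∧ Q u = 0 := by
  obtain ⟨v, hv0, hv⟩ := Cfsg.Agent.Helper44.exists_singular (Q.comp Y.subtype) hY
  exact ⟨v, v.2, fun h => hv0 (Subtype.ext h), hv⟩

/-- a subspace of dimension at least four contains a non-zero singular vector outside a given
line (given through a functional) -/
theorem exists_singular_ker [Fintype F] (Y : Submodule F (ι → F)) (y : ι → F)
    (hY : 4 ≤ finrank F Y) : ∃ u ∈ Y, u ≠ 0 ∧ Q u = 0 ∧ polar ⇑Q y u = 0 := by
  have hd := finrank_le_inf_perp (Q := Q) Y y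
  obtain ⟨u, hu, hu0, huQ⟩ := exists_singular_of_finrank (Q := Q)
    (Y ⊓ LinearMap.ker (QuadraticMap.polarBilin Q y)) (by omega)
  exact ⟨u, (mem_inf_perp.1 hu).1, hu0, huQ, (mem_inf_perp.1 hu).2⟩

end Cfsg.Agent.Helper12.OmNd
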