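import Mathlib
import Cfsg.Prelude.Def_ClassicalGeometry
import Cfsg.Agent.Helper12.OmNdA

/-!
# Geometry of a non-degenerate subspace, continued (odd characteristic)
-/

set_option autoImplicit false
set_option linter.unusedSectionVars false

namespace Cfsg.Agent.Helper12.OmNd

open Matrix QuadraticMap Module Cfsg.Agent.Helper44 Cfsg.Agent.Helper45.OmegaParity

variable {F : Type*} [Field F] {ι : Type} [Fintype ι] [DecidableEq ι]
variable {Q : QuadraticForm F (ι → F)}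

/-- two linearly independent singular vectors in a subspace of dimension at least five -/
theorem exists_two_singular [Fintype F] (Y : Submodule F (ι → F))
    (hY : 5 ≤ finrank F Y) :
    ∃ u₁ ∈ Y, ∃ u₂ ∈ Y, u₁ ≠ 0 ∧ Q u₁ = 0 ∧ Q u₂ = 0 ∧ ∀ c : F, u₂ ≠ c • u₁ := by
  obtain ⟨u₁, hu₁Y, hu₁0, hu₁⟩ := exists_singular_of_finrank (Q := Q) Y (by omega)
  obtain ⟨i, hi⟩ : ∃ i, u₁ i ≠ 0 := by
    by_contra hcon
    push Not at hcon
    exact hu₁0 (funext hcon)
  have hd := Helper14.finrank_le_inf_ker_add_one Y (LinearMap.proj i : (ι → F) →ₗ[F] F)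
  obtain ⟨u₂, hu₂Y, hu₂0, hu₂⟩ := exists_singular_of_finrank (Q := Q)
    (Y ⊓ LinearMap.ker (LinearMap.proj i : (ι → F) →ₗ[F] F)) (by omega)
  refine ⟨u₁, hu₁Y, u₂, hu₂Y.1, hu₁0, hu₁, hu₂, ?_⟩
  intro c hc
  have h1 : u₂ i = 0 := by
    have := LinearMap.mem_ker.1 hu₂Y.2
    rwa [LinearMap.proj_apply] at this
  rw [hc, Pi.smul_apply, smul_eq_mul] at h1
  have hc0 : c = 0 := (mul_eq_zero.1 h1).resolve_right hi
  rw [hc0, zero_smul] at hc
  exact hu₂0 hc

/-- a subspace containing all singular vectors of the non-degenerate `A` (dimension at least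
three) contains `A` -/
theorem le_of_singular_mem [Fintype F] {A : Submodule F (ι → F)}
    (hA : NdOn Q A) (h3 : 3 ≤ finrank F A) (T : Submodule F (ι → F))
    (hT : ∀ u ∈ A, Q u = 0 → u ∈ T) : A ≤ T := by
  obtain ⟨u, huA, hu0, hu⟩ := exists_singular_of_finrank (Q := Q) A h3
  obtain ⟨u', hu'A, hu', huu'⟩ := exists_partner_in hA huA hu0 hu
  have hu'u : polar ⇑Q u' u = 1 := by rw [polar_comm]; exact huu'
  have huu : polar ⇑Q u u = 0 := polar_self_zero hu
  have hu'u'0 : polar ⇑Q u' u' = 0 := polar_self_zero hu'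
  intro t htA
  set t' : ι → F := t - polar ⇑Q u' t • u - polar ⇑Q u t • u' with ht'
  have ht'A : t' ∈ A := A.sub_mem (A.sub_mem htA (A.smul_mem _ huA)) (A.smul_mem _ hu'A)
  have h1 : polar ⇑Q u t' = 0 := by
    rw [ht', polar_sub_right, polar_sub_right, polar_smul_right, polar_smul_right, huu, huu']
    simp
  have h1' : polar ⇑Q u' t' = 0 := by
    rw [ht', polar_sub_right, polar_sub_right, polar_smul_right, polar_smul_right, hu'u, hu'u'0]
    simp
  have hwQ : Q (u + t' + (-(Q t')) • u') = 0 := by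
    rw [QuadraticMap.map_add ⇑Q, QuadraticMap.map_add ⇑Q, QuadraticMap.map_smul, hu, hu',
      polar_smul_right, polar_add_left, huu', polar_comm ⇑Q t' u', h1', h1]
    simp
  have hwT : u + t' + (-(Q t')) • u' ∈ T :=
    hT _ (A.add_mem (A.add_mem huA ht'A) (A.smul_mem _ hu'A)) hwQ
  have huT := hT u huA hu
  have hu'T := hT u' hu'A hu'
  have e : t = (u + t' + (-(Q t')) • u') - u + Q t' • u' + polar ⇑Q u' t • u
      + polar ⇑Q u t • u' := by
    rw [ht']
    module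
  rw [e]
  exact T.add_mem (T.add_mem (T.add_mem (T.sub_mem hwT huT) (T.smul_mem _ hu'T))
    (T.smul_mem _ huT)) (T.smul_mem _ hu'T)

/-- in `A ∩ u^⊥` (`u` singular in the non-degenerate `A` of dimension at least five) every value of
`Q` is taken -/
theorem exists_Q_eq_perp [Fintype F] {A : Submodule F (ι → F)}
    (hA : NdOn Q A) (h5 : 5 ≤ finrank F A) {u : ι → F} (huA : u ∈ A) (hu0 : u ≠ 0)
    (hu : Q u = 0) (c : F) : ∃ b ∈ A, polar ⇑Q u b = 0 ∧ Q b = c := by
  obtain ⟨u', hu'A, hu', huu'⟩ := exists_partner_in hA huA hu0 hu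
  have hd1 := finrank_le_inf_perp (Q := Q) A u
  have hd2 := finrank_le_inf_perp (Q := Q) (A ⊓ LinearMap.ker (QuadraticMap.polarBilin Q u)) u'
  obtain ⟨e, heY, he0, he⟩ := exists_singular_of_finrank (Q := Q)
    (A ⊓ LinearMap.ker (QuadraticMap.polarBilin Q u) ⊓
      LinearMap.ker (QuadraticMap.polarBilin Q u')) (by omega)
  have heA : e ∈ A := heY.1.1
  have hue : polar ⇑Q u e = 0 := (mem_inf_perp.1 heY.1).2
  have hu'e : polar ⇑Q u' e = 0 := (mem_inf_perp.1 heY).2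
  obtain ⟨a, haA, hua, hea⟩ : ∃ a ∈ A, polar ⇑Q u a = 0 ∧ polar ⇑Q e a ≠ 0 := by
    by_contra hcon
    push Not at hcon
    obtain ⟨k, hk⟩ := double_orth hA huA heA hcon
    rw [hk, polar_smul_right, polar_comm ⇑Q u' u, huu', smul_eq_mul, mul_one] at hu'e
    rw [hu'e, zero_smul] at hk
    exact he0 hk
  obtain ⟨a₁, ha₁A, hua₁, hea₁⟩ : ∃ a₁ ∈ A, polar ⇑Q u a₁ = 0 ∧ polar ⇑Q e a₁ = 1 :=
    ⟨(polar ⇑Q e a)⁻¹ • a, A.smul_mem _ haA, by rw [polar_smul_right, hua, smul_zero],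
      by rw [polar_smul_right, smul_eq_mul, inv_mul_cancel₀ hea]⟩
  refine ⟨a₁ + (c - Q a₁) • e, A.add_mem ha₁A (A.smul_mem _ heA), ?_, ?_⟩
  · rw [polar_add_right, polar_smul_right, hua₁, hue, smul_zero, add_zero]
  · rw [QuadraticMap.map_add ⇑Q, QuadraticMap.map_smul, he, polar_smul_right, polar_comm ⇑Q a₁ e,
      hea₁]
    simp

end Cfsg.Agent.Helper12.OmNd
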