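import Mathlib
import Cfsg.Prelude.Def_ClassicalGeometry
import Cfsg.Agent.Helper12.OmNdB

/-!
# Eichler directions at a singular vector

`eD M u`: the subspace of those `w ∈ u^⊥` with `E(u, c w) ∈ M` for all scalars `c`.
-/

set_option autoImplicit false
set_option linter.unusedSectionVars false

namespace Cfsg.Agent.Helper12.OmNd

open Matrix QuadraticMap Module Cfsg.Agent.Helper44 Cfsg.Agent.Helper45.OmegaParity
open Cfsg.Agent

variable {F : Type*} [Field F] {ι : Type} [Fintype ι] [DecidableEq ι]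
variable {Q : QuadraticForm F (ι → F)}

theorem eichlerO_of_ne {u : ι → F} (hu : Q u ≠ 0) (w : ι → F) : Helper5.eichlerO Q u w = 1 := by
  unfold Helper5.eichlerO
  rw [dif_neg (fun h => hu h.1)]

/-- the Eichler directions of `M` at `u` -/
def eD (M : Subgroup (Cfsg.isometryGroup F ⇑Q)) (u : ι → F) : Submodule F (ι → F) where
  carrier := {w | polar ⇑Q u w = 0 ∧ ∀ c : F, Helper5.eichlerO Q u (c • w) ∈ M}
  add_mem' := by
    rintro w₁ w₂ ⟨h₁, h₁'⟩ ⟨h₂, h₂'⟩
    refine ⟨by rw [polar_add_right, h₁, h₂, add_zero], fun c => ?_⟩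
    by_cases hu : Q u = 0
    · rw [smul_add, ← Helper5.eichlerO_mul Q hu (by rw [polar_smul_right, h₁, smul_zero])
        (by rw [polar_smul_right, h₂, smul_zero])]
      exact M.mul_mem (h₁' c) (h₂' c)
    · rw [eichlerO_of_ne hu]
      exact M.one_mem
  zero_mem' := by
    refine ⟨polar_zero_right _ _, fun c => ?_⟩
    rw [smul_zero, Helper5.eichlerO_zero]
    exact M.one_mem
  smul_mem' := by
    rintro k w ⟨h₁, h₁'⟩
    refine ⟨by rw [polar_smul_right, h₁, smul_zero], fun c => ?_⟩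
    rw [smul_smul]
    exact h₁' _

theorem mem_eD {M : Subgroup (Cfsg.isometryGroup F ⇑Q)} {u w : ι → F} :
    w ∈ eD M u ↔ polar ⇑Q u w = 0 ∧ ∀ c : F, Helper5.eichlerO Q u (c • w) ∈ M := Iff.rfl

theorem eD_map {M : Subgroup (Cfsg.isometryGroup F ⇑Q)} {u w : ι → F} (hu : Q u = 0)
    (hw : w ∈ eD M u) {g : Cfsg.isometryGroup F ⇑Q} (hg : g ∈ M) :
    lin Q g w ∈ eD M (lin Q g u) := by
  obtain ⟨h1, h2⟩ := hw
  refine ⟨by rw [Helper5.polar_lin, h1], fun c => ?_⟩
  have h3 : polar ⇑Q u (c • w) = 0 := by rw [polar_smul_right, h1, smul_zero]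
  have h4 := Helper5.eichlerO_conj Q g hu h3
  rw [map_smul] at h4
  rw [← h4]
  exact M.mul_mem (M.mul_mem hg (h2 c)) (M.inv_mem hg)

theorem eD_of_fix {M : Subgroup (Cfsg.isometryGroup F ⇑Q)} {u w : ι → F} (hu : Q u = 0)
    (hw : w ∈ eD M u) {g : Cfsg.isometryGroup F ⇑Q} (hg : g ∈ M) (hgu : lin Q g u = u) :
    lin Q g w ∈ eD M u := by
  have := eD_map hu hw hg
  rwa [hgu] at this

theorem mem_eDir_iff {M : Subgroup (Cfsg.isometryGroup F ⇑Q)} {u : ι → F} :
    u ∈ eDir Q M ↔ Q u = 0 ∧ ∀ w, polar ⇑Q u w = 0 → w ∈ eD M u := by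
  constructor
  · rintro ⟨hu, h⟩
    refine ⟨hu, fun w hw => ⟨hw, fun c => h _ ?_⟩⟩
    rw [polar_smul_right, hw, smul_zero]
  · rintro ⟨hu, h⟩
    refine ⟨hu, fun w hw => ?_⟩
    have := (h w hw).2 1
    rwa [one_smul] at this

/-- the stabiliser of `A` in `Ω` contains the Eichler transformations of `A` -/
theorem eD_of_stab [Fintype F] (hQ : (QuadraticMap.polarBilin Q).Nondegenerate)
    (hn : 5 ≤ Fintype.card ι) {A : Submodule F (ι → F)}
    {M : Subgroup (Cfsg.isometryGroup F ⇑Q)} (hP : stab Q A ⊓ Cfsg.Omega F ⇑Q ≤ M)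
    {u w : ι → F} (huA : u ∈ A) (hu : Q u = 0) (hwA : w ∈ A) (huw : polar ⇑Q u w = 0) :
    w ∈ eD M u := by
  refine ⟨huw, fun c => hP ⟨?_, eichlerO_mem_Omega Q hQ hn u _⟩⟩
  apply mem_stab_of_forall
  intro x hx
  rw [Helper5.lin_eichlerO Q hu (by rw [polar_smul_right, huw, smul_zero])]
  exact A.sub_mem (A.sub_mem (A.add_mem hx (A.smul_mem _ huA)) (A.smul_mem _ (A.smul_mem _ hwA)))
    (A.smul_mem _ huA)

/-- an Eichler transformation fixes the vectors orthogonal to both of its parameters -/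
theorem lin_eichlerO_fix {v y x : ι → F} (hv : Q v = 0) (hvy : polar ⇑Q v y = 0)
    (h1 : polar ⇑Q v x = 0) (h2 : polar ⇑Q y x = 0) : lin Q (Helper5.eichlerO Q v y) x = x := by
  rw [Helper5.lin_eichlerO Q hv hvy, h1, h2]
  simp

/-- under the *no mixed direction* hypothesis, the directions at a singular `u ∈ A` lie in `A` -/
theorem eD_le_of_noMixed [Fintype F] (hQ : (QuadraticMap.polarBilin Q).Nondegenerate)
    (hn : 5 ≤ Fintype.card ι) {A S : Submodule F (ι → F)} (hAS : OrthSplit Q A S)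
    {M : Subgroup (Cfsg.isometryGroup F ⇑Q)} (hP : stab Q A ⊓ Cfsg.Omega F ⇑Q ≤ M)
    {u : ι → F} (huA : u ∈ A) (hu : Q u = 0)
    (hNM : ∀ s ∈ S, s ∈ eD M u → s = 0) {w : ι → F} (hw : w ∈ eD M u) : w ∈ A := by
  obtain ⟨a, ha, s, hs, rfl⟩ := hAS.dec w
  have h1 : polar ⇑Q u a = 0 := by
    have := hw.1
    rwa [polar_add_right, hAS.orth u huA s hs, add_zero] at this
  have h2 : a ∈ eD M u := eD_of_stab hQ hn hP huA hu ha h1
  have h3 : s ∈ eD M u := by
    have : s = (a + s) - a := by abel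
    rw [this]
    exact (eD M u).sub_mem hw h2
  rw [hNM s hs h3, add_zero]
  exact ha

end Cfsg.Agent.Helper12.OmNd
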