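import Mathlib
import Cfsg.Prelude.Def_ClassicalGeometry
import Cfsg.Agent.Helper12.OmNdC

/-!
# Existence of a mixed Eichler direction

If `M` contains the stabiliser of `A` in `Ω` (where `V = A ⊥ S`, `dim A ≥ 7`) and an element `g`
with `g A ≠ A` and `g A ⊄ S`, then some singular `u ∈ A` has an Eichler direction in `S`.
-/

set_option autoImplicit false
set_option linter.unusedSectionVars false

namespace Cfsg.Agent.Helper12.OmNd

open Matrix QuadraticMap Module Cfsg.Agent.Helper44 Cfsg.Agent.Helper45.OmegaParity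
open Cfsg.Agent

variable {F : Type*} [Field F] {ι : Type} [Fintype ι] [DecidableEq ι]
variable {Q : QuadraticForm F (ι → F)}

/-- under the *no mixed direction* hypothesis every Eichler transformation of `g A` maps `A` into
itself -/
theorem eichler_conj_stab [Fintype F]
    (hQ : (QuadraticMap.polarBilin Q).Nondegenerate)
    (hn : 5 ≤ Fintype.card ι) {A S : Submodule F (ι → F)} (hAS : OrthSplit Q A S)
    (h7 : 7 ≤ finrank F A)
    {M : Subgroup (Cfsg.isometryGroup F ⇑Q)} (hP : stab Q A ⊓ Cfsg.Omega F ⇑Q ≤ M)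
    (hNM : ∀ u ∈ A, u ≠ 0 → Q u = 0 → ∀ s ∈ S, s ∈ eD M u → s = 0)
    {g : Cfsg.isometryGroup F ⇑Q} (hg : g ∈ M) {u₀ w₀ : ι → F} (hu₀A : u₀ ∈ A) (hw₀A : w₀ ∈ A)
    (hu₀ : Q u₀ = 0) (huw₀ : polar ⇑Q u₀ w₀ = 0) :
    ∀ a ∈ A, lin Q (Helper5.eichlerO Q (lin Q g u₀) (lin Q g w₀)) a ∈ A := by
  have hA : NdOn Q A := hAS.ndOn_left hQ
  obtain ⟨v, hvdef⟩ : ∃ v, v = lin Q g u₀ := ⟨_, rfl⟩
  obtain ⟨y, hydef⟩ : ∃ y, y = lin Q g w₀ := ⟨_, rfl⟩
  rw [← hvdef, ← hydef]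
  have hv : Q v = 0 := by rw [hvdef, lin_isometry, hu₀]
  have hvy : polar ⇑Q v y = 0 := by rw [hvdef, hydef, Helper5.polar_lin, huw₀]
  have hXM : Helper5.eichlerO Q v y ∈ M := by
    have h1 := Helper5.eichlerO_conj Q g hu₀ huw₀
    rw [hvdef, hydef, ← h1]
    have h3 := (eD_of_stab hQ hn hP hu₀A hu₀ hw₀A huw₀).2 1
    rw [one_smul] at h3
    exact M.mul_mem (M.mul_mem hg h3) (M.inv_mem hg)
  have hd1 := finrank_le_inf_perp (Q := Q) A v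
  have hd2 := finrank_le_inf_perp (Q := Q) (A ⊓ LinearMap.ker (QuadraticMap.polarBilin Q v)) y
  obtain ⟨u₁, hu₁Y, u₂, hu₂Y, hu₁0, hu₁, hu₂, hind⟩ := exists_two_singular (Q := Q)
    (A ⊓ LinearMap.ker (QuadraticMap.polarBilin Q v) ⊓
      LinearMap.ker (QuadraticMap.polarBilin Q y)) (by omega)
  have hu₂0 : u₂ ≠ 0 := by
    have := hind 0
    rwa [zero_smul] at this
  have hu₁A : u₁ ∈ A := hu₁Y.1.1
  have hu₂A : u₂ ∈ A := hu₂Y.1.1
  have hfix₁ : lin Q (Helper5.eichlerO Q v y) u₁ = u₁ :=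
    lin_eichlerO_fix hv hvy (mem_inf_perp.1 hu₁Y.1).2 (mem_inf_perp.1 hu₁Y).2
  have hfix₂ : lin Q (Helper5.eichlerO Q v y) u₂ = u₂ :=
    lin_eichlerO_fix hv hvy (mem_inf_perp.1 hu₂Y.1).2 (mem_inf_perp.1 hu₂Y).2
  -- `X` maps `A ∩ uᵢ^⊥` into `A`
  have hkey : ∀ u ∈ A, u ≠ 0 → Q u = 0 → lin Q (Helper5.eichlerO Q v y) u = u →
      ∀ w ∈ A, polar ⇑Q u w = 0 → lin Q (Helper5.eichlerO Q v y) w ∈ A := by
    intro u huA hu0 hu hfix w hwA huw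
    have h1 : w ∈ eD M u := eD_of_stab hQ hn hP huA hu hwA huw
    have h3 := eD_of_fix hu h1 hXM hfix
    exact eD_le_of_noMixed hQ hn hAS hP huA hu (hNM u huA hu0 hu) h3
  obtain ⟨t, htA, hu₁t, hu₂t⟩ : ∃ t ∈ A, polar ⇑Q u₁ t = 0 ∧ polar ⇑Q u₂ t ≠ 0 := by
    by_contra hcon
    push Not at hcon
    obtain ⟨c, hc⟩ := double_orth hA hu₁A hu₂A hcon
    exact hind c hc
  intro a haA
  have e : a = (polar ⇑Q u₂ a / polar ⇑Q u₂ t) • t + (a - (polar ⇑Q u₂ a / polar ⇑Q u₂ t) • t) := by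
    abel
  rw [e, map_add]
  apply A.add_mem
  · apply hkey u₁ hu₁A hu₁0 hu₁ hfix₁ _ (A.smul_mem _ htA)
    rw [polar_smul_right, hu₁t, smul_zero]
  · apply hkey u₂ hu₂A hu₂0 hu₂ hfix₂ _ (A.sub_mem haA (A.smul_mem _ htA))
    rw [polar_sub_right, polar_smul_right, smul_eq_mul, div_mul_cancel₀ _ hu₂t, sub_self]

/-- if every Eichler transformation of `g A` maps `A` into itself then `g A ⊆ A` or `g A ⊆ S` -/
theorem map_le_or_of_eichler_stab [Fintype F]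
    (hQ : (QuadraticMap.polarBilin Q).Nondegenerate)
    {A S : Submodule F (ι → F)} (hAS : OrthSplit Q A S) (h7 : 7 ≤ finrank F A)
    (g : Cfsg.isometryGroup F ⇑Q)
    (hE : ∀ u₀ ∈ A, ∀ w₀ ∈ A, Q u₀ = 0 → polar ⇑Q u₀ w₀ = 0 →
      ∀ a ∈ A, lin Q (Helper5.eichlerO Q (lin Q g u₀) (lin Q g w₀)) a ∈ A) :
    (∀ a ∈ A, lin Q g a ∈ A) ∨ (∀ a ∈ A, lin Q g a ∈ S) := by
  have hA : NdOn Q A := hAS.ndOn_left hQ
  have hS : NdOn Q S := hAS.ndOn_right hQ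
  -- the Eichler transformations also map `S` into itself
  have hES : ∀ u₀ ∈ A, ∀ w₀ ∈ A, Q u₀ = 0 → polar ⇑Q u₀ w₀ = 0 →
      ∀ s ∈ S, lin Q (Helper5.eichlerO Q (lin Q g u₀) (lin Q g w₀)) s ∈ S := by
    intro u₀ hu₀A w₀ hw₀A hu₀ huw₀ s hs
    have hv : Q (lin Q g u₀) = 0 := by rw [lin_isometry, hu₀]
    have hvy : polar ⇑Q (lin Q g u₀) (lin Q g w₀) = 0 := by rw [Helper5.polar_lin, huw₀]
    apply hAS.mem_right_of_orth hQ
    intro a ha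
    have h1 : lin Q (Helper5.eichlerO Q (lin Q g u₀) (lin Q g w₀))⁻¹ a ∈ A := by
      rw [Helper5.eichlerO_inv Q hv hvy, ← map_neg]
      exact hE u₀ hu₀A (-w₀) (A.neg_mem hw₀A) hu₀ (by rw [polar_neg_right, huw₀, neg_zero]) a ha
    have h3 : polar ⇑Q (lin Q (Helper5.eichlerO Q (lin Q g u₀) (lin Q g w₀)) s) a
        = polar ⇑Q s (lin Q (Helper5.eichlerO Q (lin Q g u₀) (lin Q g w₀))⁻¹ a) := by
      conv_lhs => rw [← Helper5.lin_apply_inv Q (Helper5.eichlerO Q (lin Q g u₀) (lin Q g w₀)) a]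
      rw [Helper5.polar_lin]
    rw [h3, polar_comm]
    exact hAS.orth _ h1 s hs
  -- orthogonality consequences
  have hβ1 : ∀ u₀ ∈ A, ∀ w₀ ∈ A, Q u₀ = 0 → polar ⇑Q u₀ w₀ = 0 → lin Q g u₀ ∉ A →
      ∀ a ∈ A, polar ⇑Q (lin Q g u₀) a = 0 → polar ⇑Q (lin Q g w₀) a = 0 := by
    intro u₀ hu₀A w₀ hw₀A hu₀ huw₀ hvA a ha hva
    have hv : Q (lin Q g u₀) = 0 := by rw [lin_isometry, hu₀]
    have hvy : polar ⇑Q (lin Q g u₀) (lin Q g w₀) = 0 := by rw [Helper5.polar_lin, huw₀]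
    have h1 := hE u₀ hu₀A w₀ hw₀A hu₀ huw₀ a ha
    rw [Helper5.lin_eichlerO Q hv hvy, hva, zero_smul, mul_zero, zero_smul, sub_zero, sub_zero]
      at h1
    by_contra hne
    apply hvA
    have h4 : lin Q g u₀ = (polar ⇑Q (lin Q g w₀) a)⁻¹ •
        ((a + polar ⇑Q (lin Q g w₀) a • lin Q g u₀) - a) := by
      rw [add_sub_cancel_left, smul_smul, inv_mul_cancel₀ hne, one_smul]
    rw [h4]
    exact A.smul_mem _ (A.sub_mem h1 ha)
  have hβ2 : ∀ u₀ ∈ A, ∀ w₀ ∈ A, Q u₀ = 0 → polar ⇑Q u₀ w₀ = 0 → lin Q g u₀ ∉ S →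
      ∀ s ∈ S, polar ⇑Q (lin Q g u₀) s = 0 → polar ⇑Q (lin Q g w₀) s = 0 := by
    intro u₀ hu₀A w₀ hw₀A hu₀ huw₀ hvS s hs hvs
    have hv : Q (lin Q g u₀) = 0 := by rw [lin_isometry, hu₀]
    have hvy : polar ⇑Q (lin Q g u₀) (lin Q g w₀) = 0 := by rw [Helper5.polar_lin, huw₀]
    have h1 := hES u₀ hu₀A w₀ hw₀A hu₀ huw₀ s hs
    rw [Helper5.lin_eichlerO Q hv hvy, hvs, zero_smul, mul_zero, zero_smul, sub_zero, sub_zero]
      at h1
    by_contra hne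
    apply hvS
    have h4 : lin Q g u₀ = (polar ⇑Q (lin Q g w₀) s)⁻¹ •
        ((s + polar ⇑Q (lin Q g w₀) s • lin Q g u₀) - s) := by
      rw [add_sub_cancel_left, smul_smul, inv_mul_cancel₀ hne, one_smul]
    rw [h4]
    exact S.smul_mem _ (S.sub_mem h1 hs)
  -- every singular vector of `g A` is pure
  have hγ : ∀ u₀ ∈ A, Q u₀ = 0 → lin Q g u₀ ∈ A ∨ lin Q g u₀ ∈ S := by
    intro u₀ hu₀A hu₀
    by_contra hcon
    push Not at hcon
    obtain ⟨hvA, hvS⟩ := hcon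
    obtain ⟨vA, hvAA, vS, hvSS, hvdec⟩ := hAS.dec (lin Q g u₀)
    have hsub : (A ⊓ LinearMap.ker (QuadraticMap.polarBilin Q u₀)).map (lin Q g)
        ≤ Submodule.span F {vA, vS} := by
      rintro _ ⟨w₀, hw₀, rfl⟩
      have hw₀A : w₀ ∈ A := hw₀.1
      have huw₀ : polar ⇑Q u₀ w₀ = 0 := (mem_inf_perp.1 hw₀).2
      obtain ⟨yA, hyAA, yS, hySS, hydec⟩ := hAS.dec (lin Q g w₀)
      have h1 : ∀ a ∈ A, polar ⇑Q vA a = 0 → polar ⇑Q yA a = 0 := by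
        intro a ha hva
        have h3 := hβ1 u₀ hu₀A w₀ hw₀A hu₀ huw₀ hvA a ha (by
          rw [hvdec, polar_add_left, hva, polar_comm ⇑Q vS a, hAS.orth a ha vS hvSS, add_zero])
        rwa [hydec, polar_add_left, polar_comm ⇑Q yS a, hAS.orth a ha yS hySS, add_zero] at h3
      have h1' : ∀ s ∈ S, polar ⇑Q vS s = 0 → polar ⇑Q yS s = 0 := by
        intro s hs hvs
        have h3 := hβ2 u₀ hu₀A w₀ hw₀A hu₀ huw₀ hvS s hs (by
          rw [hvdec, polar_add_left, hvs, hAS.orth vA hvAA s hs, add_zero])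
        rwa [hydec, polar_add_left, hAS.orth yA hyAA s hs, zero_add] at h3
      obtain ⟨c, hc⟩ := double_orth hA hvAA hyAA h1
      obtain ⟨d, hd⟩ := double_orth hS hvSS hySS h1'
      rw [hydec, hc, hd]
      exact Submodule.add_mem _ (Submodule.smul_mem _ _ (Submodule.subset_span (by simp)))
        (Submodule.smul_mem _ _ (Submodule.subset_span (by simp)))
    have hd1 := Submodule.finrank_mono hsub
    rw [finrank_map_lin] at hd1
    have hd2 := finrank_span_two_le (F := F) vA vS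
    have hd3 := finrank_le_inf_perp (Q := Q) A u₀
    omega
  -- a singular vector mapped into `S` drags its perp into `S`
  have hδS : ∀ u₀ ∈ A, u₀ ≠ 0 → Q u₀ = 0 → lin Q g u₀ ∈ S →
      ∀ w₀ ∈ A, polar ⇑Q u₀ w₀ = 0 → lin Q g w₀ ∈ S := by
    intro u₀ hu₀A hu₀0 hu₀ hvS w₀ hw₀A huw₀
    have hvA : lin Q g u₀ ∉ A := by
      intro hvA
      have h0 := hAS.eq_zero_of_mem hQ hvA hvS
      rw [← map_zero (lin Q g)] at h0
      exact hu₀0 (lin_injective Q g h0)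
    apply hAS.mem_right_of_orth hQ
    intro a ha
    apply hβ1 u₀ hu₀A w₀ hw₀A hu₀ huw₀ hvA a ha
    rw [polar_comm]
    exact hAS.orth a ha _ hvS
  have hδA : ∀ u₀ ∈ A, u₀ ≠ 0 → Q u₀ = 0 → lin Q g u₀ ∈ A →
      ∀ w₀ ∈ A, polar ⇑Q u₀ w₀ = 0 → lin Q g w₀ ∈ A := by
    intro u₀ hu₀A hu₀0 hu₀ hvA w₀ hw₀A huw₀
    have hvS : lin Q g u₀ ∉ S := by
      intro hvS
      have h0 := hAS.eq_zero_of_mem hQ hvA hvS
      rw [← map_zero (lin Q g)] at h0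
      exact hu₀0 (lin_injective Q g h0)
    apply hAS.mem_left_of_orth hQ
    intro s hs
    apply hβ2 u₀ hu₀A w₀ hw₀A hu₀ huw₀ hvS s hs
    exact hAS.orth _ hvA s hs
  -- the two kinds cannot coexist
  have hε : ∀ u₁ ∈ A, u₁ ≠ 0 → Q u₁ = 0 → lin Q g u₁ ∈ S →
      ∀ u₂ ∈ A, u₂ ≠ 0 → Q u₂ = 0 → lin Q g u₂ ∈ A → False := by
    intro u₁ hu₁A hu₁0 hu₁ hv₁ u₂ hu₂A hu₂0 hu₂ hv₂
    have hd1 := finrank_le_inf_perp (Q := Q) A u₁
    have hd2 := finrank_le_inf_perp (Q := Q) (A ⊓ LinearMap.ker (QuadraticMap.polarBilin Q u₁)) u₂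
    obtain ⟨w, hwY, hw0⟩ := exists_ne_zero_of_finrank_pos
      (A ⊓ LinearMap.ker (QuadraticMap.polarBilin Q u₁) ⊓
        LinearMap.ker (QuadraticMap.polarBilin Q u₂)) (by omega)
    have hwA : w ∈ A := hwY.1.1
    have h1 := hδS u₁ hu₁A hu₁0 hu₁ hv₁ w hwA (mem_inf_perp.1 hwY.1).2
    have h1' := hδA u₂ hu₂A hu₂0 hu₂ hv₂ w hwA (mem_inf_perp.1 hwY).2
    have h0 := hAS.eq_zero_of_mem hQ h1' h1
    rw [← map_zero (lin Q g)] at h0
    exact hw0 (lin_injective Q g h0)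
  by_cases hex : ∃ u₁ ∈ A, u₁ ≠ 0 ∧ Q u₁ = 0 ∧ lin Q g u₁ ∈ S
  · obtain ⟨u₁, hu₁A, hu₁0, hu₁, hv₁⟩ := hex
    right
    have := le_of_singular_mem hA (by omega) (S.comap (lin Q g)) (by
      intro u huA hu
      rw [Submodule.mem_comap]
      by_cases hu0 : u = 0
      · rw [hu0, map_zero]; exact S.zero_mem
      rcases hγ u huA hu with h | h
      · exact (hε u₁ hu₁A hu₁0 hu₁ hv₁ u huA hu0 hu h).elim
      · exact h)
    intro a ha
    exact this ha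
  · push Not at hex
    left
    have := le_of_singular_mem hA (by omega) (A.comap (lin Q g)) (by
      intro u huA hu
      rw [Submodule.mem_comap]
      by_cases hu0 : u = 0
      · rw [hu0, map_zero]; exact A.zero_mem
      rcases hγ u huA hu with h | h
      · exact h
      · exact (hex u huA hu0 hu h).elim)
    intro a ha
    exact this ha

/-- **existence of a mixed Eichler direction** -/
theorem exists_mixed [Fintype F]
    (hQ : (QuadraticMap.polarBilin Q).Nondegenerate)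
    (hn : 5 ≤ Fintype.card ι) {A S : Submodule F (ι → F)} (hAS : OrthSplit Q A S)
    (h7 : 7 ≤ finrank F A)
    {M : Subgroup (Cfsg.isometryGroup F ⇑Q)} (hP : stab Q A ⊓ Cfsg.Omega F ⇑Q ≤ M)
    {g : Cfsg.isometryGroup F ⇑Q} (hg : g ∈ M) (hgA : ¬ ∀ a ∈ A, lin Q g a ∈ A)
    (hgS : ¬ ∀ a ∈ A, lin Q g a ∈ S) :
    ∃ u ∈ A, u ≠ 0 ∧ Q u = 0 ∧ ∃ s ∈ S, s ≠ 0 ∧ s ∈ eD M u := by
  by_contra hcon
  push Not at hcon
  have hNM : ∀ u ∈ A, u ≠ 0 → Q u = 0 → ∀ s ∈ S, s ∈ eD M u → s = 0 := by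
    intro u hu hu0 huQ s hs hsD
    by_contra hs0
    exact hcon u hu hu0 huQ s hs hs0 hsD
  rcases map_le_or_of_eichler_stab hQ hAS h7 g (fun u₀ hu₀ w₀ hw₀ h1 h3 =>
    eichler_conj_stab hQ hn hAS h7 hP hNM hg hu₀ hw₀ h1 h3) with h | h
  · exact hgA h
  · exact hgS h

end Cfsg.Agent.Helper12.OmNd
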