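import Mathlib
import Cfsg.Prelude.Def_ClassicalGeometry
import Cfsg.Agent.Helper12.OmNdC

/-!
# Reflection-invariant subspaces of a non-degenerate quadratic space (odd characteristic)
-/

set_option autoImplicit false
set_option linter.unusedSectionVars false

namespace Cfsg.Agent.Helper12.OmNd

open Matrix QuadraticMap Module Cfsg.Agent.Helper44 Cfsg.Agent.Helper45.OmegaParity
open Cfsg.Agent

variable {F : Type*} [Field F] {ι : Type} [Fintype ι] [DecidableEq ι]
variable {Q : QuadraticForm F (ι → F)}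

theorem lin_refl_apply (a : ι → F) (ha : Q a ≠ 0) (x : ι → F) :
    lin Q (refl Q a ha) x = x - ((Q a)⁻¹ * polar ⇑Q a x) • a := by
  rw [lin_refl, Helper14.qRefl_apply, QuadraticMap.polarBilin_apply_apply]

/-- the Eichler directions in `S` at a singular `u ∈ A` are invariant under the reflections
of `S` -/
theorem refl_invariance [Fintype F]
    (hQ : (QuadraticMap.polarBilin Q).Nondegenerate)
    (hn : 6 ≤ Fintype.card ι) {A S : Submodule F (ι → F)} (hAS : OrthSplit Q A S)
    (h5 : 5 ≤ finrank F A)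
    {M : Subgroup (Cfsg.isometryGroup F ⇑Q)} (hP : stab Q A ⊓ Cfsg.Omega F ⇑Q ≤ M)
    {u : ι → F} (huA : u ∈ A) (hu0 : u ≠ 0) (hu : Q u = 0) {a : ι → F} (haS : a ∈ S)
    (ha : Q a ≠ 0) {s : ι → F} (hsS : s ∈ S) (hs : s ∈ eD M u) :
    s - ((Q a)⁻¹ * polar ⇑Q a s) • a ∈ eD M u := by
  have hA : NdOn Q A := hAS.ndOn_left hQ
  obtain ⟨b, hbA, hub, hQb⟩ := exists_Q_eq_perp hA h5 huA hu0 hu (Q a)
  have hb : Q b ≠ 0 := by rw [hQb]; exact ha
  have haA : ∀ x ∈ A, polar ⇑Q a x = 0 := fun x hx => by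
    rw [polar_comm]; exact hAS.orth x hx a haS
  have hΩ : refl Q a ha * refl Q b hb ∈ Cfsg.Omega F ⇑Q := by
    rw [Omega_eq_eichlerGroup Q hQ hn]
    exact refl_mul_refl_mem_eichlerGroup Q hQ hn a b ha hb hQb.symm
  have hst : refl Q a ha * refl Q b hb ∈ stab Q A := by
    apply mem_stab_of_forall
    intro x hx
    have h1 : lin Q (refl Q b hb) x ∈ A := by
      rw [lin_refl_apply]
      exact A.sub_mem hx (A.smul_mem _ hbA)
    rw [Helper5.lin_mul_apply, lin_refl_apply a ha, haA _ h1, mul_zero, zero_smul, sub_zero]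
    exact h1
  have hM : refl Q a ha * refl Q b hb ∈ M := hP ⟨hst, hΩ⟩
  have hfix : lin Q (refl Q a ha * refl Q b hb) u = u := by
    rw [Helper5.lin_mul_apply, lin_refl_apply b hb, polar_comm ⇑Q b u, hub, mul_zero, zero_smul,
      sub_zero, lin_refl_apply a ha, haA u huA, mul_zero, zero_smul, sub_zero]
  have h3 := eD_of_fix hu hs hM hfix
  rw [Helper5.lin_mul_apply, lin_refl_apply b hb, hAS.orth b hbA s hsS, mul_zero, zero_smul,
    sub_zero, lin_refl_apply a ha] at h3
  exact h3

/-- the field with `c² = 1` for all non-zero `c` has three elements (odd characteristic) -/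
theorem card_eq_three_of_sq [Fintype F] (h2 : (2 : F) ≠ 0)
    (h : ∀ c : F, c ≠ 0 → c * c = 1) : Fintype.card F = 3 := by
  classical
  have hall : ∀ c : F, c = 0 ∨ c = 1 ∨ c = -1 := by
    intro c
    by_cases hc : c = 0
    · exact Or.inl hc
    right
    have h1 : (c - 1) * (c + 1) = 0 := by linear_combination h c hc
    rcases mul_eq_zero.1 h1 with h3 | h3
    · exact Or.inl (sub_eq_zero.1 h3)
    · exact Or.inr (eq_neg_of_add_eq_zero_left h3)
  have h1 : (Finset.univ : Finset F) = {0, 1, -1} := by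
    ext c
    simp only [Finset.mem_univ, Finset.mem_insert, Finset.mem_singleton, true_iff]
    exact hall c
  have h3 : ({0, 1, -1} : Finset F).card = 3 := by
    rw [Finset.card_insert_of_notMem, Finset.card_insert_of_notMem, Finset.card_singleton]
    · rw [Finset.mem_singleton]
      intro h4
      apply h2
      have : (2 : F) = 1 + 1 := by norm_num
      rw [this]
      nth_rewrite 1 [h4]
      exact neg_add_cancel 1
    · rw [Finset.mem_insert, Finset.mem_singleton]
      rintro (h4 | h4)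
      · exact zero_ne_one h4
      · have : (1 : F) = 0 := by
          have := congrArg Neg.neg h4
          rwa [neg_neg, neg_zero, eq_comm] at this
        exact one_ne_zero this
  rw [← Finset.card_univ, h1, h3]

/-- **Irreducibility**: a non-zero subspace `P` of the non-degenerate `S` invariant under all
reflections of `S` is `S`, unless `q = 3` and `S` is a hyperbolic plane. -/
theorem irr [Fintype F] (h2 : (2 : F) ≠ 0) {S : Submodule F (ι → F)} (hS : NdOn Q S)
    (P : Submodule F (ι → F)) (hPS : P ≤ S) (hP0 : ∃ p ∈ P, p ≠ 0)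
    (hinv : ∀ a ∈ S, Q a ≠ 0 → ∀ p ∈ P, p - ((Q a)⁻¹ * polar ⇑Q a p) • a ∈ P) :
    S ≤ P ∨ (Fintype.card F = 3 ∧ ∃ a ∈ S, ∃ b ∈ S, Q a ≠ 0 ∧ Q b = - Q a ∧ polar ⇑Q a b = 0 ∧
      ∀ s ∈ S, ∃ c d : F, s = c • a + d • b) := by
  by_cases hle : S ≤ P
  · exact Or.inl hle
  right
  obtain ⟨s₀, hs₀S, hs₀P⟩ := SetLike.not_le_iff_exists.1 hle
  obtain ⟨p₀, hp₀P, hp₀0⟩ := hP0
  -- dichotomy for non-singular vectors
  have hdich : ∀ a ∈ S, Q a ≠ 0 → a ∈ P ∨ ∀ p ∈ P, polar ⇑Q a p = 0 := by
    intro a haS ha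
    by_contra hcon
    push Not at hcon
    obtain ⟨haP, p, hpP, hap⟩ := hcon
    apply haP
    have h1 := hinv a haS ha p hpP
    have hk : (Q a)⁻¹ * polar ⇑Q a p ≠ 0 := mul_ne_zero (inv_ne_zero ha) hap
    have h3 : a = ((Q a)⁻¹ * polar ⇑Q a p)⁻¹ • (p - (p - ((Q a)⁻¹ * polar ⇑Q a p) • a)) := by
      rw [sub_sub_cancel, smul_smul, inv_mul_cancel₀ hk, one_smul]
    rw [h3]
    exact P.smul_mem _ (P.sub_mem hpP h1)
  -- a non-singular vector of `S` not orthogonal to `P`
  obtain ⟨a, haS, ha, p₁, hp₁P, hap₁⟩ : ∃ a ∈ S, Q a ≠ 0 ∧ ∃ p ∈ P, polar ⇑Q a p ≠ 0 := by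
    obtain ⟨x, hxS, hx⟩ : ∃ x ∈ S, polar ⇑Q p₀ x ≠ 0 := by
      by_contra hcon
      push Not at hcon
      exact hp₀0 (hS p₀ (hPS hp₀P) hcon)
    by_cases hp₀Q : Q p₀ = 0
    · by_cases hxQ : Q x = 0
      · refine ⟨x + p₀, S.add_mem hxS (hPS hp₀P), ?_, p₀, hp₀P, ?_⟩
        · rw [QuadraticMap.map_add ⇑Q, hxQ, hp₀Q, zero_add, zero_add, polar_comm]
          exact hx
        · rw [polar_add_left, polar_self_zero hp₀Q, add_zero, polar_comm]
          exact hx
      · exact ⟨x, hxS, hxQ, p₀, hp₀P, by rw [polar_comm]; exact hx⟩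
    · refine ⟨p₀, hPS hp₀P, hp₀Q, p₀, hp₀P, ?_⟩
      rw [QuadraticMap.polar_self, nsmul_eq_mul]
      push_cast
      exact mul_ne_zero h2 hp₀Q
  have haP : a ∈ P := by
    rcases hdich a haS ha with h | h
    · exact h
    · exact (hap₁ (h p₁ hp₁P)).elim
  -- a non-singular vector of `S` outside `P`
  obtain ⟨b, hbS, hb, hbP⟩ : ∃ b ∈ S, Q b ≠ 0 ∧ b ∉ P := by
    by_contra hcon
    push Not at hcon
    by_cases hs₀Q : Q s₀ = 0
    swap
    · exact hs₀P (hcon s₀ hs₀S hs₀Q)
    have hs₀0 : s₀ ≠ 0 := fun h => hs₀P (h ▸ P.zero_mem)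
    obtain ⟨y, hyS, hy⟩ : ∃ y ∈ S, polar ⇑Q s₀ y ≠ 0 := by
      by_contra hcon'
      push Not at hcon'
      exact hs₀0 (hS s₀ hs₀S hcon')
    by_cases hyQ : Q y = 0
    · have h1 : s₀ + y ∈ P := hcon _ (S.add_mem hs₀S hyS) (by
        rw [QuadraticMap.map_add ⇑Q, hs₀Q, hyQ, zero_add, zero_add]; exact hy)
      have h1' : s₀ - y ∈ P := hcon _ (S.sub_mem hs₀S hyS) (by
        rw [sub_eq_add_neg, QuadraticMap.map_add ⇑Q, QuadraticMap.map_neg, hs₀Q, hyQ, zero_add,
          zero_add, polar_neg_right]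
        exact neg_ne_zero.2 hy)
      apply hs₀P
      have e : s₀ = (2 : F)⁻¹ • ((s₀ + y) + (s₀ - y)) := by
        rw [add_add_sub_cancel, ← two_smul F s₀, smul_smul, inv_mul_cancel₀ h2, one_smul]
      rw [e]
      exact P.smul_mem _ (P.add_mem h1 h1')
    · have hyP : y ∈ P := hcon y hyS hyQ
      have hc0 : polar ⇑Q s₀ y / Q y ≠ 0 := div_ne_zero hy hyQ
      have h1 : s₀ + (polar ⇑Q s₀ y / Q y) • y ∈ P := hcon _ (S.add_mem hs₀S (S.smul_mem _ hyS)) (by
        rw [QuadraticMap.map_add ⇑Q, QuadraticMap.map_smul, polar_smul_right, hs₀Q, zero_add,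
          smul_eq_mul, smul_eq_mul]
        have e : polar ⇑Q s₀ y / Q y * (polar ⇑Q s₀ y / Q y) * Q y +
            polar ⇑Q s₀ y / Q y * polar ⇑Q s₀ y = 2 * (polar ⇑Q s₀ y * polar ⇑Q s₀ y / Q y) := by
          field_simp
          ring
        rw [e]
        exact mul_ne_zero h2 (div_ne_zero (mul_ne_zero hy hy) hyQ))
      apply hs₀P
      have e : s₀ = (s₀ + (polar ⇑Q s₀ y / Q y) • y) - (polar ⇑Q s₀ y / Q y) • y := by abel
      rw [e]
      exact P.sub_mem h1 (P.smul_mem _ hyP)
  have hbP' : ∀ p ∈ P, polar ⇑Q b p = 0 := by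
    rcases hdich b hbS hb with h | h
    · exact (hbP h).elim
    · exact h
  -- the pair relation
  have hpair : ∀ a₁ ∈ S, a₁ ∈ P → (∃ p ∈ P, polar ⇑Q a₁ p ≠ 0) → ∀ b₁ ∈ S, b₁ ∉ P →
      (∀ p ∈ P, polar ⇑Q b₁ p = 0) → ∀ c : F, c ≠ 0 → Q a₁ + c * c * Q b₁ = 0 := by
    intro a₁ ha₁S ha₁P ⟨p, hpP, hap⟩ b₁ hb₁S hb₁P hb₁P' c hc
    have hx : Q (a₁ + c • b₁) = Q a₁ + c * c * Q b₁ := by
      rw [QuadraticMap.map_add ⇑Q, QuadraticMap.map_smul, polar_smul_right, polar_comm ⇑Q a₁ b₁,
        hb₁P' a₁ ha₁P, smul_zero, add_zero, smul_eq_mul]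
    rw [← hx]
    by_contra hne
    rcases hdich _ (S.add_mem ha₁S (S.smul_mem c hb₁S)) hne with h | h
    · apply hb₁P
      have e : b₁ = c⁻¹ • ((a₁ + c • b₁) - a₁) := by
        rw [add_sub_cancel_left, smul_smul, inv_mul_cancel₀ hc, one_smul]
      rw [e]
      exact P.smul_mem _ (P.sub_mem h ha₁P)
    · have := h p hpP
      rw [polar_add_left, polar_smul_left, hb₁P' p hpP, smul_zero, add_zero] at this
      exact hap this
  have hab : polar ⇑Q a b = 0 := by rw [polar_comm]; exact hbP' a haP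
  have hQb : Q b = - Q a := by
    have := hpair a haS haP ⟨p₁, hp₁P, hap₁⟩ b hbS hbP hbP' 1 one_ne_zero
    linear_combination this
  have hcard : Fintype.card F = 3 := by
    apply card_eq_three_of_sq h2
    intro c hc
    have h1 := hpair a haS haP ⟨p₁, hp₁P, hap₁⟩ b hbS hbP hbP' c hc
    have h3 : (c * c - 1) * Q b = 0 := by linear_combination h1 - hQb
    have := (mul_eq_zero.1 h3).resolve_right hb
    exact sub_eq_zero.1 this
  refine ⟨hcard, a, haS, b, hbS, ha, hQb, hab, ?_⟩
  -- the field has three elements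
  have h3F : (3 : F) = 0 := by
    have : ((Fintype.card F : ℕ) : F) = 0 := Nat.cast_card_eq_zero F
    rw [hcard] at this
    exact_mod_cast this
  have htwo : (2 : F) = -1 := by linear_combination h3F
  have hpm : ∀ c : F, c ≠ 0 → c = 1 ∨ c = -1 := by
    intro c hc
    have h1 := hpair a haS haP ⟨p₁, hp₁P, hap₁⟩ b hbS hbP hbP' c hc
    have h4 : (c - 1) * (c + 1) = 0 := by
      have h5 : (c * c - 1) * Q b = 0 := by linear_combination h1 - hQb
      have := (mul_eq_zero.1 h5).resolve_right hb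
      linear_combination this
    rcases mul_eq_zero.1 h4 with h5 | h5
    · exact Or.inl (sub_eq_zero.1 h5)
    · exact Or.inr (eq_neg_of_add_eq_zero_left h5)
  have hα2 : Q a + Q a ≠ Q a := by
    intro h
    apply ha
    linear_combination h
  have hα2' : Q a + Q a ≠ 0 := by
    intro h
    apply ha
    have : (2 : F) * Q a = 0 := by linear_combination h
    exact (mul_eq_zero.1 this).resolve_left h2
  -- vectors of `S` orthogonal to `a` and `b` are singular
  have hsing : ∀ x ∈ S, polar ⇑Q a x = 0 → polar ⇑Q b x = 0 → Q x = 0 := by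
    intro x hxS hax hbx
    by_contra hxQ
    have hQax : Q (a + x) = Q a + Q x := by
      rw [QuadraticMap.map_add ⇑Q, hax, add_zero]
    have hQax' : Q (a - x) = Q a + Q x := by
      rw [sub_eq_add_neg, QuadraticMap.map_add ⇑Q, QuadraticMap.map_neg, polar_neg_right, hax,
        neg_zero, add_zero]
    have hQbx : Q (b + x) = - Q a + Q x := by
      rw [QuadraticMap.map_add ⇑Q, hbx, add_zero, hQb]
    have hQbx' : Q (b - x) = - Q a + Q x := by
      rw [sub_eq_add_neg, QuadraticMap.map_add ⇑Q, QuadraticMap.map_neg, polar_neg_right, hbx,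
        neg_zero, add_zero, hQb]
    rcases hdich x hxS hxQ with hxP | hxP'
    · by_cases hxP' : ∀ p ∈ P, polar ⇑Q x p = 0
      · -- `x ∈ P ∩ P'`
        rcases hpm (Q x / Q a) (div_ne_zero hxQ ha) with h | h
        · have hQx : Q x = Q a := by
            field_simp at h
            exact h
          have h1 := hpair (a + x) (S.add_mem haS hxS) (P.add_mem haP hxP)
            ⟨p₁, hp₁P, by rw [polar_add_left, hxP' p₁ hp₁P, add_zero]; exact hap₁⟩
            b hbS hbP hbP' 1 one_ne_zero
          rw [hQax, hQx, hQb] at h1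
          apply hα2
          linear_combination h1
        · have hQx : Q x = - Q a := by
            field_simp at h
            linear_combination h
          have h1 := hpair a haS haP ⟨p₁, hp₁P, hap₁⟩ (b + x) (S.add_mem hbS hxS)
            (fun hh => hbP (by
              have e : b = (b + x) - x := by abel
              rw [e]; exact P.sub_mem hh hxP))
            (fun p hp => by rw [polar_add_left, hbP' p hp, hxP' p hp, add_zero]) 1 one_ne_zero
          rw [hQbx, hQx] at h1
          apply hα2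
          linear_combination -h1
      · push Not at hxP'
        obtain ⟨p, hpP, hxp⟩ := hxP'
        have hQx : Q x = Q a := by
          have := hpair x hxS hxP ⟨p, hpP, hxp⟩ b hbS hbP hbP' 1 one_ne_zero
          rw [hQb] at this
          linear_combination this
        -- `a + x` and `a - x` are in `P'`
        have hk1 : ∀ p ∈ P, polar ⇑Q (a + x) p = 0 := by
          by_contra hcon
          push Not at hcon
          have h1 := hpair (a + x) (S.add_mem haS hxS) (P.add_mem haP hxP) hcon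
            b hbS hbP hbP' 1 one_ne_zero
          rw [hQax, hQx, hQb] at h1
          apply hα2
          linear_combination h1
        have hk2 : ∀ p ∈ P, polar ⇑Q (a - x) p = 0 := by
          by_contra hcon
          push Not at hcon
          have h1 := hpair (a - x) (S.sub_mem haS hxS) (P.sub_mem haP hxP) hcon
            b hbS hbP hbP' 1 one_ne_zero
          rw [hQax', hQx, hQb] at h1
          apply hα2
          linear_combination h1
        have h5 := hk1 p₁ hp₁P
        have h6 := hk2 p₁ hp₁P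
        rw [polar_add_left] at h5
        rw [polar_sub_left] at h6
        apply hap₁
        have : (2 : F) * polar ⇑Q a p₁ = 0 := by linear_combination h5 + h6
        exact (mul_eq_zero.1 this).resolve_left h2
    · by_cases hxP : x ∈ P
      · -- `x ∈ P ∩ P'` again
        rcases hpm (Q x / Q a) (div_ne_zero hxQ ha) with h | h
        · have hQx : Q x = Q a := by
            field_simp at h
            exact h
          have h1 := hpair (a + x) (S.add_mem haS hxS) (P.add_mem haP hxP)
            ⟨p₁, hp₁P, by rw [polar_add_left, hxP' p₁ hp₁P, add_zero]; exact hap₁⟩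
            b hbS hbP hbP' 1 one_ne_zero
          rw [hQax, hQx, hQb] at h1
          apply hα2
          linear_combination h1
        · have hQx : Q x = - Q a := by
            field_simp at h
            linear_combination h
          have h1 := hpair a haS haP ⟨p₁, hp₁P, hap₁⟩ (b + x) (S.add_mem hbS hxS)
            (fun hh => hbP (by
              have e : b = (b + x) - x := by abel
              rw [e]; exact P.sub_mem hh hxP))
            (fun p hp => by rw [polar_add_left, hbP' p hp, hxP' p hp, add_zero]) 1 one_ne_zero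
          rw [hQbx, hQx] at h1
          apply hα2
          linear_combination -h1
      · -- `x ∈ P' \ P`
        have hQx : Q x = - Q a := by
          have := hpair a haS haP ⟨p₁, hp₁P, hap₁⟩ x hxS hxP hxP' 1 one_ne_zero
          linear_combination this
        have hk1 : b + x ∈ P := by
          by_contra hcon
          have h1 := hpair a haS haP ⟨p₁, hp₁P, hap₁⟩ (b + x) (S.add_mem hbS hxS) hcon
            (fun p hp => by rw [polar_add_left, hbP' p hp, hxP' p hp, add_zero]) 1 one_ne_zero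
          rw [hQbx, hQx] at h1
          apply hα2
          linear_combination -h1
        have hk2 : b - x ∈ P := by
          by_contra hcon
          have h1 := hpair a haS haP ⟨p₁, hp₁P, hap₁⟩ (b - x) (S.sub_mem hbS hxS) hcon
            (fun p hp => by rw [polar_sub_left, hbP' p hp, hxP' p hp, sub_zero]) 1 one_ne_zero
          rw [hQbx', hQx] at h1
          apply hα2
          linear_combination -h1
        apply hbP
        have e : b = (2 : F)⁻¹ • ((b + x) + (b - x)) := by
          rw [add_add_sub_cancel, ← two_smul F b, smul_smul, inv_mul_cancel₀ h2, one_smul]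
        rw [e]
        exact P.smul_mem _ (P.add_mem hk1 hk2)
  -- hence `S` is spanned by `a` and `b`
  have haa : polar ⇑Q a a ≠ 0 := by
    rw [QuadraticMap.polar_self, nsmul_eq_mul]
    push_cast
    exact mul_ne_zero h2 ha
  have hbb : polar ⇑Q b b ≠ 0 := by
    rw [QuadraticMap.polar_self, nsmul_eq_mul]
    push_cast
    exact mul_ne_zero h2 hb
  have hba : polar ⇑Q b a = 0 := by rw [polar_comm]; exact hab
  intro s hsS
  refine ⟨polar ⇑Q a s / polar ⇑Q a a, polar ⇑Q b s / polar ⇑Q b b, ?_⟩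
  rw [← sub_eq_zero]
  have htS : s - ((polar ⇑Q a s / polar ⇑Q a a) • a + (polar ⇑Q b s / polar ⇑Q b b) • b) ∈ S :=
    S.sub_mem hsS (S.add_mem (S.smul_mem _ haS) (S.smul_mem _ hbS))
  have hta : polar ⇑Q a
      (s - ((polar ⇑Q a s / polar ⇑Q a a) • a + (polar ⇑Q b s / polar ⇑Q b b) • b)) = 0 := by
    rw [polar_sub_right, polar_add_right, polar_smul_right, polar_smul_right, hab, smul_zero,
      add_zero, smul_eq_mul, div_mul_cancel₀ _ haa, sub_self]
  have htb : polar ⇑Q b
      (s - ((polar ⇑Q a s / polar ⇑Q a a) • a + (polar ⇑Q b s / polar ⇑Q b b) • b)) = 0 := by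
    rw [polar_sub_right, polar_add_right, polar_smul_right, polar_smul_right, hba, smul_zero,
      zero_add, smul_eq_mul, div_mul_cancel₀ _ hbb, sub_self]
  apply hS _ htS
  intro s' hs'S
  -- decompose `s'`
  have ht'S : s' - ((polar ⇑Q a s' / polar ⇑Q a a) • a + (polar ⇑Q b s' / polar ⇑Q b b) • b) ∈ S :=
    S.sub_mem hs'S (S.add_mem (S.smul_mem _ haS) (S.smul_mem _ hbS))
  have ht'a : polar ⇑Q a
      (s' - ((polar ⇑Q a s' / polar ⇑Q a a) • a + (polar ⇑Q b s' / polar ⇑Q b b) • b)) = 0 := by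
    rw [polar_sub_right, polar_add_right, polar_smul_right, polar_smul_right, hab, smul_zero,
      add_zero, smul_eq_mul, div_mul_cancel₀ _ haa, sub_self]
  have ht'b : polar ⇑Q b
      (s' - ((polar ⇑Q a s' / polar ⇑Q a a) • a + (polar ⇑Q b s' / polar ⇑Q b b) • b)) = 0 := by
    rw [polar_sub_right, polar_add_right, polar_smul_right, polar_smul_right, hba, smul_zero,
      zero_add, smul_eq_mul, div_mul_cancel₀ _ hbb, sub_self]
  obtain ⟨t, htdef⟩ : ∃ t, t = s - ((polar ⇑Q a s / polar ⇑Q a a) • a +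
    (polar ⇑Q b s / polar ⇑Q b b) • b) := ⟨_, rfl⟩
  obtain ⟨t', ht'def⟩ : ∃ t', t' = s' - ((polar ⇑Q a s' / polar ⇑Q a a) • a +
    (polar ⇑Q b s' / polar ⇑Q b b) • b) := ⟨_, rfl⟩
  rw [← htdef] at htS hta htb ⊢
  rw [← ht'def] at ht'S ht'a ht'b
  have hQt : Q t = 0 := hsing t htS hta htb
  have hQt' : Q t' = 0 := hsing t' ht'S ht'a ht'b
  have hQtt' : Q (t + t') = 0 := hsing _ (S.add_mem htS ht'S)
    (by rw [polar_add_right, hta, ht'a, add_zero]) (by rw [polar_add_right, htb, ht'b, add_zero])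
  have htt' : polar ⇑Q t t' = 0 := by
    unfold polar
    rw [hQtt', hQt, hQt']
    ring
  have e : s' = t' + ((polar ⇑Q a s' / polar ⇑Q a a) • a + (polar ⇑Q b s' / polar ⇑Q b b) • b) := by
    rw [ht'def]; abel
  rw [e, polar_add_right, polar_add_right, polar_smul_right, polar_smul_right, htt',
    polar_comm ⇑Q t a, hta, polar_comm ⇑Q t b, htb]
  simp

end Cfsg.Agent.Helper12.OmNd
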