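import Mathlib
import Cfsg.Prelude.Def_ClassicalGeometry
import Cfsg.Agent.Helper12.OmNdE

/-!
# Irreducibility via Eichler transformations (any characteristic) and the planes in
characteristic two
-/

set_option autoImplicit false
set_option linter.unusedSectionVars false

namespace Cfsg.Agent.Helper12.OmNd

open Matrix QuadraticMap Module Cfsg.Agent.Helper44 Cfsg.Agent.Helper45.OmegaParity
open Cfsg.Agent

variable {F : Type*} [Field F] {ι : Type} [Fintype ι] [DecidableEq ι]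
variable {Q : QuadraticForm F (ι → F)}

/-- the Eichler directions at a singular `u ∈ A` are invariant under the Eichler transformations
of `S` -/
theorem eichler_invariance [Fintype F]
    (hQ : (QuadraticMap.polarBilin Q).Nondegenerate)
    (hn : 5 ≤ Fintype.card ι) {A S : Submodule F (ι → F)} (hAS : OrthSplit Q A S)
    {M : Subgroup (Cfsg.isometryGroup F ⇑Q)} (hP : stab Q A ⊓ Cfsg.Omega F ⇑Q ≤ M)
    {u : ι → F} (huA : u ∈ A) (hu : Q u = 0) {s t : ι → F} (hsS : s ∈ S) (htS : t ∈ S)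
    (hs : Q s = 0) (hst : polar ⇑Q s t = 0) {p : ι → F} (hp : p ∈ eD M u) :
    lin Q (Helper5.eichlerO Q s t) p ∈ eD M u := by
  have hfixA : ∀ x ∈ A, lin Q (Helper5.eichlerO Q s t) x = x := by
    intro x hx
    apply lin_eichlerO_fix hs hst
    · rw [polar_comm]; exact hAS.orth x hx s hsS
    · rw [polar_comm]; exact hAS.orth x hx t htS
  have hst' : Helper5.eichlerO Q s t ∈ stab Q A := by
    apply mem_stab_of_forall
    intro x hx
    rw [hfixA x hx]
    exact hx
  have hM : Helper5.eichlerO Q s t ∈ M := hP ⟨hst', eichlerO_mem_Omega Q hQ hn s t⟩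
  exact eD_of_fix hu hp hM (hfixA u huA)

/-- **Irreducibility via Eichler transformations**: a non-zero subspace `P` of the non-degenerate
`S` (dimension at least three) invariant under the Eichler transformations of `S` is `S`. -/
theorem irr_eichler [Fintype F] {S : Submodule F (ι → F)} (hS : NdOn Q S)
    (h3 : 3 ≤ finrank F S) (P : Submodule F (ι → F)) (hPS : P ≤ S) (hP0 : ∃ p ∈ P, p ≠ 0)
    (hinvE : ∀ s ∈ S, ∀ t ∈ S, Q s = 0 → polar ⇑Q s t = 0 →
      ∀ p ∈ P, lin Q (Helper5.eichlerO Q s t) p ∈ P) : S ≤ P := by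
  obtain ⟨p₀, hp₀P, hp₀0⟩ := hP0
  have hp₀S : p₀ ∈ S := hPS hp₀P
  -- a singular vector not orthogonal to `p₀`
  obtain ⟨s, hsS, hs, hβ⟩ : ∃ s ∈ S, Q s = 0 ∧ polar ⇑Q s p₀ ≠ 0 := by
    by_contra hcon
    push Not at hcon
    have h1 := le_of_singular_mem hS h3 (LinearMap.ker (QuadraticMap.polarBilin Q p₀)) (by
      intro u hu huQ
      rw [LinearMap.mem_ker, QuadraticMap.polarBilin_apply_apply, polar_comm]
      exact hcon u hu huQ)
    apply hp₀0
    apply hS p₀ hp₀S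
    intro a ha
    have := h1 ha
    rwa [LinearMap.mem_ker, QuadraticMap.polarBilin_apply_apply] at this
  have hs0 : s ≠ 0 := by
    rintro rfl
    exact hβ (polar_zero_left _ _)
  obtain ⟨s', hs'S, hs', hss'⟩ := exists_partner_in hS hsS hs0 hs
  -- two non-orthogonal vectors of `S ∩ s^⊥`
  have hd1 := finrank_le_inf_perp (Q := Q) S s
  have hd2 := finrank_le_inf_perp (Q := Q) (S ⊓ LinearMap.ker (QuadraticMap.polarBilin Q s)) s'
  obtain ⟨t, htZ, ht0⟩ := exists_ne_zero_of_finrank_pos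
    (S ⊓ LinearMap.ker (QuadraticMap.polarBilin Q s) ⊓
      LinearMap.ker (QuadraticMap.polarBilin Q s')) (by omega)
  have htS : t ∈ S := htZ.1.1
  have hst : polar ⇑Q s t = 0 := (mem_inf_perp.1 htZ.1).2
  have hs't : polar ⇑Q s' t = 0 := (mem_inf_perp.1 htZ).2
  obtain ⟨t', ht'S, htt'⟩ : ∃ t' ∈ S, polar ⇑Q t t' ≠ 0 := by
    by_contra hcon
    push Not at hcon
    exact ht0 (hS t htS hcon)
  obtain ⟨t₂, ht₂S, hst₂, htt₂⟩ : ∃ t₂ ∈ S, polar ⇑Q s t₂ = 0 ∧ polar ⇑Q t t₂ ≠ 0 := by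
    refine ⟨t' - polar ⇑Q s t' • s', S.sub_mem ht'S (S.smul_mem _ hs'S), ?_, ?_⟩
    · rw [polar_sub_right, polar_smul_right, hss', smul_eq_mul, mul_one, sub_self]
    · rw [polar_sub_right, polar_smul_right, polar_comm ⇑Q t s', hs't, smul_zero, sub_zero]
      exact htt'
  -- the vectors `ψ z = z + (Q z - B(z,p₀)/β) s` lie in `P`
  have hψ : ∀ z ∈ S, polar ⇑Q s z = 0 →
      z + (Q z - polar ⇑Q z p₀ / polar ⇑Q s p₀) • s ∈ P := by
    intro z hzS hsz
    have h1 := hinvE s hsS z hzS hs hsz p₀ hp₀P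
    rw [Helper5.lin_eichlerO Q hs hsz] at h1
    have h3 : z + (Q z - polar ⇑Q z p₀ / polar ⇑Q s p₀) • s
        = (polar ⇑Q s p₀)⁻¹ • (p₀ - (p₀ + polar ⇑Q z p₀ • s - polar ⇑Q s p₀ • z
          - (Q z * polar ⇑Q s p₀) • s)) := by
      have e1 : p₀ - (p₀ + polar ⇑Q z p₀ • s - polar ⇑Q s p₀ • z - (Q z * polar ⇑Q s p₀) • s)
          = polar ⇑Q s p₀ • z + (Q z * polar ⇑Q s p₀ - polar ⇑Q z p₀) • s := by
        module
      rw [e1, smul_add, smul_smul, smul_smul, inv_mul_cancel₀ hβ, one_smul]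
      congr 2
      field_simp
    rw [h3]
    exact P.smul_mem _ (P.sub_mem hp₀P h1)
  have hsP : s ∈ P := by
    have h1 := hψ t htS hst
    have h1' := hψ t₂ ht₂S hst₂
    have h1'' := hψ (t + t₂) (S.add_mem htS ht₂S) (by rw [polar_add_right, hst, hst₂, add_zero])
    have h3 : s = (polar ⇑Q t t₂)⁻¹ • ((t + t₂ + (Q (t + t₂) - polar ⇑Q (t + t₂) p₀ /
        polar ⇑Q s p₀) • s) - (t + (Q t - polar ⇑Q t p₀ / polar ⇑Q s p₀) • s)
        - (t₂ + (Q t₂ - polar ⇑Q t₂ p₀ / polar ⇑Q s p₀) • s)) := by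
      have e1 : (t + t₂ + (Q (t + t₂) - polar ⇑Q (t + t₂) p₀ / polar ⇑Q s p₀) • s)
          - (t + (Q t - polar ⇑Q t p₀ / polar ⇑Q s p₀) • s)
          - (t₂ + (Q t₂ - polar ⇑Q t₂ p₀ / polar ⇑Q s p₀) • s) = polar ⇑Q t t₂ • s := by
        rw [QuadraticMap.map_add ⇑Q, polar_add_left, add_div]
        module
      rw [e1, smul_smul, inv_mul_cancel₀ htt₂, one_smul]
    rw [h3]
    exact P.smul_mem _ (P.sub_mem (P.sub_mem h1'' h1) h1')
  have hZP : ∀ z ∈ S, polar ⇑Q s z = 0 → z ∈ P := by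
    intro z hzS hsz
    have h1 := hψ z hzS hsz
    have e : z = (z + (Q z - polar ⇑Q z p₀ / polar ⇑Q s p₀) • s)
        - (Q z - polar ⇑Q z p₀ / polar ⇑Q s p₀) • s := by abel
    rw [e]
    exact P.sub_mem h1 (P.smul_mem _ hsP)
  intro x hxS
  have e : x = (x - (polar ⇑Q s x / polar ⇑Q s p₀) • p₀) + (polar ⇑Q s x / polar ⇑Q s p₀) • p₀ := by
    abel
  rw [e]
  refine P.add_mem (hZP _ (S.sub_mem hxS (S.smul_mem _ hp₀S)) ?_) (P.smul_mem _ hp₀P)
  rw [polar_sub_right, polar_smul_right, smul_eq_mul, div_mul_cancel₀ _ hβ, sub_self]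

/-- reflection invariance: a non-singular vector of `S` lies in `P` or is orthogonal to `P` -/
theorem refl_dich {S : Submodule F (ι → F)} (P : Submodule F (ι → F))
    (hinv : ∀ a ∈ S, Q a ≠ 0 → ∀ p ∈ P, p - ((Q a)⁻¹ * polar ⇑Q a p) • a ∈ P)
    {a : ι → F} (haS : a ∈ S) (ha : Q a ≠ 0) : a ∈ P ∨ ∀ p ∈ P, polar ⇑Q a p = 0 := by
  by_contra hcon
  push Not at hcon
  obtain ⟨haP, p, hpP, hap⟩ := hcon
  apply haP
  have h1 := hinv a haS ha p hpP
  have hk : (Q a)⁻¹ * polar ⇑Q a p ≠ 0 := mul_ne_zero (inv_ne_zero ha) hap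
  have h3 : a = ((Q a)⁻¹ * polar ⇑Q a p)⁻¹ • (p - (p - ((Q a)⁻¹ * polar ⇑Q a p) • a)) := by
    rw [sub_sub_cancel, smul_smul, inv_mul_cancel₀ hk, one_smul]
  rw [h3]
  exact P.smul_mem _ (P.sub_mem hpP h1)

/-- the planes in characteristic two -/
theorem irr_plane_char_two [Fintype F] (h2 : (2 : F) = 0) {S : Submodule F (ι → F)}
    (hS : NdOn Q S) (hfr : finrank F S ≤ 2) (P : Submodule F (ι → F)) (hPS : P ≤ S)
    (hP0 : ∃ p ∈ P, p ≠ 0)
    (hinv : ∀ a ∈ S, Q a ≠ 0 → ∀ p ∈ P, p - ((Q a)⁻¹ * polar ⇑Q a p) • a ∈ P) :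
    S ≤ P ∨ (Fintype.card F = 2 ∧ finrank F S = 2 ∧ ∃ y ∈ S, y ≠ 0 ∧ Q y = 0) := by
  by_cases hle : S ≤ P
  · exact Or.inl hle
  right
  obtain ⟨p, hpP, hp0⟩ := hP0
  have hpS : p ∈ S := hPS hpP
  have hpp : polar ⇑Q p p = 0 := by
    rw [QuadraticMap.polar_self, nsmul_eq_mul]
    push_cast
    rw [h2, zero_mul]
  obtain ⟨y, hyS, hpy⟩ : ∃ y ∈ S, polar ⇑Q p y ≠ 0 := by
    by_contra hcon
    push Not at hcon
    exact hp0 (hS p hpS hcon)
  have hli : LinearIndependent F ![p, y] := by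
    rw [LinearIndependent.pair_iff]
    intro a b hab
    have h1 : polar ⇑Q p (a • p + b • y) = 0 := by rw [hab, polar_zero_right]
    rw [polar_add_right, polar_smul_right, polar_smul_right, hpp, smul_zero, zero_add,
      smul_eq_mul] at h1
    have hb : b = 0 := (mul_eq_zero.1 h1).resolve_right hpy
    rw [hb, zero_smul, add_zero] at hab
    exact ⟨(smul_eq_zero.1 hab).resolve_right hp0, hb⟩
  have hspan_le : Submodule.span F (Set.range ![p, y]) ≤ S := by
    rw [Submodule.span_le]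
    rintro _ ⟨i, rfl⟩
    fin_cases i
    · exact hpS
    · exact hyS
  have hfs : finrank F (Submodule.span F (Set.range ![p, y])) = 2 := by
    rw [finrank_span_eq_card hli, Fintype.card_fin]
  have hfrS : finrank F S = 2 := by
    have := Submodule.finrank_mono hspan_le
    omega
  have hspan : Submodule.span F (Set.range ![p, y]) = S :=
    Submodule.eq_of_le_of_finrank_eq hspan_le (by rw [hfs, hfrS])
  have hyP : y ∉ P := by
    intro hyP
    apply hle
    rw [← hspan, Submodule.span_le]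
    rintro _ ⟨i, rfl⟩
    fin_cases i
    · exact hpP
    · exact hyP
  -- all `y + c p` are singular
  have hsing : ∀ c : F, Q (y + c • p) = 0 := by
    intro c
    by_contra hne
    rcases refl_dich P hinv (S.add_mem hyS (S.smul_mem c hpS)) hne with h | h
    · apply hyP
      have e : y = (y + c • p) - c • p := by abel
      rw [e]
      exact P.sub_mem h (P.smul_mem _ hpP)
    · have := h p hpP
      rw [polar_add_left, polar_smul_left, hpp, smul_zero, add_zero, polar_comm] at this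
      exact hpy this
  have hyQ : Q y = 0 := by
    have := hsing 0
    rwa [zero_smul, add_zero] at this
  have hy0 : y ≠ 0 := by
    rintro rfl
    exact hpy (polar_zero_right _ _)
  have hrel : ∀ c : F, c * c * Q p + c * polar ⇑Q y p = 0 := by
    intro c
    have := hsing c
    rw [QuadraticMap.map_add ⇑Q, QuadraticMap.map_smul, polar_smul_right, hyQ, zero_add,
      smul_eq_mul, smul_eq_mul] at this
    exact this
  have h1 := hrel 1
  rw [one_mul, one_mul, one_mul] at h1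
  have hyp : polar ⇑Q y p ≠ 0 := by rw [polar_comm]; exact hpy
  have hQp : Q p ≠ 0 := by
    intro h
    rw [h, zero_add] at h1
    exact hyp h1
  have hone : ∀ c : F, c ≠ 0 → c = 1 := by
    intro c hc
    have h3 := hrel c
    have h4 : c * ((c - 1) * Q p) = 0 := by linear_combination h3 - c * h1
    have h5 := (mul_eq_zero.1 h4).resolve_left hc
    exact sub_eq_zero.1 ((mul_eq_zero.1 h5).resolve_right hQp)
  refine ⟨?_, hfrS, y, hyS, hy0, hyQ⟩
  classical
  have huniv : (Finset.univ : Finset F) = {0, 1} := by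
    ext c
    simp only [Finset.mem_univ, Finset.mem_insert, Finset.mem_singleton, true_iff]
    by_cases hc : c = 0
    · exact Or.inl hc
    · exact Or.inr (hone c hc)
  rw [← Finset.card_univ, huniv, Finset.card_insert_of_notMem, Finset.card_singleton]
  rw [Finset.mem_singleton]
  exact zero_ne_one

/-- **Irreducibility in characteristic two** -/
theorem irr_char_two [Fintype F] (h2 : (2 : F) = 0) {S : Submodule F (ι → F)}
    (hS : NdOn Q S) (P : Submodule F (ι → F)) (hPS : P ≤ S)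
    (hP0 : ∃ p ∈ P, p ≠ 0)
    (hinv : ∀ a ∈ S, Q a ≠ 0 → ∀ p ∈ P, p - ((Q a)⁻¹ * polar ⇑Q a p) • a ∈ P)
    (hinvE : ∀ s ∈ S, ∀ t ∈ S, Q s = 0 → polar ⇑Q s t = 0 →
      ∀ p ∈ P, lin Q (Helper5.eichlerO Q s t) p ∈ P) :
    S ≤ P ∨ (Fintype.card F = 2 ∧ finrank F S = 2 ∧ ∃ y ∈ S, y ≠ 0 ∧ Q y = 0) := by
  by_cases h3 : 3 ≤ finrank F S
  · exact Or.inl (irr_eichler hS h3 P hPS hP0 hinvE)
  · exact irr_plane_char_two h2 hS (by omega) P hPS hP0 hinv

end Cfsg.Agent.Helper12.OmNd
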