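import Mathlib
import Cfsg.Prelude.Def_ClassicalGeometry
import Cfsg.Prelude.Def_GeometricClasses
import Cfsg.Agent.Helper12.OmNdD
import Cfsg.Agent.Helper12.OmNdE
import Cfsg.Agent.Helper12.OmNdI

/-!
# Maximality of the stabiliser of a non-degenerate subspace in `Ω` (odd characteristic): assembly
-/

set_option autoImplicit false
set_option linter.unusedSectionVars false

namespace Cfsg.Agent.Helper12.OmNd

open Matrix QuadraticMap Module Cfsg.Agent.Helper44 Cfsg.Agent.Helper45.OmegaParity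
open Cfsg.Agent

variable {F : Type*} [Field F] {ι : Type} [Fintype ι] [DecidableEq ι]
variable {Q : QuadraticForm F (ι → F)}

/-- the irreducibility hypothesis on `S`: non-zero subspaces of `S` invariant under the reflections
and the Eichler transformations of `S` are equal to `S` -/
def IrrHyp (Q : QuadraticForm F (ι → F)) (S : Submodule F (ι → F)) : Prop :=
  ∀ P : Submodule F (ι → F), P ≤ S → (∃ p ∈ P, p ≠ 0) →
    (∀ a ∈ S, Q a ≠ 0 → ∀ p ∈ P, p - ((Q a)⁻¹ * polar ⇑Q a p) • a ∈ P) →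
    (∀ s ∈ S, ∀ t ∈ S, Q s = 0 → polar ⇑Q s t = 0 →
      ∀ p ∈ P, lin Q (Helper5.eichlerO Q s t) p ∈ P) → S ≤ P

/-- **Maximality, core form** (any characteristic, irreducibility as a hypothesis). -/
theorem Omega_le_of_nd_stab_lt_gen [Fintype F]
    (hQ : (QuadraticMap.polarBilin Q).Nondegenerate)
    (hn : 6 ≤ Fintype.card ι) {A S : Submodule F (ι → F)} (hAS : OrthSplit Q A S)
    (h7 : 7 ≤ finrank F A) (hirr : IrrHyp Q S)
    (M : Subgroup (Cfsg.isometryGroup F ⇑Q)) (hP : stab Q A ⊓ Cfsg.Omega F ⇑Q ≤ M)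
    (g : Cfsg.isometryGroup F ⇑Q) (hg : g ∈ M) (hgA : ¬ ∀ a ∈ A, lin Q g a ∈ A)
    (hgS : ¬ ∀ a ∈ A, lin Q g a ∈ S) : Cfsg.Omega F ⇑Q ≤ M := by
  have hA : NdOn Q A := hAS.ndOn_left hQ
  have hS : NdOn Q S := hAS.ndOn_right hQ
  obtain ⟨u, huA, hu0, hu, s, hsS, hs0, hsD⟩ :=
    exists_mixed hQ (by omega) hAS h7 hP hg hgA hgS
  -- all of `S` consists of Eichler directions at `u`
  have hSD : S ≤ S ⊓ eD M u := by
    apply hirr (S ⊓ eD M u) inf_le_left ⟨s, ⟨hsS, hsD⟩, hs0⟩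
    · intro a haS ha p hp
      exact ⟨S.sub_mem hp.1 (S.smul_mem _ haS),
        refl_invariance hQ hn hAS (by omega) hP huA hu0 hu haS ha hp.1 hp.2⟩
    · intro s₁ hs₁S t₁ ht₁S hs₁ hst₁ p hp
      refine ⟨?_, eichler_invariance hQ (by omega) hAS hP huA hu hs₁S ht₁S hs₁ hst₁ hp.2⟩
      rw [Helper5.lin_eichlerO Q hs₁ hst₁]
      exact S.sub_mem (S.sub_mem (S.add_mem hp.1 (S.smul_mem _ hs₁S)) (S.smul_mem _ ht₁S))
        (S.smul_mem _ hs₁S)
  have huD : u ∈ eDir Q M := by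
    rw [mem_eDir_iff]
    refine ⟨hu, fun w hw => ?_⟩
    obtain ⟨a, ha, s', hs', rfl⟩ := hAS.dec w
    have h1 : polar ⇑Q u a = 0 := by
      rwa [polar_add_right, hAS.orth u huA s' hs', add_zero] at hw
    exact (eD M u).add_mem (eD_of_stab hQ (by omega) hP huA hu ha h1) (hSD hs').2
  -- a second, non-orthogonal direction
  obtain ⟨u₁, hu₁A, hu₁, huu₁⟩ := exists_partner_in hA huA hu0 hu
  have hu₁0 : u₁ ≠ 0 := by
    rintro rfl
    rw [polar_zero_right] at huu₁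
    exact zero_ne_one huu₁
  obtain ⟨w, hwA, hu₁w, hwQ⟩ := exists_Q_eq_perp hA (by omega) hu₁A hu₁0 hu₁ 1
  have hEM : Helper5.eichlerO Q u₁ w ∈ M := by
    have := (eD_of_stab hQ (by omega) hP hu₁A hu₁ hwA hu₁w).2 1
    rwa [one_smul] at this
  have hu'D : lin Q (Helper5.eichlerO Q u₁ w) u ∈ eDir Q M := eDir_map huD hEM
  have hb : polar ⇑Q u (lin Q (Helper5.eichlerO Q u₁ w) u) ≠ 0 := by
    rw [Helper5.lin_eichlerO Q hu₁ hu₁w, polar_sub_right, polar_sub_right, polar_add_right,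
      polar_smul_right, polar_smul_right, polar_smul_right, polar_self_zero hu, huu₁,
      polar_comm ⇑Q u₁ u, huu₁, hwQ, polar_comm ⇑Q w u]
    simp
  exact Omega_le_of_eDir_all hQ hn (eDir_all hQ huD hu'D hb)

/-- the irreducibility hypothesis in odd characteristic -/
theorem irrHyp_of_odd [Fintype F] (h2 : (2 : F) ≠ 0)
    {S : Submodule F (ι → F)} (hS : NdOn Q S)
    (hex : Fintype.card F = 3 → ∀ a ∈ S, ∀ b ∈ S, Q a ≠ 0 → Q b = - Q a → polar ⇑Q a b = 0 →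
      (∀ s ∈ S, ∃ c d : F, s = c • a + d • b) → False) : IrrHyp Q S := by
  intro P hPS hP0 hinv _
  rcases irr h2 hS P hPS hP0 hinv with h | h
  · exact h
  · obtain ⟨hc, a, haS, b, hbS, ha, hb, hab, hsp⟩ := h
    exact (hex hc a haS b hbS ha hb hab hsp).elim

/-- the irreducibility hypothesis in characteristic two -/
theorem irrHyp_of_even [Fintype F] (h2 : (2 : F) = 0)
    {S : Submodule F (ι → F)} (hS : NdOn Q S)
    (hex : Fintype.card F = 2 → finrank F S = 2 → ∀ y ∈ S, Q y = 0 → y = 0) : IrrHyp Q S := by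
  intro P hPS hP0 hinv hinvE
  rcases irr_char_two h2 hS P hPS hP0 hinv hinvE with h | h
  · exact h
  · obtain ⟨hc, hfr, y, hyS, hy0, hyQ⟩ := h
    exact (hy0 (hex hc hfr y hyS hyQ)).elim

/-- **Maximality, core form** (odd characteristic). -/
theorem Omega_le_of_nd_stab_lt [Fintype F] (h2 : (2 : F) ≠ 0)
    (hQ : (QuadraticMap.polarBilin Q).Nondegenerate)
    (hn : 6 ≤ Fintype.card ι) {A S : Submodule F (ι → F)} (hAS : OrthSplit Q A S)
    (h7 : 7 ≤ finrank F A)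
    (hex : Fintype.card F = 3 → ∀ a ∈ S, ∀ b ∈ S, Q a ≠ 0 → Q b = - Q a → polar ⇑Q a b = 0 →
      (∀ s ∈ S, ∃ c d : F, s = c • a + d • b) → False)
    (M : Subgroup (Cfsg.isometryGroup F ⇑Q)) (hP : stab Q A ⊓ Cfsg.Omega F ⇑Q ≤ M)
    (g : Cfsg.isometryGroup F ⇑Q) (hg : g ∈ M) (hgA : ¬ ∀ a ∈ A, lin Q g a ∈ A)
    (hgS : ¬ ∀ a ∈ A, lin Q g a ∈ S) : Cfsg.Omega F ⇑Q ≤ M :=
  Omega_le_of_nd_stab_lt_gen hQ hn hAS h7 (irrHyp_of_odd h2 (hAS.ndOn_right hQ) hex) M hP g hg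
    hgA hgS

/-- stabilising `A` is the same as stabilising `S = A^⊥` -/
theorem stab_le_of_orthSplit (hQ : (QuadraticMap.polarBilin Q).Nondegenerate)
    {A S : Submodule F (ι → F)} (hAS : OrthSplit Q A S) : stab Q A ≤ stab Q S := by
  intro g hg
  apply mem_stab_of_forall
  intro s hs
  apply hAS.mem_right_of_orth hQ
  intro a ha
  have h1 : lin Q g⁻¹ a ∈ A := by
    have h3 := (mem_stab Q A g⁻¹).1 ((stab Q A).inv_mem hg)
    rw [← h3]
    exact Submodule.mem_map_of_mem ha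
  have h3 : polar ⇑Q (lin Q g s) a = polar ⇑Q s (lin Q g⁻¹ a) := by
    conv_lhs => rw [← Helper5.lin_apply_inv Q g a]
    rw [Helper5.polar_lin]
  rw [h3, polar_comm]
  exact hAS.orth _ h1 s hs

theorem stab_eq_of_orthSplit (hQ : (QuadraticMap.polarBilin Q).Nondegenerate)
    {A S : Submodule F (ι → F)} (hAS : OrthSplit Q A S) : stab Q A = stab Q S :=
  le_antisymm (stab_le_of_orthSplit hQ hAS) (stab_le_of_orthSplit hQ hAS.symm)

theorem lin_mem_of_mem_stab {A : Submodule F (ι → F)} {g : Cfsg.isometryGroup F ⇑Q}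
    (hg : g ∈ stab Q A) {a : ι → F} (ha : a ∈ A) : lin Q g a ∈ A := by
  have h3 := (mem_stab Q A g).1 hg
  rw [← h3]
  exact Submodule.mem_map_of_mem ha

/-- some element of `Ω` does not stabilise `A` -/
theorem exists_Omega_not_stab_nd [Fintype F]
    (hQ : (QuadraticMap.polarBilin Q).Nondegenerate)
    (hn : 5 ≤ Fintype.card ι) {A S : Submodule F (ι → F)} (hAS : OrthSplit Q A S)
    (h3 : 3 ≤ finrank F A) (hS0 : ∃ s ∈ S, s ≠ 0) :
    ∃ g ∈ Cfsg.Omega F ⇑Q, g ∉ stab Q A := by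
  have hA : NdOn Q A := hAS.ndOn_left hQ
  obtain ⟨s, hsS, hs0⟩ := hS0
  obtain ⟨u, huA, hu0, hu⟩ := exists_singular_of_finrank (Q := Q) A h3
  obtain ⟨x, hxA, hx, hux⟩ := exists_partner_in hA huA hu0 hu
  have hus : polar ⇑Q u s = 0 := hAS.orth u huA s hsS
  refine ⟨Helper5.eichlerO Q u s, eichlerO_mem_Omega Q hQ hn u s, fun hst => ?_⟩
  have h1 := lin_mem_of_mem_stab hst hxA
  rw [Helper5.lin_eichlerO Q hu hus, polar_comm ⇑Q s x, hAS.orth x hxA s hsS, hux, zero_smul,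
    add_zero, one_smul, mul_one] at h1
  apply hs0
  apply hAS.eq_zero_of_mem hQ _ hsS
  have e : s = x - Q s • u - (x - s - Q s • u) := by abel
  rw [e]
  exact A.sub_mem (A.sub_mem hxA (A.smul_mem _ huA)) h1

/-- **Maximality of the stabiliser of a non-degenerate subspace**, `Cfsg.Geo` vocabulary. `K` is any
subgroup of `GL` whose isometries are those stabilising `A`. -/
theorem nd_stab_isMaximalIn_gen [Fintype F]
    (hQ : (QuadraticMap.polarBilin Q).Nondegenerate)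
    (hn : 6 ≤ Fintype.card ι) {A S : Submodule F (ι → F)} (hAS : OrthSplit Q A S)
    (h7 : 7 ≤ finrank F A) (hS0 : ∃ s ∈ S, s ≠ 0) (hirr : IrrHyp Q S)
    (hswap : ∀ g : Cfsg.isometryGroup F ⇑Q, ¬ ∀ a ∈ A, lin Q g a ∈ S)
    (K : Subgroup (Matrix.GeneralLinearGroup ι F))
    (hK : ∀ g : Cfsg.isometryGroup F ⇑Q,
      (g : Matrix.GeneralLinearGroup ι F) ∈ K ↔ g ∈ stab Q A) :
    Cfsg.Geo.IsMaximalIn (Cfsg.Geo.omegaGL ⇑Q) (K ⊓ Cfsg.Geo.omegaGL ⇑Q) := by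
  refine ⟨lt_of_le_of_ne inf_le_right ?_, ?_⟩
  · intro heq
    obtain ⟨g, hg, hgW⟩ := exists_Omega_not_stab_nd hQ (by omega) hAS (by omega) hS0
    have h1 : (g : Matrix.GeneralLinearGroup ι F) ∈ Cfsg.Geo.omegaGL ⇑Q := ⟨g, hg, rfl⟩
    rw [← heq] at h1
    exact hgW ((hK g).1 h1.1)
  · intro M' hHM hMΩ
    by_cases hle : M' ≤ K ⊓ Cfsg.Geo.omegaGL ⇑Q
    · left
      exact le_antisymm hle hHM
    · right
      obtain ⟨g, hgM, hgH⟩ := SetLike.not_le_iff_exists.1 hle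
      obtain ⟨g', hg'Ω, rfl⟩ := hMΩ hgM
      have hP : stab Q A ⊓ Cfsg.Omega F ⇑Q ≤ M'.comap (Cfsg.isometryGroup F ⇑Q).subtype := by
        rintro ω ⟨hω1, hω2⟩
        exact Subgroup.mem_comap.2 (hHM ⟨(hK ω).2 hω1, ⟨ω, hω2, rfl⟩⟩)
      have hg'W : g' ∉ stab Q A := by
        intro h
        exact hgH ⟨(hK g').2 h, ⟨g', hg'Ω, rfl⟩⟩
      have hgA : ¬ ∀ a ∈ A, lin Q g' a ∈ A := fun h => hg'W (mem_stab_of_forall Q A g' h)
      have hfin := Omega_le_of_nd_stab_lt_gen hQ hn hAS h7 hirr _ hP g' (Subgroup.mem_comap.2 hgM)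
        hgA (hswap g')
      apply le_antisymm hMΩ
      rintro _ ⟨ω, hω, rfl⟩
      exact Subgroup.mem_comap.1 (hfin hω)

/-- the odd characteristic version -/
theorem nd_stab_isMaximalIn_aux [Fintype F] (h2 : (2 : F) ≠ 0)
    (hQ : (QuadraticMap.polarBilin Q).Nondegenerate)
    (hn : 6 ≤ Fintype.card ι) {A S : Submodule F (ι → F)} (hAS : OrthSplit Q A S)
    (h7 : 7 ≤ finrank F A) (hS0 : ∃ s ∈ S, s ≠ 0)
    (hex : Fintype.card F = 3 → ∀ a ∈ S, ∀ b ∈ S, Q a ≠ 0 → Q b = - Q a → polar ⇑Q a b = 0 →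
      (∀ s ∈ S, ∃ c d : F, s = c • a + d • b) → False)
    (hswap : ∀ g : Cfsg.isometryGroup F ⇑Q, ¬ ∀ a ∈ A, lin Q g a ∈ S)
    (K : Subgroup (Matrix.GeneralLinearGroup ι F))
    (hK : ∀ g : Cfsg.isometryGroup F ⇑Q,
      (g : Matrix.GeneralLinearGroup ι F) ∈ K ↔ g ∈ stab Q A) :
    Cfsg.Geo.IsMaximalIn (Cfsg.Geo.omegaGL ⇑Q) (K ⊓ Cfsg.Geo.omegaGL ⇑Q) :=
  nd_stab_isMaximalIn_gen hQ hn hAS h7 hS0 (irrHyp_of_odd h2 (hAS.ndOn_right hQ) hex) hswap K hK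

end Cfsg.Agent.Helper12.OmNd
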