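import Mathlib
import Cfsg.Prelude.Def_ClassicalGeometry
import Cfsg.Prelude.Def_GeometricClasses
import Cfsg.Agent.Helper12.OmNdF
import Cfsg.Agent.Helper36.AltForm

/-!
# Bridging lemmas to the `Cfsg.Geo` vocabulary
-/

set_option autoImplicit false
set_option linter.unusedSectionVars false

namespace Cfsg.Agent.Helper12.OmNd

open Matrix QuadraticMap Module Cfsg.Agent.Helper44 Cfsg.Agent.Helper45.OmegaParity
open Cfsg.Agent

variable {F : Type*} [Field F] {ι : Type} [Fintype ι] [DecidableEq ι]
variable {Q : QuadraticForm F (ι → F)}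

/-- a subspace of odd dimension on which the polar form is non-degenerate forces `2 ≠ 0` -/
theorem two_ne_zero_of_odd_nd (W : Submodule F (ι → F))
    (hW : Cfsg.Geo.IsNondegenerateOn (QuadraticMap.polar ⇑Q) W) (hodd : Odd (finrank F W)) :
    (2 : F) ≠ 0 := by
  intro h2
  have halt : (LinearMap.BilinForm.restrict (QuadraticMap.polarBilin Q) W).IsAlt := by
    intro x
    show QuadraticMap.polarBilin Q (x : ι → F) (x : ι → F) = 0
    rw [QuadraticMap.polarBilin_apply_apply, QuadraticMap.polar_self, nsmul_eq_mul]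
    push_cast
    rw [h2, zero_mul]
  have hnd : (LinearMap.BilinForm.restrict (QuadraticMap.polarBilin Q) W).Nondegenerate := by
    refine ⟨fun x hx => ?_, fun y hy => ?_⟩
    · by_contra hne
      have hne' : (x : ι → F) ≠ 0 := fun h => hne (Subtype.ext h)
      obtain ⟨-, ⟨z, hzW, hz⟩⟩ := hW x x.2 hne'
      apply hz
      have := hx ⟨z, hzW⟩
      exact this
    · by_contra hne
      have hne' : (y : ι → F) ≠ 0 := fun h => hne (Subtype.ext h)
      obtain ⟨⟨z, hzW, hz⟩, -⟩ := hW y y.2 hne'
      apply hz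
      have := hy ⟨z, hzW⟩
      exact this
  have hev := Helper36.even_finrank_of_isAlt_nondegenerate (finrank F W) _ halt hnd rfl
  exact (Nat.not_even_iff_odd.2 hodd) hev

theorem lin_eq_toLin' (g : Cfsg.isometryGroup F ⇑Q) :
    lin Q g = Matrix.toLin' ((g : Matrix.GeneralLinearGroup ι F) : Matrix ι ι F) := by
  apply LinearMap.ext
  intro x
  rw [Matrix.toLin'_apply]
  rfl

/-- the plane spanned by two orthogonal non-singular vectors -/
theorem finrank_eq_two_of_pair (h2 : (2 : F) ≠ 0) (S : Submodule F (ι → F)) {a b : ι → F}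
    (haS : a ∈ S) (hbS : b ∈ S) (ha : Q a ≠ 0) (hb : Q b ≠ 0) (hab : polar ⇑Q a b = 0)
    (hsp : ∀ s ∈ S, ∃ c d : F, s = c • a + d • b) : finrank F S = 2 := by
  have hli : LinearIndependent F ![a, b] := by
    rw [LinearIndependent.pair_iff]
    intro s t hst
    have h1 : polar ⇑Q a (s • a + t • b) = 0 := by rw [hst, polar_zero_right]
    have h1' : polar ⇑Q b (s • a + t • b) = 0 := by rw [hst, polar_zero_right]
    rw [polar_add_right, polar_smul_right, polar_smul_right, hab, smul_zero, add_zero,
      QuadraticMap.polar_self, nsmul_eq_mul, smul_eq_mul] at h1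
    rw [polar_add_right, polar_smul_right, polar_smul_right, polar_comm ⇑Q b a, hab, smul_zero,
      zero_add, QuadraticMap.polar_self, nsmul_eq_mul, smul_eq_mul] at h1'
    push_cast at h1 h1'
    have h3 : (2 : F) * Q a ≠ 0 := mul_ne_zero h2 ha
    have h3' : (2 : F) * Q b ≠ 0 := mul_ne_zero h2 hb
    exact ⟨(mul_eq_zero.1 h1).resolve_right h3, (mul_eq_zero.1 h1').resolve_right h3'⟩
  have hS : S = Submodule.span F (Set.range ![a, b]) := by
    apply le_antisymm
    · intro s hs
      obtain ⟨c, d, rfl⟩ := hsp s hs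
      exact Submodule.add_mem _
        (Submodule.smul_mem _ _ (Submodule.subset_span ⟨0, rfl⟩))
        (Submodule.smul_mem _ _ (Submodule.subset_span ⟨1, rfl⟩))
    · rw [Submodule.span_le]
      rintro _ ⟨i, rfl⟩
      fin_cases i
      · exact haS
      · exact hbS
  rw [hS, finrank_span_eq_card hli, Fintype.card_fin]

/-- from the `Geo` non-degeneracy on `W`: `W ∩ W^⊥ = 0` -/
theorem orthSplit_orthogonal (hQ : (QuadraticMap.polarBilin Q).Nondegenerate)
    (W : Submodule F (ι → F)) (hW : Cfsg.Geo.IsNondegenerateOn (QuadraticMap.polar ⇑Q) W) :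
    OrthSplit Q W (LinearMap.BilinForm.orthogonal (QuadraticMap.polarBilin Q) W) := by
  have hinf : W ⊓ LinearMap.BilinForm.orthogonal (QuadraticMap.polarBilin Q) W = ⊥ := by
    rw [eq_bot_iff]
    rintro x ⟨hxW, hxO⟩
    rw [Submodule.mem_bot]
    by_contra hne
    obtain ⟨⟨z, hzW, hz⟩, -⟩ := hW x hxW hne
    apply hz
    have := (LinearMap.BilinForm.mem_orthogonal_iff.1 hxO) z hzW
    rwa [QuadraticMap.polarBilin_apply_apply] at this
  have hd1 := LinearMap.BilinForm.finrank_orthogonal hQ W
  have hd2 := Submodule.finrank_sup_add_finrank_inf_eq W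
    (LinearMap.BilinForm.orthogonal (QuadraticMap.polarBilin Q) W)
  rw [hinf, finrank_bot, add_zero] at hd2
  have hd3 := Submodule.finrank_le W
  have htop : W ⊔ LinearMap.BilinForm.orthogonal (QuadraticMap.polarBilin Q) W = ⊤ := by
    apply Submodule.eq_top_of_finrank_eq
    omega
  refine ⟨fun a ha s hs => ?_, fun x => ?_⟩
  · have := (LinearMap.BilinForm.mem_orthogonal_iff.1 hs) a ha
    rwa [QuadraticMap.polarBilin_apply_apply] at this
  · have hx : x ∈ W ⊔ LinearMap.BilinForm.orthogonal (QuadraticMap.polarBilin Q) W := by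
      rw [htop]; exact Submodule.mem_top
    obtain ⟨a, ha, s, hs, rfl⟩ := Submodule.mem_sup.1 hx
    exact ⟨a, ha, s, hs, rfl⟩

/-- an isometry mapping `A` into `S` of the same dimension induces an isometry `A ≃ S` -/
theorem areIsometricFor_of_map (A S : Submodule F (ι → F)) (g : Cfsg.isometryGroup F ⇑Q)
    (h : ∀ a ∈ A, lin Q g a ∈ S) (hd : finrank F A = finrank F S) :
    Cfsg.Geo.AreIsometricFor ⇑Q A S := by
  have hinj : Function.Injective ((lin Q g).restrict h) := by
    intro x y hxy
    apply Subtype.ext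
    apply lin_injective Q g
    have := congrArg Subtype.val hxy
    exact this
  refine ⟨LinearEquiv.ofInjectiveOfFinrankEq _ hinj hd, fun w => ?_⟩
  show Q (lin Q g (w : ι → F)) = Q (w : ι → F)
  exact lin_isometry Q g w

end Cfsg.Agent.Helper12.OmNd
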