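import Mathlib
import Cfsg.Prelude.Def_ClassicalGeometry
import Cfsg.Prelude.Def_GeometricClasses
import Cfsg.Agent.Helper12.OmNdG

/-!
# The exceptional hyperbolic plane, and the general subspace-stabiliser statement
-/

set_option autoImplicit false
set_option linter.unusedSectionVars false

namespace Cfsg.Agent.Helper12.OmNd

open Matrix QuadraticMap Module Cfsg.Agent.Helper44 Cfsg.Agent.Helper45.OmegaParity
open Cfsg.Agent

variable {F : Type*} [Field F] {ι : Type} [Fintype ι] [DecidableEq ι]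
variable {Q : QuadraticForm F (ι → F)}

/-- the plane spanned by orthogonal `a, b` with `Q b = - Q a ≠ 0` is of plus type -/
theorem isPlusTypeOn_of_pair (h2 : (2 : F) ≠ 0) (S : Submodule F (ι → F)) {a b : ι → F}
    (haS : a ∈ S) (hbS : b ∈ S) (ha : Q a ≠ 0) (hb : Q b = - Q a) (hab : polar ⇑Q a b = 0)
    (hsp : ∀ s ∈ S, ∃ c d : F, s = c • a + d • b) :
    finrank F S = 2 ∧ Cfsg.Geo.IsPlusTypeOn ⇑Q S := by
  have hb0 : Q b ≠ 0 := by rw [hb]; exact neg_ne_zero.2 ha
  have hfr := finrank_eq_two_of_pair h2 S haS hbS ha hb0 hab hsp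
  refine ⟨hfr, Submodule.span F {a + b}, ?_, ?_, ?_⟩
  · rw [Submodule.span_le]
    intro x hx
    rw [Set.mem_singleton_iff] at hx
    rw [hx]
    exact S.add_mem haS hbS
  · intro w hw
    obtain ⟨c, rfl⟩ := Submodule.mem_span_singleton.1 hw
    rw [QuadraticMap.map_smul, QuadraticMap.map_add ⇑Q, hb, hab]
    simp
  · have hne : a + b ≠ 0 := by
      intro h0
      have hba : b = -a := eq_neg_of_add_eq_zero_right h0
      rw [hba, QuadraticMap.map_neg] at hb
      apply ha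
      have : (2 : F) * Q a = 0 := by linear_combination hb
      exact (mul_eq_zero.1 this).resolve_left h2
    rw [finrank_span_singleton hne, hfr]

/-- **Maximality of the stabiliser of a non-degenerate subspace** `W` with `2 dim W ≠ n`, given the
irreducibility hypotheses for `W` and `W^⊥`: the `Geo` statement for a Mathlib quadratic form. -/
theorem nd_subspace_stab_isMaximalIn_gen [Fintype F]
    (hQ : (QuadraticMap.polarBilin Q).Nondegenerate)
    (hn : 13 ≤ Fintype.card ι) (W : Submodule F (ι → F)) (hW0 : W ≠ ⊥) (hW1 : W ≠ ⊤)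
    (hW : Cfsg.Geo.IsNondegenerateOn (QuadraticMap.polar ⇑Q) W)
    (hdim : 2 * finrank F W ≠ Fintype.card ι)
    (hirrW : IrrHyp Q W)
    (hirrW' : IrrHyp Q (LinearMap.BilinForm.orthogonal (QuadraticMap.polarBilin Q) W)) :
    Cfsg.Geo.IsMaximalIn (Cfsg.Geo.omegaGL ⇑Q)
      (Cfsg.Geo.subspaceStabilizer W ⊓ Cfsg.Geo.omegaGL ⇑Q) := by
  have hAS := orthSplit_orthogonal hQ W hW
  have hd := LinearMap.BilinForm.finrank_orthogonal hQ W
  rw [Module.finrank_fintype_fun_eq_card] at hd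
  have hle := Submodule.finrank_le W
  rw [Module.finrank_fintype_fun_eq_card] at hle
  have hWlt : finrank F W < Fintype.card ι := by
    rcases lt_or_eq_of_le hle with h | h
    · exact h
    · exfalso
      apply hW1
      apply Submodule.eq_top_of_finrank_eq
      rw [Module.finrank_fintype_fun_eq_card]
      exact h
  have hWpos : 0 < finrank F W := by
    rw [Module.finrank_pos_iff_exists_ne_zero]
    obtain ⟨w, hw, hw0⟩ := Submodule.exists_mem_ne_zero_of_ne_bot hW0
    exact ⟨⟨w, hw⟩, fun h => hw0 (congrArg Subtype.val h)⟩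
  by_cases hlt : finrank F (LinearMap.BilinForm.orthogonal (QuadraticMap.polarBilin Q) W)
      < finrank F W
  · -- `A = W`
    refine nd_stab_isMaximalIn_gen hQ (by omega) hAS (by omega) ?_ hirrW' ?_
      (Cfsg.Geo.subspaceStabilizer W) (fun g => mem_subspaceStabilizer_iff_stab Q g W)
    · exact exists_ne_zero_of_finrank_pos _ (by omega)
    · intro g hg
      have h1 : W.map (lin Q g) ≤ LinearMap.BilinForm.orthogonal (QuadraticMap.polarBilin Q) W := by
        rintro _ ⟨a, ha, rfl⟩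
        exact hg a ha
      have h3 := Submodule.finrank_mono h1
      rw [finrank_map_lin] at h3
      omega
  · -- `A = W^⊥`
    have hlt' : finrank F W < finrank F
        (LinearMap.BilinForm.orthogonal (QuadraticMap.polarBilin Q) W) := by omega
    refine nd_stab_isMaximalIn_gen hQ (by omega) hAS.symm (by omega) ?_ hirrW ?_
      (Cfsg.Geo.subspaceStabilizer W) (fun g => ?_)
    · obtain ⟨w, hw, hw0⟩ := Submodule.exists_mem_ne_zero_of_ne_bot hW0
      exact ⟨w, hw, hw0⟩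
    · intro g hg
      have h1 : (LinearMap.BilinForm.orthogonal (QuadraticMap.polarBilin Q) W).map (lin Q g)
          ≤ W := by
        rintro _ ⟨a, ha, rfl⟩
        exact hg a ha
      have h3 := Submodule.finrank_mono h1
      rw [finrank_map_lin] at h3
      omega
    · rw [mem_subspaceStabilizer_iff_stab Q g W, stab_eq_of_orthSplit hQ hAS]

/-- the irreducibility hypothesis from the exclusion of small plus-type planes -/
theorem irrHyp_of_not_plus_plane [Fintype F] {S : Submodule F (ι → F)} (hS : NdOn Q S)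
    (hex : ¬ (Fintype.card F ≤ 3 ∧ finrank F S = 2 ∧ Cfsg.Geo.IsPlusTypeOn ⇑Q S)) :
    IrrHyp Q S := by
  by_cases h2 : (2 : F) = 0
  · apply irrHyp_of_even h2 hS
    intro hc hfr y hyS hyQ
    by_contra hy0
    apply hex
    refine ⟨by omega, hfr, Submodule.span F {y}, ?_, ?_, ?_⟩
    · rw [Submodule.span_le]
      intro x hx
      rw [Set.mem_singleton_iff] at hx
      rw [hx]
      exact hyS
    · intro w hw
      obtain ⟨c, rfl⟩ := Submodule.mem_span_singleton.1 hw
      rw [QuadraticMap.map_smul, hyQ, smul_zero]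
    · rw [finrank_span_singleton hy0, hfr]
  · apply irrHyp_of_odd h2 hS
    intro hc a ha b hb haQ hbQ hab hsp
    obtain ⟨h5, h6⟩ := isPlusTypeOn_of_pair h2 _ ha hb haQ hbQ hab hsp
    exact hex ⟨by omega, h5, h6⟩

/-- **Maximality of the stabiliser of a non-degenerate subspace** `W` with `2 dim W ≠ n`, any
characteristic. -/
theorem nd_subspace_stab_isMaximalIn_all [Fintype F]
    (hQ : (QuadraticMap.polarBilin Q).Nondegenerate)
    (hn : 13 ≤ Fintype.card ι) (W : Submodule F (ι → F)) (hW0 : W ≠ ⊥) (hW1 : W ≠ ⊤)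
    (hW : Cfsg.Geo.IsNondegenerateOn (QuadraticMap.polar ⇑Q) W)
    (hdim : 2 * finrank F W ≠ Fintype.card ι)
    (hexW : ¬ (Fintype.card F ≤ 3 ∧ finrank F W = 2 ∧ Cfsg.Geo.IsPlusTypeOn ⇑Q W))
    (hexW' : ¬ (Fintype.card F ≤ 3 ∧
      finrank F (LinearMap.BilinForm.orthogonal (QuadraticMap.polarBilin Q) W) = 2 ∧
      Cfsg.Geo.IsPlusTypeOn ⇑Q (LinearMap.BilinForm.orthogonal (QuadraticMap.polarBilin Q) W))) :
    Cfsg.Geo.IsMaximalIn (Cfsg.Geo.omegaGL ⇑Q)
      (Cfsg.Geo.subspaceStabilizer W ⊓ Cfsg.Geo.omegaGL ⇑Q) := by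
  have hAS := orthSplit_orthogonal hQ W hW
  exact nd_subspace_stab_isMaximalIn_gen hQ hn W hW0 hW1 hW hdim
    (irrHyp_of_not_plus_plane (hAS.ndOn_left hQ) hexW)
    (irrHyp_of_not_plus_plane (hAS.ndOn_right hQ) hexW')

/-- **Maximality of the stabiliser of a non-degenerate subspace** `W` in odd characteristic. -/
theorem nd_subspace_stab_isMaximalIn [Fintype F] (h2 : (2 : F) ≠ 0)
    (hQ : (QuadraticMap.polarBilin Q).Nondegenerate)
    (hn : 13 ≤ Fintype.card ι) (W : Submodule F (ι → F)) (hW0 : W ≠ ⊥) (hW1 : W ≠ ⊤)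
    (hW : Cfsg.Geo.IsNondegenerateOn (QuadraticMap.polar ⇑Q) W)
    (hdim : 2 * finrank F W ≠ Fintype.card ι)
    (hexW : ¬ (Fintype.card F = 3 ∧ finrank F W = 2 ∧ Cfsg.Geo.IsPlusTypeOn ⇑Q W))
    (hexW' : ¬ (Fintype.card F = 3 ∧
      finrank F (LinearMap.BilinForm.orthogonal (QuadraticMap.polarBilin Q) W) = 2 ∧
      Cfsg.Geo.IsPlusTypeOn ⇑Q (LinearMap.BilinForm.orthogonal (QuadraticMap.polarBilin Q) W))) :
    Cfsg.Geo.IsMaximalIn (Cfsg.Geo.omegaGL ⇑Q)
      (Cfsg.Geo.subspaceStabilizer W ⊓ Cfsg.Geo.omegaGL ⇑Q) := by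
  have hAS := orthSplit_orthogonal hQ W hW
  refine nd_subspace_stab_isMaximalIn_gen hQ hn W hW0 hW1 hW hdim
    (irrHyp_of_odd h2 (hAS.ndOn_left hQ) ?_) (irrHyp_of_odd h2 (hAS.ndOn_right hQ) ?_)
  · intro hc a ha b hb haQ hbQ hab hsp
    obtain ⟨h5, h6⟩ := isPlusTypeOn_of_pair h2 _ ha hb haQ hbQ hab hsp
    exact hexW ⟨hc, h5, h6⟩
  · intro hc a ha b hb haQ hbQ hab hsp
    obtain ⟨h5, h6⟩ := isPlusTypeOn_of_pair h2 _ ha hb haQ hbQ hab hsp
    exact hexW' ⟨hc, h5, h6⟩

/-- `NdOn` gives the `Geo` non-degeneracy -/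
theorem geo_nd_of_ndOn {S : Submodule F (ι → F)} (hS : NdOn Q S) :
    Cfsg.Geo.IsNondegenerateOn (QuadraticMap.polar ⇑Q) S := by
  intro w hw hw0
  have h1 : ∃ x ∈ S, polar ⇑Q w x ≠ 0 := by
    by_contra hcon
    push Not at hcon
    exact hw0 (hS w hw hcon)
  obtain ⟨x, hx, hwx⟩ := h1
  exact ⟨⟨x, hx, by rw [polar_comm]; exact hwx⟩, ⟨x, hx, hwx⟩⟩

/-- **Maximality of the stabiliser of a non-degenerate subspace** `W` with `2 dim W ≠ n`, any
characteristic, with the exclusion phrased as in the statements. -/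
theorem nd_subspace_stab_isMaximalIn_geo [Fintype F]
    (hQ : (QuadraticMap.polarBilin Q).Nondegenerate)
    (hn : 13 ≤ Fintype.card ι) (W : Submodule F (ι → F)) (hW0 : W ≠ ⊥) (hW1 : W ≠ ⊤)
    (hW : Cfsg.Geo.IsNondegenerateOn (QuadraticMap.polar ⇑Q) W)
    (hdim : 2 * finrank F W ≠ Fintype.card ι)
    (hex : ¬ (Fintype.card F ≤ 3 ∧ (∃ U : Submodule F (ι → F), finrank F U = 2 ∧
      Cfsg.Geo.IsNondegenerateOn (QuadraticMap.polar ⇑Q) U ∧ Cfsg.Geo.IsPlusTypeOn ⇑Q U ∧
      (U = W ∨ (Cfsg.Geo.AreOrthogonalFor (QuadraticMap.polar ⇑Q) U W ∧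
        finrank F U + finrank F W = Fintype.card ι))))) :
    Cfsg.Geo.IsMaximalIn (Cfsg.Geo.omegaGL ⇑Q)
      (Cfsg.Geo.subspaceStabilizer W ⊓ Cfsg.Geo.omegaGL ⇑Q) := by
  have hAS := orthSplit_orthogonal hQ W hW
  refine nd_subspace_stab_isMaximalIn_all hQ hn W hW0 hW1 hW hdim ?_ ?_
  · rintro ⟨hc, h5, h6⟩
    exact hex ⟨hc, W, h5, hW, h6, Or.inl rfl⟩
  · rintro ⟨hc, h5, h6⟩
    refine hex ⟨hc, _, h5, geo_nd_of_ndOn (hAS.ndOn_right hQ), h6, Or.inr ⟨?_, ?_⟩⟩
    · intro u hu v hv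
      rw [polar_comm]
      exact hAS.orth v hv u hu
    · have hd := LinearMap.BilinForm.finrank_orthogonal hQ W
      rw [Module.finrank_fintype_fun_eq_card] at hd
      have hle := Submodule.finrank_le W
      rw [Module.finrank_fintype_fun_eq_card] at hle
      omega

end Cfsg.Agent.Helper12.OmNd
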