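import Mathlib
import Cfsg.Prelude.Def_ClassicalGeometry
import Cfsg.Prelude.Def_GeometricClasses
import Cfsg.Agent.Helper12.OmNdH

/-!
# The orthogonal sum of two isometric non-degenerate spaces of even dimension is of plus type
-/

set_option autoImplicit false
set_option linter.unusedSectionVars false

namespace Cfsg.Agent.Helper12.OmNd

open Matrix QuadraticMap Module Cfsg.Agent.Helper44 Cfsg.Agent.Helper45.OmegaParity
open Cfsg.Agent

variable {F : Type*} [Field F] {ι : Type} [Fintype ι] [DecidableEq ι]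
variable {Q : QuadraticForm F (ι → F)}

theorem polar_map_of_isometry (σ : (ι → F) →ₗ[F] (ι → F)) (hσ : ∀ x, Q (σ x) = Q x)
    (x y : ι → F) : polar ⇑Q (σ x) (σ y) = polar ⇑Q x y := by
  unfold polar
  rw [← map_add, hσ, hσ, hσ]

/-- non-degeneracy passes to the orthogonal complement of a non-isotropic vector -/
theorem ndOn_inf_perp {X : Submodule F (ι → F)} (hX : NdOn Q X) {e : ι → F} (heX : e ∈ X)
    (he : polar ⇑Q e e ≠ 0) : NdOn Q (X ⊓ LinearMap.ker (QuadraticMap.polarBilin Q e)) := by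
  intro x hx hor
  have hxX : x ∈ X := hx.1
  have hex : polar ⇑Q e x = 0 := (mem_inf_perp.1 hx).2
  apply hX x hxX
  intro y hy
  have hy₁ : y - (polar ⇑Q e y / polar ⇑Q e e) • e ∈
      X ⊓ LinearMap.ker (QuadraticMap.polarBilin Q e) := by
    rw [mem_inf_perp]
    refine ⟨X.sub_mem hy (X.smul_mem _ heX), ?_⟩
    rw [polar_sub_right, polar_smul_right, smul_eq_mul, div_mul_cancel₀ _ he, sub_self]
  have h1 := hor _ hy₁
  rw [polar_sub_right, polar_smul_right, polar_comm ⇑Q x e, hex, smul_zero, sub_zero] at h1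
  exact h1

theorem finrank_inf_perp_of_ne {X : Submodule F (ι → F)} {e : ι → F} (heX : e ∈ X)
    (he : polar ⇑Q e e ≠ 0) :
    finrank F X = finrank F ↥(X ⊓ LinearMap.ker (QuadraticMap.polarBilin Q e)) + 1 := by
  have h1 := finrank_le_inf_perp (Q := Q) X e
  have hlt : X ⊓ LinearMap.ker (QuadraticMap.polarBilin Q e) < X := by
    refine lt_of_le_of_ne inf_le_left ?_
    intro heq
    have : e ∈ X ⊓ LinearMap.ker (QuadraticMap.polarBilin Q e) := by rw [heq]; exact heX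
    exact he (mem_inf_perp.1 this).2
  have h3 := Submodule.finrank_lt_finrank_of_lt hlt
  omega

/-- a non-zero non-degenerate subspace contains a non-singular vector (odd characteristic) -/
theorem exists_nonsingular_in (h2 : (2 : F) ≠ 0) {X : Submodule F (ι → F)} (hX : NdOn Q X)
    (h0 : 0 < finrank F X) : ∃ e ∈ X, Q e ≠ 0 ∧ polar ⇑Q e e ≠ 0 := by
  have key : ∀ e : ι → F, Q e ≠ 0 → polar ⇑Q e e ≠ 0 := by
    intro e he
    rw [QuadraticMap.polar_self, nsmul_eq_mul]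
    push_cast
    exact mul_ne_zero h2 he
  obtain ⟨x, hxX, hx0⟩ := exists_ne_zero_of_finrank_pos X h0
  obtain ⟨y, hyX, hxy⟩ : ∃ y ∈ X, polar ⇑Q x y ≠ 0 := by
    by_contra hcon
    push Not at hcon
    exact hx0 (hX x hxX hcon)
  by_cases hx : Q x = 0
  · by_cases hy : Q y = 0
    · have h1 : Q (x + y) ≠ 0 := by
        rw [QuadraticMap.map_add ⇑Q, hx, hy, zero_add, zero_add]
        exact hxy
      exact ⟨x + y, X.add_mem hxX hyX, h1, key _ h1⟩
    · exact ⟨y, hyX, hy, key _ hy⟩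
  · exact ⟨x, hxX, hx, key _ hx⟩

/-- **doubling**: if `σ` is an isometry with `X ⊥ σ X` and `X` is non-degenerate of even dimension
`2 j`, then `X + σ X` contains a totally singular subspace of dimension `2 j` (odd
characteristic) -/
theorem exists_ts_double [Fintype F] (h2 : (2 : F) ≠ 0) (σ : (ι → F) →ₗ[F] (ι → F))
    (hσ : ∀ x, Q (σ x) = Q x) :
    ∀ (j : ℕ) (X : Submodule F (ι → F)), NdOn Q X → finrank F X = 2 * j →
      (∀ x ∈ X, ∀ x' ∈ X, polar ⇑Q x (σ x') = 0) →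
      ∃ U : Submodule F (ι → F), (∀ u ∈ U, ∃ x ∈ X, ∃ x' ∈ X, u = x + σ x') ∧
        (∀ u ∈ U, Q u = 0) ∧ finrank F U = 2 * j := by
  intro j
  induction j with
  | zero =>
    intro X _ _ _
    refine ⟨⊥, ?_, ?_, by rw [finrank_bot]⟩
    · intro u hu
      rw [Submodule.mem_bot] at hu
      exact ⟨0, X.zero_mem, 0, X.zero_mem, by rw [hu, map_zero, add_zero]⟩
    · intro u hu
      rw [Submodule.mem_bot] at hu
      rw [hu, map_zero]
  | succ j ih =>
    intro X hX hfr hXσ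
    obtain ⟨e₁, he₁X, ha₁, he₁e₁⟩ := exists_nonsingular_in h2 hX (by omega)
    have hX₁ := ndOn_inf_perp hX he₁X he₁e₁
    have hfr₁ := finrank_inf_perp_of_ne he₁X he₁e₁
    obtain ⟨e₂, he₂X₁, ha₂, he₂e₂⟩ := exists_nonsingular_in h2 hX₁ (by omega)
    have hX₂ := ndOn_inf_perp hX₁ he₂X₁ he₂e₂
    have hfr₂ := finrank_inf_perp_of_ne he₂X₁ he₂e₂
    have he₂X : e₂ ∈ X := he₂X₁.1
    have he₁e₂ : polar ⇑Q e₁ e₂ = 0 := (mem_inf_perp.1 he₂X₁).2
    have hX₂X : ∀ x ∈ X ⊓ LinearMap.ker (QuadraticMap.polarBilin Q e₁) ⊓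
        LinearMap.ker (QuadraticMap.polarBilin Q e₂), x ∈ X := fun x hx => hx.1.1
    have hX₂e₁ : ∀ x ∈ X ⊓ LinearMap.ker (QuadraticMap.polarBilin Q e₁) ⊓
        LinearMap.ker (QuadraticMap.polarBilin Q e₂), polar ⇑Q e₁ x = 0 :=
      fun x hx => (mem_inf_perp.1 hx.1).2
    have hX₂e₂ : ∀ x ∈ X ⊓ LinearMap.ker (QuadraticMap.polarBilin Q e₁) ⊓
        LinearMap.ker (QuadraticMap.polarBilin Q e₂), polar ⇑Q e₂ x = 0 :=
      fun x hx => (mem_inf_perp.1 hx).2
    obtain ⟨U₂, hU₂mem, hU₂ts, hU₂fr⟩ := ih _ hX₂ (by omega)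
      (fun x hx x' hx' => hXσ x (hX₂X x hx) x' (hX₂X x' hx'))
    obtain ⟨α, β, hαβ⟩ := Cfsg.Agent.Helper13.exists_binary_eq_one h2
      (a := -(Q e₁) / Q e₂) (b := -(Q e₁) / Q e₂)
      (div_ne_zero (neg_ne_zero.2 ha₁) ha₂) (div_ne_zero (neg_ne_zero.2 ha₁) ha₂)
    have hrel : Q e₁ * (α * α + β * β) + Q e₂ = 0 := by
      field_simp at hαβ
      linear_combination -hαβ
    -- the polar table
    obtain ⟨s₁, hs₁⟩ : ∃ s₁, s₁ = σ e₁ := ⟨_, rfl⟩
    obtain ⟨s₂, hs₂⟩ : ∃ s₂, s₂ = σ e₂ := ⟨_, rfl⟩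
    have hQs₁ : Q s₁ = Q e₁ := by rw [hs₁, hσ]
    have hQs₂ : Q s₂ = Q e₂ := by rw [hs₂, hσ]
    have he₂e₁ : polar ⇑Q e₂ e₁ = 0 := by rw [polar_comm]; exact he₁e₂
    have h11 : polar ⇑Q e₁ s₁ = 0 := by rw [hs₁]; exact hXσ e₁ he₁X e₁ he₁X
    have h12 : polar ⇑Q e₁ s₂ = 0 := by rw [hs₂]; exact hXσ e₁ he₁X e₂ he₂X
    have h21 : polar ⇑Q e₂ s₁ = 0 := by rw [hs₁]; exact hXσ e₂ he₂X e₁ he₁X
    have h22 : polar ⇑Q e₂ s₂ = 0 := by rw [hs₂]; exact hXσ e₂ he₂X e₂ he₂X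
    have hs11 : polar ⇑Q s₁ e₁ = 0 := by rw [polar_comm]; exact h11
    have hs12 : polar ⇑Q s₁ e₂ = 0 := by rw [polar_comm]; exact h21
    have hs21 : polar ⇑Q s₂ e₁ = 0 := by rw [polar_comm]; exact h12
    have hs22 : polar ⇑Q s₂ e₂ = 0 := by rw [polar_comm]; exact h22
    have hss12 : polar ⇑Q s₁ s₂ = 0 := by rw [hs₁, hs₂, polar_map_of_isometry σ hσ, he₁e₂]
    have hss21 : polar ⇑Q s₂ s₁ = 0 := by rw [polar_comm]; exact hss12
    have hss11 : polar ⇑Q s₁ s₁ = polar ⇑Q e₁ e₁ := by rw [hs₁, polar_map_of_isometry σ hσ]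
    have hss22 : polar ⇑Q s₂ s₂ = polar ⇑Q e₂ e₂ := by rw [hs₂, polar_map_of_isometry σ hσ]
    have hee11 : polar ⇑Q e₁ e₁ = 2 * Q e₁ := by
      rw [QuadraticMap.polar_self, nsmul_eq_mul]; push_cast; rfl
    have hee22 : polar ⇑Q e₂ e₂ = 2 * Q e₂ := by
      rw [QuadraticMap.polar_self, nsmul_eq_mul]; push_cast; rfl
    obtain ⟨t₁, ht₁⟩ : ∃ t₁, t₁ = α • e₁ + β • s₁ + e₂ := ⟨_, rfl⟩
    obtain ⟨t₂, ht₂⟩ : ∃ t₂, t₂ = (-β) • e₁ + α • s₁ + s₂ := ⟨_, rfl⟩
    have hQt₁ : Q t₁ = 0 := by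
      rw [ht₁]
      simp only [QuadraticMap.map_add ⇑Q, QuadraticMap.map_smul, polar_add_left, polar_smul_left,
        polar_smul_right, h11, h21, he₁e₂, hs12, hQs₁, smul_eq_mul]
      linear_combination hrel
    have hQt₂ : Q t₂ = 0 := by
      rw [ht₂]
      simp only [QuadraticMap.map_add ⇑Q, QuadraticMap.map_smul, polar_add_left, polar_smul_left,
        polar_smul_right, h11, h12, hss12, hQs₁, hQs₂, smul_eq_mul]
      linear_combination hrel
    have ht₁t₂ : polar ⇑Q t₁ t₂ = 0 := by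
      rw [ht₁, ht₂]
      simp only [polar_add_left, polar_add_right, polar_smul_left, polar_smul_right, h11, h12,
        h21, h22, hs11, hs12, hss12, hss11, he₂e₁, smul_eq_mul]
      ring
    -- pairing with `e₂` and `s₂`
    have hφ₁t₁ : polar ⇑Q e₂ t₁ = 2 * Q e₂ := by
      rw [ht₁]
      simp only [polar_add_right, polar_smul_right, he₂e₁, h21, hee22, smul_eq_mul]
      ring
    have hφ₁t₂ : polar ⇑Q e₂ t₂ = 0 := by
      rw [ht₂]
      simp only [polar_add_right, polar_smul_right, he₂e₁, h21, h22, smul_eq_mul]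
      ring
    have hφ₂t₁ : polar ⇑Q s₂ t₁ = 0 := by
      rw [ht₁]
      simp only [polar_add_right, polar_smul_right, hs21, hss21, hs22, smul_eq_mul]
      ring
    have hφ₂t₂ : polar ⇑Q s₂ t₂ = 2 * Q e₂ := by
      rw [ht₂]
      simp only [polar_add_right, polar_smul_right, hs21, hss21, hss22, hee22, smul_eq_mul]
      ring
    have h2a₂ : (2 : F) * Q e₂ ≠ 0 := mul_ne_zero h2 ha₂
    -- `U₂` is orthogonal to `e₁, e₂, s₁, s₂`
    have hU₂e : ∀ u ∈ U₂, polar ⇑Q e₁ u = 0 ∧ polar ⇑Q e₂ u = 0 ∧ polar ⇑Q s₁ u = 0 ∧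
        polar ⇑Q s₂ u = 0 := by
      intro u hu
      obtain ⟨x, hx, x', hx', rfl⟩ := hU₂mem u hu
      refine ⟨?_, ?_, ?_, ?_⟩
      · rw [polar_add_right, hX₂e₁ x hx, hXσ e₁ he₁X x' (hX₂X x' hx'), add_zero]
      · rw [polar_add_right, hX₂e₂ x hx, hXσ e₂ he₂X x' (hX₂X x' hx'), add_zero]
      · rw [polar_add_right, hs₁, polar_map_of_isometry σ hσ, hX₂e₁ x' hx', polar_comm,
          hXσ x (hX₂X x hx) e₁ he₁X, add_zero]
      · rw [polar_add_right, hs₂, polar_map_of_isometry σ hσ, hX₂e₂ x' hx', polar_comm,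
          hXσ x (hX₂X x hx) e₂ he₂X, add_zero]
    have hU₂t : ∀ u ∈ U₂, polar ⇑Q u t₁ = 0 ∧ polar ⇑Q u t₂ = 0 := by
      intro u hu
      obtain ⟨h1, h3, h4, h5⟩ := hU₂e u hu
      constructor
      · rw [ht₁]
        simp only [polar_add_right, polar_smul_right, polar_comm ⇑Q u e₁, polar_comm ⇑Q u e₂,
          polar_comm ⇑Q u s₁, h1, h3, h4, smul_zero, add_zero]
      · rw [ht₂]
        simp only [polar_add_right, polar_smul_right, polar_comm ⇑Q u e₁, polar_comm ⇑Q u s₂,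
          polar_comm ⇑Q u s₁, h1, h4, h5, smul_zero, add_zero]
    have hli : LinearIndependent F ![t₁, t₂] := by
      rw [LinearIndependent.pair_iff]
      intro c₁ c₂ hc
      have e1 : polar ⇑Q e₂ (c₁ • t₁ + c₂ • t₂) = 0 := by rw [hc, polar_zero_right]
      have e2 : polar ⇑Q s₂ (c₁ • t₁ + c₂ • t₂) = 0 := by rw [hc, polar_zero_right]
      rw [polar_add_right, polar_smul_right, polar_smul_right, hφ₁t₁, hφ₁t₂, smul_zero, add_zero,
        smul_eq_mul] at e1
      rw [polar_add_right, polar_smul_right, polar_smul_right, hφ₂t₁, hφ₂t₂, smul_zero, zero_add,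
        smul_eq_mul] at e2
      exact ⟨(mul_eq_zero.1 e1).resolve_right h2a₂, (mul_eq_zero.1 e2).resolve_right h2a₂⟩
    have hTmem : ∀ x ∈ Submodule.span F (Set.range ![t₁, t₂]), ∃ c₁ c₂ : F,
        x = c₁ • t₁ + c₂ • t₂ := by
      intro x hx
      rw [Matrix.range_cons, Matrix.range_cons, Matrix.range_empty, Set.union_empty,
        Set.singleton_union] at hx
      obtain ⟨c₁, c₂, rfl⟩ := Submodule.mem_span_pair.1 hx
      exact ⟨c₁, c₂, rfl⟩
    have hTfr : finrank F (Submodule.span F (Set.range ![t₁, t₂])) = 2 := by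
      rw [finrank_span_eq_card hli, Fintype.card_fin]
    have hdisj : U₂ ⊓ Submodule.span F (Set.range ![t₁, t₂]) = ⊥ := by
      rw [eq_bot_iff]
      rintro x ⟨hxU, hxT⟩
      rw [Submodule.mem_bot]
      obtain ⟨c₁, c₂, rfl⟩ := hTmem x hxT
      obtain ⟨-, h3, -, h5⟩ := hU₂e _ hxU
      rw [polar_add_right, polar_smul_right, polar_smul_right, hφ₁t₁, hφ₁t₂, smul_zero, add_zero,
        smul_eq_mul] at h3
      rw [polar_add_right, polar_smul_right, polar_smul_right, hφ₂t₁, hφ₂t₂, smul_zero, zero_add,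
        smul_eq_mul] at h5
      rw [(mul_eq_zero.1 h3).resolve_right h2a₂, (mul_eq_zero.1 h5).resolve_right h2a₂, zero_smul,
        zero_smul, add_zero]
    refine ⟨U₂ ⊔ Submodule.span F (Set.range ![t₁, t₂]), ?_, ?_, ?_⟩
    · intro u hu
      obtain ⟨u₂, hu₂, t, ht, rfl⟩ := Submodule.mem_sup.1 hu
      obtain ⟨x, hx, x', hx', rfl⟩ := hU₂mem u₂ hu₂
      obtain ⟨c₁, c₂, rfl⟩ := hTmem t ht
      refine ⟨x + c₁ • (α • e₁ + e₂) + c₂ • ((-β) • e₁),
        X.add_mem (X.add_mem (hX₂X x hx) (X.smul_mem _ (X.add_mem (X.smul_mem _ he₁X) he₂X)))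
          (X.smul_mem _ (X.smul_mem _ he₁X)),
        x' + c₁ • (β • e₁) + c₂ • (α • e₁ + e₂),
        X.add_mem (X.add_mem (hX₂X x' hx') (X.smul_mem _ (X.smul_mem _ he₁X)))
          (X.smul_mem _ (X.add_mem (X.smul_mem _ he₁X) he₂X)), ?_⟩
      rw [ht₁, ht₂, hs₁, hs₂]
      simp only [map_add, map_smul]
      module
    · intro u hu
      obtain ⟨u₂, hu₂, t, ht, rfl⟩ := Submodule.mem_sup.1 hu
      obtain ⟨c₁, c₂, rfl⟩ := hTmem t ht
      obtain ⟨h1, h3⟩ := hU₂t u₂ hu₂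
      rw [QuadraticMap.map_add ⇑Q, hU₂ts u₂ hu₂, QuadraticMap.map_add ⇑Q, QuadraticMap.map_smul,
        QuadraticMap.map_smul, hQt₁, hQt₂, polar_smul_left, polar_smul_right, ht₁t₂,
        polar_add_right, polar_smul_right, polar_smul_right, h1, h3]
      simp
    · have h1 := Submodule.finrank_sup_add_finrank_inf_eq U₂
        (Submodule.span F (Set.range ![t₁, t₂]))
      rw [hdisj, finrank_bot, hTfr, hU₂fr] at h1
      omega

/-- the graph construction when `-1` is a square (in particular in characteristic two) -/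
theorem exists_ts_graph (σ : (ι → F) →ₗ[F] (ι → F)) (hσ : ∀ x, Q (σ x) = Q x) (lam : F)
    (hlam : lam * lam = -1) (X : Submodule F (ι → F))
    (hXσ : ∀ x ∈ X, ∀ x' ∈ X, polar ⇑Q x (σ x') = 0)
    (hinj : ∀ x ∈ X, x + lam • σ x = 0 → x = 0) :
    ∃ U : Submodule F (ι → F), (∀ u ∈ U, Q u = 0) ∧ finrank F U = finrank F X := by
  refine ⟨X.map (LinearMap.id + lam • σ), ?_, ?_⟩
  · rintro _ ⟨x, hx, rfl⟩
    rw [LinearMap.add_apply, LinearMap.id_apply, LinearMap.smul_apply, QuadraticMap.map_add ⇑Q,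
      QuadraticMap.map_smul, hσ, polar_smul_right, hXσ x hx x hx, hlam]
    simp
  · have hinj' : Function.Injective ((LinearMap.id + lam • σ).domRestrict X) := by
      rw [← LinearMap.ker_eq_bot, LinearMap.ker_eq_bot']
      intro x hx
      apply Subtype.ext
      apply hinj x x.2
      have := hx
      rw [LinearMap.domRestrict_apply, LinearMap.add_apply, LinearMap.id_apply,
        LinearMap.smul_apply] at this
      exact this
    have h1 := LinearMap.finrank_range_of_inj hinj'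
    rw [LinearMap.range_domRestrict] at h1
    exact h1

/-- **the swap lemma**: an isometry mapping `A` into `A^⊥ = S`, with `2 dim A = n` and `dim A` even,
forces plus type -/
theorem isPlusType_of_swap [Fintype F] (hQ : (QuadraticMap.polarBilin Q).Nondegenerate)
    {A S : Submodule F (ι → F)} (hAS : OrthSplit Q A S) (g : Cfsg.isometryGroup F ⇑Q)
    (hg : ∀ a ∈ A, lin Q g a ∈ S) (hev : Even (finrank F A))
    (hfr : 2 * finrank F A = Fintype.card ι) : Cfsg.Geo.IsPlusTypeOn ⇑Q ⊤ := by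
  have hXσ : ∀ x ∈ A, ∀ x' ∈ A, polar ⇑Q x (lin Q g x') = 0 :=
    fun x hx x' hx' => hAS.orth x hx _ (hg x' hx')
  have hσ : ∀ x, Q (lin Q g x) = Q x := lin_isometry Q g
  obtain ⟨U, hUts, hUfr⟩ : ∃ U : Submodule F (ι → F), (∀ u ∈ U, Q u = 0) ∧
      finrank F U = finrank F A := by
    by_cases h2 : (2 : F) = 0
    · have hone : (1 : F) * 1 = -1 := by
        rw [one_mul, eq_neg_iff_add_eq_zero]
        have : (1 : F) + 1 = 2 := by norm_num
        rw [this, h2]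
      refine exists_ts_graph (lin Q g) hσ 1 hone A hXσ ?_
      intro x hx h0
      rw [one_smul] at h0
      have hxS : x ∈ S := by
        have e : x = -(lin Q g x) := eq_neg_of_add_eq_zero_left h0
        rw [e]
        exact S.neg_mem (hg x hx)
      exact hAS.eq_zero_of_mem hQ hx hxS
    · obtain ⟨j, hj⟩ := hev
      obtain ⟨U, -, hUts, hUfr⟩ := exists_ts_double h2 (lin Q g) hσ j A (hAS.ndOn_left hQ)
        (by omega) hXσ
      exact ⟨U, hUts, by omega⟩
  refine ⟨U, le_top, hUts, ?_⟩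
  rw [finrank_top, Module.finrank_fintype_fun_eq_card, hUfr, hfr]

end Cfsg.Agent.Helper12.OmNd
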