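import Mathlib
import Cfsg.Prelude.Def_Characters
import Cfsg.Prelude.Def_Perm
import Cfsg.Agent.Helper12.Orbital

/-!
# Orbital class functions: arbitrary representation spaces, scalar action in the
multiplicity-one case, and a semisimplicity lemma (helper12)
-/

set_option autoImplicit false

namespace Cfsg.Agent.Helper12.OrbitalGen

open Cfsg Module LinearMap
open Cfsg.Agent.Helper12.Orbital
open scoped ComplexConjugate

universe u v

section scalar

variable {G : Type u} [Group G] [Fintype G]
variable {V M : Type*} [AddCommGroup V] [Module ℂ V] [FiniteDimensional ℂ V]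
  [AddCommGroup M] [Module ℂ M] [FiniteDimensional ℂ M]

/-- If the space of intertwiners is one-dimensional, an endomorphism commuting with the group
acts on intertwiners by the twisted inner product. -/
theorem comp_eq_twisted_smul (ρ : Representation ℂ G V) (σ : Representation ℂ G M)
    (A : End ℂ M) (hA : ∀ g, A ∘ₗ σ g = σ g ∘ₗ A)
    (h1 : Module.finrank ℂ (Representation.linHom ρ σ).invariants = 1)
    {φ : V →ₗ[ℂ] M} (hφ : φ ∈ (Representation.linHom ρ σ).invariants) :
    A ∘ₗ φ = ((Nat.card G : ℂ)⁻¹ * ∑ g : G, trace ℂ M (A ∘ₗ σ g) * ρ.character g⁻¹) • φ := by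
  rw [← HomTrace.trace_T ρ σ A hA]
  set T := HomTrace.T ρ σ A hA with hT
  obtain ⟨e, he, hspan⟩ := _root_.finrank_eq_one_iff'.mp h1
  obtain ⟨c₀, hc₀⟩ := hspan (T e)
  have hscal : ∀ w, T w = c₀ • w := by
    intro w
    obtain ⟨c, rfl⟩ := hspan w
    rw [map_smul, ← hc₀, smul_comm]
  have hT' : T = c₀ • LinearMap.id := by
    ext w : 1
    rw [hscal w]; rfl
  have htr : trace ℂ _ T = c₀ := by
    rw [hT', map_smul, LinearMap.trace_id, h1]
    simp
  rw [htr]
  have := hscal ⟨φ, hφ⟩
  have h2 := congrArg (fun w : (Representation.linHom ρ σ).invariants =>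
    (w : V →ₗ[ℂ] M)) this
  rw [hT, HomTrace.T_apply] at h2
  exact h2

end scalar

section general

variable {G : Type u} [Group G] [Fintype G] {Ω : Type*} [Fintype Ω] [DecidableEq Ω]
  [MulAction G Ω]
variable {U : Type v} [AddCommGroup U] [Module ℂ U] [FiniteDimensional ℂ U]
variable (R : Ω → Ω → Prop) [DecidableRel R]

theorem classInner_theta_rep' (τ : Representation ℂ G U) :
    classInner (theta (G := G) R) τ.character =
      (Nat.card G : ℂ)⁻¹ *
        ∑ g : G, trace ℂ _ (adj R ∘ₗ permRep ℂ G Ω g) * τ.character g⁻¹ := by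
  unfold classInner
  congr 1
  refine Finset.sum_congr rfl fun g _ => ?_
  rw [trace_adj_comp, Helper74.char_inv (Helper74.isCharacter_of_rep τ)]
  rfl

theorem classInner_perm_rep' (τ : Representation ℂ G U) :
    classInner (fun g : G => (Nat.card (MulAction.fixedBy Ω g) : ℂ)) τ.character =
      (Module.finrank ℂ (Representation.linHom τ (permRep ℂ G Ω)).invariants : ℂ) := by
  have hne : (Nat.card G : ℂ) ≠ 0 := by exact_mod_cast Nat.card_pos.ne'
  let _ : Invertible (Nat.card G : ℂ) := invertibleOfNonzero hne
  rw [(Representation.invariantsEquivIntertwiningMap τ (permRep ℂ G Ω)).finrank_eq,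
    ← Representation.card_inv_mul_sum_char_mul_char_eq_finrank]
  unfold classInner
  congr 1
  refine Finset.sum_congr rfl fun g _ => ?_
  rw [permRep_character, Helper74.char_inv (Helper74.isCharacter_of_rep τ)]

/-- In the multiplicity-one case the adjacency operator acts on intertwiners by the scalar
`⟨θ_R, χ⟩`. -/
theorem adj_comp_eq_smul (hR : ∀ (g : G) x y, R (g • x) (g • y) ↔ R x y)
    (τ : Representation ℂ G U)
    (h1 : Module.finrank ℂ (Representation.linHom τ (permRep ℂ G Ω)).invariants = 1)
    {φ : U →ₗ[ℂ] (Ω → ℂ)} (hφ : φ ∈ (Representation.linHom τ (permRep ℂ G Ω)).invariants) :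
    adj R ∘ₗ φ = classInner (theta (G := G) R) τ.character • φ := by
  rw [classInner_theta_rep']
  exact comp_eq_twisted_smul τ (permRep ℂ G Ω) (adj R) (adj_comm G R hR) h1 hφ

end general

section semisimple

variable {G : Type u} [Group G] [Finite G]

/-- A linear map vanishing on the images of all intertwiners from irreducible representations
vanishes. -/
theorem eq_zero_of_comp_irr_aux {X : Type*} [AddCommGroup X] [Module ℂ X] (n : ℕ) :
    ∀ (V : Type v) [AddCommGroup V] [Module ℂ V] [FiniteDimensional ℂ V]
      (ρ : Representation ℂ G V) (N : V →ₗ[ℂ] X), Module.finrank ℂ V = n →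
      (∀ (U : Type v) [AddCommGroup U] [Module ℂ U] [FiniteDimensional ℂ U]
        (τ : Representation ℂ G U), τ.IsIrreducible → ∀ φ : U →ₗ[ℂ] V,
        (∀ g, φ ∘ₗ τ g = ρ g ∘ₗ φ) → N ∘ₗ φ = 0) → N = 0 := by
  induction n using Nat.strong_induction_on with
  | _ n ih =>
    intro V _ _ _ ρ N hn hN
    by_cases hirr : ρ.IsIrreducible
    · have := hN V ρ hirr LinearMap.id (fun g => by simp)
      simpa using this
    by_cases htriv : Subsingleton V
    · ext v
      rw [Subsingleton.elim v 0, map_zero, map_zero]
    rw [not_subsingleton_iff_nontrivial] at htriv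
    have hex : ∃ S : Subrepresentation ρ, S ≠ ⊥ ∧ S ≠ ⊤ := by
      by_contra hcon
      push Not at hcon
      apply hirr
      have : Nontrivial (Subrepresentation ρ) := by
        refine ⟨⊥, ⊤, fun h => ?_⟩
        have h2 : (⊥ : Subrepresentation ρ).toSubmodule = (⊤ : Subrepresentation ρ).toSubmodule := by
          rw [h]
        have h3 : (⊥ : Submodule ℂ V) = ⊤ := h2
        exact bot_ne_top h3
      exact ⟨fun S => by
        by_cases hS : S = ⊥
        · exact Or.inl hS
        · exact Or.inr (hcon S hS)⟩
    obtain ⟨S, hS0, hS1⟩ := hex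
    have : NeZero (Nat.card G : ℂ) := ⟨by exact_mod_cast Nat.card_pos.ne'⟩
    obtain ⟨T, hT⟩ := exists_isCompl S
    have hcompl : IsCompl S.toSubmodule T.toSubmodule := by
      constructor
      · rw [disjoint_iff]
        have := hT.1
        rw [disjoint_iff] at this
        exact congrArg Subrepresentation.toSubmodule this
      · rw [codisjoint_iff]
        have := hT.2
        rw [codisjoint_iff] at this
        exact congrArg Subrepresentation.toSubmodule this
    have hSlt : Module.finrank ℂ S.toSubmodule < n := by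
      rw [← hn]
      apply Submodule.finrank_lt
      intro h
      exact hS1 (Subrepresentation.toSubmodule_injective h)
    have hTlt : Module.finrank ℂ T.toSubmodule < n := by
      rw [← hn]
      apply Submodule.finrank_lt
      intro h
      apply hS0
      have : S.toSubmodule = ⊥ := by
        have := hcompl.1
        rw [h] at this
        exact disjoint_top.mp this
      exact Subrepresentation.toSubmodule_injective this
    have hsub : ∀ W : Subrepresentation ρ, Module.finrank ℂ W.toSubmodule < n →
        N ∘ₗ W.toSubmodule.subtype = 0 := by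
      intro W hW
      refine ih _ hW _ W.toRepresentation _ rfl ?_
      intro U _ _ _ τ hτ φ hφ
      have := hN U τ hτ (W.toSubmodule.subtype ∘ₗ φ) (fun g => by
        ext x
        have := congrArg (fun F => (F x : V)) (hφ g)
        simpa [Subrepresentation.toRepresentation] using this)
      rw [LinearMap.comp_assoc]
      exact this
    have h1 := hsub S hSlt
    have h2 := hsub T hTlt
    ext v
    have hv : v ∈ S.toSubmodule ⊔ T.toSubmodule := by
      rw [hcompl.sup_eq_top]; trivial
    obtain ⟨s, hs, t, ht, rfl⟩ := Submodule.mem_sup.mp hv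
    have e1 := congrArg (fun F => F ⟨s, hs⟩) h1
    have e2 := congrArg (fun F => F ⟨t, ht⟩) h2
    simp only [LinearMap.comp_apply, Submodule.subtype_apply, LinearMap.zero_apply] at e1 e2
    rw [map_add, e1, e2, add_zero, LinearMap.zero_apply]

theorem eq_zero_of_comp_irr {X : Type*} [AddCommGroup X] [Module ℂ X]
    {V : Type v} [AddCommGroup V] [Module ℂ V] [FiniteDimensional ℂ V]
    (ρ : Representation ℂ G V) (N : V →ₗ[ℂ] X)
    (hN : ∀ (U : Type v) [AddCommGroup U] [Module ℂ U] [FiniteDimensional ℂ U]
        (τ : Representation ℂ G U), τ.IsIrreducible → ∀ φ : U →ₗ[ℂ] V,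
        (∀ g, φ ∘ₗ τ g = ρ g ∘ₗ φ) → N ∘ₗ φ = 0) : N = 0 :=
  eq_zero_of_comp_irr_aux _ V ρ N rfl hN

end semisimple

end Cfsg.Agent.Helper12.OrbitalGen
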