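import Cfsg.Agent.Helper86.PG63.Defs
import Cfsg.Agent.Helper6.Sz2

/-!
# Piece (CMP1) of S3664 (helper86's plan, board #9537): the Frobenius-fixed elements `t2`, `t5`
-/

set_option autoImplicit false

namespace Cfsg.Agent.Helper12.PG63

open Cfsg Cfsg.Agent.Helper86.PG63 Cfsg.Agent.Helper6

/-- the matrix of `t5` -/
def m5 : M4 := !![0, 0, 0, 1; 0, 0, 1, 0; 0, 1, 0, 1; 1, 0, 1, 1]

/-- its square -/
def m5sq : M4 := !![1, 0, 1, 1; 0, 1, 0, 1; 1, 0, 0, 1; 1, 1, 1, 1]

/-- its fourth power -/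
def m5qu : M4 := !![1, 1, 0, 1; 1, 0, 1, 0; 0, 1, 0, 0; 1, 0, 0, 0]

theorem m5_mul_self : m5 * m5 = m5sq := by
  ext i j
  fin_cases i <;> fin_cases j <;> simp [m5, m5sq, Matrix.mul_apply, Fin.sum_univ_four] <;> decide

theorem m5sq_mul_self : m5sq * m5sq = m5qu := by
  ext i j
  fin_cases i <;> fin_cases j <;> simp [m5sq, m5qu, Matrix.mul_apply, Fin.sum_univ_four] <;> decide

theorem m5qu_mul : m5qu * m5 = 1 := by
  ext i j
  fin_cases i <;> fin_cases j <;> simp [m5, m5qu, Matrix.mul_apply, Fin.sum_univ_four] <;> decide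

theorem t5_coe : (t5 : M4) = m5 := by
  unfold t5
  rw [Matrix.SpecialLinearGroup.coe_mul]
  show tMat F8 * uMat (0 : F8) 1 ((0 : F8) ^ (2 ^ (1 + 1))) (ovF F8 1 0 1) = m5
  have h1 : ovF F8 1 0 1 = 1 := by decide
  have h2 : ((0 : F8) ^ (2 ^ (1 + 1))) = 0 := by decide
  rw [h1, h2]
  ext i j
  fin_cases i <;> fin_cases j <;> simp [m5, tMat, uMat, Matrix.mul_apply, Fin.sum_univ_four]

theorem tMat_mul_self : tMat F8 * tMat F8 = 1 := by
  ext i j
  fin_cases i <;> fin_cases j <;> simp [tMat, Matrix.mul_apply, Fin.sum_univ_four]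

theorem t2_coe : (t2 : M4) = tMat F8 := rfl

theorem frobSL_coe (g : SL4) : ((frobSL g : SL4) : M4) = (g : M4).map frobF8 := rfl

/-- (CMP1) the Frobenius-fixed elements `t2`, `t5` -/
theorem t2_facts : t2 ∈ SzG ∧ frobSL t2 = t2 ∧ orderOf t2 = 2 := by
  refine ⟨szT_mem F8.card_eq', ?_, ?_⟩
  · apply Subtype.ext
    rw [frobSL_coe, t2_coe]
    ext i j
    fin_cases i <;> fin_cases j <;> simp [tMat]
  · have : Fact (Nat.Prime 2) := ⟨Nat.prime_two⟩
    apply orderOf_eq_prime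
    · apply Subtype.ext
      rw [Matrix.SpecialLinearGroup.coe_pow, t2_coe, pow_two, tMat_mul_self]
      rfl
    · intro h
      have h' := congrArg (fun g : SL4 => (g : M4) 0 0) h
      simp only [t2_coe, Matrix.SpecialLinearGroup.coe_one] at h'
      revert h'
      simp [tMat]

theorem t5_facts : t5 ∈ SzG ∧ frobSL t5 = t5 ∧ orderOf t5 = 5 := by
  refine ⟨mul_mem (szT_mem F8.card_eq') (szU_mem F8.card_eq' 0 1), ?_, ?_⟩
  · apply Subtype.ext
    rw [frobSL_coe, t5_coe]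
    ext i j
    fin_cases i <;> fin_cases j <;> simp [m5]
  · have : Fact (Nat.Prime 5) := ⟨by norm_num⟩
    apply orderOf_eq_prime
    · apply Subtype.ext
      rw [Matrix.SpecialLinearGroup.coe_pow, t5_coe]
      have h : m5 ^ 5 = (m5 * m5) * (m5 * m5) * m5 := by
        rw [pow_succ, pow_succ, pow_succ, pow_two, mul_assoc (m5 * m5)]
      rw [h, m5_mul_self, m5sq_mul_self, m5qu_mul]
      rfl
    · intro h
      have h' := congrArg (fun g : SL4 => (g : M4) 0 0) h
      simp only [t5_coe, Matrix.SpecialLinearGroup.coe_one] at h'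
      revert h'
      simp [m5]

end Cfsg.Agent.Helper12.PG63
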