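import Mathlib
import Cfsg.Prelude.Def_Classical
import Cfsg.Agent.Helper99.PGDefs
import Cfsg.Agent.Helper99.BCDefs
import Cfsg.Agent.Helper99.BCLin
import Cfsg.Agent.Helper44.Spinor
import Cfsg.Agent.Helper44.StdForms
import Cfsg.Agent.Helper44.OrthOddA
import Cfsg.Agent.Helper51.BCCT1
import Cfsg.Agent.Helper87.BCLA9
import Cfsg.Agent.Helper93.BCLA1
import Cfsg.Agent.Helper99.BCOrthB

/-!
# (O7) for S2474 (helper99): the sign of `(-1) ⊕ 1` on the level sets of `x₀² + Σ xᵢ yᵢ`
-/

set_option autoImplicit false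

universe u

namespace Cfsg.Agent.Helper12.PG

open Module Matrix Cfsg.Agent.Helper99.BC Cfsg.Agent.Helper99.PG Cfsg.Agent.Helper44

section abstractPerm

variable {α : Type*} [Fintype α] [DecidableEq α]

/-- the sign of an involution from its number of fixed points -/
theorem sign_involution_card (σ : Equiv.Perm α) (hσ : σ ^ 2 = 1) (N : ℕ)
    (hN : Nat.card {x : α // σ x = x} = N) :
    Equiv.Perm.sign σ = (-1) ^ ((Fintype.card α - N) / 2) := by
  rw [Equiv.Perm.sign_of_pow_two_eq_one hσ]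
  have h : Fintype.card (Function.fixedPoints σ) = N := by
    rw [← hN, ← Nat.card_eq_fintype_card]
    rfl
  rw [h]

/-- orbit counting for a permutation of prime order -/
theorem card_modEq_fixed (σ : Equiv.Perm α) (p : ℕ) (hp : p.Prime) (hσ : σ ^ p = 1) (N : ℕ)
    (hN : Nat.card {x : α // σ x = x} = N) :
    Fintype.card α ≡ N [MOD p] := by
  have : Fact p.Prime := ⟨hp⟩
  have h1 := Equiv.Perm.card_compl_support_modEq (σ := σ) (p := p) (n := 1) (by rwa [pow_one])
  have h2 : σ.supportᶜ.card = N := by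
    rw [← hN, Nat.card_eq_fintype_card, Fintype.card_subtype]
    congr 1
    ext x
    simp [Equiv.Perm.mem_support]
  rw [h2] at h1
  exact h1.symm

end abstractPerm

/-- parity bookkeeping for `(|X_c| - |X_c ∩ L|) / 2` -/
theorem arith_parity (Q : ℕ) (hQ : Odd Q) (hQ3 : 3 ≤ Q) :
    (Even ((Q * Q + Q - 2) / 2) ↔ 4 ∣ Q - 1) ∧ (Even ((Q * Q - Q - 0) / 2) ↔ 4 ∣ Q - 1) ∧
    (Even ((Q * Q + Q - 0) / 2) ↔ 4 ∣ Q + 1) ∧ (Even ((Q * Q - Q - 2) / 2) ↔ 4 ∣ Q + 1) := by
  obtain ⟨k, rfl⟩ := hQ
  rcases Nat.even_or_odd' k with ⟨j, rfl | rfl⟩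
  · have e : (2 * (2 * j) + 1) * (2 * (2 * j) + 1) = 16 * (j * j) + 8 * j + 1 := by ring
    rw [e]
    generalize j * j = J
    simp only [Nat.even_iff]
    refine ⟨?_, ?_, ?_, ?_⟩ <;> omega
  · have e : (2 * (2 * j + 1) + 1) * (2 * (2 * j + 1) + 1) = 16 * (j * j) + 24 * j + 9 := by ring
    rw [e]
    generalize j * j = J
    simp only [Nat.even_iff]
    refine ⟨?_, ?_, ?_, ?_⟩ <;> omega

variable {F : Type u} [Field F] [Fintype F]

/-- `s ∤ |F|` gives `s ≠ 0` in `F` -/
theorem natCast_ne_zero_of_not_dvd_card (s : ℕ) (hs : s.Prime) (hsq : ¬ s ∣ Fintype.card F) :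
    (s : F) ≠ 0 := by
  intro h
  apply hsq
  have h1 : addOrderOf (1 : F) ∣ s := by
    rw [addOrderOf_dvd_iff_nsmul_eq_zero, nsmul_eq_mul, mul_one]
    exact h
  rcases (Nat.dvd_prime hs).1 h1 with h2 | h2
  · rw [AddMonoid.addOrderOf_eq_one_iff] at h2
    exact absurd h2 one_ne_zero
  · rw [← h2]
    exact addOrderOf_dvd_card

/-- `2 ≠ 0` gives odd order -/
theorem odd_card_of_two_ne_zero (h2 : (2 : F) ≠ 0) : Odd (Fintype.card F) := by
  have hchar : ringChar F ≠ 2 := by
    intro h
    apply h2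
    have := CharP.cast_eq_zero F (ringChar F)
    rw [h] at this
    exact_mod_cast this
  rw [Nat.odd_iff]
  exact FiniteField.odd_card_of_char_ne_two hchar

omit [Fintype F] in
/-- squares after division by a square -/
theorem isSquare_div_of_isSquare {c d : F} (hd0 : d ≠ 0) (hd : IsSquare d) :
    IsSquare (c / d) ↔ IsSquare c := by
  obtain ⟨e, rfl⟩ := hd
  have he : e ≠ 0 := by
    rintro rfl
    exact hd0 (by simp)
  constructor
  · rintro ⟨g, hg⟩
    refine ⟨g * e, ?_⟩
    field_simp at hg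
    rw [hg]
    ring
  · rintro ⟨f, rfl⟩
    refine ⟨f / e, ?_⟩
    field_simp

/-- squares after division by a non-square -/
theorem isSquare_div_of_not_isSquare {c d : F} (hc0 : c ≠ 0) (hd : ¬ IsSquare d) :
    IsSquare (c / d) ↔ ¬ IsSquare c := by
  classical
  have hd0 : d ≠ 0 := by
    rintro rfl
    exact hd IsSquare.zero
  have hcd : c / d ≠ 0 := div_ne_zero hc0 hd0
  have hmul : quadraticChar F c = quadraticChar F (c / d) * quadraticChar F d := by
    rw [← map_mul, div_mul_cancel₀ c hd0]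
  rw [quadraticChar_neg_one_iff_not_isSquare.2 hd] at hmul
  rw [← quadraticChar_one_iff_isSquare hcd, ← quadraticChar_neg_one_iff_not_isSquare, hmul]
  rcases quadraticChar_dichotomy hcd with h | h <;> rw [h] <;> norm_num

/-- fixed points on a level set of an isometry whose fixed vectors form the line `F v₀` -/
theorem card_fixed_levelSet [DecidableEq F] (n : ℕ) (c : F) (g : OOdd n F)
    (v₀ : Unit ⊕ (Fin n ⊕ Fin n) → F) (hv₀ : Cfsg.quadFormOdd n F v₀ ≠ 0)
    (hfix : ∀ x : Unit ⊕ (Fin n ⊕ Fin n) → F, lin g x = x ↔ ∃ l : F, x = l • v₀) :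
    Nat.card {x : LevelSet (Cfsg.quadFormOdd n F) c //
        (MulAction.toPerm g : Equiv.Perm (LevelSet (Cfsg.quadFormOdd n F) c)) x = x} =
      (Finset.univ.filter fun l : F => l ^ 2 = c / Cfsg.quadFormOdd n F v₀).card := by
  rw [← Fintype.card_subtype, ← Nat.card_eq_fintype_card]
  symm
  have hQs : ∀ l : F, Cfsg.quadFormOdd n F (l • v₀) = l ^ 2 * Cfsg.quadFormOdd n F v₀ := by
    intro l
    rw [← oddForm_coe, QuadraticMap.map_smul, smul_eq_mul, pow_two]
  have hv₀ne : v₀ ≠ 0 := by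
    rintro rfl
    apply hv₀
    rw [← oddForm_coe, map_zero]
  apply Nat.card_congr
  refine Equiv.ofBijective (fun l => ⟨⟨l.1 • v₀, ?_⟩, ?_⟩) ⟨?_, ?_⟩
  · rw [hQs, l.2, div_mul_cancel₀ c hv₀]
  · apply LevelSet.ext'
    rw [MulAction.toPerm_apply, LevelSet.smul_val, ← lin_apply]
    exact (hfix _).2 ⟨l.1, rfl⟩
  · intro l l' hll
    have h1 : l.1 • v₀ = l'.1 • v₀ := congrArg (fun z => z.1.val) hll
    apply Subtype.ext
    by_contra hne
    apply hv₀ne
    have h2 : (l.1 - l'.1) • v₀ = 0 := by rw [sub_smul, h1, sub_self]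
    exact (smul_eq_zero.1 h2).resolve_left (sub_ne_zero.2 hne)
  · intro x
    have hx : lin g x.1.val = x.1.val := by
      have := congrArg LevelSet.val x.2
      rw [MulAction.toPerm_apply, LevelSet.smul_val, ← lin_apply] at this
      exact this
    obtain ⟨l, hl⟩ := (hfix _).1 hx
    refine ⟨⟨l, ?_⟩, ?_⟩
    · have := x.1.prop
      rw [hl, hQs] at this
      rw [← this, mul_div_cancel_right₀ _ hv₀]
    · apply Subtype.ext
      apply LevelSet.ext'
      exact hl.symm

/-- (O7) the sign of `t = (-1) ⊕ 1` on a level set `X_c`: `⟨a⟩` acts freely off the fixed line `L`,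
`t` is an involution with fixed points `X_c ∩ L` (`0` or `2` points), and
`|X_c| = q^(2n) ± q^n` (`Cfsg.Agent.Helper51.BC.card_levelSet_quadFormOdd`) -/
theorem signChar_of_neg_movS (h2 : (2 : F) ≠ 0) (n : ℕ) (hn : 1 ≤ n) (s : ℕ) (hs : s.Prime)
    (hs2 : s ≠ 2) (hsq : ¬ s ∣ Fintype.card F)
    (a t : OOdd n F) (ha : orderOf a = s) (hfix : finrank F (fixS (lin a)) = 1)
    (hmov : ∀ y ∈ movS (lin a) s, lin t y = -y) (hfx : ∀ y ∈ fixS (lin a), lin t y = y) :
    (s ∣ Fintype.card F ^ n - 1 ∧ ∀ c : F, c ≠ 0 →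
      (signChar (Cfsg.quadFormOdd n F) c t = 1 ↔ 4 ∣ Fintype.card F ^ n - 1)) ∨
    (s ∣ Fintype.card F ^ n + 1 ∧ ∀ c : F, c ≠ 0 →
      (signChar (Cfsg.quadFormOdd n F) c t = 1 ↔ 4 ∣ Fintype.card F ^ n + 1)) := by
  classical
  have hqodd : Odd (Fintype.card F) := odd_card_of_two_ne_zero h2
  have hsF : (s : F) ≠ 0 := natCast_ne_zero_of_not_dvd_card s hs hsq
  have hAs : lin a ^ s = 1 := by rw [← lin_pow, ← ha, pow_orderOf_eq_one, lin_one]
  have hAiso : ∀ x, oddForm n F (lin a x) = oddForm n F x := fun x => lin_iso a x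
  have hcompl := Cfsg.Agent.Helper93.BC.isCompl_fixS_movS (lin a) s hsF hAs
  -- the line
  obtain ⟨v₀, hv₀ne, hspan⟩ := finrank_eq_one_iff'.1 hfix
  have hd : Cfsg.quadFormOdd n F v₀.1 ≠ 0 := by
    intro h0
    apply hv₀ne
    apply Subtype.ext
    apply Cfsg.Agent.Helper87.BC.nondeg_on_fixS (oddForm n F) (lin a) s hsF hAs hAiso
      (QType.nondeg_oddForm h2 n) v₀.1 v₀.2
    intro y hy
    obtain ⟨l, hl⟩ := hspan ⟨y, hy⟩
    have hy' : y = l • v₀.1 := (congrArg Subtype.val hl).symm
    rw [hy', QuadraticMap.polar_smul_right, QuadraticMap.polar_self, oddForm_coe, h0]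
    simp
  -- fixed vectors of `a`
  have hfixA : ∀ x, lin a x = x ↔ ∃ l : F, x = l • v₀.1 := by
    intro x
    rw [← mem_fixS]
    constructor
    · intro hx
      obtain ⟨l, hl⟩ := hspan ⟨x, hx⟩
      exact ⟨l, (congrArg Subtype.val hl).symm⟩
    · rintro ⟨l, rfl⟩
      exact (fixS (lin a)).smul_mem l v₀.2
  -- fixed vectors of `t`
  have hfixT : ∀ x, lin t x = x ↔ ∃ l : F, x = l • v₀.1 := by
    intro x
    rw [← hfixA]
    constructor
    · intro hx
      obtain ⟨u, hu, w, hw, rfl⟩ := exists_decomp hcompl x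
      rw [map_add, hfx u hu, hmov w hw] at hx
      have h1 : -w = w := add_left_cancel hx
      have h2w : (2 : F) • w = 0 := by
        rw [two_smul]
        nth_rewrite 1 [← h1]
        exact neg_add_cancel w
      have hw0 : w = 0 := (smul_eq_zero.1 h2w).resolve_left h2
      rw [hw0, add_zero]
      exact mem_fixS.1 hu
    · intro hx
      exact hfx x (mem_fixS.2 hx)
  -- `t` is an involution
  have ht2 : t ^ 2 = 1 := by
    apply lin_injective
    rw [lin_pow, lin_one]
    apply LinearMap.ext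
    intro x
    obtain ⟨u, hu, w, hw, rfl⟩ := exists_decomp hcompl x
    rw [pow_two, Module.End.mul_apply, map_add, hfx u hu, hmov w hw, map_add, map_neg, hfx u hu,
      hmov w hw, neg_neg]
    rfl
  have has : a ^ s = 1 := by rw [← ha]; exact pow_orderOf_eq_one a
  -- the two counting statements
  have key : ∀ c : F,
      Fintype.card (LevelSet (Cfsg.quadFormOdd n F) c) ≡
        (Finset.univ.filter fun l : F => l ^ 2 = c / Cfsg.quadFormOdd n F v₀.1).card [MOD s] ∧
      signChar (Cfsg.quadFormOdd n F) c t = (-1) ^ ((Fintype.card (LevelSet (Cfsg.quadFormOdd n F) c) -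
        (Finset.univ.filter fun l : F => l ^ 2 = c / Cfsg.quadFormOdd n F v₀.1).card) / 2) := by
    intro c
    constructor
    · apply card_modEq_fixed (MulAction.toPerm a) s hs ?_ _ (card_fixed_levelSet n c a v₀.1 hd hfixA)
      have := map_pow (MulAction.toPermHom (OOdd n F) (LevelSet (Cfsg.quadFormOdd n F) c)) a s
      rw [has, map_one] at this
      exact this.symm
    · rw [signChar_apply]
      apply sign_involution_card _ ?_ _ (card_fixed_levelSet n c t v₀.1 hd hfixT)
      have := map_pow (MulAction.toPermHom (OOdd n F) (LevelSet (Cfsg.quadFormOdd n F) c)) t 2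
      rw [ht2, map_one] at this
      exact this.symm
  have hcardX : ∀ c : F, Fintype.card (LevelSet (Cfsg.quadFormOdd n F) c) =
      Nat.card {x : Unit ⊕ (Fin n ⊕ Fin n) → F // Cfsg.quadFormOdd n F x = c} := by
    intro c
    rw [← Nat.card_eq_fintype_card]
    apply Nat.card_congr
    exact { toFun := fun x => ⟨x.val, x.prop⟩
            invFun := fun v => ⟨v.1, v.2⟩
            left_inv := fun x => rfl
            right_inv := fun v => rfl }
  have hchar : ringChar F ≠ 2 := by
    intro h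
    apply h2
    have := CharP.cast_eq_zero F (ringChar F)
    rw [h] at this
    exact_mod_cast this
  have hq3 : 3 ≤ Fintype.card F := by
    have h1 : 1 < Fintype.card F := Fintype.one_lt_card
    obtain ⟨k, hk⟩ := hqodd
    omega
  have hQodd : Odd (Fintype.card F ^ n) := hqodd.pow
  have hQ3 : 3 ≤ Fintype.card F ^ n :=
    le_trans hq3 (Nat.le_self_pow (by omega) _)
  have hq2n : Fintype.card F ^ (2 * n) = Fintype.card F ^ n * Fintype.card F ^ n := by
    rw [← pow_add, two_mul]
  obtain ⟨p1, p2, p3, p4⟩ := arith_parity (Fintype.card F ^ n) hQodd hQ3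
  have hunit : ∀ m : ℕ, ((-1 : ℤˣ) ^ m = 1 ↔ Even m) := by
    intro m
    constructor
    · intro h
      by_contra hne
      rw [Nat.not_even_iff_odd] at hne
      rw [hne.neg_one_pow] at h
      exact absurd h (by decide)
    · intro h
      exact h.neg_one_pow
  have hsnq : ¬ s ∣ Fintype.card F ^ n := fun h => hsq (hs.dvd_of_dvd_pow h)
  by_cases hdsq : IsSquare (Cfsg.quadFormOdd n F v₀.1)
  · left
    constructor
    · obtain ⟨c₀, hc₀⟩ := FiniteField.exists_nonsquare hchar
      have hc₀0 : c₀ ≠ 0 := by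
        rintro rfl
        exact hc₀ IsSquare.zero
      have h1 := (key c₀).1
      rw [hcardX, (Cfsg.Agent.Helper51.BC.card_levelSet_quadFormOdd n h2 hc₀0).2 hc₀,
        (Cfsg.Agent.Helper51.BC.aux_card_sqrt h2 (div_ne_zero hc₀0 hd)).2
          (fun h => hc₀ ((isSquare_div_of_isSquare hd hdsq).1 h)), hq2n] at h1
      have h3 : s ∣ Fintype.card F ^ n * (Fintype.card F ^ n - 1) := by
        rw [Nat.mul_sub, mul_one]
        exact (Nat.modEq_zero_iff_dvd).1 h1
      exact ((Nat.Prime.dvd_mul hs).1 h3).resolve_left hsnq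
    · intro c hc
      rw [(key c).2, hunit]
      by_cases hcs : IsSquare c
      · rw [hcardX, (Cfsg.Agent.Helper51.BC.card_levelSet_quadFormOdd n h2 hc).1 hcs,
          (Cfsg.Agent.Helper51.BC.aux_card_sqrt h2 (div_ne_zero hc hd)).1
            ((isSquare_div_of_isSquare hd hdsq).2 hcs), hq2n]
        exact p1
      · rw [hcardX, (Cfsg.Agent.Helper51.BC.card_levelSet_quadFormOdd n h2 hc).2 hcs,
          (Cfsg.Agent.Helper51.BC.aux_card_sqrt h2 (div_ne_zero hc hd)).2
            (fun h => hcs ((isSquare_div_of_isSquare hd hdsq).1 h)), hq2n]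
        exact p2
  · right
    constructor
    · have h1 := (key 1).1
      rw [hcardX, (Cfsg.Agent.Helper51.BC.card_levelSet_quadFormOdd n h2 one_ne_zero).1
          IsSquare.one,
        (Cfsg.Agent.Helper51.BC.aux_card_sqrt h2 (div_ne_zero one_ne_zero hd)).2
          (fun h => (isSquare_div_of_not_isSquare one_ne_zero hdsq).1 h IsSquare.one), hq2n] at h1
      have h3 : s ∣ Fintype.card F ^ n * (Fintype.card F ^ n + 1) := by
        rw [Nat.mul_add, mul_one]
        exact (Nat.modEq_zero_iff_dvd).1 h1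
      exact ((Nat.Prime.dvd_mul hs).1 h3).resolve_left hsnq
    · intro c hc
      rw [(key c).2, hunit]
      by_cases hcs : IsSquare c
      · rw [hcardX, (Cfsg.Agent.Helper51.BC.card_levelSet_quadFormOdd n h2 hc).1 hcs,
          (Cfsg.Agent.Helper51.BC.aux_card_sqrt h2 (div_ne_zero hc hd)).2
            (fun h => (isSquare_div_of_not_isSquare hc hdsq).1 h hcs), hq2n]
        exact p3
      · rw [hcardX, (Cfsg.Agent.Helper51.BC.card_levelSet_quadFormOdd n h2 hc).2 hcs,
          (Cfsg.Agent.Helper51.BC.aux_card_sqrt h2 (div_ne_zero hc hd)).1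
            ((isSquare_div_of_not_isSquare hc hdsq).2 hcs), hq2n]
        exact p4

end Cfsg.Agent.Helper12.PG
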