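import Mathlib
import Cfsg.Prelude.Def_Classical
import Cfsg.Agent.Helper99.PGDefs
import Cfsg.Agent.Helper99.BCDefs
import Cfsg.Agent.Helper99.BCLin
import Cfsg.Agent.Helper44.Spinor
import Cfsg.Agent.Helper44.StdForms
import Cfsg.Agent.S0286

/-!
# (O8) for S2474 (helper99): Lagrange in `O_{2n+1}(q)`
-/

set_option autoImplicit false

universe u

namespace Cfsg.Agent.Helper12.PG

open Module Matrix Cfsg.Agent.Helper99.BC Cfsg.Agent.Helper99.PG Cfsg.Agent.Helper44

variable {F : Type u} [Field F] [Fintype F]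

/-- (O8) Lagrange with `Cfsg.Agent.S0286.result` -/
theorem exists_dvd_of_orderOf_orth (hodd : Odd (Fintype.card F)) (n : ℕ) (s : ℕ) (hs : s.Prime)
    (hs2 : s ≠ 2) (hsq : ¬ s ∣ Fintype.card F) (x : OOdd n F) (hx : orderOf x = s) :
    ∃ i : ℕ, 1 ≤ i ∧ i ≤ n ∧ s ∣ Fintype.card F ^ (2 * i) - 1 := by
  have hcard := Cfsg.Agent.S0286.result (F := F) (q := Fintype.card F) rfl hodd n
  have hdvd : s ∣ Nat.card (OOdd n F) := by
    rw [← hx]
    exact orderOf_dvd_natCard x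
  rw [hcard] at hdvd
  rcases (Nat.Prime.dvd_mul hs).1 hdvd with h | h
  · rcases (Nat.Prime.dvd_mul hs).1 h with h | h
    · exact absurd ((Nat.prime_dvd_prime_iff_eq hs Nat.prime_two).1 h) hs2
    · exact absurd (hs.dvd_of_dvd_pow h) hsq
  · rcases (Prime.dvd_finsetProd_iff hs.prime _).1 h with ⟨i, hi, hdi⟩
    exact ⟨i + 1, by omega, by have := Finset.mem_range.1 hi; omega, hdi⟩

end Cfsg.Agent.Helper12.PG
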