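import Mathlib

set_option autoImplicit false

namespace Cfsg.Agent.Helper12

namespace PermCent

open Equiv

variable {α : Type*}

/-- transitivity of a subgroup of the symmetric group, in elementwise form -/
def IsTrans (K : Subgroup (Perm α)) : Prop := ∀ a b : α, ∃ k ∈ K, k a = b

/-- semiregularity in elementwise form -/
def IsSemireg (K : Subgroup (Perm α)) : Prop := ∀ c ∈ K, ∀ a : α, c a = a → c = 1

theorem IsSemireg.mono {K C : Subgroup (Perm α)} (h : K ≤ C) (hC : IsSemireg C) : IsSemireg K :=
  fun c hc a hca => hC c (h hc) a hca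

/-- The centraliser of a transitive group is semiregular. -/
theorem semiregular_centralizer {K : Subgroup (Perm α)} (hK : IsTrans K) :
    IsSemireg (Subgroup.centralizer (K : Set (Perm α))) := by
  intro c hc a hca
  ext b
  obtain ⟨k, hk, rfl⟩ := hK a b
  have h := Subgroup.mem_centralizer_iff.mp hc k hk
  have h2 := congrArg (fun σ : Perm α => σ a) h
  simp only [Perm.coe_mul, Function.comp_apply] at h2
  rw [Perm.coe_one, id, ← h2, hca]

/-- A semiregular group containing a transitive subgroup equals it. -/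
theorem eq_of_le_of_trans_of_semireg {K C : Subgroup (Perm α)} (hKC : K ≤ C) (hK : IsTrans K)
    (hC : IsSemireg C) : C = K := by
  apply le_antisymm _ hKC
  intro c hc
  by_cases hne : Nonempty α
  · obtain ⟨a⟩ := hne
    obtain ⟨k, hk, hka⟩ := hK a (c a)
    have : k⁻¹ * c = 1 := by
      apply hC _ (C.mul_mem (C.inv_mem (hKC hk)) hc) a
      rw [Perm.coe_mul, Function.comp_apply]
      exact Perm.inv_eq_iff_eq.mpr hka.symm
    have hck : c = k := by
      rw [inv_mul_eq_one] at this
      exact this.symm
    rw [hck]; exact hk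
  · have : c = 1 := by
      ext b
      exact absurd ⟨b⟩ hne
    rw [this]; exact K.one_mem

variable (G : Subgroup (Perm α))

/-- the image in the symmetric group of a subgroup of a permutation group -/
abbrev im (M : Subgroup G) : Subgroup (Perm α) := M.map G.subtype

theorem mem_im {M : Subgroup G} {x : Perm α} : x ∈ im G M ↔ ∃ m : G, m ∈ M ∧ (m : Perm α) = x :=
  Subgroup.mem_map

theorem coe_mem_im {M : Subgroup G} {m : G} (hm : m ∈ M) : (m : Perm α) ∈ im G M :=
  Subgroup.mem_map.mpr ⟨m, hm, rfl⟩

theorem le_of_im_le {M N : Subgroup G} (h : im G M ≤ im G N) : M ≤ N := by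
  intro m hm
  obtain ⟨n, hn, hnm⟩ := (mem_im G).mp (h (coe_mem_im G hm))
  have : n = m := Subtype.ext hnm
  rw [← this]; exact hn

theorem isTrans_im (M : Subgroup G) [MulAction.IsPretransitive M α] : IsTrans (im G M) := by
  intro a b
  obtain ⟨m, hm⟩ := MulAction.exists_smul_eq M a b
  exact ⟨((m : G) : Perm α), coe_mem_im G m.2, hm⟩

/-- semiregularity of the image gives trivial point stabilisers -/
theorem stabilizer_eq_bot_of_semireg {M : Subgroup G} (h : IsSemireg (im G M)) (a : α) :
    MulAction.stabilizer M a = ⊥ := by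
  rw [Subgroup.eq_bot_iff_forall]
  intro m hm
  have h1 : ((m : G) : Perm α) a = a := hm
  have := h _ (coe_mem_im G m.2) a h1
  apply Subtype.ext
  apply Subtype.ext
  exact this

/-- Two normal subgroups meeting trivially centralise each other. -/
theorem im_le_centralizer_of_inf_eq_bot (M N : Subgroup G) [hM : M.Normal] [hN : N.Normal]
    (h : M ⊓ N = ⊥) : im G N ≤ Subgroup.centralizer ((im G M : Subgroup (Perm α)) : Set (Perm α)) := by
  intro x hx
  obtain ⟨n, hn, rfl⟩ := (mem_im G).mp hx
  rw [Subgroup.mem_centralizer_iff]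
  intro y hy
  obtain ⟨m, hm, rfl⟩ := (mem_im G).mp hy
  have hc : Commute m n :=
    Subgroup.commute_of_normal_of_disjoint M N hM hN (disjoint_iff.mpr h) m n hm hn
  have := congrArg (fun g : G => (g : Perm α)) hc.eq
  exact this

/-- An abelian group centralises itself. -/
theorem im_le_centralizer_self (M : Subgroup G) (hab : IsMulCommutative M) :
    im G M ≤ Subgroup.centralizer ((im G M : Subgroup (Perm α)) : Set (Perm α)) := by
  intro x hx
  obtain ⟨n, hn, rfl⟩ := (mem_im G).mp hx
  rw [Subgroup.mem_centralizer_iff]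
  intro y hy
  obtain ⟨m, hm, rfl⟩ := (mem_im G).mp hy
  have hc : (⟨m, hm⟩ : M) * ⟨n, hn⟩ = ⟨n, hn⟩ * ⟨m, hm⟩ := mul_comm' _ _
  have h2 : m * n = n * m := congrArg Subtype.val hc
  exact congrArg (fun g : G => (g : Perm α)) h2

/-- Distinct minimal normal subgroups meet trivially. -/
theorem inf_eq_bot_of_minimal {H : Type*} [Group H] (L M : Subgroup H) [L.Normal] [hM : M.Normal]
    (hMmin : ∀ K : Subgroup H, K.Normal → K ≤ M → K = ⊥ ∨ K = M)
    (hLmin : ∀ K : Subgroup H, K.Normal → K ≤ L → K = ⊥ ∨ K = L)
    (hne : L ≠ M) : L ⊓ M = ⊥ := by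
  rcases hMmin (L ⊓ M) inferInstance inf_le_right with h | h
  · exact h
  · have hML : M ≤ L := by rw [← h]; exact inf_le_left
    rcases hLmin M hM hML with h' | h'
    · rw [h', inf_bot_eq]
    · exact absurd h'.symm hne

end PermCent

end Cfsg.Agent.Helper12
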