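import Mathlib
import Cfsg.Agent.Helper68.PronBU1.Defs

/-!
# (MI) of helper68's farm PRONBU1 (block BU1 of S2225/S2226): `InvP` is conjugation invariant
-/

set_option autoImplicit false

namespace Cfsg.Agent.Helper12.PronBU1

open Matrix Cfsg.Agent.Helper99.Pron Cfsg.Agent.Helper68.PronBU1

variable {F : Type*} [Field F]

/-- the matrix of a conjugate -/
theorem MI_val_conj (g b : GL (Fin 2) F) :
    ((g * b * g⁻¹ : GL (Fin 2) F) : Matrix (Fin 2) (Fin 2) F) =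
      (g : Matrix (Fin 2) (Fin 2) F) * (b : Matrix (Fin 2) (Fin 2) F) *
        ((g⁻¹ : GL (Fin 2) F) : Matrix (Fin 2) (Fin 2) F) := by
  rw [Units.val_mul, Units.val_mul]

theorem MI_mul_inv (g : GL (Fin 2) F) :
    (g : Matrix (Fin 2) (Fin 2) F) * ((g⁻¹ : GL (Fin 2) F) : Matrix (Fin 2) (Fin 2) F) = 1 := by
  rw [← Units.val_mul, mul_inv_cancel, Units.val_one]

theorem MI_inv_mul (g : GL (Fin 2) F) :
    ((g⁻¹ : GL (Fin 2) F) : Matrix (Fin 2) (Fin 2) F) * (g : Matrix (Fin 2) (Fin 2) F) = 1 := by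
  rw [← Units.val_mul, inv_mul_cancel, Units.val_one]

theorem MI_det_conj (g b : GL (Fin 2) F) :
    ((g * b * g⁻¹ : GL (Fin 2) F) : Matrix (Fin 2) (Fin 2) F).det =
      (b : Matrix (Fin 2) (Fin 2) F).det := by
  rw [MI_val_conj]
  exact Matrix.det_units_conj g _

/-- transport of a commutation relation through conjugation -/
theorem MI_comm_transport (g b : GL (Fin 2) F) (X : Matrix (Fin 2) (Fin 2) F)
    (h : ((g * b * g⁻¹ : GL (Fin 2) F) : Matrix (Fin 2) (Fin 2) F) * X =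
      X * ((g * b * g⁻¹ : GL (Fin 2) F) : Matrix (Fin 2) (Fin 2) F)) :
    (b : Matrix (Fin 2) (Fin 2) F) *
        (((g⁻¹ : GL (Fin 2) F) : Matrix (Fin 2) (Fin 2) F) * X * (g : Matrix (Fin 2) (Fin 2) F)) =
      (((g⁻¹ : GL (Fin 2) F) : Matrix (Fin 2) (Fin 2) F) * X * (g : Matrix (Fin 2) (Fin 2) F)) *
        (b : Matrix (Fin 2) (Fin 2) F) := by
  rw [MI_val_conj] at h
  set G := (g : Matrix (Fin 2) (Fin 2) F)
  set G' := ((g⁻¹ : GL (Fin 2) F) : Matrix (Fin 2) (Fin 2) F)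
  set B := (b : Matrix (Fin 2) (Fin 2) F)
  have h1 : G' * G = 1 := MI_inv_mul g
  have h2 : G * G' = 1 := MI_mul_inv g
  calc B * (G' * X * G) = (G' * G) * B * (G' * X * G) := by rw [h1, Matrix.one_mul]
    _ = G' * (G * B * G' * X) * G := by simp only [Matrix.mul_assoc]
    _ = G' * (X * (G * B * G')) * G := by rw [h]
    _ = G' * X * G * B * (G' * G) := by simp only [Matrix.mul_assoc]
    _ = G' * X * G * B := by rw [h1, Matrix.mul_one]

/-- from `g⁻¹ X g` scalar to `X` scalar -/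
theorem MI_scalar_back (g : GL (Fin 2) F) (X : Matrix (Fin 2) (Fin 2) F) (l : F)
    (h : ((g⁻¹ : GL (Fin 2) F) : Matrix (Fin 2) (Fin 2) F) * X * (g : Matrix (Fin 2) (Fin 2) F) =
      l • 1) : X = l • 1 := by
  set G := (g : Matrix (Fin 2) (Fin 2) F)
  set G' := ((g⁻¹ : GL (Fin 2) F) : Matrix (Fin 2) (Fin 2) F)
  have h1 : G' * G = 1 := MI_inv_mul g
  have h2 : G * G' = 1 := MI_mul_inv g
  calc X = (G * G') * X * (G * G') := by rw [h2, Matrix.one_mul, Matrix.mul_one]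
    _ = G * (G' * X * G) * G' := by simp only [Matrix.mul_assoc]
    _ = G * (l • 1) * G' := by rw [h]
    _ = l • (G * G') := by rw [Matrix.mul_smul, Matrix.mul_one, Matrix.smul_mul]
    _ = l • 1 := by rw [h2]

/-- (MI) `InvP` is invariant under conjugation. -/
theorem invP_cj (g : GL (Fin 2) F) (P : Subgroup (GL (Fin 2) F)) (h : InvP P) :
    InvP (cj g P) := by
  refine ⟨⟨?_, ?_, ?_, ?_⟩, ?_, ?_⟩
  · -- two
    intro a ha
    obtain ⟨b, hb, rfl⟩ := mem_cj.mp ha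
    obtain ⟨k, hk⟩ := h.two b hb
    exact ⟨k, by rw [conj_pow, hk, mul_one, mul_inv_cancel]⟩
  · -- comm
    intro X hX
    obtain ⟨l, hl⟩ := h.comm
      (((g⁻¹ : GL (Fin 2) F) : Matrix (Fin 2) (Fin 2) F) * X * (g : Matrix (Fin 2) (Fin 2) F))
      (fun b hb => MI_comm_transport g b X (hX _ (mem_cj.mpr ⟨b, hb, rfl⟩)))
    exact ⟨l, MI_scalar_back g X l hl⟩
  · -- norm
    intro x hx
    have hx' : g⁻¹ * x * g ∈ Subgroup.normalizer (P : Set (GL (Fin 2) F)) := by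
      rw [Subgroup.mem_normalizer_iff] at hx ⊢
      intro b
      have := hx (g * b * g⁻¹)
      constructor
      · intro hb
        have h1 : x * (g * b * g⁻¹) * x⁻¹ ∈ cj g P := this.mp (mem_cj.mpr ⟨b, hb, rfl⟩)
        obtain ⟨c, hc, hc'⟩ := mem_cj.mp h1
        have : g⁻¹ * x * g * b * (g⁻¹ * x * g)⁻¹ = c := by
          have : c = g⁻¹ * (g * c * g⁻¹) * g := by group
          rw [this, hc']; group
        rw [this]; exact hc
      · intro hb
        have h1 : x * (g * b * g⁻¹) * x⁻¹ ∈ cj g P := by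
          refine mem_cj.mpr ⟨_, hb, ?_⟩
          group
        have h2 := this.mpr h1
        obtain ⟨c, hc, hc'⟩ := mem_cj.mp h2
        have : b = c := by
          have : c = g⁻¹ * (g * c * g⁻¹) * g := by group
          rw [this, hc']; group
        rw [this]; exact hc
    obtain ⟨l, p, hp, hxp⟩ := h.norm _ hx'
    refine ⟨l, g * p * g⁻¹, mem_cj.mpr ⟨p, hp, rfl⟩, ?_⟩
    have : x = g * (g⁻¹ * x * g) * g⁻¹ := by group
    rw [this, hxp]
    calc g * (sc l * p) * g⁻¹ = (g * sc l) * p * g⁻¹ := by group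
      _ = (sc l * g) * p * g⁻¹ := by rw [sc_comm l g]
      _ = sc l * (g * p * g⁻¹) := by group
  · -- neg
    obtain ⟨c, hc, hcc⟩ := h.neg
    refine ⟨g * c * g⁻¹, mem_cj.mpr ⟨c, hc, rfl⟩, ?_⟩
    rw [← Units.val_mul]
    have : g * c * g⁻¹ * (g * c * g⁻¹) = g * (c * c) * g⁻¹ := by group
    rw [this, MI_val_conj, Units.val_mul, hcc, Matrix.mul_neg, Matrix.mul_one, Matrix.neg_mul,
      MI_mul_inv]
  · -- comm6
    intro X hX
    obtain ⟨l, hl⟩ := h.comm6
      (((g⁻¹ : GL (Fin 2) F) : Matrix (Fin 2) (Fin 2) F) * X * (g : Matrix (Fin 2) (Fin 2) F))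
      (fun b hb hdet => by
        apply MI_comm_transport g b X
        apply hX _ (mem_cj.mpr ⟨b, hb, rfl⟩)
        obtain ⟨e, he, hdet'⟩ := hdet
        exact ⟨g * e * g⁻¹, mem_cj.mpr ⟨e, he, rfl⟩, by rw [MI_det_conj, MI_det_conj, hdet']⟩)
    exact ⟨l, MI_scalar_back g X l hl⟩
  · -- neg1
    obtain ⟨c, hc, hcc, hdet⟩ := h.neg1
    refine ⟨g * c * g⁻¹, mem_cj.mpr ⟨c, hc, rfl⟩, ?_, by rw [MI_det_conj, hdet]⟩
    rw [← Units.val_mul]
    have : g * c * g⁻¹ * (g * c * g⁻¹) = g * (c * c) * g⁻¹ := by group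
    rw [this, MI_val_conj, Units.val_mul, hcc, Matrix.mul_neg, Matrix.mul_one, Matrix.neg_mul,
      MI_mul_inv]

end Cfsg.Agent.Helper12.PronBU1
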