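import Mathlib
import Cfsg.Agent.Helper68.PronBU1.Defs

/-!
# (MU2) of helper68's farm PRONBU1 (block BU1 of S2225/S2226): the base change `gᵀ g^(q) = J`
-/

set_option autoImplicit false

namespace Cfsg.Agent.Helper12.PronBU1

open Matrix Cfsg.Agent.Helper99.Pron Cfsg.Agent.Helper68.PronBU1

variable {F : Type*} [Field F]

/-- (MU2) the base change: `gᵀ g^(q) = J`. -/
theorem gz_form (q : ℕ) (σ : F →+* F) (hσ : ∀ x, σ x = x ^ q) (ζ : F) (hζ : ζ * ζ ^ q = -1)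
    (h2 : (2 : F) ≠ 0) : (gzM ζ)ᵀ * (gzM ζ).map (· ^ q) = Jm := by
  have e2 : ((2 : F)⁻¹) ^ q = (2 : F)⁻¹ := by
    rw [← hσ, map_inv₀, map_ofNat]
  have e3 : (-ζ * (2 : F)⁻¹) ^ q = -(ζ ^ q) * (2 : F)⁻¹ := by
    rw [← hσ, map_mul, map_neg, map_inv₀, map_ofNat, hσ]
  have e1 : (1 : F) ^ q = 1 := one_pow q
  have h22 : (2 : F)⁻¹ + (2 : F)⁻¹ = 1 := by field_simp; norm_num
  have hmap : (gzM ζ).map (· ^ q) = !![1, (2 : F)⁻¹; ζ ^ q, -(ζ ^ q) * (2 : F)⁻¹] := by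
    unfold gzM
    ext i j
    fin_cases i <;> fin_cases j
    · exact e1
    · exact e2
    · rfl
    · exact e3
  have hT : (gzM ζ)ᵀ = !![1, ζ; (2 : F)⁻¹, -ζ * (2 : F)⁻¹] := by
    unfold gzM
    ext i j
    fin_cases i <;> fin_cases j <;> rfl
  have k00 : (1 : F) * 1 + ζ * ζ ^ q = 0 := by rw [hζ]; ring
  have k01 : (1 : F) * (2 : F)⁻¹ + ζ * (-(ζ ^ q) * (2 : F)⁻¹) = 1 := by
    linear_combination (-(2 : F)⁻¹) * hζ + h22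
  have k10 : (2 : F)⁻¹ * 1 + -ζ * (2 : F)⁻¹ * ζ ^ q = 1 := by
    linear_combination (-(2 : F)⁻¹) * hζ + h22
  have k11 : (2 : F)⁻¹ * (2 : F)⁻¹ + -ζ * (2 : F)⁻¹ * (-(ζ ^ q) * (2 : F)⁻¹) = 0 := by
    linear_combination ((2 : F)⁻¹ * (2 : F)⁻¹) * hζ
  rw [hmap, hT, Matrix.mul_fin_two, k00, k01, k10, k11]
  rfl

end Cfsg.Agent.Helper12.PronBU1
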