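import Cfsg.Agent.Helper61.PslDefs
import Cfsg.Agent.Helper61.Rank3

/-! (RSRG) piece for helper61's S3616: a rank three primitive group whose orbital graph admits a
regular group of automorphisms gives a strongly regular Cayley set. -/

set_option autoImplicit false

namespace Cfsg.Agent.Helper12.PslRSRG

open Equiv MulAction Cfsg.Agent.Helper61.Zp DihedralGroup Cfsg.Agent.Helper61.Orbital

/-- (RSRG) a rank three primitive group whose orbital graph admits a regular group `D` of
automorphisms (acting by left translations via `pt`) gives a strongly regular Cayley set. -/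
theorem exists_isSrgSet {G V : Type*} [Group G] [Fintype V] [DecidableEq V] [MulAction G V]
    [hprim : IsPreprimitive G V] {a b₁ b₂ : V} (h : Rank3Data G a b₁ b₂)
    (hne : Nat.card (orbit (stabilizer G a) b₁) ≠ Nat.card (orbit (stabilizer G a) b₂))
    {D : Type*} [Group D] [Fintype D] [DecidableEq D] (pt : D → V)
    (hpt : Function.Bijective pt) (hpt1 : pt 1 = a)
    (hinv : ∀ c d d' : D, Orb G a b₁ (pt (c * d)) (pt (c * d')) ↔ Orb G a b₁ (pt d) (pt d')) :
    ∃ (T : Finset D) (k lam mu : ℕ),
      Cfsg.Agent.Helper61.Dih.IsSrgSet T k lam mu ∧ 0 < mu ∧ 2 * k < Fintype.card D + lam := by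
  classical
  have hsymm : ∀ x y, Orb G a b₁ x y → Orb G a b₁ y x := fun x y hxy => h.symm hne hxy
  have hsymm' : ∀ x y, Orb G a b₂ x y → Orb G a b₂ y x := fun x y hxy => h.swap.symm hne.symm hxy
  refine ⟨Finset.univ.filter (fun d => Orb G a b₁ a (pt d)),
    Nat.card (orbit (stabilizer G a) b₁),
    Cfsg.Agent.Helper61.Rank3.cnt (Orb G a b₁) (Orb G a b₁) a b₁,
    Cfsg.Agent.Helper61.Rank3.cnt (Orb G a b₁) (Orb G a b₁) a b₂, ?_, ?_, ?_⟩
  · refine ⟨?_, ?_, ?_, ?_⟩
    · simp only [Finset.mem_filter, Finset.mem_univ, true_and, hpt1]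
      exact h.irrefl a
    · intro d hd
      simp only [Finset.mem_filter, Finset.mem_univ, true_and] at hd ⊢
      have h1 := (hinv d⁻¹ 1 d).mpr (by rw [hpt1]; exact hd)
      rw [mul_one, inv_mul_cancel, hpt1] at h1
      exact hsymm _ _ h1
    · rw [← card_nbrs_base (G := G) a b₁]
      apply Finset.card_bij (fun d _ => pt d)
      · intro d hd
        simp only [Finset.mem_filter, Finset.mem_univ, true_and] at hd ⊢
        exact hd
      · intro d _ d' _ hdd
        exact hpt.1 hdd
      · intro y hy
        simp only [Finset.mem_filter, Finset.mem_univ, true_and] at hy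
        obtain ⟨d, rfl⟩ := hpt.2 y
        exact ⟨d, by simpa using hy, rfl⟩
    · intro d hd1
      have hda : a ≠ pt d := by
        intro hda
        rw [← hpt1] at hda
        exact hd1 (hpt.1 hda).symm
      have key := Cfsg.Agent.Helper61.Rank3.srg_count h hsymm a (pt d)
      rw [if_neg hda] at key
      have hcard : ((Finset.univ.filter (fun d => Orb G a b₁ a (pt d))).filter
          (fun c => c⁻¹ * d ∈ Finset.univ.filter (fun d => Orb G a b₁ a (pt d)))).card
          = Cfsg.Agent.Helper61.Rank3.cnt (Orb G a b₁) (Orb G a b₁) a (pt d) := by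
        unfold Cfsg.Agent.Helper61.Rank3.cnt
        apply Finset.card_bij (fun c _ => pt c)
        · intro c hc
          simp only [Finset.mem_filter, Finset.mem_univ, true_and] at hc ⊢
          refine ⟨hc.1, ?_⟩
          have h2 := (hinv c 1 (c⁻¹ * d)).mpr (by rw [hpt1]; exact hc.2)
          rwa [mul_one, mul_inv_cancel_left] at h2
        · intro c _ c' _ hcc
          exact hpt.1 hcc
        · intro z hz
          simp only [Finset.mem_filter, Finset.mem_univ, true_and] at hz
          obtain ⟨c, rfl⟩ := hpt.2 z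
          refine ⟨c, ?_, rfl⟩
          simp only [Finset.mem_filter, Finset.mem_univ, true_and]
          refine ⟨hz.1, ?_⟩
          have h2 := (hinv c 1 (c⁻¹ * d)).mp (by rw [mul_one, mul_inv_cancel_left]; exact hz.2)
          rwa [hpt1] at h2
      rw [hcard, key]
      simp only [Finset.mem_filter, Finset.mem_univ, true_and]
  · exact Cfsg.Agent.Helper61.Rank3.mu_pos h hsymm
  · have hmu' := Cfsg.Agent.Helper61.Rank3.mu_pos h.swap hsymm'
    have hc := Cfsg.Agent.Helper61.Rank3.mu_compl h hsymm
    have hVD : Fintype.card V = Fintype.card D := (Fintype.card_of_bijective hpt).symm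
    rw [hVD] at hc
    have hc' : ((Cfsg.Agent.Helper61.Rank3.cnt (Orb G a b₂) (Orb G a b₂) a b₁ : ℕ) : ℂ)
        + 2 * (Nat.card (orbit (stabilizer G a) b₁) : ℂ)
        = (Fintype.card D : ℂ) + (Cfsg.Agent.Helper61.Rank3.cnt (Orb G a b₁) (Orb G a b₁) a b₁ : ℂ) := by
      rw [hc]; ring
    have hc'' : Cfsg.Agent.Helper61.Rank3.cnt (Orb G a b₂) (Orb G a b₂) a b₁
        + 2 * Nat.card (orbit (stabilizer G a) b₁)
        = Fintype.card D + Cfsg.Agent.Helper61.Rank3.cnt (Orb G a b₁) (Orb G a b₁) a b₁ := by
      exact_mod_cast hc'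
    omega

end Cfsg.Agent.Helper12.PslRSRG
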