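import Mathlib
import Cfsg.Agent.Helper13.QFEDefs
import Cfsg.Agent.Helper13.SymmForm
import Cfsg.Agent.Helper13.Isom

/-!
# Piece (INV1) of S5977/S5978 (helper13's plan, board #8823)

An involution `x` of determinant one in the isometry group of a nondegenerate quadratic form `Q`
in even dimension over a finite field of odd order commutes with some self-adjoint `θ'` with
`θ' * θ' = δ`.  The two eigenspaces of `x` are nondegenerate of even dimension; each is an
orthogonal sum of planes, and each plane `⟨a⟩ ⊥ ⟨b⟩` carries a self-adjoint `Θ` with `Θ * Θ = δ`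
(solve `s * s + (a / b) * t * t = δ`).
-/

set_option autoImplicit false

namespace Cfsg.Agent.Helper12.QFEINV1

section aux

open Matrix

variable {F : Type*} [Field F]

/-- the `2 × 2` block -/
theorem exists_theta_two [Fintype F] (h2 : (2 : F) ≠ 0) {δ : F} (hδ0 : δ ≠ 0) (a : Fin 2 → F)
    (ha : ∀ e, a e ≠ 0) :
    ∃ Θ : Matrix (Fin 2) (Fin 2) F, Θ * Θ = δ • (1 : Matrix (Fin 2) (Fin 2) F) ∧
      Θᵀ * Matrix.diagonal a = Matrix.diagonal a * Θ := by
  have h0 := ha 0
  have h1 := ha 1
  obtain ⟨s, t, hst⟩ := Cfsg.Agent.Helper13.exists_binary_eq_one h2 (a := δ⁻¹)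
    (b := a 0 / (a 1 * δ)) (inv_ne_zero hδ0) (div_ne_zero h0 (mul_ne_zero h1 hδ0))
  have hkey : s * s + t * (a 0 * t / a 1) = δ := by
    field_simp at hst ⊢
    linear_combination hst
  refine ⟨!![s, t; a 0 * t / a 1, -s], ?_, ?_⟩
  · ext i j
    fin_cases i <;> fin_cases j
    · simp [Matrix.mul_apply]
      exact hkey
    · simp [Matrix.mul_apply]
      ring
    · simp [Matrix.mul_apply]
      ring
    · simp [Matrix.mul_apply]
      linear_combination hkey
  · ext i j
    fin_cases i <;> fin_cases j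
    · simp [Matrix.mul_apply, Matrix.diagonal]
      ring
    · simp [Matrix.mul_apply, Matrix.diagonal]
      field_simp
    · simp [Matrix.mul_apply, Matrix.diagonal]
      field_simp
    · simp [Matrix.mul_apply, Matrix.diagonal]
      ring

/-- block diagonal `Θ` -/
theorem exists_theta_block [Fintype F] (h2 : (2 : F) ≠ 0) {δ : F} (hδ0 : δ ≠ 0) {o : Type*}
    [Fintype o] [DecidableEq o] (α : Fin 2 × o → F) (hα : ∀ k, α k ≠ 0) (τ : o → F) :
    ∃ M : Matrix (Fin 2 × o) (Fin 2 × o) F, M * M = δ • (1 : Matrix (Fin 2 × o) (Fin 2 × o) F) ∧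
      Mᵀ * Matrix.diagonal α = Matrix.diagonal α * M ∧
      Matrix.diagonal (fun k : Fin 2 × o => τ k.2) * M =
        M * Matrix.diagonal (fun k : Fin 2 × o => τ k.2) := by
  choose Θ hΘ1 hΘ2 using fun j : o =>
    exists_theta_two h2 hδ0 (fun e => α (e, j)) (fun e => hα (e, j))
  have hD : Matrix.diagonal α =
      Matrix.blockDiagonal (fun j : o => Matrix.diagonal (fun e : Fin 2 => α (e, j))) := by
    rw [Matrix.blockDiagonal_diagonal]
  have hS : Matrix.diagonal (fun k : Fin 2 × o => τ k.2) =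
      Matrix.blockDiagonal (fun j : o => Matrix.diagonal (fun _ : Fin 2 => τ j)) := by
    rw [Matrix.blockDiagonal_diagonal]
  refine ⟨Matrix.blockDiagonal Θ, ?_, ?_, ?_⟩
  · rw [← Matrix.blockDiagonal_mul]
    have : (fun k => Θ k * Θ k) = δ • (1 : o → Matrix (Fin 2) (Fin 2) F) := by
      funext j
      rw [hΘ1 j]
      rfl
    rw [this, Matrix.blockDiagonal_smul, Matrix.blockDiagonal_one]
  · rw [hD, Matrix.blockDiagonal_transpose, ← Matrix.blockDiagonal_mul, ← Matrix.blockDiagonal_mul]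
    congr 1
    funext j
    exact hΘ2 j
  · rw [hS, ← Matrix.blockDiagonal_mul, ← Matrix.blockDiagonal_mul]
    congr 1
    funext j
    ext a b
    rw [Matrix.diagonal_mul, Matrix.mul_diagonal, mul_comm]

/-- from an orthogonal eigenbasis indexed by pairs to `T` -/
theorem exists_T_of_basis [Fintype F] (h2 : (2 : F) ≠ 0) {δ : F} (hδ0 : δ ≠ 0) {V : Type*}
    [AddCommGroup V] [Module F V] (B : LinearMap.BilinForm F V) {o : Type*} [Fintype o]
    [DecidableEq o] (b : Module.Basis (Fin 2 × o) F V)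
    (horth : ∀ i j, i ≠ j → B (b i) (b j) = 0) (hdiag : ∀ i, B (b i) (b i) ≠ 0)
    (Xl : V →ₗ[F] V) (τ : o → F) (hX : ∀ k, Xl (b k) = τ k.2 • b k) :
    ∃ T : V →ₗ[F] V, (∀ v, T (T v) = δ • v) ∧ (∀ u v, B (T u) v = B u (T v)) ∧
      (∀ v, Xl (T v) = T (Xl v)) := by
  classical
  obtain ⟨M, hM1, hM2, hM3⟩ := exists_theta_block h2 hδ0 (fun k => B (b k) (b k)) hdiag τ
  have hGram : LinearMap.BilinForm.toMatrix b B = Matrix.diagonal (fun k => B (b k) (b k)) := by
    ext i j
    rw [LinearMap.BilinForm.toMatrix_apply]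
    by_cases h : i = j
    · subst h; rw [Matrix.diagonal_apply_eq]
    · rw [Matrix.diagonal_apply_ne _ h, horth i j h]
  have hXmat : LinearMap.toMatrix b b Xl = Matrix.diagonal (fun k : Fin 2 × o => τ k.2) := by
    ext i j
    rw [LinearMap.toMatrix_apply, hX, map_smul, b.repr_self, Finsupp.smul_apply,
      Finsupp.single_apply, smul_eq_mul]
    by_cases h : i = j
    · subst h; rw [if_pos rfl, mul_one, Matrix.diagonal_apply_eq]
    · rw [if_neg (fun h' => h h'.symm), mul_zero, Matrix.diagonal_apply_ne _ h]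
  refine ⟨Matrix.toLin b b M, ?_, ?_, ?_⟩
  · intro v
    have h : Matrix.toLin b b M ∘ₗ Matrix.toLin b b M = δ • LinearMap.id := by
      rw [← Matrix.toLin_mul, hM1, map_smul, Matrix.toLin_one]
    exact LinearMap.congr_fun h v
  · intro u v
    have h : B.compLeft (Matrix.toLin b b M) = B.compRight (Matrix.toLin b b M) := by
      apply (LinearMap.BilinForm.toMatrix b).injective
      rw [LinearMap.BilinForm.toMatrix_compLeft, LinearMap.BilinForm.toMatrix_compRight,
        LinearMap.toMatrix_toLin, hGram, hM2]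
    have h' := LinearMap.congr_fun₂ h u v
    simpa using h'
  · intro v
    have h : Xl ∘ₗ Matrix.toLin b b M = Matrix.toLin b b M ∘ₗ Xl := by
      apply (LinearMap.toMatrix b b).injective
      rw [LinearMap.toMatrix_comp b b b, LinearMap.toMatrix_comp b b b, LinearMap.toMatrix_toLin,
        hXmat, hM3]
    exact LinearMap.congr_fun h v

/-- orthogonal eigenbasis of an isometric involution -/
theorem exists_eigenbasis (h2 : (2 : F) ≠ 0) {V : Type*} [AddCommGroup V] [Module F V]
    [FiniteDimensional F V] (B : LinearMap.BilinForm F V) (hsymm : B.IsSymm)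
    (hB : B.SeparatingLeft) (Xl : V →ₗ[F] V) (hX2 : ∀ v, Xl (Xl v) = v)
    (hXB : ∀ u v, B (Xl u) (Xl v) = B u v) :
    ∃ (np nm : ℕ) (b : Module.Basis (Fin np ⊕ Fin nm) F V),
      (∀ i j, i ≠ j → B (b i) (b j) = 0) ∧ (∀ i, B (b i) (b i) ≠ 0) ∧
      ∀ k, Xl (b k) = Sum.elim (fun _ => (1 : F)) (fun _ => -1) k • b k := by
  classical
  have : Invertible (2 : F) := invertibleOfNonzero h2
  let Vp : Submodule F V := LinearMap.ker (Xl - LinearMap.id)
  let Vm : Submodule F V := LinearMap.ker (Xl + LinearMap.id)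
  have hVp : ∀ v, v ∈ Vp ↔ Xl v = v := by
    intro v
    simp only [Vp, LinearMap.mem_ker, LinearMap.sub_apply, LinearMap.id_apply, sub_eq_zero]
  have hVm : ∀ v, v ∈ Vm ↔ Xl v = -v := by
    intro v
    simp only [Vm, LinearMap.mem_ker, LinearMap.add_apply, LinearMap.id_apply,
      add_eq_zero_iff_eq_neg]
  have hdisj : Disjoint Vp Vm := by
    rw [Submodule.disjoint_def]
    intro v hp hm
    rw [hVp] at hp
    rw [hVm] at hm
    have h2v : (2 : F) • v = 0 := by
      rw [two_smul]
      nth_rewrite 1 [← hp]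
      rw [hm]
      exact neg_add_cancel v
    exact (smul_eq_zero.mp h2v).resolve_left h2
  have hdec : ∀ v : V, ∃ vp ∈ Vp, ∃ vm ∈ Vm, vp + vm = v := by
    intro v
    refine ⟨(⅟2 : F) • (v + Xl v), ?_, (⅟2 : F) • (v - Xl v), ?_, ?_⟩
    · rw [hVp, map_smul, map_add, hX2, add_comm]
    · rw [hVm, map_smul, map_sub, hX2, ← smul_neg, neg_sub]
    · rw [← smul_add]
      have : v + Xl v + (v - Xl v) = (2 : F) • v := by rw [two_smul]; abel
      rw [this, smul_smul, invOf_mul_self, one_smul]
  have hcompl : IsCompl Vp Vm := by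
    refine ⟨hdisj, ?_⟩
    rw [codisjoint_iff, eq_top_iff]
    intro v _
    rw [Submodule.mem_sup]
    exact hdec v
  have horthpm : ∀ u ∈ Vp, ∀ w ∈ Vm, B u w = 0 := by
    intro u hu w hw
    rw [hVp] at hu
    rw [hVm] at hw
    have h := hXB u w
    rw [hu, hw, map_neg] at h
    have h2' : (2 : F) * B u w = 0 := by
      rw [two_mul]
      nth_rewrite 1 [← h]
      exact neg_add_cancel _
    exact (mul_eq_zero.mp h2').resolve_left h2
  have horthmp : ∀ w ∈ Vm, ∀ u ∈ Vp, B w u = 0 := by
    intro w hw u hu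
    rw [hsymm.eq]
    exact horthpm u hu w hw
  have hsepP : (B.restrict Vp).SeparatingLeft := by
    intro w hw
    have : (w : V) = 0 := by
      apply hB
      intro v
      obtain ⟨vp, hvp, vm, hvm, rfl⟩ := hdec v
      rw [map_add, horthpm w w.2 vm hvm, add_zero]
      exact hw ⟨vp, hvp⟩
    exact Subtype.ext this
  have hsepM : (B.restrict Vm).SeparatingLeft := by
    intro w hw
    have : (w : V) = 0 := by
      apply hB
      intro v
      obtain ⟨vp, hvp, vm, hvm, rfl⟩ := hdec v
      rw [map_add, horthmp w w.2 vp hvp, zero_add]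
      exact hw ⟨vm, hvm⟩
    exact Subtype.ext this
  obtain ⟨bp, hbp⟩ := LinearMap.BilinForm.exists_orthogonal_basis
    (LinearMap.BilinForm.isSymm_iff.mp (hsymm.restrict Vp))
  obtain ⟨bm, hbm⟩ := LinearMap.BilinForm.exists_orthogonal_basis
    (LinearMap.BilinForm.isSymm_iff.mp (hsymm.restrict Vm))
  have hdp := hbp.not_isOrtho_basis_self_of_separatingLeft hsepP
  have hdm := hbm.not_isOrtho_basis_self_of_separatingLeft hsepM
  let b : Module.Basis (Fin (Module.finrank F Vp) ⊕ Fin (Module.finrank F Vm)) F V :=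
    (bp.prod bm).map (Submodule.prodEquivOfIsCompl Vp Vm hcompl)
  have hbl : ∀ i, b (Sum.inl i) = (bp i : V) := by
    intro i
    simp [b]
  have hbr : ∀ j, b (Sum.inr j) = (bm j : V) := by
    intro j
    simp [b]
  refine ⟨_, _, b, ?_, ?_, ?_⟩
  · rintro (i | i) (j | j) hij
    · rw [hbl, hbl]
      have hij' : i ≠ j := fun h => hij (by rw [h])
      exact hbp hij'
    · rw [hbl, hbr]
      exact horthpm _ (bp i).2 _ (bm j).2
    · rw [hbr, hbl]
      exact horthmp _ (bm i).2 _ (bp j).2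
    · rw [hbr, hbr]
      have hij' : i ≠ j := fun h => hij (by rw [h])
      exact hbm hij'
  · rintro (i | i)
    · rw [hbl]
      exact hdp i
    · rw [hbr]
      exact hdm i
  · rintro (i | i)
    · rw [hbl, Sum.elim_inl, one_smul]
      exact (hVp _).mp (bp i).2
    · rw [hbr, Sum.elim_inr, neg_one_smul]
      exact (hVm _).mp (bm i).2

/-- orthogonal eigenbasis indexed by pairs -/
theorem exists_pair_eigenbasis (h2 : (2 : F) ≠ 0) {V : Type*} [AddCommGroup V] [Module F V]
    [FiniteDimensional F V] (B : LinearMap.BilinForm F V) (hsymm : B.IsSymm)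
    (hB : B.SeparatingLeft) (Xl : V →ₗ[F] V) (hX2 : ∀ v, Xl (Xl v) = v)
    (hXB : ∀ u v, B (Xl u) (Xl v) = B u v) (hdet : LinearMap.det Xl = 1) {d : ℕ}
    (hfr : Module.finrank F V = 2 * d) :
    ∃ (a' c' : ℕ) (b : Module.Basis (Fin 2 × (Fin a' ⊕ Fin c')) F V),
      (∀ i j, i ≠ j → B (b i) (b j) = 0) ∧ (∀ i, B (b i) (b i) ≠ 0) ∧
      ∀ k, Xl (b k) = Sum.elim (fun _ => (1 : F)) (fun _ => -1) k.2 • b k := by
  classical
  obtain ⟨np, nm, b, horth, hdiag, heig⟩ := exists_eigenbasis h2 B hsymm hB Xl hX2 hXB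
  have hXmat : LinearMap.toMatrix b b Xl =
      Matrix.diagonal (Sum.elim (fun _ => (1 : F)) (fun _ => -1)) := by
    ext i j
    rw [LinearMap.toMatrix_apply, heig, map_smul, b.repr_self, Finsupp.smul_apply,
      Finsupp.single_apply, smul_eq_mul]
    by_cases h : i = j
    · subst h; rw [if_pos rfl, mul_one, Matrix.diagonal_apply_eq]
    · rw [if_neg (fun h' => h h'.symm), mul_zero, Matrix.diagonal_apply_ne _ h]
  have hpow : (-1 : F) ^ nm = 1 := by
    have h := LinearMap.det_toMatrix b Xl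
    rw [hXmat, Matrix.det_diagonal, Fintype.prod_sum_type, hdet] at h
    simpa using h
  have hne : (-1 : F) ≠ 1 := by
    intro h
    apply h2
    have : (2 : F) = 1 + 1 := by norm_num
    rw [this]
    nth_rewrite 1 [← h]
    exact neg_add_cancel 1
  have hevm : Even nm := by
    rcases Nat.even_or_odd nm with h | h
    · exact h
    · exfalso
      rw [h.neg_one_pow] at hpow
      exact hne hpow
  have hsum : np + nm = 2 * d := by
    rw [← hfr, Module.finrank_eq_card_basis b, Fintype.card_sum, Fintype.card_fin,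
      Fintype.card_fin]
  have hevp : Even np := by
    have : Even (np + nm) := by rw [hsum]; exact even_two_mul d
    exact (Nat.even_add.mp this).mpr hevm
  obtain ⟨a', ha'⟩ := hevp
  obtain ⟨c', hc'⟩ := hevm
  have hp2 : np = 2 * a' := by omega
  have hm2 : nm = 2 * c' := by omega
  subst hp2 hm2
  let e : Fin (2 * a') ⊕ Fin (2 * c') ≃ Fin 2 × (Fin a' ⊕ Fin c') :=
    (Equiv.sumCongr finProdFinEquiv.symm finProdFinEquiv.symm).trans
      (Equiv.prodSumDistrib (Fin 2) (Fin a') (Fin c')).symm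
  have he : ∀ k, Sum.elim (fun _ => (1 : F)) (fun _ => -1) (e.symm k) =
      Sum.elim (fun _ => (1 : F)) (fun _ => -1) k.2 := by
    rintro ⟨i, j | j⟩
    · simp [e]
    · simp [e]
  refine ⟨a', c', b.reindex e, ?_, ?_, ?_⟩
  · intro i j hij
    rw [Module.Basis.reindex_apply, Module.Basis.reindex_apply]
    exact horth _ _ (fun h => hij (e.symm.injective h))
  · intro i
    rw [Module.Basis.reindex_apply]
    exact hdiag _
  · intro k
    rw [Module.Basis.reindex_apply, heig, he]

end aux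

open Matrix Cfsg Cfsg.Geo QuadraticMap Polynomial
open Cfsg.Agent.Helper44 Cfsg.Agent.Helper44.QType Cfsg.Agent.Helper13.QFE

universe u

variable {F : Type u} [Field F] {ι : Type} [Fintype ι] [DecidableEq ι]

/-- (INV1) an involution of determinant one in the isometry group commutes with some `θ'` -/
theorem exists_tdata_commute [Fintype F] (hodd : Odd (Fintype.card F))
    (Q : QuadraticForm F (ι → F)) (hQ : (polarBilin Q).Nondegenerate) (x : GL ι F)
    (hx : x ∈ Cfsg.isometryGroup F ⇑Q) (hx2 : x * x = 1) (hdet : (x : Matrix ι ι F).det = 1)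
    {δ : F} (hδ : ¬ IsSquare δ) {d : ℕ} (hι : Fintype.card ι = 2 * d) :
    ∃ θ' : Matrix ι ι F, TData Q θ' δ ∧ (x : Matrix ι ι F) * θ' = θ' * (x : Matrix ι ι F) := by
  classical
  have h2 : (2 : F) ≠ 0 := by
    have hc : ringChar F ≠ 2 := by
      intro h
      have h0 := (FiniteField.even_card_iff_char_two).mp h
      have h1 := Nat.odd_iff.mp hodd
      omega
    exact Ring.two_ne_zero hc
  have hδ0 : δ ≠ 0 := by
    rintro rfl
    exact hδ ⟨0, (mul_zero 0).symm⟩
  have hiso := (Cfsg.Agent.Helper13.mem_isometryGroup_iff (⇑Q) x).mp hx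
  let Xl : (ι → F) →ₗ[F] (ι → F) := Matrix.toLin' (x : Matrix ι ι F)
  have hXl : ∀ v, Xl v = (x : Matrix ι ι F) *ᵥ v := fun v => Matrix.toLin'_apply _ v
  have hxx : (x : Matrix ι ι F) * (x : Matrix ι ι F) = 1 := by
    have := congrArg (fun g : GL ι F => (g : Matrix ι ι F)) hx2
    simpa using this
  have hX2 : ∀ v, Xl (Xl v) = v := by
    intro v
    rw [hXl, hXl, Matrix.mulVec_mulVec, hxx, Matrix.one_mulVec]
  have hXB : ∀ u v, polarBilin Q (Xl u) (Xl v) = polarBilin Q u v := by
    intro u v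
    rw [polarBilin_apply_apply, polarBilin_apply_apply, hXl, hXl]
    exact Cfsg.Agent.Helper13.polar_mulVec_of_isometry Q _ hiso u v
  have hsymm : LinearMap.BilinForm.IsSymm (polarBilin Q) :=
    ⟨fun u v => by rw [polarBilin_apply_apply, polarBilin_apply_apply, polar_comm]⟩
  have hdetl : LinearMap.det Xl = 1 := by
    rw [LinearMap.det_toLin']
    exact hdet
  have hfr : Module.finrank F (ι → F) = 2 * d := by
    rw [Module.finrank_fintype_fun_eq_card, hι]
  obtain ⟨a', c', b, horth, hdiag, heig⟩ :=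
    exists_pair_eigenbasis h2 (polarBilin Q) hsymm hQ.1 Xl hX2 hXB hdetl hfr
  obtain ⟨T, hT1, hT2, hT3⟩ :=
    exists_T_of_basis h2 hδ0 (polarBilin Q) b horth hdiag Xl _ heig
  have hTm : ∀ v, (LinearMap.toMatrix' T) *ᵥ v = T v := by
    intro v
    rw [← Matrix.toLin'_apply, Matrix.toLin'_toMatrix']
  refine ⟨LinearMap.toMatrix' T, ⟨hδ, ?_, ?_⟩, ?_⟩
  · have h : T ∘ₗ T = δ • LinearMap.id := LinearMap.ext hT1
    rw [← LinearMap.toMatrix'_comp, h, map_smul, LinearMap.toMatrix'_id]
  · intro u v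
    have h := hT2 u v
    rw [polarBilin_apply_apply, polarBilin_apply_apply] at h
    rw [hTm, hTm]
    exact h
  · have h : Xl ∘ₗ T = T ∘ₗ Xl := LinearMap.ext hT3
    have h' := congrArg LinearMap.toMatrix' h
    rw [LinearMap.toMatrix'_comp, LinearMap.toMatrix'_comp, LinearMap.toMatrix'_toLin'] at h'
    exact h'

end Cfsg.Agent.Helper12.QFEINV1
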