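import Mathlib
import Cfsg.Agent.Helper13.QFEDefs
import Cfsg.Agent.Helper44.QTypeProd

/-!
# Piece (M2) of S5977/S5978 (helper13's plan, board #8823): the type of the model form
-/

set_option autoImplicit false

namespace Cfsg.Agent.Helper12.QFEM2

open Matrix Cfsg Cfsg.Geo QuadraticMap Polynomial
open Cfsg.Agent.Helper44 Cfsg.Agent.Helper44.QType Cfsg.Agent.Helper13.QFE

universe u

variable {F : Type u} [Field F] {ι : Type} [Fintype ι] [DecidableEq ι]

omit [DecidableEq ι] in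
/-- the polar form of the model -/
theorem polar_model {Q : QuadraticForm F (ι → F)} {θ : Matrix ι ι F} {L : Type*} [Field L]
    [Algebra F L] {s : L} {φ : L →ₗ[F] F} {n : ℕ} (M : LModel Q θ L s φ n)
    (c c' : Fin n → L) : polar ⇑Q (M.Ψ c) (M.Ψ c') = φ (polar ⇑M.QL c c') := by
  unfold polar
  rw [← map_add, M.hQ, M.hQ, M.hQ, map_sub, map_sub]

omit [DecidableEq ι] in
/-- the model form is nondegenerate (elementwise form) -/
theorem model_nondeg' {Q : QuadraticForm F (ι → F)} (hQ : (polarBilin Q).Nondegenerate)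
    {θ : Matrix ι ι F} {L : Type*} [Field L] [Algebra F L] {s : L} {φ : L →ₗ[F] F} {n : ℕ}
    (M : LModel Q θ L s φ n) (x : Fin n → L) (hx : ∀ y, polar ⇑M.QL x y = 0) : x = 0 := by
  have h1 : M.Ψ x = 0 := by
    apply hQ.1
    intro v
    have hv : v = M.Ψ (M.Ψ.symm v) := (M.Ψ.apply_symm_apply v).symm
    rw [polarBilin_apply_apply, hv, polar_model, hx, map_zero]
  exact M.Ψ.map_eq_zero_iff.mp h1

/-- the kernel of a nonzero functional on a quadratic extension has `q` elements -/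
theorem card_ker_functional [Fintype F] {L : Type*} [Field L] [Algebra F L] [Fintype L]
    (hfr : Module.finrank F L = 2) {φ : L →ₗ[F] F} (hφ : φ ≠ 0) :
    Nat.card {a : L // φ a = 0} = Nat.card F := by
  have hsurj : Function.Surjective φ := by
    obtain ⟨a, ha⟩ : ∃ a, φ a ≠ 0 := by
      by_contra h
      push Not at h
      exact hφ (LinearMap.ext h)
    intro y
    refine ⟨(y / φ a) • a, ?_⟩
    rw [map_smul, smul_eq_mul, div_mul_cancel₀ _ ha]
  have hrange : LinearMap.range φ = ⊤ := LinearMap.range_eq_top.mpr hsurj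
  have h1 := LinearMap.finrank_range_add_finrank_ker φ
  rw [hrange, finrank_top, Module.finrank_self, hfr] at h1
  have hker : Module.finrank F (LinearMap.ker φ) = 1 := by omega
  have h2 : Nat.card (LinearMap.ker φ) = Nat.card F ^ 1 := by
    rw [← hker]
    exact Module.natCard_eq_pow_finrank (K := F) (V := LinearMap.ker φ)
  rw [pow_one] at h2
  rw [← h2]
  exact Nat.card_congr (Equiv.subtypeEquivRight (fun a => by rw [LinearMap.mem_ker]))

/-- (M2) the type of the model form (zero counting) -/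
theorem hasType_model [Fintype F] (hodd : Odd (Fintype.card F)) {Q : QuadraticForm F (ι → F)}
    (hQ : (polarBilin Q).Nondegenerate) {θ : Matrix ι ι F} {δ : F} (hθ : TData Q θ δ)
    {L : Type*} [Field L] [Algebra F L] [Fintype L] {s : L} (hL : QExt F L δ s)
    {φ : L →ₗ[F] F} (hφ : φ ≠ 0) {m : ℕ} (M : LModel Q θ L s φ (2 * m)) {ε : ℤ}
    (hT : HasType (⇑Q) (2 * m) ε) : HasType (⇑M.QL) m ε := by
  classical
  have hVL : Module.finrank L (Fin (2 * m) → L) = 2 * m := Module.finrank_fin_fun L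
  have hndL : ∀ x : Fin (2 * m) → L, (∀ y, polar ⇑M.QL x y = 0) → x = 0 :=
    fun x hx => model_nondeg' hQ M x hx
  have hB : ∀ a : L, a ≠ 0 → fc (⇑M.QL) a = fc (⇑M.QL) 1 :=
    fun a ha => fc_eq_fc_one M.QL hVL hndL a ha
  have hsumL := fc_zero_add M.QL hVL hndL
  -- `|L| = q ^ 2`
  have hcardL : Nat.card L = Nat.card F ^ 2 := by
    rw [← hL.fr]
    exact Module.natCard_eq_pow_finrank (K := F) (V := L)
  -- the zeros of `Q` are the `c` with `QL c ∈ ker φ`
  have h1 : fc (⇑Q) 0 = fc (fun c : Fin (2 * m) → L => φ (M.QL c)) 0 := by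
    refine fc_congr (⇑Q) _ M.Ψ.symm.toEquiv ?_ 0
    intro v
    show φ (M.QL (M.Ψ.symm v)) = Q v
    rw [← M.hQ, M.Ψ.apply_symm_apply]
  have h2 : fc (fun c : Fin (2 * m) → L => φ (M.QL c)) 0 =
      ∑ a : {a : L // φ a = 0}, fc (⇑M.QL) a.1 := by
    unfold fc
    rw [← Nat.card_sigma]
    refine Nat.card_congr ⟨fun c => ⟨⟨M.QL c.1, c.2⟩, ⟨c.1, rfl⟩⟩,
      fun x => ⟨x.2.1, by show φ (M.QL x.2.1) = 0; rw [x.2.2]; exact x.1.2⟩, ?_, ?_⟩
    · intro c; rfl
    · rintro ⟨⟨a, ha⟩, ⟨c, hc⟩⟩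
      have hc' : M.QL c = a := hc
      subst hc'
      rfl
  have h3 : ((∑ a : {a : L // φ a = 0}, fc (⇑M.QL) a.1 : ℕ) : ℤ) =
      (Nat.card F : ℤ) * (fc (⇑M.QL) 1 : ℤ) + ((fc (⇑M.QL) 0 : ℤ) - (fc (⇑M.QL) 1 : ℤ)) := by
    have hterm : ∀ a : {a : L // φ a = 0}, (fc (⇑M.QL) a.1 : ℤ) =
        (fc (⇑M.QL) 1 : ℤ) +
          (if a = ⟨0, map_zero φ⟩ then (fc (⇑M.QL) 0 : ℤ) - (fc (⇑M.QL) 1 : ℤ) else 0) := by
      intro a
      by_cases ha : a = ⟨0, map_zero φ⟩
      · rw [if_pos ha, ha]; ring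
      · rw [if_neg ha, add_zero, hB a.1 (fun h => ha (Subtype.ext h))]
    rw [Nat.cast_sum, Finset.sum_congr rfl (fun a _ => hterm a), Finset.sum_add_distrib,
      Finset.sum_const, Finset.sum_ite_eq' Finset.univ, if_pos (Finset.mem_univ _), nsmul_eq_mul,
      Finset.card_univ, ← Nat.card_eq_fintype_card, card_ker_functional hL.fr hφ]
  -- arithmetic
  unfold HasType at hT ⊢
  rw [h1, h2, h3] at hT
  rw [hcardL] at hsumL ⊢
  push_cast at hsumL ⊢
  obtain ⟨q, hq⟩ : ∃ q : ℤ, q = (Nat.card F : ℤ) := ⟨_, rfl⟩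
  obtain ⟨X, hX⟩ : ∃ X : ℤ, X = q ^ (2 * m) := ⟨_, rfl⟩
  obtain ⟨A, hA⟩ : ∃ A : ℤ, A = (fc (⇑M.QL) 0 : ℤ) := ⟨_, rfl⟩
  obtain ⟨B, hBB⟩ : ∃ B : ℤ, B = (fc (⇑M.QL) 1 : ℤ) := ⟨_, rfl⟩
  rw [← hq, ← hA, ← hBB] at hT hsumL
  rw [← hq, ← hA]
  have e1 : q ^ (2 * (2 * m)) = X * X := by rw [hX]; ring
  have e2 : q ^ (2 * m + 1) = X * q := by rw [hX, pow_succ]
  have e3 : (q ^ 2) ^ (2 * m) = X * X := by rw [hX]; ring
  have e4 : (q ^ 2) ^ (m + 1) = X * q ^ 2 := by rw [hX]; ring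
  have e5 : (q ^ 2) ^ m = X := by rw [hX, ← pow_mul]
  rw [e1, e2, ← hX] at hT
  rw [e3] at hsumL
  rw [e3, e4, e5]
  have hq1 : q - 1 ≠ 0 := by
    have h' : 1 < Nat.card F := by
      rw [Nat.card_eq_fintype_card]
      exact Fintype.one_lt_card
    have : (2 : ℤ) ≤ q := by
      rw [hq]
      exact_mod_cast h'
    omega
  have h4 : (q - 1) * (q ^ 2 * B - X * X + ε * X) = 0 := by
    linear_combination q * hsumL - hT
  have h5 : q ^ 2 * B - X * X + ε * X = 0 := by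
    rcases mul_eq_zero.mp h4 with h | h
    · exact absurd h hq1
    · exact h
  linear_combination q ^ 2 * hsumL - (q ^ 2 - 1) * h5

end Cfsg.Agent.Helper12.QFEM2
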