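import Mathlib
import Cfsg.Agent.Helper13.QFEDefs
import Cfsg.Agent.Helper44.EichlerOmega
import Cfsg.Agent.Helper44.QGeom
import Cfsg.Agent.Helper44.Singular
import Cfsg.Agent.Helper5.BalO
import Cfsg.Agent.Helper45.OmegaTrans2

/-!
# Piece (SIEGEL) of S5977/S5978 (helper13's plan, board #8823): a unipotent element of `Ω` of
order `p` with `rank (x - 1) = 2`
-/

set_option autoImplicit false

namespace Cfsg.Agent.Helper12.QFESIEGEL

open Matrix Cfsg Cfsg.Geo QuadraticMap Polynomial
open Cfsg.Agent.Helper44 Cfsg.Agent.Helper44.QType Cfsg.Agent.Helper13.QFE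

universe u

variable {F : Type u} [Field F] {ι : Type} [Fintype ι] [DecidableEq ι]

/-- (SIEGEL) -/
theorem exists_siegel [Fintype F] {p : ℕ} [Fact p.Prime] [CharP F p] (hodd : Odd (Fintype.card F))
    (Q : QuadraticForm F (ι → F)) (hQ : (polarBilin Q).Nondegenerate) {d : ℕ}
    (hι : Fintype.card ι = 2 * d) (hd : 3 ≤ d) {ε : ℤ} (hε : ε = 1 ∨ ε = -1)
    (hT : HasType (⇑Q) d ε) :
    ∃ x : GL ι F, x ∈ omegaGL ⇑Q ∧ x ^ p = 1 ∧ ((x : Matrix ι ι F) - 1).rank = 2 := by
  classical
  have hfr : Module.finrank F (ι → F) = 2 * d := by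
    rw [Module.finrank_fintype_fun_eq_card, hι]
  -- `2 ≠ 0`
  have h2 : (2 : F) ≠ 0 := by
    have h1 : ringChar F ≠ 2 := by
      intro h
      rw [FiniteField.even_card_iff_char_two] at h
      obtain ⟨k, hk⟩ := hodd
      omega
    exact Ring.two_ne_zero h1
  -- a singular vector `u` and a nonsingular vector `w` orthogonal to it
  obtain ⟨u, hu0, hu⟩ := Cfsg.Agent.Helper44.exists_singular Q (by omega)
  obtain ⟨w, hwperp, hw⟩ := QG.exists_nonsingular_mem_perp hQ (Submodule.span F {u}) (by
    have := QG.finrank_span_singleton_le_one (F := F) u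
    omega)
  have hwu : polar ⇑Q w u = 0 := QG.mem_perp_span.mp hwperp u (Set.mem_singleton u)
  have huw : polar ⇑Q u w = 0 := by rw [polar_comm]; exact hwu
  -- the Eichler transformation
  have hg : Cfsg.Agent.Helper5.eichlerO Q u w ∈ Cfsg.Omega F ⇑Q :=
    eichlerO_mem_Omega Q hQ (by omega) u w
  refine ⟨(Cfsg.Agent.Helper5.eichlerO Q u w).1, Subgroup.mem_map.mpr ⟨_, hg, rfl⟩, ?_, ?_⟩
  · -- order `p`
    have hp : Cfsg.Agent.Helper5.eichlerO Q u w ^ p = 1 := by
      rw [Cfsg.Agent.Helper5.Bal.eichlerO_pow Q hu huw, ← Nat.cast_smul_eq_nsmul F,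
        CharP.cast_eq_zero F p, zero_smul, Cfsg.Agent.Helper5.eichlerO_zero]
    have := congrArg Subtype.val hp
    simpa using this
  · -- the rank
    obtain ⟨u', hu', huu'⟩ := Cfsg.Agent.Helper45.OmegaParity.exists_hyp_partner Q hQ u hu0 hu
    set N : Matrix ι ι F :=
      ((Cfsg.Agent.Helper5.eichlerO Q u w).1 : Matrix ι ι F) - 1 with hN
    set w' : ι → F := w + Q w • u with hw'
    have hNv : ∀ v : ι → F, N *ᵥ v = polar ⇑Q w v • u - polar ⇑Q u v • w' := by
      intro v
      rw [hN, Matrix.sub_mulVec, Matrix.one_mulVec,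
        ← Cfsg.Agent.Helper45.OmegaParity.lin_apply Q, Cfsg.Agent.Helper5.lin_eichlerO Q hu huw, hw']
      module
    have hrange : LinearMap.range N.mulVecLin = Submodule.span F {u, w'} := by
      apply le_antisymm
      · rintro _ ⟨v, rfl⟩
        rw [Matrix.mulVecLin_apply, hNv]
        exact Submodule.sub_mem _
          (Submodule.smul_mem _ _ (Submodule.subset_span (by simp)))
          (Submodule.smul_mem _ _ (Submodule.subset_span (by simp)))
      · rw [Submodule.span_le]
        have h2w : (2 : F) * Q w ≠ 0 := mul_ne_zero h2 hw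
        have hu_mem : u ∈ LinearMap.range N.mulVecLin := by
          refine ⟨(2 * Q w)⁻¹ • w, ?_⟩
          rw [Matrix.mulVecLin_apply, hNv, polar_smul_right, polar_smul_right, huw,
            QG.polar_self_eq, smul_eq_mul, smul_eq_mul, mul_zero, zero_smul, sub_zero,
            inv_mul_cancel₀ h2w, one_smul]
        have hw'_mem : w' ∈ LinearMap.range N.mulVecLin := by
          have h1 : N.mulVecLin u' = polar ⇑Q w u' • u - w' := by
            rw [Matrix.mulVecLin_apply, hNv, huu', one_smul]
          have h3 : w' = polar ⇑Q w u' • u - N.mulVecLin u' := by rw [h1]; abel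
          rw [h3]
          exact Submodule.sub_mem _ (Submodule.smul_mem _ _ hu_mem) ⟨u', rfl⟩
        intro z hz
        rcases hz with rfl | hz
        · exact hu_mem
        · rw [Set.mem_singleton_iff] at hz
          rw [hz]; exact hw'_mem
    have hli : LinearIndependent F ![u, w'] := by
      rw [LinearIndependent.pair_iff]
      intro s t hst
      have ht : t = 0 := by
        by_contra ht
        apply hw
        have h1 : w = (-(s + t * Q w) / t) • u := by
          have h2' : t • w = -(s + t * Q w) • u := by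
            have : s • u + t • w' = s • u + t • w + (t * Q w) • u := by
              rw [hw', smul_add, smul_smul, add_assoc]
            rw [this] at hst
            have h4 : t • w = -(s • u + (t * Q w) • u) := by
              rw [eq_neg_iff_add_eq_zero]
              rw [← hst]; abel
            rw [h4, neg_smul, add_smul]
          rw [div_eq_inv_mul, mul_smul, ← h2', smul_smul, inv_mul_cancel₀ ht, one_smul]
        rw [h1, QuadraticMap.map_smul, hu, smul_zero]
      refine ⟨?_, ht⟩
      rw [ht, zero_smul, add_zero] at hst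
      rcases smul_eq_zero.mp hst with h | h
      · exact h
      · exact absurd h hu0
    show Module.finrank F (LinearMap.range N.mulVecLin) = 2
    rw [hrange]
    have h3 := finrank_span_eq_card hli
    have h4 : Set.range ![u, w'] = {u, w'} := by
      ext z
      simp only [Matrix.range_cons, Matrix.range_empty, Set.union_empty, Set.union_singleton,
        Set.mem_insert_iff, Set.mem_singleton_iff]
      tauto
    rw [h4] at h3
    simpa using h3

end Cfsg.Agent.Helper12.QFESIEGEL
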