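import Mathlib
import Cfsg.Agent.Helper99.QSpEllDefs
import Cfsg.Agent.Helper99.QSpGlue
import Cfsg.Agent.Helper44.QTypeFpf
import Cfsg.Agent.Helper44.OrthRealizeC

/-!
# (ME1) for helper99's S5990 / S5988: partners of a vector of norm `1` with prescribed norm
-/

set_option autoImplicit false
set_option linter.unusedSectionVars false
set_option linter.unusedVariables false
set_option linter.style.haveILetI false

namespace Cfsg.Agent.Helper12.QSpEll

open Module
open Cfsg.Agent.Helper99.SpStruct
open Cfsg.Agent.Helper44 Cfsg.Agent.Helper44.QType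
open Cfsg.Agent.Helper99.QSp
open Cfsg.Agent.Helper94

universe u v

variable {F : Type u} [Field F] [Fintype F]
variable {V : Type v} [AddCommGroup V] [Module F V] [FiniteDimensional F V]

omit [Fintype F] in
/-- the Gram system of a pair `(u, w)` with `Q u = 1` and nonzero discriminant -/
theorem gram_solve {β γ a b : F} (hδ : β ^ 2 - 4 * γ ≠ 0) (h1 : 2 * a + β * b = 0)
    (h2 : β * a + 2 * γ * b = 0) : a = 0 ∧ b = 0 := by
  have hb : (β ^ 2 - 4 * γ) * b = 0 := by linear_combination β * h1 - 2 * h2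
  have ha : (β ^ 2 - 4 * γ) * a = 0 := by linear_combination β * h2 - 2 * γ * h1
  exact ⟨(mul_eq_zero.mp ha).resolve_left hδ, (mul_eq_zero.mp hb).resolve_left hδ⟩

omit [Fintype F] [FiniteDimensional F V] in
theorem pB_pair_left (Q : QuadraticForm F V) {u w : V} (hu : Q u = 1) (a b : F) :
    pB Q u (a • u + b • w) = 2 * a + pB Q u w * b := by
  rw [map_add, map_smul, map_smul, smul_eq_mul, smul_eq_mul, pB_self, hu]
  ring

omit [Fintype F] [FiniteDimensional F V] in
theorem pB_pair_right (Q : QuadraticForm F V) {u w : V} (a b : F) :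
    pB Q w (a • u + b • w) = pB Q u w * a + 2 * Q w * b := by
  have hs : pB Q w u = pB Q u w := by rw [pB_apply, pB_apply, QuadraticMap.polar_comm]
  rw [map_add, map_smul, map_smul, smul_eq_mul, smul_eq_mul, pB_self, hs]
  ring

omit [Fintype F] [FiniteDimensional F V] in
/-- a pair `(u, w)` with `Q u = 1` and nonzero discriminant is linearly independent -/
theorem pair_eq_zero (Q : QuadraticForm F V) {u w : V} (hu : Q u = 1)
    (hδ : (pB Q u w) ^ 2 - 4 * Q w ≠ 0) {a b : F}
    (h : ∀ p ∈ Submodule.span F {u, w}, pB Q p (a • u + b • w) = 0) : a = 0 ∧ b = 0 := by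
  have h1 := h u (Submodule.subset_span (by simp))
  have h2 := h w (Submodule.subset_span (by simp))
  rw [pB_pair_left Q hu] at h1
  rw [pB_pair_right Q] at h2
  exact gram_solve hδ h1 h2

omit [Fintype F] [FiniteDimensional F V] in
theorem nd_pair (Q : QuadraticForm F V) {u w : V} (hu : Q u = 1)
    (hδ : (pB Q u w) ^ 2 - 4 * Q w ≠ 0) : Nd (pB Q) (Submodule.span F {u, w}) := by
  rw [nd_iff]
  intro x hx hx0
  obtain ⟨a, b, rfl⟩ := Submodule.mem_span_pair.mp hx
  obtain ⟨ha, hb⟩ := pair_eq_zero Q hu hδ hx0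
  rw [ha, hb, zero_smul, zero_smul, add_zero]

omit [Fintype F] [FiniteDimensional F V] in
theorem finrank_pair (Q : QuadraticForm F V) {u w : V} (hu : Q u = 1)
    (hδ : (pB Q u w) ^ 2 - 4 * Q w ≠ 0) : finrank F ↥(Submodule.span F {u, w}) = 2 := by
  have hli : LinearIndependent F ![u, w] := by
    rw [LinearIndependent.pair_iff]
    intro a b hab
    apply pair_eq_zero Q hu hδ
    intro p _
    rw [hab, map_zero]
  have := finrank_span_eq_card hli
  rw [Matrix.range_cons_cons_empty] at this
  rw [this]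
  simp

/-- a nondegenerate space of dimension `2 m`, `m ≥ 1`, represents every scalar -/
theorem exists_value (Q : QuadraticForm F V) {X : Submodule F V} (hX : Nd (pB Q) X) {m : ℕ}
    (hm : 1 ≤ m) (hdim : finrank F ↥X = 2 * m) (c : F) : ∃ x ∈ X, Q x = c := by
  by_cases hc : c = 0
  · exact ⟨0, X.zero_mem, by rw [map_zero, hc]⟩
  · obtain ⟨ε, hε, hT⟩ := exists_qType Q hX hdim
    have h1 := fc_one_mul (qSub Q X) hdim (qSub_nd Q hX) hT
    have hq2 := two_le_card (F := F)
    have hpos : (0 : ℤ) < (Nat.card F : ℤ) ^ m * ((Nat.card F : ℤ) ^ m - ε) := by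
      have h2 : (2 : ℤ) ≤ (Nat.card F : ℤ) ^ m := by
        calc (2 : ℤ) ≤ (Nat.card F : ℤ) ^ 1 := by rw [pow_one]; exact hq2
          _ ≤ (Nat.card F : ℤ) ^ m := pow_le_pow_right₀ (by linarith) hm
      have h3 : (0 : ℤ) < (Nat.card F : ℤ) ^ m - ε := by
        rcases hε with h | h <;> rw [h] <;> linarith
      exact mul_pos (by linarith) h3
    have hfc1 : fc (⇑(qSub Q X)) 1 ≠ 0 := by
      intro h0
      rw [h0, Nat.cast_zero, zero_mul] at h1
      rw [← h1] at hpos
      exact lt_irrefl _ hpos
    have hfcc : fc (⇑(qSub Q X)) c ≠ 0 := by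
      rw [fc_eq_fc_one (qSub Q X) hdim (qSub_nd Q hX) c hc]
      exact hfc1
    unfold fc at hfcc
    haveI : Nonempty {v : ↥X // (qSub Q X) v = c} := by
      by_contra hne
      rw [not_nonempty_iff] at hne
      exact hfcc Nat.card_of_isEmpty
    obtain ⟨⟨x, hx⟩⟩ := this
    exact ⟨x.1, x.2, hx⟩

/-- step (1): a vector with nonzero discriminant against `u` -/
theorem exists_disc_ne_zero (Q : QuadraticForm F V) {X : Submodule F V} (hX : Nd (pB Q) X)
    (hdim : 2 ≤ finrank F ↥X) {u : V} (huX : u ∈ X) (hu : Q u = 1) :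
    ∃ w ∈ X, (pB Q u w) ^ 2 - 4 * Q w ≠ 0 := by
  by_contra hcon
  push Not at hcon
  have hu0 : u ≠ 0 := by
    intro h
    rw [h, map_zero] at hu
    exact zero_ne_one hu
  by_cases h2 : (2 : F) = 0
  · -- characteristic two: `u` is in the radical
    have h4 : (4 : F) = 0 := by
      have : (4 : F) = 2 * 2 := by norm_num
      rw [this, h2, zero_mul]
    apply hu0
    apply nd_iff.mp hX u huX
    intro w hw
    have h := hcon w hw
    rw [h4, zero_mul, sub_zero] at h
    have hs : pB Q w u = pB Q u w := by rw [pB_apply, pB_apply, QuadraticMap.polar_comm]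
    rw [hs]
    exact pow_eq_zero_iff (two_ne_zero) |>.mp h
  · -- odd characteristic
    -- polarization: `4 B(w, w') = 2 B(u, w) B(u, w')`
    have hpol : ∀ w ∈ X, ∀ w' ∈ X, 4 * pB Q w w' = 2 * (pB Q u w * pB Q u w') := by
      intro w hw w' hw'
      have e1 := hcon w hw
      have e2 := hcon w' hw'
      have e3 := hcon (w + w') (X.add_mem hw hw')
      have e4 : Q (w + w') = Q w + Q w' + pB Q w w' := by
        rw [pB_apply]; unfold QuadraticMap.polar; ring
      rw [map_add, e4] at e3
      linear_combination e1 + e2 - e3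
    -- a vector of `X` outside `span {u}`
    have hlt : Submodule.span F {u} < X := by
      refine lt_of_le_of_ne ((Submodule.span_singleton_le_iff_mem u X).mpr huX) ?_
      intro heq
      have := finrank_span_singleton (K := F) hu0
      rw [heq] at this
      omega
    obtain ⟨x2, hx2X, hx2⟩ := SetLike.exists_of_lt hlt
    set w : V := x2 - (pB Q u x2 * 2⁻¹) • u with hw
    have hwX : w ∈ X := X.sub_mem hx2X (X.smul_mem _ huX)
    have hw0 : w ≠ 0 := by
      intro h
      apply hx2
      rw [hw, sub_eq_zero] at h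
      rw [h]
      exact Submodule.smul_mem _ _ (Submodule.mem_span_singleton_self u)
    have huw : pB Q u w = 0 := by
      rw [hw, map_sub, map_smul, smul_eq_mul, pB_self, hu]
      field_simp
      ring
    apply hw0
    apply nd_iff.mp hX w hwX
    intro w' hw'
    have h := hpol w' hw' w hwX
    rw [huw, mul_zero, mul_zero] at h
    have h4 : (4 : F) ≠ 0 := by
      have : (4 : F) = 2 * 2 := by norm_num
      rw [this]
      exact mul_ne_zero h2 h2
    exact (mul_eq_zero.mp h).resolve_left h4

/-- (ME1) every vector of norm `1` of a nondegenerate space of dimension `≥ 4` has a partner with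
prescribed norm -/
theorem exists_epartner (Q : QuadraticForm F V) {X : Submodule F V} (hX : Nd (pB Q) X) {g : ℕ}
    (hg : 2 ≤ g) (hdim : finrank F ↥X = 2 * g) {u : V} (huX : u ∈ X) (hu : Q u = 1) (ζ : F) :
    ∃ v ∈ X, pB Q u v = 1 ∧ Q v = ζ := by
  obtain ⟨w, hwX, hδ⟩ := exists_disc_ne_zero Q hX (by omega) huX hu
  set P : Submodule F V := Submodule.span F {u, w} with hP
  have hPX : P ≤ X := by
    rw [hP, Submodule.span_le]
    intro x hx
    rcases hx with rfl | rfl
    · exact huX
    · exact hwX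
  have hPnd : Nd (pB Q) P := nd_pair Q hu hδ
  have hPdim : finrank F ↥P = 2 := finrank_pair Q hu hδ
  have huP : u ∈ P := Submodule.subset_span (by simp)
  have hwP : w ∈ P := Submodule.subset_span (by simp)
  set X0 : Submodule F V := X ⊓ (pB Q).orthogonal P with hX0
  have hX0nd : Nd (pB Q) X0 := Nd.inf_orth (pB_refl Q) hPX hPnd hX
  have hX0dim : finrank F ↥X0 = 2 * (g - 1) := by
    have := hPnd.finrank_inf_orth (pB_refl Q) hPX
    rw [← hX0] at this
    omega
  -- `w' ∈ P` with `B(u, w') = 1`
  obtain ⟨w', hw'P, hw'⟩ : ∃ w' ∈ P, pB Q u w' = 1 := by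
    by_cases hβ : pB Q u w = 0
    · have h2 : (2 : F) ≠ 0 := by
        intro h2
        apply hδ
        have h4 : (4 : F) = 0 := by
          have : (4 : F) = 2 * 2 := by norm_num
          rw [this, h2, zero_mul]
        rw [hβ, h4]
        ring
      refine ⟨(2 : F)⁻¹ • u, P.smul_mem _ huP, ?_⟩
      rw [map_smul, smul_eq_mul, pB_self, hu]
      field_simp
    · refine ⟨(pB Q u w)⁻¹ • w, P.smul_mem _ hwP, ?_⟩
      rw [map_smul, smul_eq_mul]
      field_simp
  obtain ⟨x, hxX0, hx⟩ := exists_value Q hX0nd (by omega : 1 ≤ g - 1) hX0dim (ζ - Q w')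
  have hxorth : ∀ p ∈ P, pB Q p x = 0 := by
    intro p hp
    have := (LinearMap.BilinForm.mem_orthogonal_iff.mp hxX0.2) p hp
    exact this
  refine ⟨w' + x, X.add_mem (hPX hw'P) hxX0.1, ?_, ?_⟩
  · rw [map_add, hw', hxorth u huP, add_zero]
  · have e4 : Q (w' + x) = Q w' + Q x + pB Q w' x := by
      rw [pB_apply]; unfold QuadraticMap.polar; ring
    rw [e4, hx, hxorth w' hw'P]
    ring

end Cfsg.Agent.Helper12.QSpEll
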