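import Mathlib
import Cfsg.Agent.Helper99.QSpEllDefs
import Cfsg.Agent.Helper99.QSpGlue
import Cfsg.Agent.Helper44.QTypeFpf
import Cfsg.Agent.Helper44.OrthRealizeC
import Cfsg.Agent.Helper12.QSpME1

/-!
# (ME2) for helper99's S5990 / S5988: the number of elliptic partners of a vector of norm `1`
-/

set_option autoImplicit false
set_option linter.unusedSectionVars false
set_option linter.unusedVariables false
set_option linter.style.haveILetI false

namespace Cfsg.Agent.Helper12.QSpEll

open Module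
open Cfsg.Agent.Helper99.SpStruct
open Cfsg.Agent.Helper44 Cfsg.Agent.Helper44.QType
open Cfsg.Agent.Helper99.QSp
open Cfsg.Agent.Helper94

universe u v

variable {F : Type u} [Field F] [Fintype F]
variable {V : Type v} [AddCommGroup V] [Module F V] [FiniteDimensional F V]

omit [Fintype F] in
/-- the discriminant of an elliptic pair is nonzero -/
theorem one_sub_four_ne_zero {ζ : F} (hζ : ∀ t : F, t ^ 2 + t + ζ ≠ 0) : (1 : F) - 4 * ζ ≠ 0 := by
  intro h
  by_cases h2 : (2 : F) = 0
  · have h4 : (4 : F) = 0 := by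
      have : (4 : F) = 2 * 2 := by norm_num
      rw [this, h2, zero_mul]
    rw [h4, zero_mul, sub_zero] at h
    exact one_ne_zero h
  · apply hζ (-(2 : F)⁻¹)
    have h4 : (4 : F) ≠ 0 := by
      have : (4 : F) = 2 * 2 := by norm_num
      rw [this]
      exact mul_ne_zero h2 h2
    have hz : ζ = 4⁻¹ := by
      field_simp
      linear_combination -h
    rw [hz]
    field_simp
    ring

omit [Fintype F] [FiniteDimensional F V] in
/-- the norm of a combination of a pair -/
theorem q_pair (Q : QuadraticForm F V) (u w : V) (a b : F) :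
    Q (a • u + b • w) = a ^ 2 * Q u + b ^ 2 * Q w + a * b * pB Q u w := by
  have e4 : Q (a • u + b • w) = Q (a • u) + Q (b • w) + pB Q (a • u) (b • w) := by
    rw [pB_apply]; unfold QuadraticMap.polar; ring
  have e5 : pB Q (a • u) (b • w) = a * b * pB Q u w := by
    simp only [map_smul, LinearMap.smul_apply, smul_eq_mul]
    ring
  rw [e4, e5, QuadraticMap.map_smul, QuadraticMap.map_smul, smul_eq_mul, smul_eq_mul]
  ring

omit [Fintype F] [FiniteDimensional F V] in
theorem q_add_of_orth (Q : QuadraticForm F V) {p x : V} (h : pB Q p x = 0) :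
    Q (p + x) = Q p + Q x := by
  have e4 : Q (p + x) = Q p + Q x + pB Q p x := by
    rw [pB_apply]; unfold QuadraticMap.polar; ring
  rw [e4, h, add_zero]

/-- the sum over `α` of the fibre counts -/
theorem sum_fc_param {W : Type*} (q0 : W → F) (hfc : ∀ c : F, c ≠ 0 → fc q0 c = fc q0 1)
    {κ : F} (hκ : κ ≠ 0) :
    (∑ α : F, (fc q0 (κ * (α ^ 2 - α)) : ℤ)) =
      2 * (fc q0 0 : ℤ) + ((Fintype.card F : ℤ) - 2) * (fc q0 1 : ℤ) := by
  classical
  have hterm : ∀ α : F, (fc q0 (κ * (α ^ 2 - α)) : ℤ) =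
      (fc q0 1 : ℤ) + (if α = 0 ∨ α = 1 then (fc q0 0 : ℤ) - (fc q0 1 : ℤ) else 0) := by
    intro α
    by_cases hα : α = 0 ∨ α = 1
    · rw [if_pos hα]
      have : κ * (α ^ 2 - α) = 0 := by
        rcases hα with h | h <;> rw [h] <;> ring
      rw [this]; ring
    · rw [if_neg hα, add_zero]
      push Not at hα
      have hne : κ * (α ^ 2 - α) ≠ 0 := by
        apply mul_ne_zero hκ
        have : α ^ 2 - α = α * (α - 1) := by ring
        rw [this]
        exact mul_ne_zero hα.1 (sub_ne_zero.mpr hα.2)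
      rw [hfc _ hne]
  rw [Finset.sum_congr rfl (fun α _ => hterm α), Finset.sum_add_distrib, Finset.sum_const,
    Finset.card_univ, nsmul_eq_mul, ← Finset.sum_filter, Finset.sum_const, nsmul_eq_mul]
  have hfilter : (Finset.univ.filter (fun α : F => α = 0 ∨ α = 1)) = {0, 1} := by
    ext α
    simp
  rw [hfilter, Finset.card_pair (zero_ne_one)]
  push_cast
  ring

/-- (ME2), primed: the number of elliptic partners, given one partner `v0` whose plane with `u`
has type `-`. -/
theorem card_epartners' (Q : QuadraticForm F V) {X : Submodule F V} (hX : Nd (pB Q) X) {g : ℕ}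
    (hg : 2 ≤ g) (hdim : finrank F ↥X = 2 * g) {ε : ℤ} (hε : QType Q X g ε)
    {ζ : F} (hζ : ∀ t : F, t ^ 2 + t + ζ ≠ 0) {u : V} (huX : u ∈ X) (hu : Q u = 1)
    {v0 : V} (hv0X : v0 ∈ X) (huv0 : pB Q u v0 = 1) (hv0 : Q v0 = ζ)
    (hPT : QType Q (Submodule.span F {u, v0}) 1 (-1)) :
    (Nat.card {v : V // v ∈ X ∧ pB Q u v = 1 ∧ Q v = ζ} : ℤ) =
      (Fintype.card F : ℤ) ^ (g - 1) * ((Fintype.card F : ℤ) ^ (g - 1) - ε) := by
  classical
  haveI : Finite V := Module.finite_of_finite F
  have hκ : (1 : F) - 4 * ζ ≠ 0 := one_sub_four_ne_zero hζ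
  have hδ : (pB Q u v0) ^ 2 - 4 * Q v0 ≠ 0 := by rw [huv0, hv0, one_pow]; exact hκ
  set P : Submodule F V := Submodule.span F {u, v0} with hP
  have hPX : P ≤ X := by
    rw [hP, Submodule.span_le]
    intro x hx
    rcases hx with rfl | rfl
    · exact huX
    · exact hv0X
  have hPnd : Nd (pB Q) P := nd_pair Q hu hδ
  have hPdim : finrank F ↥P = 2 * 1 := finrank_pair Q hu hδ
  have huP : u ∈ P := Submodule.subset_span (by simp)
  have hv0P : v0 ∈ P := Submodule.subset_span (by simp)
  set X0 : Submodule F V := X ⊓ (pB Q).orthogonal P with hX0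
  have hX0nd : Nd (pB Q) X0 := Nd.inf_orth (pB_refl Q) hPX hPnd hX
  have hX0dim : finrank F ↥X0 = 2 * (g - 1) := by
    have := hPnd.finrank_inf_orth (pB_refl Q) hPX
    rw [← hX0] at this
    omega
  obtain ⟨hsup, hdisj⟩ := hPnd.sup_inf_orth (pB_refl Q) hPX
  rw [← hX0] at hsup hdisj
  have horth : ∀ p ∈ P, ∀ x ∈ X0, pB Q p x = 0 := fun p hp x hx =>
    (LinearMap.BilinForm.mem_orthogonal_iff.mp hx.2) p hp
  -- the type of `X0`
  obtain ⟨ε0, hε0, hT0⟩ := exists_qType Q hX0nd hX0dim
  have hεε0 : ε = -ε0 := by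
    have hs := qType_sup Q hPnd hX0nd (fun p hp x hx => horth p hp x hx) hPdim hX0dim hPT hT0
    rw [hsup] at hs
    have h1g : 1 + (g - 1) = g := by omega
    rw [h1g] at hs
    have := QType.unique hε hs
    rw [this]; ring
  -- the parametrization
  let c : F → F := fun α => (1 - 4 * ζ) * (α ^ 2 - α)
  let Φ : (Σ α : F, {x : ↥X0 // (qSub Q X0) x = c α}) →
      {v : V // v ∈ X ∧ pB Q u v = 1 ∧ Q v = ζ} := fun z =>
    ⟨z.1 • u + (1 - 2 * z.1) • v0 + (z.2.1 : V), by
      have hp : z.1 • u + (1 - 2 * z.1) • v0 ∈ P := P.add_mem (P.smul_mem _ huP) (P.smul_mem _ hv0P)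
      have hx : (z.2.1 : V) ∈ X0 := z.2.1.2
      refine ⟨X.add_mem (hPX hp) hx.1, ?_, ?_⟩
      · rw [map_add, pB_pair_left Q hu, huv0, horth u huP _ hx]
        ring
      · rw [q_add_of_orth Q (horth _ hp _ hx), q_pair, hu, hv0, huv0]
        have h3 : Q (z.2.1 : V) = c z.1 := z.2.2
        rw [h3]
        simp only [c]
        ring⟩
  have hΦ : Function.Bijective Φ := by
    constructor
    · rintro ⟨α, x, hx⟩ ⟨α', x', hx'⟩ h
      have h1 : α • u + (1 - 2 * α) • v0 + (x : V) = α' • u + (1 - 2 * α') • v0 + (x' : V) :=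
        congrArg Subtype.val h
      have h2 : (α - α') • u + ((1 - 2 * α) - (1 - 2 * α')) • v0 = (x' : V) - (x : V) := by
        rw [sub_smul, sub_smul]
        have := h1
        rw [← sub_eq_zero] at this ⊢
        rw [← this]
        abel
      have h3 : (α - α') • u + ((1 - 2 * α) - (1 - 2 * α')) • v0 ∈ P ⊓ X0 :=
        ⟨P.add_mem (P.smul_mem _ huP) (P.smul_mem _ hv0P), by
          rw [h2]; exact X0.sub_mem x'.2 x.2⟩
      rw [hdisj.eq_bot, Submodule.mem_bot] at h3
      have h4 := pair_eq_zero Q hu hδ (a := α - α') (b := (1 - 2 * α) - (1 - 2 * α'))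
        (fun p _ => by rw [h3, map_zero])
      have hαα : α = α' := sub_eq_zero.mp h4.1
      subst hαα
      have hxx : (x : V) = x' := by
        rw [h3] at h2
        exact (sub_eq_zero.mp h2.symm).symm
      have hxx' : x = x' := Subtype.ext hxx
      subst hxx'
      rfl
    · rintro ⟨v, hvX, hv1, hvζ⟩
      rw [← hsup] at hvX
      obtain ⟨p, hp, x, hx, rfl⟩ := Submodule.mem_sup.mp hvX
      obtain ⟨α, β, rfl⟩ := Submodule.mem_span_pair.mp hp
      have hβ : β = 1 - 2 * α := by
        rw [map_add, pB_pair_left Q hu, huv0, horth u huP x hx] at hv1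
        linear_combination hv1
      subst hβ
      have hqx : Q x = c α := by
        rw [q_add_of_orth Q (horth _ hp _ hx), q_pair, hu, hv0, huv0] at hvζ
        simp only [c]
        linear_combination hvζ
      exact ⟨⟨α, ⟨⟨x, hx⟩, hqx⟩⟩, rfl⟩
  rw [← Nat.card_congr (Equiv.ofBijective Φ hΦ), Nat.card_sigma]
  push_cast
  have hsum := sum_fc_param (⇑(qSub Q X0))
    (fun c hc => fc_eq_fc_one (qSub Q X0) hX0dim (qSub_nd Q hX0nd) c hc) hκ
  have hterm : ∀ α : F, (Nat.card {x : ↥X0 // (qSub Q X0) x = c α} : ℤ) =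
      (fc (⇑(qSub Q X0)) ((1 - 4 * ζ) * (α ^ 2 - α)) : ℤ) := fun α => rfl
  rw [Finset.sum_congr rfl (fun α _ => hterm α), hsum]
  -- arithmetic
  have hT0' := hT0
  unfold QType HasType at hT0'
  have h1 := fc_one_mul (qSub Q X0) hX0dim (qSub_nd Q hX0nd) hT0
  rw [Nat.card_eq_fintype_card] at hT0' h1
  have hq0 : (Fintype.card F : ℤ) ≠ 0 := by
    have : 0 < Fintype.card F := Fintype.card_pos
    exact_mod_cast this.ne'
  apply mul_right_cancel₀ hq0
  rw [hεε0]
  set q : ℤ := (Fintype.card F : ℤ) with hq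
  set m := g - 1 with hm
  have hA : q ^ (2 * m) = (q ^ m) ^ 2 := by rw [← pow_mul, mul_comm]
  have hA1 : q ^ (m + 1) = q ^ m * q := pow_succ _ _
  rw [hA, hA1] at hT0'
  linear_combination 2 * hT0' + (q - 2) * h1

/-- the span of an elliptic pair has type `-` (only the zero vector is singular) -/
theorem qType_epair (Q : QuadraticForm F V) {ζ : F} (hζ : ∀ t : F, t ^ 2 + t + ζ ≠ 0)
    {u v0 : V} (hu : Q u = 1) (huv0 : pB Q u v0 = 1) (hv0 : Q v0 = ζ) :
    QType Q (Submodule.span F {u, v0}) 1 (-1) := by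
  unfold QType HasType fc
  have h1 : Nat.card {x : ↥(Submodule.span F {u, v0}) //
      (qSub Q (Submodule.span F {u, v0})) x = 0} = 1 := by
    haveI : Unique {x : ↥(Submodule.span F {u, v0}) //
        (qSub Q (Submodule.span F {u, v0})) x = 0} :=
      { default := ⟨0, map_zero _⟩
        uniq := fun a => by
          apply Subtype.ext
          apply Subtype.ext
          obtain ⟨⟨x, hx⟩, hq⟩ := a
          obtain ⟨α, β, rfl⟩ := Submodule.mem_span_pair.mp hx
          have hq' : Q (α • u + β • v0) = 0 := hq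
          rw [q_pair, hu, hv0, huv0] at hq'
          have hβ : β = 0 := by
            by_contra hβ
            apply hζ (α / β)
            field_simp
            linear_combination hq'
          subst hβ
          have hα : α = 0 := by
            have : α ^ 2 = 0 := by linear_combination hq'
            exact pow_eq_zero_iff (two_ne_zero) |>.mp this
          subst hα
          show (0 : F) • u + (0 : F) • v0 = 0
          rw [zero_smul, zero_smul, add_zero] }
    exact Nat.card_unique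
  rw [h1]
  push_cast
  ring

/-- (ME4a) the span of an elliptic pair is an anisotropic plane: nondegenerate of type `-` -/
theorem epair_span_props (Q : QuadraticForm F V) {ζ : F} (hζ : ∀ t : F, t ^ 2 + t + ζ ≠ 0)
    {p : V × V} (hp : IsEPair Q ζ p) :
    finrank F ↥(Submodule.span F {p.1, p.2}) = 2 ∧ Nd (pB Q) (Submodule.span F {p.1, p.2}) ∧
      QType Q (Submodule.span F {p.1, p.2}) 1 (-1) := by
  have hδ : (pB Q p.1 p.2) ^ 2 - 4 * Q p.2 ≠ 0 := by
    rw [hp.2.1, hp.2.2, one_pow]
    exact one_sub_four_ne_zero hζ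
  exact ⟨finrank_pair Q hp.1 hδ, nd_pair Q hp.1 hδ, qType_epair Q hζ hp.1 hp.2.1 hp.2.2⟩

/-- (ME2) the number of elliptic partners of a vector of norm `1` -/
theorem card_epartners (Q : QuadraticForm F V) {X : Submodule F V} (hX : Nd (pB Q) X) {g : ℕ}
    (hg : 2 ≤ g) (hdim : finrank F ↥X = 2 * g) {ε : ℤ} (hε : QType Q X g ε)
    {ζ : F} (hζ : ∀ t : F, t ^ 2 + t + ζ ≠ 0) {u : V} (huX : u ∈ X) (hu : Q u = 1) :
    (Nat.card {v : V // v ∈ X ∧ pB Q u v = 1 ∧ Q v = ζ} : ℤ) =
      (Fintype.card F : ℤ) ^ (g - 1) * ((Fintype.card F : ℤ) ^ (g - 1) - ε) := by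
  obtain ⟨v0, hv0X, huv0, hv0⟩ := exists_epartner Q hX hg hdim huX hu ζ
  exact card_epartners' Q hX hg hdim hε hζ huX hu hv0X huv0 hv0 (qType_epair Q hζ hu huv0 hv0)

end Cfsg.Agent.Helper12.QSpEll
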