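import Mathlib

set_option autoImplicit false

namespace Cfsg.Agent.Helper12

open Matrix

namespace RegGL2

variable {p : ℕ} [Fact p.Prime]

/-- the first standard basis vector -/
def e1 (p : ℕ) : Fin 2 → ZMod p := ![1, 0]

theorem e1_ne_zero : e1 p ≠ 0 := by
  intro h
  have := congrFun h 0
  simp [e1] at this

theorem mulVec_ne_zero (g : GL (Fin 2) (ZMod p)) {v : Fin 2 → ZMod p} (hv : v ≠ 0) :
    (g : Matrix (Fin 2) (Fin 2) (ZMod p)) *ᵥ v ≠ 0 := by
  intro h
  apply hv
  have : ((g⁻¹ : GL (Fin 2) (ZMod p)) : Matrix (Fin 2) (Fin 2) (ZMod p)) *ᵥ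
      ((g : Matrix (Fin 2) (Fin 2) (ZMod p)) *ᵥ v) = v := by
    rw [Matrix.mulVec_mulVec, ← Units.val_mul, inv_mul_cancel, Units.val_one, Matrix.one_mulVec]
  rw [← this, h, Matrix.mulVec_zero]

theorem card_nonzero : Nat.card {v : Fin 2 → ZMod p // v ≠ 0} = p ^ 2 - 1 := by
  classical
  have h1 : Nat.card (Fin 2 → ZMod p) = p ^ 2 := by
    rw [Nat.card_fun, Nat.card_zmod, Nat.card_fin]
  have : NeZero p := ⟨(Fact.out : p.Prime).ne_zero⟩
  rw [Nat.card_eq_fintype_card, Fintype.card_subtype_compl (fun v : Fin 2 → ZMod p => v = 0),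
    Fintype.card_subtype_eq, ← Nat.card_eq_fintype_card, h1]

/-- Abstract certificate for a subgroup of `GL(2,p)` generated by `S` to be regular on non-zero
vectors: a table `T` giving for every non-zero vector `v` a matrix with first column `v`, closed
under left multiplication by the generators, and such that every non-zero vector is reachable from
`e1` along generators (witnessed by a depth function). -/
theorem regular_of_table (S : Set (GL (Fin 2) (ZMod p)))
    (T : (Fin 2 → ZMod p) → Matrix (Fin 2) (Fin 2) (ZMod p))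
    (depth : (Fin 2 → ZMod p) → ℕ)
    (h1 : T (e1 p) = 1)
    (hcol : ∀ v, v ≠ 0 → T v *ᵥ e1 p = v)
    (h2 : ∀ g ∈ S, ∀ v, v ≠ 0 →
      (g : Matrix (Fin 2) (Fin 2) (ZMod p)) * T v =
        T ((g : Matrix (Fin 2) (Fin 2) (ZMod p)) *ᵥ v))
    (h3 : ∀ v, v ≠ 0 → v ≠ e1 p → ∃ g ∈ S, ∃ u, u ≠ 0 ∧
      (g : Matrix (Fin 2) (Fin 2) (ZMod p)) *ᵥ u = v ∧ depth u < depth v) :
    Nat.card (Subgroup.closure S) = p ^ 2 - 1 ∧
    ∀ v w : Fin 2 → ZMod p, v ≠ 0 → w ≠ 0 →
      ∃! h : Subgroup.closure S,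
        ((h : GL (Fin 2) (ZMod p)) : Matrix (Fin 2) (Fin 2) (ZMod p)) *ᵥ v = w := by
  have : NeZero p := ⟨(Fact.out : p.Prime).ne_zero⟩
  -- (a) every element of the closure is in the table
  have ha : ∀ h ∈ Subgroup.closure S,
      ((h : GL (Fin 2) (ZMod p)) : Matrix (Fin 2) (Fin 2) (ZMod p)) =
        T ((h : Matrix (Fin 2) (Fin 2) (ZMod p)) *ᵥ e1 p) := by
    have ha' : ∀ h ∈ Submonoid.closure S,
        ((h : GL (Fin 2) (ZMod p)) : Matrix (Fin 2) (Fin 2) (ZMod p)) =
          T ((h : Matrix (Fin 2) (Fin 2) (ZMod p)) *ᵥ e1 p) := by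
      intro h hh'
      induction hh' using Submonoid.closure_induction_left with
      | one => rw [Units.val_one, Matrix.one_mulVec, h1]
      | mul_left x hx y _ ih =>
        rw [Units.val_mul, ← Matrix.mulVec_mulVec, ← h2 x hx _ (mulVec_ne_zero y e1_ne_zero),
          ← ih]
    intro h hh
    have hh' : h ∈ (Subgroup.closure S).toSubmonoid := hh
    rw [Subgroup.closure_toSubmonoid_of_finite] at hh'
    exact ha' h hh'
  -- (b) every table entry is in the closure
  have hb : ∀ n : ℕ, ∀ v, v ≠ 0 → depth v = n → ∃ h ∈ Subgroup.closure S,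
      ((h : GL (Fin 2) (ZMod p)) : Matrix (Fin 2) (Fin 2) (ZMod p)) = T v := by
    intro n
    induction n using Nat.strong_induction_on with
    | _ n ih =>
      intro v hv hd
      by_cases hve : v = e1 p
      · exact ⟨1, Subgroup.one_mem _, by rw [hve, h1, Units.val_one]⟩
      · obtain ⟨g, hg, u, hu, hgu, hlt⟩ := h3 v hv hve
        obtain ⟨h', hh', hT⟩ := ih (depth u) (hd ▸ hlt) u hu rfl
        refine ⟨g * h', Subgroup.mul_mem _ (Subgroup.subset_closure hg) hh', ?_⟩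
        rw [Units.val_mul, hT, h2 g hg u hu, hgu]
  -- (c) the orbit map at `e1` is a bijection
  let Φ : Subgroup.closure S → {v : Fin 2 → ZMod p // v ≠ 0} := fun h =>
    ⟨((h : GL (Fin 2) (ZMod p)) : Matrix (Fin 2) (Fin 2) (ZMod p)) *ᵥ e1 p,
      mulVec_ne_zero _ e1_ne_zero⟩
  have hΦinj : Function.Injective Φ := by
    intro h h' heq
    have heq' : ((h : GL (Fin 2) (ZMod p)) : Matrix (Fin 2) (Fin 2) (ZMod p)) *ᵥ e1 p =
        ((h' : GL (Fin 2) (ZMod p)) : Matrix (Fin 2) (Fin 2) (ZMod p)) *ᵥ e1 p :=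
      congrArg Subtype.val heq
    apply Subtype.ext
    apply Units.ext
    rw [ha h h.2, ha h' h'.2, heq']
  have hΦsurj : Function.Surjective Φ := by
    rintro ⟨v, hv⟩
    obtain ⟨h, hh, hT⟩ := hb (depth v) v hv rfl
    refine ⟨⟨h, hh⟩, ?_⟩
    apply Subtype.ext
    change ((h : GL (Fin 2) (ZMod p)) : Matrix (Fin 2) (Fin 2) (ZMod p)) *ᵥ e1 p = v
    rw [hT, hcol v hv]
  refine ⟨?_, ?_⟩
  · rw [Nat.card_congr (Equiv.ofBijective Φ ⟨hΦinj, hΦsurj⟩), card_nonzero]
  · intro v w hv hw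
    obtain ⟨hv', hhv⟩ := hΦsurj ⟨v, hv⟩
    obtain ⟨hw', hhw⟩ := hΦsurj ⟨w, hw⟩
    have hhv' : ((hv' : GL (Fin 2) (ZMod p)) : Matrix (Fin 2) (Fin 2) (ZMod p)) *ᵥ e1 p = v :=
      congrArg Subtype.val hhv
    have hhw' : ((hw' : GL (Fin 2) (ZMod p)) : Matrix (Fin 2) (Fin 2) (ZMod p)) *ᵥ e1 p = w :=
      congrArg Subtype.val hhw
    refine ⟨hw' * hv'⁻¹, ?_, ?_⟩
    · change (((hw' * hv'⁻¹ : Subgroup.closure S) : GL (Fin 2) (ZMod p)) :
        Matrix (Fin 2) (Fin 2) (ZMod p)) *ᵥ v = w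
      rw [← hhv', Matrix.mulVec_mulVec, ← Units.val_mul, ← Subgroup.coe_mul,
        inv_mul_cancel_right, hhw']
    · intro h hh
      have hh' : (((h : Subgroup.closure S) : GL (Fin 2) (ZMod p)) :
        Matrix (Fin 2) (Fin 2) (ZMod p)) *ᵥ v = w := hh
      have : Φ (h * hv') = Φ hw' := by
        apply Subtype.ext
        change (((h * hv' : Subgroup.closure S) : GL (Fin 2) (ZMod p)) :
          Matrix (Fin 2) (Fin 2) (ZMod p)) *ᵥ e1 p = _
        rw [Subgroup.coe_mul, Units.val_mul, ← Matrix.mulVec_mulVec, hhv', hh', hhw]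
      have := hΦinj this
      rw [← this, mul_inv_cancel_right]

end RegGL2

end Cfsg.Agent.Helper12

namespace Cfsg.Agent.Helper12

open Matrix

namespace RegGL2

/-- entry of the packed table at key `(a, c)` -/
def ent (N p a c : ℕ) : ℕ := (N >>> (40 * (a * p + c))) &&& (2 ^ 40 - 1)
/-- second column, first entry -/
def tb (e : ℕ) : ℕ := e &&& 63
/-- second column, second entry -/
def td (e : ℕ) : ℕ := (e >>> 6) &&& 63
/-- depth in the Schreier tree -/
def tdepth (e : ℕ) : ℕ := (e >>> 12) &&& 255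
/-- parent key, first entry -/
def tpa (e : ℕ) : ℕ := (e >>> 22) &&& 63
/-- parent key, second entry -/
def tpc (e : ℕ) : ℕ := (e >>> 28) &&& 63

/-- Certificate check 1: the table entry at `e1` is the identity matrix. -/
def Check1 (p : ℕ) [NeZero p] (N : ℕ) : Prop :=
  (tb (ent N p 1 0) : ZMod p) = 0 ∧ (td (ent N p 1 0) : ZMod p) = 1

/-- Certificate check 2 for one generator `m`: the table is closed under left multiplication
by `m`. -/
def Check2 (p : ℕ) [NeZero p] (N : ℕ) (m : Matrix (Fin 2) (Fin 2) (ZMod p)) : Prop :=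
  ∀ a c : ZMod p, (a ≠ 0 ∨ c ≠ 0) →
    (tb (ent N p (m 0 0 * a + m 0 1 * c).val (m 1 0 * a + m 1 1 * c).val) : ZMod p) =
        m 0 0 * (tb (ent N p a.val c.val) : ZMod p) + m 0 1 * (td (ent N p a.val c.val) : ZMod p) ∧
    (td (ent N p (m 0 0 * a + m 0 1 * c).val (m 1 0 * a + m 1 1 * c).val) : ZMod p) =
        m 1 0 * (tb (ent N p a.val c.val) : ZMod p) +
          m 1 1 * (td (ent N p a.val c.val) : ZMod p)

/-- The parent condition for the key `(a, c)` and the generator `m`. -/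
def Parent (p : ℕ) [NeZero p] (N : ℕ) (a c : ZMod p) (m : Matrix (Fin 2) (Fin 2) (ZMod p)) :
    Prop :=
  ((tpa (ent N p a.val c.val) : ZMod p) ≠ 0 ∨ (tpc (ent N p a.val c.val) : ZMod p) ≠ 0) ∧
  m 0 0 * (tpa (ent N p a.val c.val) : ZMod p) +
    m 0 1 * (tpc (ent N p a.val c.val) : ZMod p) = a ∧
  m 1 0 * (tpa (ent N p a.val c.val) : ZMod p) +
    m 1 1 * (tpc (ent N p a.val c.val) : ZMod p) = c ∧
  tdepth (ent N p (tpa (ent N p a.val c.val) : ZMod p).val
    (tpc (ent N p a.val c.val) : ZMod p).val) < tdepth (ent N p a.val c.val)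

instance instDecParent (p : ℕ) [NeZero p] (N : ℕ) (a c : ZMod p)
    (m : Matrix (Fin 2) (Fin 2) (ZMod p)) : Decidable (Parent p N a c m) := by
  unfold Parent
  infer_instance

/-- Certificate check 3: every non-zero vector other than `e1` has a parent of smaller depth. -/
def Check3 (p : ℕ) [NeZero p] (N : ℕ) (ms : List (Matrix (Fin 2) (Fin 2) (ZMod p))) : Prop :=
  ∀ a c : ZMod p, (a ≠ 0 ∨ c ≠ 0) → ¬ (a = 1 ∧ c = 0) →
    (ms.any fun m => decide (Parent p N a c m)) = true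

instance instDecCheck1 (p : ℕ) [NeZero p] (N : ℕ) : Decidable (Check1 p N) := by
  unfold Check1
  infer_instance

instance instDecCheck2 (p : ℕ) [NeZero p] (N : ℕ) (m : Matrix (Fin 2) (Fin 2) (ZMod p)) :
    Decidable (Check2 p N m) := by
  unfold Check2
  infer_instance

instance instDecCheck3 (p : ℕ) [NeZero p] (N : ℕ) (ms : List (Matrix (Fin 2) (Fin 2) (ZMod p))) :
    Decidable (Check3 p N ms) := by
  unfold Check3
  infer_instance

theorem vec_ne_zero_iff {p : ℕ} (v : Fin 2 → ZMod p) : v ≠ 0 ↔ (v 0 ≠ 0 ∨ v 1 ≠ 0) := by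
  constructor
  · intro h
    by_contra hcon
    push Not at hcon
    apply h
    funext i
    fin_cases i
    · exact hcon.1
    · exact hcon.2
  · rintro (h | h) hv
    · exact h (congrFun hv 0)
    · exact h (congrFun hv 1)

theorem regular_of_check {p : ℕ} [Fact p.Prime] [NeZero p] (N : ℕ)
    (gs : List (GL (Fin 2) (ZMod p))) (ms : List (Matrix (Fin 2) (Fin 2) (ZMod p)))
    (hms : gs.map Units.val = ms)
    (hc1 : Check1 p N) (h2 : ∀ m ∈ ms, Check2 p N m) (h3 : Check3 p N ms) :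
    Nat.card (Subgroup.closure {g | g ∈ gs}) = p ^ 2 - 1 ∧
    ∀ v w : Fin 2 → ZMod p, v ≠ 0 → w ≠ 0 →
      ∃! h : Subgroup.closure {g | g ∈ gs},
        ((h : GL (Fin 2) (ZMod p)) : Matrix (Fin 2) (Fin 2) (ZMod p)) *ᵥ v = w := by
  obtain ⟨h1a, h1b⟩ := hc1
  have hone : ((1 : ZMod p)).val = 1 := by
    have : 1 < p := (Fact.out : p.Prime).one_lt
    have : Fact (1 < p) := ⟨this⟩
    exact ZMod.val_one p
  apply regular_of_table {g | g ∈ gs}
    (fun v => !![v 0, (tb (ent N p (v 0).val (v 1).val) : ZMod p);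
                 v 1, (td (ent N p (v 0).val (v 1).val) : ZMod p)])
    (fun v => tdepth (ent N p (v 0).val (v 1).val))
  · -- h1
    simp only [e1, Matrix.cons_val_zero, Matrix.cons_val_one, hone, ZMod.val_zero, h1a, h1b]
    exact Matrix.one_fin_two.symm
  · -- hcol
    intro v _
    funext i
    fin_cases i <;> simp [e1]
  · -- h2
    intro g hg v hv
    have hm : (g : Matrix (Fin 2) (Fin 2) (ZMod p)) ∈ ms := by
      rw [← hms]
      exact List.mem_map.mpr ⟨g, hg, rfl⟩
    obtain ⟨hb, hd⟩ := h2 _ hm (v 0) (v 1) ((vec_ne_zero_iff v).mp hv)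
    rw [Matrix.mulVec_fin_two]
    simp only [Matrix.cons_val_zero, Matrix.cons_val_one]
    rw [hb, hd]
    conv_lhs => rw [Matrix.eta_fin_two (g : Matrix (Fin 2) (Fin 2) (ZMod p))]
    rw [Matrix.mul_fin_two]
  · -- h3
    intro v hv hve
    have hve' : ¬ (v 0 = 1 ∧ v 1 = 0) := by
      rintro ⟨h0, h1⟩
      apply hve
      funext i
      fin_cases i
      · simpa [e1] using h0
      · simpa [e1] using h1
    have h3' := h3 (v 0) (v 1) ((vec_ne_zero_iff v).mp hv) hve'
    rw [List.any_eq_true] at h3'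
    obtain ⟨m, hm, hpar⟩ := h3'
    obtain ⟨hne, ha, hc, hlt⟩ := of_decide_eq_true hpar
    rw [← hms, List.mem_map] at hm
    obtain ⟨g, hg, rfl⟩ := hm
    refine ⟨g, hg, ![(tpa (ent N p (v 0).val (v 1).val) : ZMod p),
      (tpc (ent N p (v 0).val (v 1).val) : ZMod p)], ?_, ?_, ?_⟩
    · rw [vec_ne_zero_iff]
      simpa using hne
    · rw [Matrix.mulVec_fin_two]
      funext i
      fin_cases i
      · simpa using ha
      · simpa using hc
    · simpa using hlt

end RegGL2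

end Cfsg.Agent.Helper12
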