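import Mathlib
import Cfsg.Agent.Helper77.Res.Defs

/-!
# (T-KER) for helper77's S5289, torus lemma: elements acting trivially on the section `V/W`

`K' = {α ∈ A | α` trivial on `V/W}` is a normal `p`-subgroup of `A`; by radicality its elements are inner.  Hence an
element of `T` acting trivially on `V/W` lies in `P`.
-/

set_option autoImplicit false
set_option linter.unusedSectionVars false

universe u

namespace Cfsg.Agent.Helper12.Res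

open Subgroup Cfsg.Agent.Helper77.Res

variable {Ω : Type u} [Group Ω] {p : ℕ} [hp : Fact p.Prime]

/-- conjugation by an element normalizing `P`, as an automorphism of `P` -/
def resConjAut (P : Subgroup Ω) (t : Ω) (ht : t ∈ Subgroup.normalizer (P : Set Ω)) : MulAut ↥P where
  toFun x := ⟨t * x * t⁻¹, (Subgroup.mem_normalizer_iff.mp ht x).mp x.2⟩
  invFun x := ⟨t⁻¹ * x * t, by
    have := (Subgroup.mem_normalizer_iff.mp (inv_mem ht) x).mp x.2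
    simpa using this⟩
  left_inv x := Subtype.ext (by simp [mul_assoc])
  right_inv x := Subtype.ext (by simp [mul_assoc])
  map_mul' x y := Subtype.ext (by simp [mul_assoc])

theorem resConjAut_apply (P : Subgroup Ω) (t : Ω) (ht : t ∈ Subgroup.normalizer (P : Set Ω)) (x : P) :
    ((resConjAut P t ht x : P) : Ω) = t * x * t⁻¹ := rfl

theorem conjBy_resConjAut (K P : Subgroup Ω) (t : Ω) (ht : t ∈ Subgroup.normalizer (P : Set Ω))
    (htK : t ∈ K) : ConjBy K P (resConjAut P t ht) :=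
  ⟨t, htK, fun _ => rfl⟩

section localcfg

variable {T P : Subgroup Ω} {A : Subgroup (MulAut ↥P)} {B : Subgroup (MulAut ↥T)}

/-- the elements of `A` acting trivially on `V/W` -/
def trivSub (A : Subgroup (MulAut ↥P)) (V W : Subgroup Ω)
    (hVinv : ∀ α ∈ A, ∀ x : P, (x : Ω) ∈ V → ((α x : P) : Ω) ∈ V) : Subgroup (MulAut ↥P) where
  carrier := {α | α ∈ A ∧ ∀ x : P, (x : Ω) ∈ V → (x : Ω)⁻¹ * ((α x : P) : Ω) ∈ W}
  one_mem' := ⟨one_mem A, fun x _ => by simp [one_mem]⟩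
  mul_mem' := by
    rintro α β ⟨hα, hα'⟩ ⟨hβ, hβ'⟩
    refine ⟨mul_mem hα hβ, fun x hx => ?_⟩
    have h1 := hβ' x hx
    have h2 := hα' (β x) (hVinv β hβ x hx)
    have e : (x : Ω)⁻¹ * (((α * β) x : P) : Ω) =
        ((x : Ω)⁻¹ * ((β x : P) : Ω)) * (((β x : P) : Ω)⁻¹ * ((α (β x) : P) : Ω)) := by
      rw [MulAut.mul_apply]; group
    rw [e]
    exact mul_mem h1 h2
  inv_mem' := by
    rintro α ⟨hα, hα'⟩
    refine ⟨inv_mem hα, fun x hx => ?_⟩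
    have hy := hVinv α⁻¹ (inv_mem hα) x hx
    have h1 := hα' (α⁻¹ x) hy
    rw [MulAut.apply_inv_self] at h1
    have e : (x : Ω)⁻¹ * ((α⁻¹ x : P) : Ω) = (((α⁻¹ x : P) : Ω)⁻¹ * (x : Ω))⁻¹ := by group
    rw [e]
    exact inv_mem h1

theorem mem_trivSub (V W : Subgroup Ω)
    (hVinv : ∀ α ∈ A, ∀ x : P, (x : Ω) ∈ V → ((α x : P) : Ω) ∈ V) (α : MulAut ↥P) :
    α ∈ trivSub A V W hVinv ↔ α ∈ A ∧ ∀ x : P, (x : Ω) ∈ V → (x : Ω)⁻¹ * ((α x : P) : Ω) ∈ W :=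
  Iff.rfl

theorem trivSub_le (V W : Subgroup Ω)
    (hVinv : ∀ α ∈ A, ∀ x : P, (x : Ω) ∈ V → ((α x : P) : Ω) ∈ V) : trivSub A V W hVinv ≤ A :=
  fun _ h => h.1

theorem trivSub_normal (V W : Subgroup Ω)
    (hVinv : ∀ α ∈ A, ∀ x : P, (x : Ω) ∈ V → ((α x : P) : Ω) ∈ V)
    (hWinv : ∀ α ∈ A, ∀ x : P, (x : Ω) ∈ W → ((α x : P) : Ω) ∈ W) :
    ∀ γ ∈ A, ∀ β ∈ trivSub A V W hVinv, γ * β * γ⁻¹ ∈ trivSub A V W hVinv := by
  rintro γ hγ β ⟨hβ, hβ'⟩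
  refine ⟨mul_mem (mul_mem hγ hβ) (inv_mem hγ), fun x hx => ?_⟩
  have hz := hVinv γ⁻¹ (inv_mem hγ) x hx
  have h1 := hβ' (γ⁻¹ x) hz
  -- `w = z⁻¹ β z ∈ W`, as an element of `P`
  have h2 := hWinv γ hγ ((γ⁻¹ x)⁻¹ * β (γ⁻¹ x)) (by
    rw [Subgroup.coe_mul, Subgroup.coe_inv]; exact h1)
  rw [map_mul, map_inv, MulAut.apply_inv_self] at h2
  have e : (x : Ω)⁻¹ * (((γ * β * γ⁻¹) x : P) : Ω) = ((x⁻¹ * γ (β (γ⁻¹ x)) : P) : Ω) := by
    rw [MulAut.mul_apply, MulAut.mul_apply, Subgroup.coe_mul, Subgroup.coe_inv]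
  rw [e]
  exact h2

theorem trivSub_isPGroup (V W : Subgroup Ω)
    (hVinv : ∀ α ∈ A, ∀ x : P, (x : Ω) ∈ V → ((α x : P) : Ω) ∈ V)
    (hker : ∀ α ∈ A, (∀ x : P, (x : Ω) ∈ V → (x : Ω)⁻¹ * ((α x : P) : Ω) ∈ W) →
      ∃ k : ℕ, orderOf α = p ^ k) : IsPGroup p (trivSub A V W hVinv) := by
  rintro ⟨β, hβ, hβ'⟩
  obtain ⟨k, hk⟩ := hker β hβ hβ'
  refine ⟨k, Subtype.ext ?_⟩
  rw [Subgroup.coe_pow, Subgroup.coe_one, ← hk]
  exact pow_orderOf_eq_one β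

/-- (T-KERU) the elements of `A` acting trivially on `V/W` are inner automorphisms of `P` -/
theorem conjBy_of_trivial (hrad : Rad p P A) (V W : Subgroup Ω)
    (hVinv : ∀ α ∈ A, ∀ x : P, (x : Ω) ∈ V → ((α x : P) : Ω) ∈ V)
    (hWinv : ∀ α ∈ A, ∀ x : P, (x : Ω) ∈ W → ((α x : P) : Ω) ∈ W)
    (hker : ∀ α ∈ A, (∀ x : P, (x : Ω) ∈ V → (x : Ω)⁻¹ * ((α x : P) : Ω) ∈ W) →
      ∃ k : ℕ, orderOf α = p ^ k)
    (α : MulAut ↥P) (hα : α ∈ A)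
    (htriv : ∀ x : P, (x : Ω) ∈ V → (x : Ω)⁻¹ * ((α x : P) : Ω) ∈ W) : ConjBy P P α :=
  hrad (trivSub A V W hVinv) (trivSub_le V W hVinv) (trivSub_isPGroup V W hVinv hker)
    (trivSub_normal V W hVinv hWinv) α ⟨hα, htriv⟩

/-- (T-KER) an element of `T` acting trivially on `V/W` lies in `P` -/
theorem mem_P_of_trivial (hc : Cfg p T P A B) (hrad : Rad p P A) (V W : Subgroup Ω)
    (hVinv : ∀ α ∈ A, ∀ x : P, (x : Ω) ∈ V → ((α x : P) : Ω) ∈ V)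
    (hWinv : ∀ α ∈ A, ∀ x : P, (x : Ω) ∈ W → ((α x : P) : Ω) ∈ W)
    (hker : ∀ α ∈ A, (∀ x : P, (x : Ω) ∈ V → (x : Ω)⁻¹ * ((α x : P) : Ω) ∈ W) →
      ∃ k : ℕ, orderOf α = p ^ k)
    (t : Ω) (ht : t ∈ T) (htriv : ∀ v ∈ V, v⁻¹ * (t * v * t⁻¹) ∈ W) : t ∈ P := by
  have hα : resConjAut P t (hc.norm ht) ∈ A :=
    hc.conj_mem _ (conjBy_resConjAut T P t (hc.norm ht) ht)
  obtain ⟨g, hg, hgx⟩ := conjBy_of_trivial hrad V W hVinv hWinv hker _ hα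
    (fun x hx => htriv x hx)
  have hcen : ∀ x ∈ P, (g⁻¹ * t) * x = x * (g⁻¹ * t) := by
    intro x hx
    have h1 := hgx ⟨x, hx⟩
    rw [resConjAut_apply] at h1
    have h2 : t * x = g * x * g⁻¹ * t := by
      rw [← h1]; group
    calc g⁻¹ * t * x = g⁻¹ * (t * x) := by group
      _ = g⁻¹ * (g * x * g⁻¹ * t) := by rw [h2]
      _ = x * (g⁻¹ * t) := by group
  have h3 : g⁻¹ * t ∈ P := hc.cent _ (mul_mem (inv_mem (hc.le hg)) ht) hcen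
  have : t = g * (g⁻¹ * t) := by group
  rw [this]
  exact mul_mem hg h3

end localcfg

end Cfsg.Agent.Helper12.Res
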