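import Mathlib

/-!
# (T-PW) for helper77's S5289, torus lemma: the `p'`-part of an element as a power
-/

set_option autoImplicit false

universe u v

namespace Cfsg.Agent.Helper12.Res

/-- the `p'`-part: a power `g ^ e` of order prime to `p` such that every homomorphic image of `g` of
order prime to `p` is fixed by `x ↦ x ^ e` -/
theorem exists_pprime_power {G : Type u} [Group G] (g : G) (hg : IsOfFinOrder g) (p : ℕ)
    [hp : Fact p.Prime] :
    ∃ e : ℕ, (orderOf (g ^ e)).Coprime p ∧
      ∀ {H : Type v} [Group H] (f : G →* H), (orderOf (f g)).Coprime p → f g ^ e = f g := by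
  have hN : 0 < orderOf g := hg.orderOf_pos
  set N := orderOf g with hNdef
  set a := N.factorization p with ha
  set r := N / p ^ a with hr
  have hNr : p ^ a * r = N := Nat.ordProj_mul_ordCompl_eq_self N p
  have hrp : Nat.Coprime p r := Nat.coprime_ordCompl hp.out hN.ne'
  have hcop : Nat.Coprime (p ^ a) r := Nat.Coprime.pow_left a hrp
  obtain ⟨e, he0, he1⟩ := Nat.chineseRemainder hcop 0 1
  refine ⟨e, ?_, ?_⟩
  · have hdvd : orderOf (g ^ e) ∣ r := by
      apply orderOf_dvd_of_pow_eq_one
      rw [← pow_mul]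
      apply orderOf_dvd_iff_pow_eq_one.mp
      rw [← hNdef, ← hNr]
      have : p ^ a ∣ e := (Nat.modEq_zero_iff_dvd).mp he0
      exact Nat.mul_dvd_mul_right this r
    exact Nat.Coprime.coprime_dvd_left hdvd hrp.symm
  · intro H _ f hf
    have hd : orderOf (f g) ∣ N := orderOf_map_dvd f g
    have hd' : orderOf (f g) ∣ r := by
      rw [← hNr] at hd
      exact Nat.Coprime.dvd_of_dvd_mul_left (Nat.Coprime.pow_right a hf) hd
    have h1 : e ≡ 1 [MOD orderOf (f g)] := Nat.ModEq.of_dvd hd' he1
    have := (pow_eq_pow_iff_modEq (x := f g)).mpr h1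
    rw [this, pow_one]

end Cfsg.Agent.Helper12.Res
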