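import Mathlib

/-!
# (TA2) of helper48's T-subfarm for S5289: an automorphism of order `p` of `C_p²` is a transvection
-/

set_option autoImplicit false
set_option linter.unusedSectionVars false

universe u

namespace Cfsg.Agent.Helper12.ResT

open Subgroup

variable {p : ℕ} [hp : Fact p.Prime]

section abstractX

variable {X : Type u} [CommGroup X] [Finite X]

/-- the fixed points of an automorphism -/
def fixSub (u : MulAut X) : Subgroup X where
  carrier := {x | u x = x}
  one_mem' := map_one u
  mul_mem' := by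
    intro a b ha hb
    show u (a * b) = a * b
    rw [map_mul, ha, hb]
  inv_mem' := by
    intro a ha
    show u a⁻¹ = a⁻¹
    rw [map_inv, ha]

theorem mem_fixSub (u : MulAut X) (x : X) : x ∈ fixSub u ↔ u x = x := Iff.rfl

/-- `δ x = x⁻¹ u(x)` -/
def deltaHom (u : MulAut X) : X →* X where
  toFun x := x⁻¹ * u x
  map_one' := by simp
  map_mul' a b := by
    rw [map_mul, mul_inv]
    exact mul_mul_mul_comm _ _ _ _

theorem deltaHom_apply (u : MulAut X) (x : X) : deltaHom u x = x⁻¹ * u x := rfl

theorem ker_deltaHom (u : MulAut X) : (deltaHom u).ker = fixSub u := by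
  ext x
  rw [MonoidHom.mem_ker, deltaHom_apply, mem_fixSub, inv_mul_eq_one, eq_comm]

/-- the automorphisms fixing `C` pointwise and acting trivially on `X/C` -/
def transvSub (C : Subgroup X) : Subgroup (MulAut X) where
  carrier := {s | (∀ x : X, x⁻¹ * s x ∈ C) ∧ ∀ c ∈ C, s c = c}
  one_mem' := ⟨fun x => by simp [one_mem], fun c _ => rfl⟩
  mul_mem' := by
    rintro s t ⟨hs1, hs2⟩ ⟨ht1, ht2⟩
    refine ⟨fun x => ?_, fun c hc => ?_⟩
    · have h1 := ht1 x
      have e : x⁻¹ * (s * t) x = (x⁻¹ * s x) * (x⁻¹ * t x) := by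
        rw [MulAut.mul_apply]
        have : t x = x * (x⁻¹ * t x) := by group
        conv_lhs => rw [this, map_mul, hs2 _ h1]
        group
      rw [e]
      exact mul_mem (hs1 x) h1
    · rw [MulAut.mul_apply, ht2 c hc, hs2 c hc]
  inv_mem' := by
    rintro s ⟨hs1, hs2⟩
    refine ⟨fun x => ?_, fun c hc => ?_⟩
    · have h1 := hs1 (s⁻¹ x)
      rw [MulAut.apply_inv_self] at h1
      have e : x⁻¹ * s⁻¹ x = ((s⁻¹ x)⁻¹ * x)⁻¹ := by group
      rw [e]
      exact inv_mem h1
    · have := hs2 c hc
      conv_lhs => rw [← this]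
      exact MulAut.inv_apply_self _ _ _

theorem card_mul_card_range (u : MulAut X) :
    Nat.card (fixSub u) * Nat.card (deltaHom u).range = Nat.card X := by
  rw [← ker_deltaHom, ← Subgroup.index_ker, Subgroup.card_mul_index]

/-- (TA2) -/
theorem fix_structure (hX : Nat.card X = p ^ 2) (hXexp : ∀ x : X, x ^ p = 1)
    (u : MulAut X) (hu1 : u ≠ 1) (hup : u ^ p = 1) :
    ∃ C : Subgroup X, Nat.card C = p ∧ (∀ x : X, u x = x ↔ x ∈ C) ∧
      (∀ s ∈ Subgroup.zpowers u, ∀ x ∈ C, s x = x) ∧
      (∀ s ∈ Subgroup.zpowers u, ∀ x : X, x⁻¹ * s x ∈ C) := by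
  have hp1 : 1 < p := hp.out.one_lt
  have hp0 : 0 < p := hp.out.pos
  -- the order of the fixed point group
  have hord : orderOf u = p := orderOf_eq_prime hup hu1
  have hPG : IsPGroup p (zpowers u) := IsPGroup.of_card (n := 1) (by rw [Nat.card_zpowers, hord, pow_one])
  have hfp : (MulAction.fixedPoints (zpowers u) X) = (fixSub u : Set X) := by
    ext x
    rw [MulAction.mem_fixedPoints, SetLike.mem_coe, mem_fixSub]
    constructor
    · intro h
      exact h ⟨u, mem_zpowers u⟩
    · rintro h ⟨s, hs⟩
      have : zpowers u ≤ MulAction.stabilizer (MulAut X) x := by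
        rw [zpowers_le]
        exact h
      exact this hs
  have hmod := hPG.card_modEq_card_fixedPoints X
  rw [hfp, hX] at hmod
  have hdvd : p ∣ Nat.card (fixSub u) := by
    have h0 : p ^ 2 % p = 0 := by rw [pow_two, Nat.mul_mod_right]
    have := hmod.symm
    unfold Nat.ModEq at this
    rw [h0] at this
    exact Nat.dvd_of_mod_eq_zero this
  have hne_top : fixSub u ≠ ⊤ := by
    intro h
    apply hu1
    ext x
    have : x ∈ fixSub u := by rw [h]; exact mem_top x
    exact this
  have hCcard : Nat.card (fixSub u) = p := by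
    have h1 : Nat.card (fixSub u) ∣ p ^ 2 := by
      rw [← hX]; exact Subgroup.card_subgroup_dvd_card _
    obtain ⟨k, hk, hk'⟩ := (Nat.dvd_prime_pow hp.out).mp h1
    interval_cases k
    · rw [hk', pow_zero] at hdvd
      exact absurd (Nat.le_of_dvd one_pos hdvd) (by omega)
    · rw [hk', pow_one]
    · exfalso
      apply hne_top
      apply Subgroup.eq_top_of_card_eq
      rw [hk', hX]
  have hDcard : Nat.card (deltaHom u).range = p := by
    have := card_mul_card_range u
    rw [hCcard, hX, pow_two] at this
    exact Nat.eq_of_mul_eq_mul_left hp0 this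
  -- the range of `δ` consists of fixed points
  have hDC : (deltaHom u).range ≤ fixSub u := by
    -- a generator of the range
    obtain ⟨d, hdD, hd1⟩ : ∃ d ∈ (deltaHom u).range, d ≠ 1 := by
      by_contra hcon
      push Not at hcon
      have : (deltaHom u).range = ⊥ := by
        rw [eq_bot_iff]
        intro x hx
        rw [mem_bot]
        exact hcon x hx
      rw [this, Subgroup.card_bot] at hDcard
      omega
    have hdord : orderOf d = p := orderOf_eq_prime (hXexp d) hd1
    have hzd : zpowers d = (deltaHom u).range := by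
      apply Subgroup.eq_of_le_of_card_ge
      · rw [zpowers_le]; exact hdD
      · rw [Nat.card_zpowers, hdord, hDcard]
    -- `u` maps the range into itself
    have hud : u d ∈ (deltaHom u).range := by
      obtain ⟨x, rfl⟩ := hdD
      refine ⟨u x, ?_⟩
      rw [deltaHom_apply, deltaHom_apply, map_mul, map_inv]
    rw [← hzd, ← mem_powers_iff_mem_zpowers] at hud
    obtain ⟨j, hj⟩ := hud
    replace hj : d ^ j = u d := hj
    -- `u^k d = d^(j^k)`
    have hpow : ∀ k : ℕ, (u ^ k) d = d ^ (j ^ k) := by
      intro k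
      induction k with
      | zero => simp
      | succ k ih =>
        rw [pow_succ', MulAut.mul_apply, ih, map_pow, ← hj, ← pow_mul, pow_succ']
    have h1 := hpow p
    rw [hup, MulAut.one_apply] at h1
    have h2 : j ^ p ≡ 1 [MOD p] := by
      have : d ^ (j ^ p) = d ^ 1 := by rw [pow_one]; exact h1.symm
      rw [pow_eq_pow_iff_modEq, hdord] at this
      exact this
    have h3 : j ≡ 1 [MOD p] := by
      rw [← ZMod.natCast_eq_natCast_iff] at h2 ⊢
      push_cast at h2 ⊢
      rw [ZMod.pow_card] at h2
      exact h2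
    have hud' : u d = d := by
      rw [← hj]
      have : d ^ j = d ^ 1 := by
        rw [pow_eq_pow_iff_modEq, hdord]
        exact h3
      rw [this, pow_one]
    rw [← hzd, zpowers_le]
    exact hud'
  have hu_mem : u ∈ transvSub (fixSub u) := by
    refine ⟨fun x => ?_, fun c hc => hc⟩
    exact hDC ⟨x, rfl⟩
  have hz : zpowers u ≤ transvSub (fixSub u) := by
    rw [zpowers_le]
    exact hu_mem
  refine ⟨fixSub u, hCcard, fun x => Iff.rfl, ?_, ?_⟩
  · intro s hs x hx
    exact (hz hs).2 x hx
  · intro s hs x
    exact (hz hs).1 x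

end abstractX

end Cfsg.Agent.Helper12.ResT
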