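import Mathlib
import Cfsg.Agent.Helper77.Res.Defs

/-!
# (TB3) of helper48's T-subfarm for S5289: an element of `T` inducing an automorphism in `ker ρ` lies in `P`
-/

set_option autoImplicit false
set_option linter.unusedSectionVars false

universe u

namespace Cfsg.Agent.Helper12.ResT

open Subgroup Cfsg.Agent.Helper77.Res

variable {Ω : Type u} [Group Ω] {p : ℕ} [hp : Fact p.Prime]

section cfg

variable {T P : Subgroup Ω} {A : Subgroup (MulAut ↥P)} {B : Subgroup (MulAut ↥T)} {M : Type*} [Group M]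

/-- the kernel of `ρ` consists of inner automorphisms of `P` (the `hrad` half of (TB2)) -/
theorem conjBy_P_of_ker (hrad : Rad p P A) (ρ : ↥A →* M)
    (hker : ∀ α : ↥A, ρ α = 1 → ∃ k : ℕ, orderOf α = p ^ k) (α : ↥A) (hα : ρ α = 1) :
    ConjBy P P (α : MulAut ↥P) := by
  refine hrad (ρ.ker.map A.subtype) (Subgroup.map_subtype_le _) ?_ ?_ (α : MulAut ↥P)
    ⟨α, hα, rfl⟩
  · rintro ⟨β, γ, hγ, rfl⟩
    obtain ⟨k, hk⟩ := hker γ hγ
    refine ⟨k, Subtype.ext ?_⟩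
    have h1 : γ ^ p ^ k = 1 := by rw [← hk]; exact pow_orderOf_eq_one γ
    have h2 := congrArg (fun z : ↥A => (z : MulAut ↥P)) h1
    simp only [Subgroup.coe_pow, Subgroup.coe_one] at h2
    simpa using h2
  · rintro a ha β ⟨γ, hγ, rfl⟩
    refine ⟨⟨a, ha⟩ * γ * ⟨a, ha⟩⁻¹, ?_, rfl⟩
    exact (MonoidHom.normal_ker ρ).conj_mem γ hγ ⟨a, ha⟩

/-- (TB3) an element of `T` inducing an automorphism in the kernel of `ρ` lies in `P`. -/
theorem mem_of_ker (hc : Cfg p T P A B) (hrad : Rad p P A) (ρ : ↥A →* M)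
    (hker : ∀ α : ↥A, ρ α = 1 → ∃ k : ℕ, orderOf α = p ^ k) (α : ↥A) (hα : ρ α = 1) (t : Ω) (ht : t ∈ T)
    (hconj : ∀ x : P, ((((α : MulAut ↥P) x : P)) : Ω) = t * (x : Ω) * t⁻¹) : t ∈ P := by
  obtain ⟨g, hg, hgx⟩ := conjBy_P_of_ker hrad ρ hker α hα
  have hcen : ∀ x ∈ P, (g⁻¹ * t) * x = x * (g⁻¹ * t) := by
    intro x hx
    have h1 := hgx ⟨x, hx⟩
    rw [hconj ⟨x, hx⟩] at h1
    have h2 : t * x = g * x * g⁻¹ * t := by
      have : t * x = (t * x * t⁻¹) * t := by group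
      rw [this]
      exact congrArg (· * t) h1
    calc g⁻¹ * t * x = g⁻¹ * (t * x) := by group
      _ = g⁻¹ * (g * x * g⁻¹ * t) := by rw [h2]
      _ = x * (g⁻¹ * t) := by group
  have h3 : g⁻¹ * t ∈ P := hc.cent _ (mul_mem (inv_mem (hc.le hg)) ht) hcen
  have : t = g * (g⁻¹ * t) := by group
  rw [this]
  exact mul_mem hg h3

end cfg

end Cfsg.Agent.Helper12.ResT
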