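-- helper12: piece (ORB1) of helper38's S2412 skeleton (PSU_n(q) is generated by two elements)
import Mathlib
import Cfsg.Agent.Helper38.SU2G.Defs

set_option autoImplicit false
set_option linter.unusedSectionVars false

namespace Cfsg.Agent.Helper12.SU2G

open Matrix Cfsg.Agent.Helper84.PSU Cfsg.Agent.Helper38.SU2G

variable {K : Type*} [Field K] {m r : ℕ}

local notation "Vec" => (I (m + 2) r → K)
local notation "Mat" => Matrix (I (m + 2) r) (I (m + 2) r) K

variable (bar : K →+* K) (hb : ∀ x, bar (bar x) = x)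

set_option quotPrecheck false in
local notation "SUk" => ↥(SUm (m + 2) r bar)

include hb in
/-- (ORB1) PROOF: `RGw.transport` along `n`: `e_1 ↦ e_2 ↦ ... ↦ e_last ↦ μ f_0 ↦ f_1 ↦ ... ↦ f_last ↦ ν e_0 ↦ e_1`. -/
theorem orb1_piece (a : Fin r) {n : SUk} {μ ν : K} (hn : IsCox bar n μ ν) (L : Subgroup SUk) (hnL : n ∈ L)
    (h0 : RGw bar L (vE i1) a) : (∀ i : Fin (m + 2), RGw bar L (vE i) a) ∧ (∀ i : Fin (m + 2), RGw bar L (vF i) a) := by
  have hM : HasM bar L (mt bar n) := hasM_mt bar hnL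
  have hw : mt bar n *ᵥ (vW a : Vec) = vW a := hn.w_fix a
  -- the `e_i`, `i ≥ 1`
  have hE : ∀ j : ℕ, ∀ h : j + 1 < m + 2, RGw bar L (vE (⟨j + 1, h⟩ : Fin (m + 2))) a := by
    intro j
    induction j with
    | zero =>
      intro h
      exact h0
    | succ j ih =>
      intro h
      have h1 := ih (by omega)
      have hu : mt bar n *ᵥ (vE (⟨j + 1, by omega⟩ : Fin (m + 2)) : Vec) =
          (1 : K) • vE (⟨j + 1 + 1, h⟩ : Fin (m + 2)) := by
        rw [one_smul]
        exact hn.e_succ ⟨j + 1, by omega⟩ h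
      exact RGw.transport bar hb h1 hM hu hw one_ne_zero
  have hEl : RGw bar L (vE (il : Fin (m + 2))) a := hE m (by omega)
  -- `f_0`
  have hF0 : RGw bar L (vF (i0 : Fin (m + 2))) a :=
    RGw.transport bar hb hEl hM hn.e_last hw hn.hμ
  -- all the `f_i`
  have hF : ∀ j : ℕ, ∀ h : j < m + 2, RGw bar L (vF (⟨j, h⟩ : Fin (m + 2))) a := by
    intro j
    induction j with
    | zero =>
      intro h
      exact hF0
    | succ j ih =>
      intro h
      have h1 := ih (by omega)
      have hu : mt bar n *ᵥ (vF (⟨j, by omega⟩ : Fin (m + 2)) : Vec) =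
          (1 : K) • vF (⟨j + 1, h⟩ : Fin (m + 2)) := by
        rw [one_smul]
        exact hn.f_succ ⟨j, by omega⟩ h
      exact RGw.transport bar hb h1 hM hu hw one_ne_zero
  have hFl : RGw bar L (vF (il : Fin (m + 2))) a := hF (m + 1) (by omega)
  -- `e_0`
  have hE0 : RGw bar L (vE (i0 : Fin (m + 2))) a :=
    RGw.transport bar hb hFl hM hn.f_last hw hn.hν
  refine ⟨?_, fun i => hF i.val i.isLt⟩
  intro i
  rcases Nat.eq_zero_or_pos i.val with hi | hi
  · have : i = i0 := Fin.ext hi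
    rw [this]
    exact hE0
  · obtain ⟨j, hj⟩ : ∃ j, i.val = j + 1 := ⟨i.val - 1, by omega⟩
    have : i = ⟨j + 1, by omega⟩ := Fin.ext hj
    rw [this]
    exact hE j (by omega)

end Cfsg.Agent.Helper12.SU2G
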