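import Cfsg.Agent.Helper6.SUrep3
import Cfsg.Agent.Helper74.SUA3ab
import Cfsg.Agent.Helper48.SUA0

/-!
# (A3c) of helper6's Landazuri–Seitz plan for `SU_n(q)` (S2334/S2335)

If the root groups of the isotropic vectors of `⟨u, u'⟩^⊥ ∩ W` fix `fixZ u` pointwise, then all the
`fixZ p` (`p` isotropic non-zero in `W`) coincide.
-/

set_option autoImplicit false

namespace Cfsg.Agent.Helper12.SUrep

open Matrix Cfsg.Agent.Helper13 Module Cfsg.Agent.Helper6.SUrep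

variable {F : Type*} [Field F] [Fintype F] {q n : ℕ}

local notation "⟪" x ", " y "⟫" => Cfsg.hermForm n F q x y

variable {M : Type*} [AddCommGroup M] [Module ℂ M]

/-- `m` is fixed by the root group of the isotropic vector `p ∈ W` -/
def InFix (hF : Fintype.card F = q ^ 2) (W : Submodule F (Fin n → F))
    (ρ : Representation ℂ ↥(suW q W) M) (p : Fin n → F) (m : M) : Prop :=
  ∃ (hpW : p ∈ W) (hpp : ⟪p, p⟫ = 0), m ∈ fixZ hF W ρ p hpW hpp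

theorem inFix_iff (hF : Fintype.card F = q ^ 2) {W : Submodule F (Fin n → F)}
    (ρ : Representation ℂ ↥(suW q W) M) {p : Fin n → F} (hpW : p ∈ W) (hpp : ⟪p, p⟫ = 0)
    (m : M) : InFix hF W ρ p m ↔ m ∈ fixZ hF W ρ p hpW hpp :=
  ⟨fun ⟨_, _, h⟩ => h, fun h => ⟨hpW, hpp, h⟩⟩

theorem inFix_map (hF : Fintype.card F = q ^ 2) {W : Submodule F (Fin n → F)}
    (ρ : Representation ℂ ↥(suW q W) M) (g : suW q W) {p : Fin n → F} {m : M}
    (h : InFix hF W ρ p m) : InFix hF W ρ (suMat (g : Cfsg.SU n F q) *ᵥ p) (ρ g m) := by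
  obtain ⟨hpW, hpp, hm⟩ := h
  exact ⟨_, _, Cfsg.Agent.Helper74.SUrep.map_fixZ hF ρ g p hpW hpp m hm⟩

omit [Fintype F] in
theorem suW_inv_mulVec {W : Submodule F (Fin n → F)} (g : suW q W) (x : Fin n → F) :
    suMat ((g⁻¹ : suW q W) : Cfsg.SU n F q) *ᵥ (suMat (g : Cfsg.SU n F q) *ᵥ x) = x :=
  suMat_inv_mulVec (g : Cfsg.SU n F q) x

omit [Fintype F] in
theorem suW_mulVec_inv {W : Submodule F (Fin n → F)} (g : suW q W) (x : Fin n → F) :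
    suMat (g : Cfsg.SU n F q) *ᵥ (suMat ((g⁻¹ : suW q W) : Cfsg.SU n F q) *ᵥ x) = x := by
  rw [Matrix.mulVec_mulVec, ← suMat_mul, ← Subgroup.coe_mul, mul_inv_cancel, Subgroup.coe_one,
    suMat_one, Matrix.one_mulVec]

omit [Fintype F] in
theorem rho_inv_apply {W : Submodule F (Fin n → F)} (ρ : Representation ℂ ↥(suW q W) M)
    (g : suW q W) (m : M) : ρ g (ρ g⁻¹ m) = m := by
  rw [← Module.End.mul_apply, ← map_mul, mul_inv_cancel, map_one, Module.End.one_apply]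

/-- moving the pair `(p, m)` by `g⁻¹` and back -/
theorem inFix_of_map_inv (hF : Fintype.card F = q ^ 2) {W : Submodule F (Fin n → F)}
    (ρ : Representation ℂ ↥(suW q W) M) (g : suW q W) {p : Fin n → F} {m : M}
    (h : InFix hF W ρ (suMat ((g⁻¹ : suW q W) : Cfsg.SU n F q) *ᵥ p) (ρ g⁻¹ m)) :
    InFix hF W ρ p m := by
  have := inFix_map hF ρ g h
  rwa [suW_mulVec_inv, rho_inv_apply] at this

theorem inFix_smul (hF : Fintype.card F = q ^ 2) {W : Submodule F (Fin n → F)}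
    (ρ : Representation ℂ ↥(suW q W) M) {p : Fin n → F} {a : F} (ha : a ≠ 0) (m : M) :
    InFix hF W ρ (a • p) m ↔ InFix hF W ρ p m := by
  constructor
  · rintro ⟨hapW, hapap, hm⟩
    have hpW : p ∈ W := by
      have := W.smul_mem a⁻¹ hapW
      rwa [smul_smul, inv_mul_cancel₀ ha, one_smul] at this
    have hpp : ⟪p, p⟫ = 0 := by
      have := hermForm_smul_self (q := q) (a • p) a⁻¹ hapap
      rwa [smul_smul, inv_mul_cancel₀ ha, one_smul] at this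
    refine ⟨hpW, hpp, ?_⟩
    rw [← Cfsg.Agent.Helper74.SUrep.fixZ_smul hF ρ p hpW hpp a ha]
    exact hm
  · rintro ⟨hpW, hpp, hm⟩
    refine ⟨W.smul_mem a hpW, hermForm_smul_self p a hpp, ?_⟩
    rw [Cfsg.Agent.Helper74.SUrep.fixZ_smul hF ρ p hpW hpp a ha]
    exact hm

section main


/-- Step 1a: an isotropic vector orthogonal to `u` and not on the line of `u` -/
theorem inFix_of_perp_u (hF : Fintype.card F = q ^ 2) {W : Submodule F (Fin n → F)}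
    (hW : NonDeg q W) (ρ : Representation ℂ ↥(suW q W) M)
    {u u' : Fin n → F} (huW : u ∈ W) (hu'W : u' ∈ W) (huu : ⟪u, u⟫ = 0) (hu'u' : ⟪u', u'⟫ = 0)
    (huu' : ⟪u, u'⟫ = 1)
    (Hu : ∀ v ∈ hypCompl q W u u', ⟪v, v⟫ = 0 → ∀ m, InFix hF W ρ u m → InFix hF W ρ v m)
    {p : Fin n → F} (hpW : p ∈ W) (hpp : ⟪p, p⟫ = 0) (hpu : ⟪p, u⟫ = 0)
    (hne : hypProj q u u' p ≠ 0) {m : M} (hm : InFix hF W ρ u m) : InFix hF W ρ p m := by
  have hq := two_le_of_card_eq_sq hF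
  set y := hypProj q u u' p with hy
  have hyW' : y ∈ hypCompl q W u u' := hypProj_mem hF W huW hu'W huu hu'u' huu' hpW
  set a := ⟪p, u'⟫ with ha
  have hdec : p = a • u + y := by
    have := hypProj_decomp (q := q) u u' p
    rw [hpu, zero_smul, add_zero] at this
    exact this
  have hyu : ⟪y, u⟫ = 0 := hyW'.2.1
  have huy : ⟪u, y⟫ = 0 := hermForm_eq_zero_symm hF hyu
  have hyy : ⟪y, y⟫ = 0 := by
    have h1 := hpp
    rw [hdec, hermForm_add_self hF, hermForm_smul_self u a huu, hermForm_smul_left, huy,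
      mul_zero, zero_pow (by omega), add_zero, zero_add, add_zero] at h1
    exact h1
  -- `y₁` with `⟪y, y₁⟫ = -a`
  have hnd := nonDeg_hypCompl hF W hW huW hu'W huu hu'u' huu'
  obtain ⟨z, hz, hyz⟩ : ∃ z ∈ hypCompl q W u u', ⟪y, z⟫ ≠ 0 := by
    by_contra h
    push Not at h
    exact hne (hnd y hyW' h)
  set t : F := ((-a) * (⟪y, z⟫)⁻¹) ^ q with ht
  have htq : t ^ q = (-a) * (⟪y, z⟫)⁻¹ := frob_frob hF _
  set y₁ : Fin n → F := t • z with hy₁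
  have hy₁W' : y₁ ∈ hypCompl q W u u' := (hypCompl q W u u').smul_mem t hz
  have hyy₁ : ⟪y, y₁⟫ = -a := by
    rw [hy₁, hermForm_smul_right, htq, mul_assoc, inv_mul_cancel₀ hyz, mul_one]
  obtain ⟨c₁, hc₁'⟩ := exists_trace_eq_of_fixed hF (a := -⟪y₁, y₁⟫)
    (by rw [frob_neg' hF, hermForm_self_fixed hF])
  have hc₁ : c₁ + c₁ ^ q + ⟪y₁, y₁⟫ = 0 := by rw [hc₁']; ring
  have hy₁u : ⟪y₁, u⟫ = 0 := hy₁W'.2.1
  have huy₁ : ⟪u, y₁⟫ = 0 := hermForm_eq_zero_symm hF hy₁u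
  set e : suW q W := eiW hF W u y₁ c₁ huW hy₁W'.1 huu hy₁u hc₁ with he
  have heu : suMat (e : Cfsg.SU n F q) *ᵥ u = u := by
    rw [he, suMat_eiW, eichler_mulVec, huu, huy₁]
    simp
  have hey : suMat (e : Cfsg.SU n F q) *ᵥ y = p := by
    rw [he, suMat_eiW, eichler_mulVec, hyu, hyy₁, hdec]
    simp only [zero_smul, mul_zero, add_zero]
    module
  -- move `m` by `e⁻¹`
  have heinvu : suMat ((e⁻¹ : suW q W) : Cfsg.SU n F q) *ᵥ u = u := by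
    have := suW_inv_mulVec e u
    rwa [heu] at this
  have h1 : InFix hF W ρ u (ρ e⁻¹ m) := by
    have := inFix_map hF ρ e⁻¹ hm
    rwa [heinvu] at this
  have h2 : InFix hF W ρ y (ρ e⁻¹ m) := Hu y hyW' hyy _ h1
  have h3 := inFix_map hF ρ e h2
  rwa [hey, rho_inv_apply] at h3

/-- Step 1: orthogonal independent isotropic vectors -/
theorem inFix_of_perp (hF : Fintype.card F = q ^ 2) {W : Submodule F (Fin n → F)}
    (hW : NonDeg q W) (ρ : Representation ℂ ↥(suW q W) M)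
    {u u' : Fin n → F} (huW : u ∈ W) (hu'W : u' ∈ W) (huu : ⟪u, u⟫ = 0) (hu'u' : ⟪u', u'⟫ = 0)
    (huu' : ⟪u, u'⟫ = 1) (hk : 3 ≤ finrank F W)
    (hA0c : ∀ {u p : Fin n → F}, u ∈ W → p ∈ W → u ≠ 0 → p ≠ 0 → ⟪u, u⟫ = 0 → ⟪p, p⟫ = 0 →
      ∃ g : suW q W, suMat (g : Cfsg.SU n F q) *ᵥ u = p)
    (Hu : ∀ v ∈ hypCompl q W u u', ⟪v, v⟫ = 0 → ∀ m, InFix hF W ρ u m → InFix hF W ρ v m)
    {p p' : Fin n → F} (hpW : p ∈ W) (hp0 : p ≠ 0) (hpp : ⟪p, p⟫ = 0) (hp'W : p' ∈ W)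
    (hp'p' : ⟪p', p'⟫ = 0) (hp'p : ⟪p', p⟫ = 0) (hind : ∀ c : F, p' ≠ c • p) {m : M}
    (hm : InFix hF W ρ p m) : InFix hF W ρ p' m := by
  have hu0 : u ≠ 0 := by
    rintro rfl
    rw [hermForm_zero_left (q := q) u'] at huu'
    exact zero_ne_one huu'
  obtain ⟨g, hg⟩ := hA0c huW hpW hu0 hp0 huu hpp
  have hginvp : suMat ((g⁻¹ : suW q W) : Cfsg.SU n F q) *ᵥ p = u := by
    rw [← hg]; exact suW_inv_mulVec g u
  set p'' : Fin n → F := suMat ((g⁻¹ : suW q W) : Cfsg.SU n F q) *ᵥ p' with hp''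
  have hp''W : p'' ∈ W := suW_mulVec_mem hF g⁻¹ hp'W
  have hp''p'' : ⟪p'', p''⟫ = 0 := suW_mulVec_iso g⁻¹ hp'p'
  have hp''u : ⟪p'', u⟫ = 0 := by
    rw [← hginvp, hp'', isU_suMat ((g⁻¹ : suW q W) : Cfsg.SU n F q), hp'p]
  have hgp'' : suMat (g : Cfsg.SU n F q) *ᵥ p'' = p' := suW_mulVec_inv g p'
  have hne : hypProj q u u' p'' ≠ 0 := by
    intro h0
    have hdec := hypProj_decomp (q := q) u u' p''
    rw [hp''u, zero_smul, add_zero, h0, add_zero] at hdec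
    apply hind ⟪p'', u'⟫
    rw [← hgp'', hdec, Matrix.mulVec_smul, hg]
    congr 1
    rw [← hdec]
  have h1 : InFix hF W ρ u (ρ g⁻¹ m) := by
    have := inFix_map hF ρ g⁻¹ hm
    rwa [hginvp] at this
  have h2 := inFix_of_perp_u hF hW ρ huW hu'W huu hu'u' huu' Hu hp''W hp''p'' hp''u hne h1
  apply inFix_of_map_inv hF ρ g
  exact h2

/-- Step 2: isotropic vectors that are not orthogonal -/
theorem inFix_of_not_perp (hF : Fintype.card F = q ^ 2) {W : Submodule F (Fin n → F)}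
    (hW : NonDeg q W) (ρ : Representation ℂ ↥(suW q W) M)
    {u u' : Fin n → F} (huW : u ∈ W) (hu'W : u' ∈ W) (huu : ⟪u, u⟫ = 0) (hu'u' : ⟪u', u'⟫ = 0)
    (huu' : ⟪u, u'⟫ = 1) (hk : 4 ≤ finrank F W)
    (hA0c : ∀ {u p : Fin n → F}, u ∈ W → p ∈ W → u ≠ 0 → p ≠ 0 → ⟪u, u⟫ = 0 → ⟪p, p⟫ = 0 →
      ∃ g : suW q W, suMat (g : Cfsg.SU n F q) *ᵥ u = p)
    (Hu : ∀ v ∈ hypCompl q W u u', ⟪v, v⟫ = 0 → ∀ m, InFix hF W ρ u m → InFix hF W ρ v m)
    {p p' : Fin n → F} (hpW : p ∈ W) (hpp : ⟪p, p⟫ = 0) (hp'W : p' ∈ W)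
    (hp'p' : ⟪p', p'⟫ = 0) (hpp' : ⟪p, p'⟫ ≠ 0) {m : M}
    (hm : InFix hF W ρ p m) : InFix hF W ρ p' m := by
  have hq := two_le_of_card_eq_sq hF
  have hp0 : p ≠ 0 := by
    rintro rfl
    exact hpp' (hermForm_zero_left p')
  set c : F := ((⟪p, p'⟫)⁻¹) ^ q with hc
  have hcq : c ^ q = (⟪p, p'⟫)⁻¹ := frob_frob hF _
  have hc0 : c ≠ 0 := pow_ne_zero q (inv_ne_zero hpp')
  set p'' : Fin n → F := c • p' with hp''
  have hp''W : p'' ∈ W := W.smul_mem c hp'W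
  have hp''p'' : ⟪p'', p''⟫ = 0 := hermForm_smul_self p' c hp'p'
  have hpp'' : ⟪p, p''⟫ = 1 := by
    rw [hp'', hermForm_smul_right, hcq, inv_mul_cancel₀ hpp']
  have hp''p : ⟪p'', p⟫ = 1 := by rw [← hermForm_conj hF, hpp'', one_pow]
  have hp''0 : p'' ≠ 0 := by
    intro h
    rw [h, hermForm_zero_left] at hp''p
    exact zero_ne_one hp''p
  have hnd := nonDeg_hypCompl hF W hW hpW hp''W hpp hp''p'' hpp''
  have hfr := Cfsg.Agent.Helper48.SUrep.finrank_hypCompl hF W p p'' hpW hp''W hpp hp''p'' hpp''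
  obtain ⟨r, hr, hr0, hrr⟩ :=
    Cfsg.Agent.Helper48.SUrep.exists_isotropic_ne_zero_in hF hnd (by omega)
  have hrW : r ∈ W := hr.1
  have hrp : ⟪r, p⟫ = 0 := hr.2.1
  have hrp'' : ⟪r, p''⟫ = 0 := hr.2.2
  have hp''r : ⟪p'', r⟫ = 0 := hermForm_eq_zero_symm hF hrp''
  -- `p → r`
  have h1 : InFix hF W ρ r m := by
    refine inFix_of_perp hF hW ρ huW hu'W huu hu'u' huu' (by omega) hA0c Hu hpW hp0 hpp hrW hrr
      hrp ?_ hm
    intro d hd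
    rw [hd, hermForm_smul_left, hpp'', mul_one] at hrp''
    rw [hrp'', zero_smul] at hd
    exact hr0 hd
  -- `r → p''`
  have h2 : InFix hF W ρ p'' m := by
    refine inFix_of_perp hF hW ρ huW hu'W huu hu'u' huu' (by omega) hA0c Hu hrW hr0 hrr hp''W
      hp''p'' hp''r ?_ h1
    intro d hd
    have h3 := hp''p
    rw [hd, hermForm_smul_left, hrp, mul_zero] at h3
    exact zero_ne_one h3
  exact (inFix_smul hF ρ hc0 m).mp h2

/-- all the fixed spaces coincide -/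
theorem inFix_of_inFix (hF : Fintype.card F = q ^ 2) {W : Submodule F (Fin n → F)}
    (hW : NonDeg q W) (ρ : Representation ℂ ↥(suW q W) M)
    {u u' : Fin n → F} (huW : u ∈ W) (hu'W : u' ∈ W) (huu : ⟪u, u⟫ = 0) (hu'u' : ⟪u', u'⟫ = 0)
    (huu' : ⟪u, u'⟫ = 1) (hk : 4 ≤ finrank F W)
    (hA0c : ∀ {u p : Fin n → F}, u ∈ W → p ∈ W → u ≠ 0 → p ≠ 0 → ⟪u, u⟫ = 0 → ⟪p, p⟫ = 0 →
      ∃ g : suW q W, suMat (g : Cfsg.SU n F q) *ᵥ u = p)
    (Hu : ∀ v ∈ hypCompl q W u u', ⟪v, v⟫ = 0 → ∀ m, InFix hF W ρ u m → InFix hF W ρ v m)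
    {p p' : Fin n → F} (hpW : p ∈ W) (hp0 : p ≠ 0) (hpp : ⟪p, p⟫ = 0) (hp'W : p' ∈ W)
    (hp'0 : p' ≠ 0) (hp'p' : ⟪p', p'⟫ = 0) {m : M}
    (hm : InFix hF W ρ p m) : InFix hF W ρ p' m := by
  by_cases hdep : ∃ d : F, p' = d • p
  · obtain ⟨d, rfl⟩ := hdep
    have hd0 : d ≠ 0 := by
      rintro rfl
      exact hp'0 (zero_smul F p)
    exact (inFix_smul hF ρ hd0 m).mpr hm
  · push Not at hdep
    by_cases hperp : ⟪p', p⟫ = 0
    · exact inFix_of_perp hF hW ρ huW hu'W huu hu'u' huu' (by omega) hA0c Hu hpW hp0 hpp hp'W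
        hp'p' hperp hdep hm
    · have hpp' : ⟪p, p'⟫ ≠ 0 := fun h => hperp (hermForm_eq_zero_symm hF h)
      exact inFix_of_not_perp hF hW ρ huW hu'W huu hu'u' huu' hk hA0c Hu hpW hpp hp'W hp'p'
        hpp' hm

end main

/-- (A3c) if the transvections of `⟨u, u'⟩^⊥ ∩ W` fix `fixZ u` pointwise, then all the
`fixZ p` coincide -/
theorem fixZ_eq_of_le [FiniteDimensional ℂ M] (hF : Fintype.card F = q ^ 2)
    {W : Submodule F (Fin n → F)}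
    (hW : NonDeg q W) (hk : 4 ≤ finrank F W) (ρ : Representation ℂ ↥(suW q W) M)
    (u u' : Fin n → F) (huW : u ∈ W) (hu'W : u' ∈ W) (huu : ⟪u, u⟫ = 0) (hu'u' : ⟪u', u'⟫ = 0)
    (huu' : ⟪u, u'⟫ = 1)
    (H : ∀ (v : Fin n → F) (hv : v ∈ hypCompl q W u u') (hvv : ⟪v, v⟫ = 0),
      fixZ hF W ρ u huW huu ≤ fixZ hF W ρ v (hypCompl_le W u u' hv) hvv)
    (p : Fin n → F) (hpW : p ∈ W) (hp0 : p ≠ 0) (hpp : ⟪p, p⟫ = 0) :
    fixZ hF W ρ p hpW hpp = fixZ hF W ρ u huW huu := by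
  have hu0 : u ≠ 0 := by
    rintro rfl
    rw [hermForm_zero_left (q := q) u'] at huu'
    exact zero_ne_one huu'
  have Hu : ∀ v ∈ hypCompl q W u u', ⟪v, v⟫ = 0 → ∀ m, InFix hF W ρ u m → InFix hF W ρ v m := by
    intro v hv hvv m hm
    exact ⟨hypCompl_le W u u' hv, hvv, H v hv hvv ((inFix_iff hF ρ huW huu m).mp hm)⟩
  have hA0c : ∀ {u p : Fin n → F}, u ∈ W → p ∈ W → u ≠ 0 → p ≠ 0 → ⟪u, u⟫ = 0 → ⟪p, p⟫ = 0 →
      ∃ g : suW q W, suMat (g : Cfsg.SU n F q) *ᵥ u = p := fun h1 h2 h3 h4 h5 h6 =>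
    Cfsg.Agent.Helper48.SUrep.exists_suW_map hF hW (by omega) h1 h2 h3 h4 h5 h6
  ext m
  rw [← inFix_iff hF ρ hpW hpp m, ← inFix_iff hF ρ huW huu m]
  constructor
  · exact inFix_of_inFix hF hW ρ huW hu'W huu hu'u' huu' hk hA0c Hu hpW hp0 hpp huW hu0 huu
  · exact inFix_of_inFix hF hW ρ huW hu'W huu hu'u' huu' hk hA0c Hu huW hu0 huu hpW hp0 hpp

end Cfsg.Agent.Helper12.SUrep
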