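import Cfsg.Agent.Helper6.SUrep3

/-!
# (A5a) of helper6's Landazuri–Seitz plan for `SU_n(q)` (S2334/S2335)

The torus for an orthogonal pair of isotropic vectors: a diagonal element of `suW q W` scaling
`u` and inducing the multiplication by `κ` on the root group of `v`.
-/

set_option autoImplicit false

namespace Cfsg.Agent.Helper12.SUrep

open Matrix Cfsg.Agent.Helper13 Module Cfsg.Agent.Helper6.SUrep

variable {F : Type*} [Field F] [Fintype F] {q n : ℕ}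

local notation "⟪" x ", " y "⟫" => Cfsg.hermForm n F q x y

/-- the hyperbolic rotation `e ↦ A e`, `f ↦ (A^q)⁻¹ f` preserves the form -/
theorem isU_hypMat_torus (hF : Fintype.card F = q ^ 2) (e f : Fin n → F) (hee : ⟪e, e⟫ = 0)
    (hff : ⟪f, f⟫ = 0) (hef : ⟪e, f⟫ = 1) (A : F) (hA : A ≠ 0) :
    IsU q (hypMat q e f (A - 1) ((A ^ q)⁻¹ - 1)) := by
  have hAq : A ^ q ≠ 0 := pow_ne_zero q hA
  intro x y
  apply hypMat_preserves hF e f _ _ hee hff hef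
  · rw [frob_sub' hF, one_pow]
    field_simp
    ring
  · rw [frob_sub' hF, one_pow, inv_pow, frob_frob hF]
    field_simp
    ring

theorem det_hypMat_torus (hF : Fintype.card F = q ^ 2) (e f : Fin n → F)
    (hef : ⟪e, f⟫ = 1) (A : F) :
    (hypMat q e f (A - 1) ((A ^ q)⁻¹ - 1)).det = A * (A ^ q)⁻¹ := by
  have hfe : ⟪f, e⟫ = 1 := by rw [← hermForm_conj hF e f, hef, one_pow]
  rw [det_hypMat, hef, hfe]
  ring

/-- (A5a) the torus for an orthogonal pair of isotropic vectors -/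
theorem exists_conj_tvW_pair (hF : Fintype.card F = q ^ 2) {W : Submodule F (Fin n → F)}
    (hW : NonDeg q W)
    (u u' : Fin n → F) (huW : u ∈ W) (hu'W : u' ∈ W) (huu : ⟪u, u⟫ = 0) (hu'u' : ⟪u', u'⟫ = 0)
    (huu' : ⟪u, u'⟫ = 1) (v : Fin n → F) (hv : v ∈ hypCompl q W u u') (hv0 : v ≠ 0)
    (hvv : ⟪v, v⟫ = 0) (κ : F) (hκ : κ ^ q = κ) (hκ0 : κ ≠ 0) :
    ∃ (g : suW q W) (a : F), a ≠ 0 ∧ suMat (g : Cfsg.SU n F q) *ᵥ u = a • u ∧
      ∀ c : skewS hF, g * tvW hF W v (hypCompl_le W u u' hv) hvv c * g⁻¹ =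
        tvW hF W v (hypCompl_le W u u' hv) hvv (mulSEquiv hF κ hκ hκ0 c) := by
  have hq := two_le_of_card_eq_sq hF
  obtain ⟨b, hb⟩ := exists_norm_eq_of_fixed hF hκ
  have hb0 : b ≠ 0 := by
    rintro rfl
    rw [zero_mul] at hb
    exact hκ0 hb.symm
  have hbq0 : b ^ q ≠ 0 := pow_ne_zero q hb0
  have hnd := nonDeg_hypCompl hF W hW huW hu'W huu hu'u' huu'
  obtain ⟨v', hv', hv'v', hvv'⟩ :=
    exists_hyperbolic_partner_in hF (hypCompl q W u u') hnd hv hv0 hvv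
  have hv'v : ⟪v', v⟫ = 1 := by rw [← hermForm_conj hF v v', hvv', one_pow]
  have hu'u : ⟪u', u⟫ = 1 := by rw [← hermForm_conj hF u u', huu', one_pow]
  have hvu : ⟪v, u⟫ = 0 := hv.2.1
  have hvu' : ⟪v, u'⟫ = 0 := hv.2.2
  have hv'u : ⟪v', u⟫ = 0 := hv'.2.1
  have hv'u' : ⟪v', u'⟫ = 0 := hv'.2.2
  have huv : ⟪u, v⟫ = 0 := hermForm_eq_zero_symm hF hvu
  have huv' : ⟪u, v'⟫ = 0 := hermForm_eq_zero_symm hF hv'u
  -- the two rotations
  set g₁ : Matrix (Fin n) (Fin n) F := hypMat q u u' (b⁻¹ - 1) (((b⁻¹) ^ q)⁻¹ - 1) with hg₁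
  set g₂ : Matrix (Fin n) (Fin n) F := hypMat q v v' (b - 1) ((b ^ q)⁻¹ - 1) with hg₂
  have hU₁ : IsU q g₁ := isU_hypMat_torus hF u u' huu hu'u' huu' b⁻¹ (inv_ne_zero hb0)
  have hU₂ : IsU q g₂ := isU_hypMat_torus hF v v' hvv hv'v' hvv' b hb0
  have hdet : (g₁ * g₂).det = 1 := by
    rw [Matrix.det_mul, hg₁, hg₂, det_hypMat_torus hF u u' huu', det_hypMat_torus hF v v' hvv']
    rw [inv_pow, inv_inv]
    field_simp
  have hfix : FixPerp q W (g₁ * g₂) := by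
    intro x hx
    have h1 : ⟪x, u⟫ = 0 := hx u huW
    have h2 : ⟪x, u'⟫ = 0 := hx u' hu'W
    have h3 : ⟪x, v⟫ = 0 := hx v hv.1
    have h4 : ⟪x, v'⟫ = 0 := hx v' hv'.1
    rw [← Matrix.mulVec_mulVec, hg₂, hypMat_mulVec v v' _ _ hv'v', h3, h4, hg₁,
      hypMat_mulVec u u' _ _ hu'u']
    simp only [mul_zero, zero_smul, add_zero, h1, h2]
  set g : suW q W := ⟨⟨⟨g₁ * g₂, hdet⟩, hU₁.mul hU₂⟩, hfix⟩ with hg
  have hgmat : suMat (g : Cfsg.SU n F q) = g₁ * g₂ := rfl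
  have hgu : suMat (g : Cfsg.SU n F q) *ᵥ u = b⁻¹ • u := by
    rw [hgmat, ← Matrix.mulVec_mulVec, hg₂, hypMat_mulVec v v' _ _ hv'v', huv, huv', hg₁]
    simp only [mul_zero, zero_smul, add_zero]
    rw [hypMat_mulVec u u' _ _ hu'u', huu', huu]
    simp only [mul_zero, zero_smul, add_zero, mul_one]
    module
  have hgv : suMat (g : Cfsg.SU n F q) *ᵥ v = b • v := by
    rw [hgmat, ← Matrix.mulVec_mulVec, hg₂, hypMat_mulVec v v' _ _ hv'v', hvv', hvv, hg₁]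
    simp only [mul_zero, zero_smul, add_zero, mul_one]
    have h5 : v + (b - 1) • v = b • v := by module
    rw [h5, Matrix.mulVec_smul, hypMat_mulVec u u' _ _ hu'u', hvu', hvu]
    simp only [mul_zero, zero_smul, add_zero]
  refine ⟨g, b⁻¹, inv_ne_zero hb0, hgu, ?_⟩
  intro c
  rw [conj_tvW hF g v (hypCompl_le W u u' hv) hvv c]
  apply suW_ext
  rw [suMat_tvW, suMat_tvW, hgv, unitaryTransvection_smul, mulSEquiv_coe, ← hb]
  congr 1
  ring

end Cfsg.Agent.Helper12.SUrep
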