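import Mathlib
import Cfsg.Prelude.Def_Characters
import Cfsg.Prelude.Def_Perm
import Cfsg.Agent.Helper12.OrbitalGen
import Cfsg.Agent.Helper12.PermCharBasics

/-!
# Self-paired orbitals and the permutation character (helper12)
-/

set_option autoImplicit false

namespace Cfsg.Agent.Helper12.SelfPaired

open Cfsg Module LinearMap
open Cfsg.Agent.Helper12.Orbital Cfsg.Agent.Helper12.OrbitalGen
open Cfsg.Agent.Helper12.PermCharBasics
open scoped ComplexConjugate

universe u v

section count

variable {G : Type u} [Group G] [Fintype G] {Ω : Type v} [Fintype Ω] [DecidableEq Ω]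
  [MulAction G Ω]

/-- If every pair of points is interchanged by a group element, then
`∑ u, |Fix (u²)| = ∑ g, |Fix g|²`. -/
theorem sum_fix_sq_eq (hsw : ∀ a b : Ω, ∃ g : G, g • a = b ∧ g • b = a) :
    ∑ u : G, (Finset.univ.filter fun x : Ω => (u * u) • x = x).card =
      ∑ g : G, (Finset.univ.filter fun x : Ω => g • x = x).card ^ 2 := by
  classical
  have hS : ∀ u : G, (Finset.univ.filter fun x : Ω => (u * u) • x = x).card =
      ∑ x : Ω, ∑ y : Ω, if u • x = y ∧ u • y = x then 1 else 0 := by
    intro u
    rw [Finset.card_filter]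
    refine Finset.sum_congr rfl fun x _ => ?_
    rw [Finset.sum_eq_single (u • x)]
    · simp [mul_smul]
    · intro y _ hy
      rw [if_neg]
      exact fun h => hy h.1.symm
    · intro h; exact absurd (Finset.mem_univ _) h
  have hP : ∀ g : G, (Finset.univ.filter fun x : Ω => g • x = x).card ^ 2 =
      ∑ x : Ω, ∑ y : Ω, if g • x = x ∧ g • y = y then 1 else 0 := by
    intro g
    rw [sq, Finset.card_filter, Finset.sum_mul_sum]
    refine Finset.sum_congr rfl fun x _ => Finset.sum_congr rfl fun y _ => ?_
    by_cases h1 : g • x = x <;> by_cases h2 : g • y = y <;> simp [h1, h2]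
  simp only [hS, hP]
  rw [Finset.sum_comm]
  conv_rhs => rw [Finset.sum_comm]
  refine Finset.sum_congr rfl fun x _ => ?_
  rw [Finset.sum_comm]
  conv_rhs => rw [Finset.sum_comm]
  refine Finset.sum_congr rfl fun y _ => ?_
  rw [← Finset.card_filter, ← Finset.card_filter]
  obtain ⟨u₀, h1, h2⟩ := hsw x y
  refine Finset.card_bij (fun u _ => u₀⁻¹ * u) ?_ ?_ ?_
  · intro u hu
    simp only [Finset.mem_filter, Finset.mem_univ, true_and] at hu ⊢
    constructor
    · rw [mul_smul, hu.1, inv_smul_eq_iff, h1]
    · rw [mul_smul, hu.2, inv_smul_eq_iff, h2]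
  · intro u _ u' _ h
    exact mul_left_cancel h
  · intro g hg
    simp only [Finset.mem_filter, Finset.mem_univ, true_and] at hg
    refine ⟨u₀ * g, ?_, by simp⟩
    simp only [Finset.mem_filter, Finset.mem_univ, true_and]
    constructor
    · rw [mul_smul, hg.1, h1]
    · rw [mul_smul, hg.2, h2]

theorem card_fixedBy_eq (g : G) :
    Nat.card (MulAction.fixedBy Ω g) = (Finset.univ.filter fun x : Ω => g • x = x).card := by
  rw [Nat.card_eq_fintype_card, Fintype.card_subtype]
  rfl

end count

section transposeRel

variable {G : Type u} [Group G] [Fintype G] {Ω : Type v} [Fintype Ω] [DecidableEq Ω]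
  [MulAction G Ω]

/-- The orbital class function of the transposed relation. -/
theorem theta_transpose (R R' : Ω → Ω → Prop) [DecidableRel R] [DecidableRel R']
    (hR : ∀ (g : G) x y, R (g • x) (g • y) ↔ R x y) (hRR' : ∀ x y, R' x y ↔ R y x) (g : G) :
    theta (G := G) R' g = theta (G := G) R g⁻¹ := by
  unfold theta
  congr 1
  refine Finset.card_bij (fun x _ => g • x) ?_ ?_ ?_
  · intro x hx
    simp only [Finset.mem_filter, Finset.mem_univ, true_and] at hx ⊢
    rw [inv_smul_smul]
    exact (hRR' _ _).mp hx
  · intro x _ y _ h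
    exact smul_left_cancel g h
  · intro y hy
    simp only [Finset.mem_filter, Finset.mem_univ, true_and] at hy
    refine ⟨g⁻¹ • y, ?_, by simp⟩
    simp only [Finset.mem_filter, Finset.mem_univ, true_and]
    rw [hRR', smul_inv_smul]
    exact hy

theorem classInner_theta_transpose (R R' : Ω → Ω → Prop) [DecidableRel R] [DecidableRel R']
    (hR : ∀ (g : G) x y, R (g • x) (g • y) ↔ R x y) (hRR' : ∀ x y, R' x y ↔ R y x)
    {χ : G → ℂ} (hχ : IsCharacter G χ) (hreal : ∀ g, conj (χ g) = χ g) :
    classInner (theta (G := G) R') χ = classInner (theta (G := G) R) χ := by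
  unfold classInner
  congr 1
  simp only [theta_transpose R R' hR hRR']
  refine Fintype.sum_equiv (Equiv.inv G) _ _ fun g => ?_
  simp only [Equiv.inv_apply]
  rw [Helper74.char_inv hχ, hreal, hreal]

end transposeRel

end Cfsg.Agent.Helper12.SelfPaired
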