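import Mathlib
import Cfsg.Agent.Helper5.SpBN.Api

/-!
# Piece (N1) of S2545 (helper5's plan, board #8413): the reflections are monomial
-/

set_option autoImplicit false

namespace Cfsg.Agent.Helper12.SpBNN1

open Matrix Cfsg.Agent.Helper5.SpBN

variable {F : Type*} [Field F] {m : ℕ}

/-- (N1) the reflections are monomial -/
theorem Sset_subset_Mono : Sset m F ⊆ (Mono m F : Set (SpG m F)) := by
  rintro g ⟨k, hk⟩
  refine ⟨sPerm k, fun a b hab => ?_⟩
  rw [hk, sMat_apply, if_neg hab]

end Cfsg.Agent.Helper12.SpBNN1
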