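import Mathlib
import Cfsg.Agent.Helper5.SpBN.Api

/-!
# Piece (S2) of S2545 (helper5's plan, board #8419): distinct reflections lie in distinct cosets
of `B`
-/

set_option autoImplicit false

namespace Cfsg.Agent.Helper12.SpBNS2

open Matrix Cfsg.Agent.Helper5.SpBN

variable {F : Type*} [Field F] {m : ℕ}

theorem sSign_ne_zero (k : Fin m) (b : Fin m ⊕ Fin m) : sSign F k b ≠ 0 := by
  unfold sSign
  split_ifs <;> simp

/-- (S2) distinct reflections lie in distinct cosets of `B` -/
theorem eq_of_inv_mul_mem (s s' : SpG m F) (hs : s ∈ Sset m F) (hs' : s' ∈ Sset m F)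
    (h : s⁻¹ * s' ∈ Bsub m F) : s = s' := by
  obtain ⟨k, hk⟩ := hs
  obtain ⟨k', hk'⟩ := hs'
  by_cases hkk : k = k'
  · subst hkk
    exact Subtype.ext (hk.trans hk'.symm)
  · exfalso
    have hπ : ∀ a b : Fin m ⊕ Fin m, a ≠ sPerm k b → s.1 a b = 0 := fun a b hab => by
      rw [hk, sMat_apply, if_neg hab]
    rw [mem_Bsub_iff] at h
    have key : ∀ b : Fin m ⊕ Fin m, (s⁻¹ * s' : SpG m F).1 (sPerm k (sPerm k' b)) b ≠ 0 := by
      intro b
      rw [coe_mul', inv_mono_mul_apply s (sPerm k) hπ, sPerm_sPerm, hk', sMat_apply, if_pos rfl]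
      apply mul_ne_zero
      · have := mono_inv_apply_ne_zero s (sPerm k) hπ (sPerm k (sPerm k' b))
        rwa [sPerm_sPerm] at this
      · exact sSign_ne_zero k' b
    have hb : ∃ b : Fin m ⊕ Fin m, pos b < pos (sPerm k (sPerm k' b)) := by
      have hk2 := k.2
      have hk2' := k'.2
      rcases lt_or_gt_of_ne (fun h => hkk (Fin.ext h)) with hlt | hgt
      · refine ⟨Sum.inl k, ?_⟩
        rw [pos_sPerm, pos_sPerm, pos_inl]
        split_ifs <;> omega
      · refine ⟨Sum.inl k', ?_⟩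
        rw [pos_sPerm, pos_sPerm, pos_inl]
        split_ifs <;> omega
    obtain ⟨b, hb⟩ := hb
    exact key b (h _ _ hb)

end Cfsg.Agent.Helper12.SpBNS2
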