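import Mathlib
import Cfsg.Agent.Helper5.SpBN.Api
import Cfsg.Agent.Helper13.SympGen2

/-!
# Piece (TOP2) of S2545 (helper5's plan, board #8425): `B` contains a root element for every pair
of indices `c`, `a` with `c` before `a`, `c ≠ swap a`
-/

set_option autoImplicit false

namespace Cfsg.Agent.Helper12.SpBNTOP2

open Matrix Cfsg.Agent.Helper5.SpBN Cfsg.Agent.Helper13

variable {F : Type*} [Field F] {m : ℕ}

/-- the form against a basis vector -/
theorem sympForm_single_right (u : Fin m ⊕ Fin m → F) (y : Fin m ⊕ Fin m) :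
    Cfsg.sympForm m F u (Pi.single y 1) = sgn F y * u (Sum.swap y) := by
  rcases y with i | i
  · rw [sympForm_single_inl_right]; simp [sgn]
  · rw [sympForm_single_inr_right]; simp [sgn]

/-- the element `x ↦ x + f(x,a) b + f(x,b) a` of `Sp`, for orthogonal `a`, `b` -/
noncomputable def twoElt (a b : Fin m ⊕ Fin m → F) : SpG m F :=
  sympTransvectionElt (a + b) 1 * sympTransvectionElt a (-1) * sympTransvectionElt b (-1)

theorem twoElt_mulVec {a b : Fin m ⊕ Fin m → F} (hab : Cfsg.sympForm m F a b = 0)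
    (x : Fin m ⊕ Fin m → F) :
    (twoElt a b).1 *ᵥ x = x + Cfsg.sympForm m F x a • b + Cfsg.sympForm m F x b • a := by
  have hba : Cfsg.sympForm m F b a = 0 := by rw [sympForm_swap, hab, neg_zero]
  have e : (twoElt a b).1 = Cfsg.sympTransvection m (a + b) 1 * Cfsg.sympTransvection m a (-1)
      * Cfsg.sympTransvection m b (-1) := rfl
  rw [e, ← Matrix.mulVec_mulVec, ← Matrix.mulVec_mulVec, sympTransvection_mulVec,
    sympTransvection_mulVec, sympTransvection_mulVec]
  simp only [sympForm_add_left, sympForm_add_right, sympForm_smul_left, sympForm_self, hab, hba,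
    mul_zero, add_zero]
  module

/-- (TOP2) `B` contains a root element for every pair `c`, `a` with `c` before `a` -/
theorem exists_Bsub_root (c a : Fin m ⊕ Fin m) (hca : pos c < pos a) (hc : c ≠ Sum.swap a) (t : F) :
    ∃ b ∈ Bsub m F, ∃ s : F, ∀ v : Fin m ⊕ Fin m → F,
      (b.1 *ᵥ v) c = v c + t * v a ∧
      (b.1 *ᵥ v) (Sum.swap a) = v (Sum.swap a) + s * v (Sum.swap c) ∧
      ∀ d, d ≠ c → d ≠ Sum.swap a → (b.1 *ᵥ v) d = v d := by
  have hne : c ≠ a := by
    rintro rfl
    exact lt_irrefl _ hca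
  set lam : F := -(t * sgn F a) with hlam
  set a' : Fin m ⊕ Fin m → F := Pi.single c 1 with ha'
  set b' : Fin m ⊕ Fin m → F := lam • Pi.single (Sum.swap a) 1 with hb'
  have hab : Cfsg.sympForm m F a' b' = 0 := by
    rw [hb', sympForm_smul_right, sympForm_single_right, Sum.swap_swap, ha',
      Pi.single_eq_of_ne (Ne.symm hne), mul_zero, mul_zero]
  have hfa : ∀ v : Fin m ⊕ Fin m → F, Cfsg.sympForm m F v a' = sgn F c * v (Sum.swap c) :=
    fun v => sympForm_single_right v c
  have hfb : ∀ v : Fin m ⊕ Fin m → F, Cfsg.sympForm m F v b' = t * v a := by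
    intro v
    rw [hb', sympForm_smul_right, sympForm_single_right, Sum.swap_swap, sgn_swap, hlam]
    have := sgn_mul_self (F := F) a
    linear_combination (t * v a) * this
  -- the coordinate formulas
  have hform : ∀ v : Fin m ⊕ Fin m → F,
      ((twoElt a' b').1 *ᵥ v) c = v c + t * v a ∧
      ((twoElt a' b').1 *ᵥ v) (Sum.swap a) = v (Sum.swap a) + (lam * sgn F c) * v (Sum.swap c) ∧
      ∀ d, d ≠ c → d ≠ Sum.swap a → ((twoElt a' b').1 *ᵥ v) d = v d := by
    intro v
    rw [twoElt_mulVec hab, hfa, hfb]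
    refine ⟨?_, ?_, ?_⟩
    · simp only [Pi.add_apply, Pi.smul_apply, smul_eq_mul, ha', hb', Pi.single_eq_same,
        Pi.single_eq_of_ne hc, mul_zero, add_zero, mul_one]
    · simp only [Pi.add_apply, Pi.smul_apply, smul_eq_mul, ha', hb', Pi.single_eq_same,
        Pi.single_eq_of_ne (Ne.symm hc), mul_zero, add_zero, mul_one]
      ring
    · intro d hdc hda
      simp only [Pi.add_apply, Pi.smul_apply, smul_eq_mul, ha', hb', Pi.single_eq_of_ne hdc,
        Pi.single_eq_of_ne hda, mul_zero, add_zero]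
  refine ⟨twoElt a' b', ?_, lam * sgn F c, hform⟩
  -- upper triangularity
  rw [mem_Bsub_iff]
  intro d e hed
  have hde : e ≠ d := by
    rintro rfl
    exact lt_irrefl _ hed
  have hentry : (twoElt a' b').1 d e = ((twoElt a' b').1 *ᵥ Pi.single e 1) d := by
    simp
  rw [hentry]
  obtain ⟨h1, h2, h3⟩ := hform (Pi.single e 1)
  by_cases hdc : d = c
  · subst hdc
    rw [h1, Pi.single_eq_of_ne (Ne.symm hde)]
    have hea : e ≠ a := by
      rintro rfl
      omega
    rw [Pi.single_eq_of_ne (Ne.symm hea), mul_zero, add_zero]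
  · by_cases hda : d = Sum.swap a
    · subst hda
      rw [h2, Pi.single_eq_of_ne (Ne.symm hde)]
      have hec : e ≠ Sum.swap c := by
        rintro rfl
        rw [pos_swap, pos_swap] at hed
        have := pos_lt a
        have := pos_lt c
        omega
      rw [Pi.single_eq_of_ne (Ne.symm hec), mul_zero, add_zero]
    · rw [h3 d hdc hda, Pi.single_eq_of_ne (Ne.symm hde)]

end Cfsg.Agent.Helper12.SpBNTOP2
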