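import Mathlib
import Cfsg.Agent.Helper5.SpBN.Api
import Cfsg.Agent.Helper13.SympGen2

/-!
# Piece (TOP3) of S2545 (helper5's plan, board #8426): the transvections along the first basis
vector are upper triangular
-/

set_option autoImplicit false

namespace Cfsg.Agent.Helper12.SpBNTOP3

open Matrix Cfsg.Agent.Helper5.SpBN

variable {F : Type*} [Field F] {m : ℕ}

/-- (TOP3) the transvections along the first basis vector are upper triangular -/
theorem exists_Bsub_tv (hm : 1 ≤ m) (c : F) :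
    ∃ b ∈ Bsub m F, b.1 = Cfsg.sympTransvection m (Pi.single (Sum.inl ⟨0, hm⟩) (1 : F)) c := by
  refine ⟨⟨Cfsg.sympTransvection m (Pi.single (Sum.inl ⟨0, hm⟩) (1 : F)) c,
    Cfsg.Agent.Helper13.sympTransvection_mem _ _⟩, ?_, rfl⟩
  rw [mem_Bsub_iff]
  intro a b hab
  have hab' : a ≠ b := by
    rintro rfl
    exact lt_irrefl _ hab
  have ha0 : a ≠ Sum.inl ⟨0, hm⟩ := by
    rintro rfl
    rw [pos_inl] at hab
    exact Nat.not_lt_zero _ hab
  show Cfsg.sympTransvection m (Pi.single (Sum.inl ⟨0, hm⟩) (1 : F)) c a b = 0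
  rw [Cfsg.sympTransvection, Matrix.add_apply, Matrix.one_apply_ne hab', Matrix.smul_apply,
    Matrix.vecMulVec_apply, Pi.single_eq_of_ne ha0, zero_mul, smul_zero, add_zero]

end Cfsg.Agent.Helper12.SpBNTOP3
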