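import Mathlib
import Cfsg.Agent.Helper5.SpBN.Api
import Cfsg.Agent.Helper13.SympGen2
import Cfsg.Agent.Helper13.SpMax1
import Cfsg.Agent.Helper12.SpBNTOP2

/-!
# Piece (TOP4) of S2545 (helper5's plan, board #8427): `B` and `N` generate `Sp_{2m}(F)`
-/

set_option autoImplicit false

namespace Cfsg.Agent.Helper12.SpBNTOP4

open Matrix Cfsg.Agent.Helper5.SpBN Cfsg.Agent.Helper13

variable {F : Type*} [Field F] {m : ℕ}

/-- vectors all of whose transvections lie in `H` -/
def Good (H : Subgroup (SpG m F)) (v : Fin m ⊕ Fin m → F) : Prop :=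
  ∀ c : F, sympTransvectionElt v c ∈ H

theorem good_zero (H : Subgroup (SpG m F)) : Good H (0 : Fin m ⊕ Fin m → F) := by
  intro c
  have : sympTransvectionElt (0 : Fin m ⊕ Fin m → F) c = 1 := by
    apply Subtype.ext
    show Cfsg.sympTransvection m 0 c = 1
    simp [Cfsg.sympTransvection]
  rw [this]; exact H.one_mem

theorem conj_elt (g : SpG m F) (v : Fin m ⊕ Fin m → F) (c : F) :
    sympTransvectionElt (g.1 *ᵥ v) c = g * sympTransvectionElt v c * g⁻¹ := by
  rw [eq_mul_inv_iff_mul_eq]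
  apply Subtype.ext
  show Cfsg.sympTransvection m (g.1 *ᵥ v) c * g.1 = g.1 * Cfsg.sympTransvection m v c
  apply matrix_eq_of_mulVec
  intro x
  rw [← Matrix.mulVec_mulVec, ← Matrix.mulVec_mulVec, sympTransvection_mulVec,
    sympTransvection_mulVec, (mem_symplecticGroup_iff_preserves g.1).mp g.2, Matrix.mulVec_add,
    Matrix.mulVec_smul]

theorem good_map {H : Subgroup (SpG m F)} {v : Fin m ⊕ Fin m → F} (hv : Good H v) {g : SpG m F}
    (hg : g ∈ H) : Good H (g.1 *ᵥ v) := by
  intro c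
  rw [conj_elt]
  exact H.mul_mem (H.mul_mem hg (hv c)) (H.inv_mem hg)

theorem good_smul {H : Subgroup (SpG m F)} {v : Fin m ⊕ Fin m → F} (hv : Good H v) (a : F) :
    Good H (a • v) := by
  intro c
  have : sympTransvectionElt (a • v) c = sympTransvectionElt v (c * a ^ 2) := by
    apply Subtype.ext
    exact congrArg Units.val (tvGL_smul v a c)
  rw [this]; exact hv _

/-- the support of a vector -/
noncomputable def supp (v : Fin m ⊕ Fin m → F) : Finset (Fin m ⊕ Fin m) := by
  classical exact Finset.univ.filter (fun a => v a ≠ 0)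

theorem mem_supp {v : Fin m ⊕ Fin m → F} {a : Fin m ⊕ Fin m} : a ∈ supp v ↔ v a ≠ 0 := by
  classical
  simp [supp]

theorem good_of_reduce {H : Subgroup (SpG m F)} (n : ℕ)
    (ih : ∀ w : Fin m ⊕ Fin m → F, (supp w).card ≤ n → Good H w) {v : Fin m ⊕ Fin m → F}
    (hv : (supp v).card ≤ n + 1) {g : SpG m F} (hg : g ∈ H) (x : Fin m ⊕ Fin m) (hx : v x ≠ 0)
    (hgx : (g.1 *ᵥ v) x = 0) (hgd : ∀ d, d ≠ x → (g.1 *ᵥ v) d = v d) : Good H v := by
  classical
  have hsub : supp (g.1 *ᵥ v) ⊆ (supp v).erase x := by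
    intro d hd
    rw [mem_supp] at hd
    rw [Finset.mem_erase, mem_supp]
    by_cases hdx : d = x
    · subst hdx; exact absurd hgx hd
    · exact ⟨hdx, by rwa [hgd d hdx] at hd⟩
  have hcard : (supp (g.1 *ᵥ v)).card ≤ n := by
    have h1 := Finset.card_le_card hsub
    rw [Finset.card_erase_of_mem (mem_supp.mpr hx)] at h1
    omega
  have hgood := good_map (ih _ hcard) (H.inv_mem hg)
  have : (g⁻¹ : SpG m F).1 *ᵥ (g.1 *ᵥ v) = v := by
    rw [Matrix.mulVec_mulVec, inv_mul_coe, Matrix.one_mulVec]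
  rwa [this] at hgood

theorem good_all {H : Subgroup (SpG m F)} (hB : Bsub m F ≤ H)
    (hsingle : ∀ a : Fin m ⊕ Fin m, Good H (Pi.single a (1 : F)))
    (h2 : ∀ c a : Fin m ⊕ Fin m, pos c < pos a → c ≠ Sum.swap a → ∀ t : F,
      ∃ b ∈ Bsub m F, ∃ s : F, ∀ v : Fin m ⊕ Fin m → F,
        (b.1 *ᵥ v) c = v c + t * v a ∧
        (b.1 *ᵥ v) (Sum.swap a) = v (Sum.swap a) + s * v (Sum.swap c) ∧
        ∀ d, d ≠ c → d ≠ Sum.swap a → (b.1 *ᵥ v) d = v d) :
    ∀ n : ℕ, ∀ v : Fin m ⊕ Fin m → F, (supp v).card ≤ n → Good H v := by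
  intro n
  induction n with
  | zero =>
    intro v hv
    have : v = 0 := by
      funext a
      by_contra ha
      have h1 : a ∈ supp v := mem_supp.mpr ha
      have h2 := Finset.card_pos.mpr ⟨a, h1⟩
      omega
    rw [this]; exact good_zero H
  | succ n ih =>
    intro v hv
    by_cases hA : ∃ a, v a ≠ 0 ∧ v (Sum.swap a) ≠ 0
    · obtain ⟨a, ha, hsa⟩ := hA
      have hg : sympTransvectionElt (Pi.single a (1 : F))
          (-(v a) / (sgn F a * v (Sum.swap a))) ∈ H := hsingle a _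
      have hsg : sgn F a ≠ 0 := sgn_ne_zero a
      apply good_of_reduce n ih hv hg a ha
      · show (Cfsg.sympTransvection m (Pi.single a 1) (-(v a) / (sgn F a * v (Sum.swap a))) *ᵥ v) a
          = 0
        rw [sympTransvection_mulVec, Cfsg.Agent.Helper12.SpBNTOP2.sympForm_single_right]
        simp only [Pi.add_apply, Pi.smul_apply, Pi.single_eq_same, smul_eq_mul, mul_one]
        field_simp
        ring
      · intro d hd
        show (Cfsg.sympTransvection m (Pi.single a 1) (-(v a) / (sgn F a * v (Sum.swap a))) *ᵥ v) d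
          = v d
        rw [sympTransvection_mulVec]
        simp only [Pi.add_apply, Pi.smul_apply, Pi.single_eq_of_ne hd, smul_eq_mul, mul_zero,
          add_zero]
    · push Not at hA
      by_cases hv0 : v = 0
      · rw [hv0]; exact good_zero H
      obtain ⟨a, ha⟩ : ∃ a, v a ≠ 0 := by
        by_contra h
        push Not at h
        exact hv0 (funext h)
      by_cases hone : ∀ d, d ≠ a → v d = 0
      · have : v = v a • Pi.single a (1 : F) := by
          funext d
          by_cases hd : d = a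
          · subst hd; simp
          · simp [Pi.single_eq_of_ne hd, hone d hd]
        rw [this]; exact good_smul (hsingle a) _
      · push Not at hone
        obtain ⟨c, hca, hc⟩ := hone
        have key : ∀ c a : Fin m ⊕ Fin m, v c ≠ 0 → v a ≠ 0 → pos c < pos a → Good H v := by
          intro c a hc ha hlt
          have hcs : c ≠ Sum.swap a := by
            rintro rfl
            exact hc (hA a ha)
          obtain ⟨b, hb, s, hbs⟩ := h2 c a hlt hcs (-(v c) / v a)
          obtain ⟨e1, e2, e3⟩ := hbs v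
          apply good_of_reduce n ih hv (hB hb) c hc
          · rw [e1]
            field_simp
            ring
          · intro d hd
            by_cases hda : d = Sum.swap a
            · subst hda
              rw [e2, hA c hc, mul_zero, add_zero]
            · exact e3 d hd hda
        rcases lt_or_gt_of_ne (fun h => hca (pos_injective h)) with hlt | hgt
        · exact key c a hc ha hlt
        · exact key a c ha hc hgt

/-- (TOP4) `B` and `N` generate `Sp` -/
theorem sup_eq_top_of (hm : 1 ≤ m)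
    (h1 : ∀ a : Fin m ⊕ Fin m, ∃ n ∈ Subgroup.closure (Sset m F), ∃ ε : F, ε ≠ 0 ∧
      ∀ c, n.1 c (Sum.inl ⟨0, hm⟩) = if c = a then ε else 0)
    (h2 : ∀ c a : Fin m ⊕ Fin m, pos c < pos a → c ≠ Sum.swap a → ∀ t : F,
      ∃ b ∈ Bsub m F, ∃ s : F, ∀ v : Fin m ⊕ Fin m → F,
        (b.1 *ᵥ v) c = v c + t * v a ∧
        (b.1 *ᵥ v) (Sum.swap a) = v (Sum.swap a) + s * v (Sum.swap c) ∧
        ∀ d, d ≠ c → d ≠ Sum.swap a → (b.1 *ᵥ v) d = v d)
    (h3 : ∀ c : F, ∃ b ∈ Bsub m F,
      b.1 = Cfsg.sympTransvection m (Pi.single (Sum.inl ⟨0, hm⟩) (1 : F)) c) :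
    Bsub m F ⊔ Nsub m F = ⊤ := by
  have hB : Bsub m F ≤ Bsub m F ⊔ Nsub m F := le_sup_left
  have hN : Subgroup.closure (Sset m F) ≤ Bsub m F ⊔ Nsub m F := by
    refine le_trans ?_ le_sup_right
    show Subgroup.closure (Sset m F) ≤ Subgroup.closure (Sset m F) ⊔ Tsub m F
    exact le_sup_left
  have h0 : Good (Bsub m F ⊔ Nsub m F) (Pi.single (Sum.inl ⟨0, hm⟩) (1 : F)) := by
    intro c
    obtain ⟨b, hb, hbc⟩ := h3 c
    have : sympTransvectionElt (Pi.single (Sum.inl ⟨0, hm⟩) (1 : F)) c = b := Subtype.ext hbc.symm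
    rw [this]; exact hB hb
  have hsingle : ∀ a : Fin m ⊕ Fin m, Good (Bsub m F ⊔ Nsub m F) (Pi.single a (1 : F)) := by
    intro a
    obtain ⟨n, hn, ε, hε, hcol⟩ := h1 a
    have h4 : n.1 *ᵥ (Pi.single (Sum.inl ⟨0, hm⟩) (1 : F)) = ε • Pi.single a (1 : F) := by
      funext c
      have : (n.1 *ᵥ Pi.single (Sum.inl ⟨0, hm⟩) (1 : F)) c = n.1 c (Sum.inl ⟨0, hm⟩) := by simp
      rw [this, hcol c]
      by_cases hca : c = a
      · subst hca; simp
      · simp [hca]
    have h5 := good_map h0 (hN hn)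
    rw [h4] at h5
    have h6 := good_smul h5 ε⁻¹
    rwa [smul_smul, inv_mul_cancel₀ hε, one_smul] at h6
  have hall : ∀ v : Fin m ⊕ Fin m → F, Good (Bsub m F ⊔ Nsub m F) v :=
    fun v => good_all hB hsingle h2 _ v le_rfl
  rw [eq_top_iff, ← sympTransvectionSubgroup_eq_top]
  apply (Subgroup.closure_le _).mpr
  rintro A ⟨w, c, hA⟩
  have : A = sympTransvectionElt w c := Subtype.ext hA
  rw [this]; exact hall w c

end Cfsg.Agent.Helper12.SpBNTOP4
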