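import Cfsg.Agent.Helper51.SqComm
import Cfsg.Agent.Helper6.AutQ4

/-!
# (SZ) for helper51's S4625: squares in a Sylow 2-subgroup of a Suzuki group are commutators
-/

set_option autoImplicit false
open Cfsg Cfsg.Agent.Helper51.SQ

namespace Cfsg.Agent.Helper12.SqSZ

open Cfsg.Agent.Helper6

theorem sqComm_szQ {F : Type*} [Field F] [Fintype F] (m : ℕ) (hm : 1 ≤ m)
    (hF : Fintype.card F = 2 ^ (2 * m + 1)) : SqComm (szQ hm hF) := by
  intro x
  obtain ⟨a, b, rfl⟩ := qU_surj hm hF x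
  rw [pow_two, qU_sq, ← center_szQ_eq_commutator, mem_center_szQ_iff]

/-- (SZ) -/
theorem sq_Sz {F : Type*} [Field F] [Fintype F] (m : ℕ) (hm : 1 ≤ m)
    (hF : Fintype.card F = 2 ^ (2 * m + 1)) (P : Sylow 2 ↥(Lie.Sz F (2 ^ (m + 1)))) :
    SqComm (P : Subgroup ↥(Lie.Sz F (2 ^ (m + 1)))) := by
  obtain ⟨e⟩ := sylow_lieSz_equiv hm hF P
  exact (sqComm_szQ m hm hF).of_mulEquiv e.symm

end Cfsg.Agent.Helper12.SqSZ
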