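import Cfsg.Agent.Helper12.SqTF4b
import Cfsg.Agent.Helper36.F4Order

/-!
# (TF4) for helper51's S4625: squares in a Sylow 2-subgroup of `²F₄(2^(2m+1))`, `m ≥ 1`, lie in
its derived subgroup
-/

set_option autoImplicit false
set_option maxRecDepth 100000
set_option linter.unusedSectionVars false

namespace Cfsg.Agent.Helper12.SqTF4

open Cfsg Cfsg.Lie Cfsg.Agent.Helper36.SigmaF4 Cfsg.Agent.Helper36.SigmaChev
  Cfsg.Agent.Helper36.USplit Cfsg.Agent.Helper19.Cox Cfsg.Agent.Helper19.Poinc Cfsg.Agent.Helper19.Twist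
  Cfsg.Agent.Helper40.UProd Cfsg.Agent.Helper36.B2Class Cfsg.Agent.Helper36.LeviBruhat
  Cfsg.Agent.Helper36.TwistF4 Cfsg.Agent.Helper36.F4Class Cfsg.Agent.Helper51.SQ

section

variable {K : Type*} [Field K] [CharP K 2] [Fintype K] {m : ℕ}
  {σ : ↥(chevF4.group K) ≃* ↥(chevF4.group K)}
  (hK : Fintype.card K = 2 ^ (2 * m + 1)) (hσ : Spec chevF4 σ rho (cF m))

include hK hσ in
theorem GoodSq.stepP {R prev : List ℕ} (hok : stepOK phiP [33, 24] R prev [3, 0] = true)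
    (hprev : GoodSq σ prev) : GoodSq σ ([33, 24] ++ R) := by
  obtain ⟨hP2, hP3⟩ := mP_theta (K := K) m
  exact GoodSq.step hK hσ gradeOK_P closed_AP (by decide) goodSq_AP hok (mP m) hP2
    (mP_mem_twisted m) hP3 hprev

include hK hσ in
theorem GoodSq.stepS (hm : 1 ≤ m) {R prev : List ℕ}
    (hok : stepOK phiS [27, 25, 28, 30] R prev [1, 2, 1, 2] = true)
    (hprev : GoodSq σ prev) : GoodSq σ ([27, 25, 28, 30] ++ R) := by
  obtain ⟨mS, hS1, hS2, hS3⟩ := exists_mS_theta hK hσ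
  exact GoodSq.step hK hσ gradeOK_S closed_AS (by decide) (goodSq_AS hK hσ hm) hok mS hS2 hS1 hS3
    hprev

include hK hσ in
theorem goodSq_a2 (hm : 1 ≤ m) : GoodSq σ La2 :=
  GoodSq.stepS hK hσ hm (R := [37, 32]) (by decide +kernel) goodSq_AP

include hK hσ in
theorem goodSq_a3 (hm : 1 ≤ m) : GoodSq σ La3 :=
  GoodSq.stepP hK hσ (R := [34, 26, 36, 38, 42, 43]) (by decide +kernel) (goodSq_a2 hK hσ hm)

include hK hσ in
theorem goodSq_a4 (hm : 1 ≤ m) : GoodSq σ La4 :=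
  GoodSq.stepS hK hσ hm (R := [35, 37, 31, 32, 39, 40, 45, 46]) (by decide +kernel)
    (goodSq_a3 hK hσ hm)

include hK hσ in
theorem goodSq_a5 (hm : 1 ≤ m) : GoodSq σ La5 :=
  GoodSq.stepP hK hσ (R := [34, 26, 29, 36, 41, 38, 42, 39, 43, 44, 45, 47]) (by decide +kernel)
    (goodSq_a4 hK hσ hm)

include hK hσ in
theorem goodSq_a6 (hm : 1 ≤ m) : GoodSq σ La6 :=
  GoodSq.stepS hK hσ hm (R := [35, 37, 41, 29, 31, 32, 38, 39, 40, 43, 44, 45, 46, 47])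
    (by decide +kernel) (goodSq_a5 hK hσ hm)

include hK hσ in
theorem goodSq_a7 (hm : 1 ≤ m) : GoodSq σ La7 :=
  GoodSq.stepP hK hσ (R := [34, 26, 35, 29, 36, 37, 41, 31, 38, 42, 32, 39, 43, 40, 44, 45, 46, 47])
    (by decide +kernel) (goodSq_a6 hK hσ hm)

include hK hσ in
theorem goodSq_a8 (hm : 1 ≤ m) : GoodSq σ La8 :=
  GoodSq.stepS hK hσ hm
    (R := [33, 34, 35, 37, 41, 24, 26, 29, 31, 32, 36, 38, 39, 40, 42, 43, 44, 45, 46, 47])
    (by decide +kernel) (goodSq_a7 hK hσ hm)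

include hK hσ in
/-- squares in `U ∩ ²F₄` lie in its derived subgroup -/
theorem sqComm_pos (hm : 1 ≤ m) : SqComm ↥(chevF4.posUnipotent K ⊓ twistedF4 K (2 ^ m)) := by
  rw [pos_inf_twisted hK hσ, ← listSubgroup_La8]
  exact goodSq_a8 hK hσ hm

end

/-- (TF4) -/
theorem sq_2F4 {K : Type*} [Field K] [Fintype K] (m : ℕ) (hm : 1 ≤ m)
    (hK : Fintype.card K = 2 ^ (2 * m + 1)) (P : Sylow 2 ↥(Lie.twistedF4 K (2 ^ m))) :
    SqComm (P : Subgroup ↥(Lie.twistedF4 K (2 ^ m))) := by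
  classical
  have := charP_two hK
  obtain ⟨σ, hσ⟩ := exists_sigma hK
  have : Fact (Nat.Prime 2) := ⟨Nat.prime_two⟩
  set U : Subgroup ↥(twistedF4 K (2 ^ m)) :=
    (chevF4.posUnipotent K ⊓ twistedF4 K (2 ^ m)).subgroupOf (twistedF4 K (2 ^ m)) with hU
  have eU : U ≃* ↥(chevF4.posUnipotent K ⊓ twistedF4 K (2 ^ m)) :=
    Subgroup.subgroupOfEquivOfLe inf_le_right
  have hUcard : Nat.card U = (2 ^ (2 * m + 1)) ^ 12 := by
    rw [Nat.card_congr eU.toEquiv, card_pos hK hσ]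
  have hsq : SqComm U := (sqComm_pos hK hσ hm).of_mulEquiv eU.symm
  refine sylow_all_of_index U ?_ ?_ hsq P
  · apply IsPGroup.of_card (n := (2 * m + 1) * 12)
    rw [hUcard, ← pow_mul]
  · have h1 := U.index_mul_card
    rw [hUcard, card_twisted hK hσ] at h1
    have hq0 : 0 < (2 ^ (2 * m + 1)) ^ 12 := by positivity
    have h2 : U.index = (2 ^ (2 * m + 1) - 1) * ((2 ^ (2 * m + 1)) ^ 3 + 1) *
        ((2 ^ (2 * m + 1)) ^ 4 - 1) * ((2 ^ (2 * m + 1)) ^ 6 + 1) := by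
      apply Nat.eq_of_mul_eq_mul_right hq0
      rw [h1]; ring
    rw [h2, ← even_iff_two_dvd, Nat.not_even_iff_odd]
    have hqe : Even (2 ^ (2 * m + 1)) := (Nat.even_pow' (by omega)).mpr even_two
    have hq1 : 1 ≤ 2 ^ (2 * m + 1) := Nat.one_le_two_pow
    have o1 : Odd (2 ^ (2 * m + 1) - 1) := Nat.Even.sub_odd hq1 hqe odd_one
    have o2 : Odd ((2 ^ (2 * m + 1)) ^ 3 + 1) := (hqe.pow_of_ne_zero (by norm_num)).add_one
    have o3 : Odd ((2 ^ (2 * m + 1)) ^ 4 - 1) :=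
      Nat.Even.sub_odd (Nat.one_le_pow _ _ (by positivity)) (hqe.pow_of_ne_zero (by norm_num)) odd_one
    have o4 : Odd ((2 ^ (2 * m + 1)) ^ 6 + 1) := (hqe.pow_of_ne_zero (by norm_num)).add_one
    exact ((o1.mul o2).mul o3).mul o4

end Cfsg.Agent.Helper12.SqTF4
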