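import Cfsg.Agent.Helper51.SqComm
import Cfsg.Agent.Helper36.B2Class

/-!
# (TF4) for helper51's S4625, part a: abstract lemmas
-/

set_option autoImplicit false

namespace Cfsg.Agent.Helper12.SqTF4

open Cfsg.Agent.Helper51.SQ Cfsg.Agent.Helper36.B2Class
open scoped commutatorElement

section abstract
variable {G : Type*} [Group G]

/-- a subgroup which is the product of two subgroups with `SqComm` has `SqComm` -/
theorem sqComm_of_mul (V A R : Subgroup G) (hA : A ≤ V) (hR : R ≤ V)
    (hprod : ∀ u ∈ V, ∃ x ∈ A, ∃ r ∈ R, u = x * r) (sA : SqComm A) (sR : SqComm R) :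
    SqComm V := by
  refine sqComm_of_closure V ((A : Set G) ∪ (R : Set G)) ?_ ?_
  · apply le_antisymm
    · rw [Subgroup.closure_le]
      exact Set.union_subset hA hR
    · intro u hu
      obtain ⟨x, hx, r, hr, rfl⟩ := hprod u hu
      exact mul_mem (Subgroup.subset_closure (Or.inl hx)) (Subgroup.subset_closure (Or.inr hr))
  · rintro y (hy | hy)
    · exact Subgroup.commutator_mono hA hA ((sqComm_subgroup_iff A).mp sA y hy)
    · exact Subgroup.commutator_mono hR hR ((sqComm_subgroup_iff R).mp sR y hy)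

/-- transport along a conjugation -/
theorem sqComm_of_map_conj (V W : Subgroup G) (n : G)
    (h : V.map (MulAut.conj n).toMonoidHom = W) (sW : SqComm W) : SqComm V := by
  subst h
  exact sW.of_mulEquiv (V.equivMapOfInjective _ (MulAut.conj n).injective).symm

end abstract

section field

variable {K : Type*} [Field K] [Fintype K]

theorem coprime_aux (m : ℕ) : Nat.Coprime (2 ^ (2 * m + 1) - 1) (2 ^ m + 1) := by
  have ha : 1 ≤ 2 ^ m := Nat.one_le_two_pow
  obtain ⟨a, ha'⟩ : ∃ a, 2 ^ m = a + 1 := ⟨2 ^ m - 1, by omega⟩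
  have e : 2 ^ (2 * m + 1) - 1 = 2 * a * (2 ^ m + 1) + 1 := by
    have : 2 ^ (2 * m + 1) = 2 * (2 ^ m * 2 ^ m) := by
      rw [pow_succ, two_mul, pow_add]; ring
    rw [this, ha']
    have : 2 * ((a + 1) * (a + 1)) = 2 * a * (a + 1 + 1) + 1 + 1 := by ring
    omega
  rw [e]
  exact (Nat.coprime_mul_right_add_left 1 (2 ^ m + 1) (2 * a)).mpr (Nat.coprime_one_left _)

/-- every element of a field of order `2^(2m+1)`, `m ≥ 1`, is of the form `a^θ b + b^θ a`,
`θ = 2^m` -/
theorem exists_theta_pair [CharP K 2] (m : ℕ) (hm : 1 ≤ m)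
    (hK : Fintype.card K = 2 ^ (2 * m + 1)) (v : K) :
    ∃ a b : K, v = a ^ (2 ^ m) * b + b ^ (2 ^ m) * a := by
  classical
  by_cases hv : v = 0
  · exact ⟨0, 0, by rw [hv]; simp⟩
  -- an element outside the prime field
  obtain ⟨k, hk0, hk1⟩ : ∃ k : K, k ≠ 0 ∧ k ≠ 1 := by
    by_contra hcon
    push Not at hcon
    have hsub : (Finset.univ : Finset K) ⊆ {0, 1} := by
      intro x _
      by_cases hx : x = 0
      · simp [hx]
      · simp [hcon x hx]
    have h1 := Finset.card_le_card hsub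
    rw [Finset.card_univ, hK] at h1
    have h2 : ({0, 1} : Finset K).card ≤ 2 := Finset.card_le_two
    have h3 : 2 ^ 3 ≤ 2 ^ (2 * m + 1) := Nat.pow_le_pow_right (by norm_num) (by omega)
    omega
  have hc : k + k ^ (2 ^ m) ≠ 0 := by
    intro h0
    have h1 : k ^ (2 ^ m) = k := by
      have : k ^ (2 ^ m) = -k := by linear_combination h0
      rw [this, CharTwo.neg_eq]
    have h2 : k ^ (Fintype.card K) = k := FiniteField.pow_card k
    have h3 : k ^ (Fintype.card K) = k ^ 2 := by
      rw [hK]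
      have : 2 ^ (2 * m + 1) = 2 ^ m * 2 ^ m * 2 := by
        rw [pow_succ, two_mul, pow_add]
      rw [this, pow_mul, pow_mul, h1, h1]
    rw [h3] at h2
    have h4 : k * (k - 1) = 0 := by linear_combination h2
    rcases mul_eq_zero.mp h4 with h | h
    · exact hk0 h
    · exact hk1 (sub_eq_zero.mp h)
  -- the power map on the units
  have hcard : Nat.card Kˣ = 2 ^ (2 * m + 1) - 1 := by
    rw [Nat.card_eq_fintype_card, Fintype.card_units, hK]
  have hcop : (Nat.card Kˣ).Coprime (2 ^ m + 1) := by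
    rw [hcard]; exact coprime_aux m
  have hvc : v / (k + k ^ (2 ^ m)) ≠ 0 := div_ne_zero hv hc
  obtain ⟨u, hu⟩ := (powCoprime hcop).surjective (Units.mk0 _ hvc)
  have hu' : (u : K) ^ (2 ^ m + 1) = v / (k + k ^ (2 ^ m)) := by
    have := congrArg Units.val hu
    rw [powCoprime_apply, Units.val_pow_eq_pow_val, Units.val_mk0] at this
    exact this
  refine ⟨(u : K), (u : K) * k, ?_⟩
  have e : (u : K) ^ (2 ^ m) * ((u : K) * k) + ((u : K) * k) ^ (2 ^ m) * (u : K) =
      (u : K) ^ (2 ^ m + 1) * (k + k ^ (2 ^ m)) := by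
    rw [mul_pow, pow_succ]; ring
  rw [e, hu']
  field_simp

end field

section Twist

variable {F : Type*} [Field F] [CharP F 2] {G : Type*} [Group G]
  {xa xb xc xd : F → G} (R : Rel xa xb xc xd) (φ : F →+* F) (hφ : ∀ t, (φ (φ t)) ^ 2 = t)

include R hφ in
/-- the commutator of two elements `β(a, 0)`, `β(b, 0)` -/
theorem beta_commutator (a b : F) :
    ⁅beta xa xb xc xd φ a 0, beta xa xb xc xd φ b 0⁆ = beta xa xb xc xd φ 0 (φ a * b + φ b * a) := by
  have h2 : (2 : F) = 0 := CharTwo.two_eq_zero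
  rw [commutatorElement_def]
  have key : beta xa xb xc xd φ a 0 * beta xa xb xc xd φ b 0 =
      beta xa xb xc xd φ 0 (φ a * b + φ b * a) *
        (beta xa xb xc xd φ b 0 * beta xa xb xc xd φ a 0) := by
    rw [beta_mul R φ hφ, beta_mul R φ hφ, beta_mul R φ hφ]
    congr 1
    · ring
    · rw [map_zero]
      linear_combination (-(φ b * a)) * h2
  rw [key]
  group

include R hφ in
/-- squares of the `β(t, u)` are commutators, if every field element is of the form
`φ a · b + φ b · a` -/
theorem beta_sq_mem_commutator (hpair : ∀ v : F, ∃ a b : F, v = φ a * b + φ b * a)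
    (V : Subgroup G) (hβ : ∀ t u, beta xa xb xc xd φ t u ∈ V) (t u : F) :
    (beta xa xb xc xd φ t u) ^ 2 ∈ ⁅V, V⁆ := by
  have h2 : (2 : F) = 0 := CharTwo.two_eq_zero
  obtain ⟨a, b, hab⟩ := hpair (φ t * t)
  have e : (beta xa xb xc xd φ t u) ^ 2 = beta xa xb xc xd φ 0 (φ a * b + φ b * a) := by
    rw [pow_two, beta_mul R φ hφ, ← hab]
    congr 1
    · linear_combination t * h2
    · linear_combination u * h2
  rw [e, ← beta_commutator R φ hφ]
  exact Subgroup.commutator_mem_commutator (hβ _ _) (hβ _ _)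

end Twist

end Cfsg.Agent.Helper12.SqTF4
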