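import Cfsg.Agent.Helper12.SqTF4a
import Cfsg.Agent.Helper36.F4UFinal

/-!
# (TF4) for helper51's S4625, part b: the chain of subgroups `U_w⁻` of `²F₄`, with `SqComm`
-/

set_option autoImplicit false
set_option maxRecDepth 100000
set_option linter.unusedSectionVars false

namespace Cfsg.Agent.Helper12.SqTF4

open Cfsg Cfsg.Lie Cfsg.Agent.Helper36.SigmaF4 Cfsg.Agent.Helper36.SigmaChev
  Cfsg.Agent.Helper36.USplit Cfsg.Agent.Helper19.Cox Cfsg.Agent.Helper19.Poinc Cfsg.Agent.Helper19.Twist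
  Cfsg.Agent.Helper40.UProd Cfsg.Agent.Helper36.B2Class Cfsg.Agent.Helper36.LeviBruhat
  Cfsg.Agent.Helper36.TwistF4 Cfsg.Agent.Helper36.F4Class Cfsg.Agent.Helper51.SQ

section

variable {K : Type*} [Field K] [CharP K 2] [Fintype K] {m : ℕ}
  {σ : ↥(chevF4.group K) ≃* ↥(chevF4.group K)}

local notation "x18" => Cfsg.Agent.Helper18.xGL chevF4 K

/-- the property carried along the chain -/
def GoodSq (σ : ↥(chevF4.group K) ≃* ↥(chevF4.group K)) (Ψ : List ℕ) : Prop :=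
  SqComm ↥(listSubgroup chevF4 K Ψ ⊓ FixS σ)

variable (hK : Fintype.card K = 2 ^ (2 * m + 1)) (hσ : Spec chevF4 σ rho (cF m))

include hK hσ in
/-- transport along conjugation by an element of `N ∩ ²F₄` -/
theorem GoodSq.conj {prev R : List ℕ} (word : List ℕ) (hprev : ∀ r ∈ prev, r < 48)
    (hR : ∀ r ∈ R, r < 48)
    (hmap1 : ∀ r ∈ R, actW Cfsg.Agent.Helper18.reflTabsF4 4 48 word r ∈ prev)
    (hmap2 : ∀ r ∈ prev, ∃ r' ∈ R, actW Cfsg.Agent.Helper18.reflTabsF4 4 48 word r' = r)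
    (n : GL chevF4.Idx K) (hnN : n ∈ chevF4.monomialSubgroup K) (hnG : n ∈ twistedF4 K (2 ^ m))
    (hθ : thetaF4 ⟨n, hnN⟩ = gp certF4.M word) (hgood : GoodSq σ prev) : GoodSq σ R := by
  have hnF : n ∈ FixS σ := twisted_le_FixG hK hσ hnG
  have e2 : theta chevF4 hF4 certF4 (Cfsg.Agent.Helper18.nConjHyp chevF4 hF4) ⟨n, hnN⟩ =
      gp certF4.M word := hθ
  have h1 : (listSubgroup chevF4 K R).map (MulAut.conj n).toMonoidHom ≤ listSubgroup chevF4 K prev := by
    apply conj_listSubgroup_le hF4 certF4 (Cfsg.Agent.Helper18.nConjHyp chevF4 hF4) ⟨n, hnN⟩ R prev hR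
    intro r hr
    rw [e2, phi_gp]
    exact hmap1 r hr
  have h2 : (listSubgroup chevF4 K prev).map (MulAut.conj n⁻¹).toMonoidHom ≤ listSubgroup chevF4 K R := by
    have := conj_listSubgroup_le hF4 certF4 (Cfsg.Agent.Helper18.nConjHyp chevF4 hF4)
      (⟨n, hnN⟩⁻¹ : ↥(chevF4.monomialSubgroup K)) prev R hprev (by
        intro r hr
        obtain ⟨r', hr', e3⟩ := hmap2 r hr
        rw [map_inv, e2, map_inv, Equiv.Perm.inv_eq_iff_eq.mpr]
        · exact hr'
        · rw [phi_gp]; exact e3.symm)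
    exact this
  have hmapeq : (listSubgroup chevF4 K R ⊓ FixS σ).map (MulAut.conj n).toMonoidHom =
      listSubgroup chevF4 K prev ⊓ FixS σ := by
    apply le_antisymm
    · rintro y ⟨x, ⟨hx1, hx2⟩, rfl⟩
      refine ⟨h1 ⟨x, hx1, rfl⟩, ?_⟩
      show n * x * n⁻¹ ∈ FixS σ
      exact Subgroup.mul_mem _ (Subgroup.mul_mem _ hnF hx2) (Subgroup.inv_mem _ hnF)
    · rintro y ⟨hy1, hy2⟩
      refine ⟨n⁻¹ * y * n, ⟨?_, ?_⟩, ?_⟩
      · have := h2 ⟨y, hy1, rfl⟩
        simpa using this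
      · exact Subgroup.mul_mem _ (Subgroup.mul_mem _ (Subgroup.inv_mem _ hnF) hy2) hnF
      · show n * (n⁻¹ * y * n) * n⁻¹ = y
        group
  exact sqComm_of_map_conj _ _ n hmapeq hgood

variable {φ : ℕ → ℤ} {wit : ℕ → ℕ × ℕ} (hg : gradeOK' chevF4 φ wit = true)

include hg hσ in
/-- the splitting step -/
theorem GoodSq.split {A R : List ℕ} (hAR : ClosedList chevF4 φ (A ++ R))
    (hA : ClosedList chevF4 φ A) (hR : ClosedList chevF4 φ R) (hπA : ∀ r ∈ A, rho r ∈ A)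
    (hπR : ∀ r ∈ R, rho r ∈ R) (hAgood : GoodSq σ A) (hRgood : GoodSq σ R) :
    GoodSq σ (A ++ R) := by
  have hAle : listSubgroup chevF4 K A ≤ listSubgroup chevF4 K (A ++ R) :=
    listSubgroup_mono fun r hr => List.mem_append_left _ hr
  have hRle : listSubgroup chevF4 K R ≤ listSubgroup chevF4 K (A ++ R) :=
    listSubgroup_mono fun r hr => List.mem_append_right _ hr
  refine sqComm_of_mul _ (listSubgroup chevF4 K A ⊓ FixS σ) (listSubgroup chevF4 K R ⊓ FixS σ)
    (inf_le_inf_right _ hAle) (inf_le_inf_right _ hRle) ?_ hAgood hRgood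
  rintro u ⟨hu1, hu2⟩
  exact split_fix hF4 hg hσ A R hAR hA hR hπA hπR u hu1 hu2

include hK hσ in
theorem GoodSq.step {φ : ℕ → ℤ} {wit : ℕ → ℕ × ℕ} (hg : gradeOK' chevF4 φ wit = true)
    {A R prev word : List ℕ} (hA : ClosedList chevF4 φ A) (hπA : ∀ r ∈ A, rho r ∈ A)
    (hAgood : GoodSq σ A) (hok : stepOK φ A R prev word = true)
    (n : GL chevF4.Idx K) (hnN : n ∈ chevF4.monomialSubgroup K) (hnG : n ∈ twistedF4 K (2 ^ m))
    (hθ : thetaF4 ⟨n, hnN⟩ = gp certF4.M word) (hprev : GoodSq σ prev) :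
    GoodSq σ (A ++ R) := by
  unfold stepOK at hok
  simp only [Bool.and_eq_true, List.all_eq_true, List.contains_iff_mem, decide_eq_true_eq,
    List.any_eq_true, beq_iff_eq] at hok
  obtain ⟨⟨⟨⟨⟨h1, h2⟩, h3⟩, h4⟩, h5⟩, h6⟩ := hok
  have hAR := closedOK_spec h1
  have hR := closedOK_spec h2
  have hRgood : GoodSq σ R :=
    GoodSq.conj hK hσ word h4 (fun r hr => (hR.pos r hr).1) h5 h6 n hnN hnG hθ hprev
  exact GoodSq.split hσ hg hAR hA hR hπA h3 hAgood hRgood

/-- the class `P`: an elementary abelian group -/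
theorem goodSq_AP : GoodSq σ [33, 24] := by
  unfold GoodSq
  rw [sqComm_subgroup_iff]
  rintro u ⟨hu1, -⟩
  obtain ⟨t, -, hut⟩ := exists_pwG hF4 gradeOK_P _ closed_AP u hu1
  have e1 : u = x18 33 (t 33) * x18 24 (t 24) := by
    rw [hut]
    simp [pwG]
  have hcm : ∀ a b : K, x18 33 a * x18 24 b = x18 24 b * x18 33 a := fun a b =>
    congrArg Subtype.val (commute_P (K := K) a b).eq
  have hsq : ∀ (r : ℕ) (a : K), x18 r a * x18 r a = 1 := by
    intro r a
    rw [Cfsg.Agent.Helper18.xGL_mul_add chevF4 hF4, CharTwo.add_self_eq_zero,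
      Cfsg.Agent.Helper18.xGL_zero' chevF4 hF4]
  have e2 : u ^ 2 = 1 := by
    rw [e1, pow_two]
    calc x18 33 (t 33) * x18 24 (t 24) * (x18 33 (t 33) * x18 24 (t 24))
        = x18 33 (t 33) * (x18 24 (t 24) * x18 33 (t 33)) * x18 24 (t 24) := by
          simp only [mul_assoc]
      _ = x18 33 (t 33) * (x18 33 (t 33) * x18 24 (t 24)) * x18 24 (t 24) := by rw [hcm]
      _ = (x18 33 (t 33) * x18 33 (t 33)) * (x18 24 (t 24) * x18 24 (t 24)) := by
          simp only [mul_assoc]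
      _ = 1 := by rw [hsq, hsq, one_mul]
  rw [e2]
  exact one_mem _

include hK hσ in
/-- the class `S` -/
theorem goodSq_AS (hm : 1 ≤ m) : GoodSq σ [27, 25, 28, 30] := by
  unfold GoodSq
  rw [sqComm_subgroup_iff]
  rintro u ⟨hu1, hu2, hu3⟩
  obtain ⟨t, v, e⟩ := US_JS_fixed hK hσ ⟨u, hu2⟩ (listSubgroup_AS_le hu1) hu3
  have eu : u = ((BpG m t v : ↥(chevF4.group K)) : GL chevF4.Idx K) := congrArg Subtype.val e
  set V : Subgroup (GL chevF4.Idx K) := listSubgroup chevF4 K [27, 25, 28, 30] ⊓ FixS σ with hV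
  have hβ : ∀ a b : K, beta (XG 27) (XG 25) (XG 28) (XG 30) (phi m) a b ∈
      V.comap (chevF4.group K).subtype := by
    intro a b
    rw [Subgroup.mem_comap]
    exact ⟨BpG_mem_list a b, (BpG m a b).2, sigma_BpG hK hσ a b⟩
  have hpair : ∀ w : K, ∃ a b : K, w = phi m a * b + phi m b * a := by
    intro w
    obtain ⟨a, b, h⟩ := exists_theta_pair m hm hK w
    exact ⟨a, b, by rw [phi_apply, phi_apply]; exact h⟩
  have h1 := beta_sq_mem_commutator relPG (phi m) (phi_phi hK) hpair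
    (V.comap (chevF4.group K).subtype) hβ t v
  have h2 : (chevF4.group K).subtype (beta (XG 27) (XG 25) (XG 28) (XG 30) (phi m) t v ^ 2) ∈
      (⁅V.comap (chevF4.group K).subtype, V.comap (chevF4.group K).subtype⁆).map
        (chevF4.group K).subtype := Subgroup.mem_map_of_mem _ h1
  rw [Subgroup.map_commutator] at h2
  have h3 := Subgroup.commutator_mono (Subgroup.map_comap_le (chevF4.group K).subtype V)
    (Subgroup.map_comap_le (chevF4.group K).subtype V) h2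
  rw [eu]
  have e4 : ((BpG m t v : ↥(chevF4.group K)) : GL chevF4.Idx K) ^ 2 =
      (chevF4.group K).subtype (beta (XG 27) (XG 25) (XG 28) (XG 30) (phi m) t v ^ 2) := by
    rw [map_pow]
    rfl
  rw [e4]
  exact h3

end

end Cfsg.Agent.Helper12.SqTF4
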