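import Mathlib
import Cfsg.Agent.Helper40.StCDefs

/-!
# Piece (CL1) of S2092 part II (helper40's plan, board #7552)

From the "far" case to the long case: lifts of a long root element and of any root element commuting
with it commute.
-/

set_option autoImplicit false

namespace Cfsg.Agent.Helper12.StCCL1

open scoped commutatorElement
open Cfsg.Agent.Helper96.StN Cfsg.Agent.Helper96.StC Cfsg.Agent.Helper96.StLift
  Cfsg.Agent.Helper40.StCLift

universe u v v' w

variable {K : Type u} [Field K] {D : Type v} [Group D] {E : Type v'} [Group E] {π : E →* D}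
  {ι : Type w} [DecidableEq ι] {X : ι ⊕ ι → ι ⊕ ι → K → D}

omit [DecidableEq ι] in
/-- a long root element commutes with the root elements of `SpRel.comm` -/
theorem cl1_comm_long (hX : SpRel X) {p r s : ι ⊕ ι} (hrs : r ≠ s) (hr : r ≠ bar p) (hs : s ≠ p)
    (t u : K) : Commute (X p (bar p) t) (X r s u) :=
  hX.comm p (bar p) r s (bar_ne p).symm hrs (Ne.symm hr) (fun e => hs (bar_injective e).symm)
    (fun e => hr (by rw [e, bar_bar])) (Ne.symm hs) t u

omit [DecidableEq ι] in
/-- case (i): `r = p`, `|s| ≠ |p|` -/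
theorem cl1_caseA (hπ : Function.Surjective π) (hc : π.ker ≤ Subgroup.center E) (hX : SpRel X)
    {p s k : ι ⊕ ι} (hsp : AbsNe s p) (hkp : AbsNe k p) (hks : AbsNe k s) (t u : K) :
    lc hπ (X p (bar p) t) (X p s u) = 1 := by
  have h := hX.mul p k s hkp.1.symm hks.1 hsp.1.symm hkp.ne_bar' hks.2 hsp.ne_bar' u 1
  rw [mul_one, ← commutatorElement_def] at h
  rw [← h]
  exact lc_spare hπ hc (cl1_comm_long hX hkp.1.symm (bar_ne p).symm hkp.1 t u)
    (cl1_comm_long hX hks.1 hkp.2 hsp.1 t 1)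

omit [DecidableEq ι] in
/-- case (ii): `s = p̄`, `|r| ≠ |p|` -/
theorem cl1_caseB (hπ : Function.Surjective π) (hc : π.ker ≤ Subgroup.center E) (hX : SpRel X)
    (h3 : ∀ p q : ι ⊕ ι, ∃ k, AbsNe k p ∧ AbsNe k q)
    {p r : ι ⊕ ι} (hrp : AbsNe r p) (t u : K) :
    lc hπ (X p (bar p) t) (X r (bar p) u) = 1 := by
  obtain ⟨k, hkp, hkr⟩ := h3 p r
  have h := hX.sym r (bar p) hrp.2 (fun e => hrp.1 (bar_injective e).symm) u
  rw [bar_bar] at h
  rw [h]
  exact cl1_caseA hπ hc hX hrp.bar_left hkp hkr.bar_right t _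

omit [DecidableEq ι] in
/-- cases (iv) and (v): a long root element `X r r̄ u`, from the short ones `X k r̄ _` -/
theorem cl1_caseLong (hπ : Function.Surjective π) (hc : π.ker ≤ Subgroup.center E) (hX : SpRel X)
    {p r k : ι ⊕ ι} (hr : r ≠ bar p) (hkp : AbsNe k p) (hkr : AbsNe k r) (t u : K)
    (hshort : ∀ t' : K, lc hπ (X p (bar p) t) (X k (bar r) t') = 1) :
    lc hπ (X p (bar p) t) (X r (bar r) u) = 1 := by
  have hrp' : bar r ≠ p := fun e => hr (by rw [← e, bar_bar])
  have h := hX.r6 k (bar r) hkr.2 (by rw [bar_bar]; exact hkr.1) (eps K k (bar r) * u) 1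
  rw [bar_bar, mul_one, one_pow, mul_one, ← mul_assoc, eps_mul_self, one_mul,
    ← commutatorElement_def] at h
  have h1 : lc hπ (X p (bar p) t) (X k (bar r) (eps K k (bar r) * u) * X r (bar r) u) = 1 := by
    rw [← h]
    refine lc_spare hπ hc (cl1_comm_long hX (bar_ne k).symm hkp.2 hkp.bar_left.1 t _)
      (cl1_comm_long hX (fun e => hkr.1 (bar_injective e)) ?_ hrp' t 1)
    exact fun e => hkp.1 (bar_injective e)
  rw [lc_mul_right_of_commute hπ hc (cl1_comm_long hX (bar_ne r).symm hr hrp' t u), hshort,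
    one_mul] at h1
  exact h1

/-- (CL1) from the "far" case to the long case. -/
theorem cLong_of_cFar (hπ : Function.Surjective π) (hc : π.ker ≤ Subgroup.center E)
    (hX : SpRel X) (h3 : ∀ p q : ι ⊕ ι, ∃ k, AbsNe k p ∧ AbsNe k q) (hfar : CFar hπ X) :
    CLong hπ X := by
  intro p r s hrs hr hs t u
  by_cases hrp : r = p
  · subst hrp
    by_cases hsr : s = bar r
    · subst hsr
      -- case (v)
      obtain ⟨k, hkp, -⟩ := h3 r r
      exact cl1_caseLong hπ hc hX hr hkp hkp t u (fun t' => cl1_caseB hπ hc hX h3 hkp t t')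
    · -- case (i)
      have hsp : AbsNe s r := ⟨hs, hsr⟩
      obtain ⟨k, hkp, hks⟩ := h3 r s
      exact cl1_caseA hπ hc hX hsp hkp hks t u
  · have hrp' : AbsNe r p := ⟨hrp, hr⟩
    by_cases hsp : s = bar p
    · subst hsp
      exact cl1_caseB hπ hc hX h3 hrp' t u
    · have hsp' : AbsNe s p := ⟨hs, hsp⟩
      by_cases hsr : s = bar r
      · subst hsr
        -- case (iv)
        obtain ⟨k, hkp, hkr⟩ := h3 p r
        have hf : ∀ t' : K, lc hπ (X p (bar p) t) (X k (bar r) t') = 1 := fun t' =>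
          hfar p k (bar r) hkp hsp' hkr.bar_right t t'
        exact cl1_caseLong hπ hc hX hr hkp hkr t u hf
      · -- case (iii)
        exact hfar p r s hrp' hsp' ⟨hrs, fun e => hsr (by rw [e, bar_bar])⟩ t u

end Cfsg.Agent.Helper12.StCCL1
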