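import Mathlib
import Cfsg.Agent.Helper40.StCDefs

/-!
# Piece (CL4) of S2092 part II (helper40's plan, board #7552)

From the long case to all cases: lifts of root elements which commute by `SpRel.comm` commute.
-/

set_option autoImplicit false

namespace Cfsg.Agent.Helper12.StCCL4

open scoped commutatorElement
open Cfsg.Agent.Helper96.StN Cfsg.Agent.Helper96.StC Cfsg.Agent.Helper96.StLift
  Cfsg.Agent.Helper40.StCLift

universe u v v' w

variable {K : Type u} [Field K] {D : Type v} [Group D] {E : Type v'} [Group E] {π : E →* D}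
  {ι : Type w} [DecidableEq ι] {X : ι ⊕ ι → ι ⊕ ι → K → D}

omit [DecidableEq ι] in
/-- case (c): the same short root -/
theorem cl4_caseC (hπ : Function.Surjective π) (hc : π.ker ≤ Subgroup.center E) (hX : SpRel X)
    {p q k : ι ⊕ ι} (hpq : AbsNe p q) (hkp : AbsNe k p) (hkq : AbsNe k q) (t u : K) :
    lc hπ (X p q t) (X p q u) = 1 := by
  have h := hX.mul p k q hkp.1.symm hkq.1 hpq.1 hkp.ne_bar' hkq.2 hpq.2 u 1
  rw [mul_one, ← commutatorElement_def] at h
  rw [← h]
  refine lc_spare hπ hc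
    (hX.comm p q p k hpq.1 hkp.1.symm hpq.1.symm hkq.ne_bar' (bar_ne p).symm hkp.1.symm t u)
    (hX.comm p q k q hpq.1 hkq.1 hkq.1.symm (bar_ne q).symm hkp.ne_bar' hpq.1 t 1)

omit [DecidableEq ι] in
/-- case (a): both short, `r ∉ {p, q̄}` -/
theorem cl4_caseA (hπ : Function.Surjective π) (hc : π.ker ≤ Subgroup.center E) (hX : SpRel X)
    (hlong : CLong hπ X) {p q r s : ι ⊕ ι} (hpq : p ≠ q) (hrs : r ≠ s) (hqr : q ≠ r)
    (hqs : q ≠ bar s) (hpr : p ≠ bar r) (hps : p ≠ s) (hsr : s ≠ bar r) (hrp : r ≠ p)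
    (hrq : r ≠ bar q) (t u : K) : lc hπ (X p q t) (X r s u) = 1 := by
  have hrs' : r ≠ bar s := fun e => hsr (by rw [e, bar_bar])
  have h := hX.r6 r s hrs hrs' 1 u
  rw [one_mul, ← commutatorElement_def] at h
  have hc1 : Commute (X p q t) (X r (bar r) 1) :=
    hX.comm p q r (bar r) hpq (bar_ne r).symm hqr (by rw [bar_bar]; exact hqr) hpr hpr t 1
  have hc2 : Commute (X p q t) (X (bar r) s u) :=
    hX.comm p q (bar r) s hpq (Ne.symm hsr) (fun e => hrq (by rw [e, bar_bar])) hqs
      (by rw [bar_bar]; exact Ne.symm hrp) hps t u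
  have hc3 : ∀ v : K, Commute (X p q t) (X (bar s) s v) := fun v =>
    hX.comm p q (bar s) s hpq (bar_ne s) hqs hqs (by rw [bar_bar]; exact hps) hps t v
  have h1 : lc hπ (X p q t) (X r s u * X (bar s) s (eps K r s * 1 * u ^ 2)) = 1 := by
    rw [← h]
    exact lc_spare hπ hc hc1 hc2
  have h2 : ∀ v : K, lc hπ (X p q t) (X (bar s) s v) = 1 := by
    intro v
    have h3 := hlong (bar s) p q hpq (by rw [bar_bar]; exact hps) hqs v t
    rw [bar_bar] at h3
    exact lc_eq_one_symm hπ h3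
  rw [lc_mul_right_of_commute hπ hc (hc3 _), h2, mul_one] at h1
  exact h1

/-- (CL4) from the long case to all cases. -/
theorem clc_of_cLong (hπ : Function.Surjective π) (hc : π.ker ≤ Subgroup.center E)
    (hX : SpRel X) (h3 : ∀ p q : ι ⊕ ι, ∃ k, AbsNe k p ∧ AbsNe k q) (hlong : CLong hπ X) :
    CLC hπ X := by
  intro p q r s hpq hrs hqr hqs hpr hps t u
  by_cases hq : q = bar p
  · subst hq
    exact hlong p r s hrs (Ne.symm hqr) (Ne.symm hps) t u
  by_cases hs : s = bar r
  · subst hs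
    exact lc_eq_one_symm hπ (hlong r p q hpq hpr hqr u t)
  -- both short
  by_cases hra : r ≠ p ∧ r ≠ bar q
  · exact cl4_caseA hπ hc hX hlong hpq hrs hqr hqs hpr hps hs hra.1 hra.2 t u
  by_cases hsa : s ≠ q ∧ s ≠ bar p
  · -- case (b)
    have hrs' : r ≠ bar s := fun e => hs (by rw [e, bar_bar])
    rw [hX.sym r s hrs hs u]
    refine cl4_caseA hπ hc hX hlong hpq (fun e => hrs (bar_injective e).symm) hqs
      (by rw [bar_bar]; exact hqr) (by rw [bar_bar]; exact hps) hpr
      (by rw [bar_bar]; exact fun e => hs e.symm) ?_ ?_ t _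
    · exact fun e => hsa.2 (by rw [← e, bar_bar])
    · exact fun e => hsa.1 (bar_injective e)
  -- now `r ∈ {p, q̄}` and `s ∈ {q, p̄}`
  have hpq' : AbsNe p q := absNe_iff.mpr ⟨hpq, hq⟩
  obtain ⟨k, hkp, hkq⟩ := h3 p q
  have hr' : r = p ∨ r = bar q := by
    by_contra hcon
    push Not at hcon
    exact hra hcon
  have hs' : s = q ∨ s = bar p := by
    by_contra hcon
    push Not at hcon
    exact hsa hcon
  rcases hr' with rfl | rfl
  · rcases hs' with rfl | rfl
    · exact cl4_caseC hπ hc hX hpq' hkp hkq t u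
    · exact absurd rfl hs
  · rcases hs' with rfl | rfl
    · exact absurd (bar_bar s).symm hs
    · -- case (d)
      rw [sym' hX hpq hq u]
      exact cl4_caseC hπ hc hX hpq' hkp hkq t _

end Cfsg.Agent.Helper12.StCCL4
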