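import Mathlib
import Cfsg.Agent.Helper70.Syl2

/-!
# Fewer than `p²` Sylow subgroups: Sylow subgroups meet trivially (helper12)

If a finite simple group has more than one but fewer than `p ^ 2` Sylow `p`-subgroups, then any two
distinct Sylow `p`-subgroups meet trivially.  (Otherwise the sets `above (P ⊓ Q)` form the lines of
a linear space on the Sylow subgroups in which every line has at least `p + 1` points; a point off a
line lies on at least `p + 1` lines, which forces at least `p ^ 2 + p + 1` points.)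
-/

set_option autoImplicit false
set_option linter.unusedSectionVars false

open scoped Classical Pointwise

namespace Cfsg.Agent.Helper12.SylLines

open Cfsg.Agent.Helper70.Syl

variable {G : Type*} [Group G] [Finite G] {p : ℕ} [hp : Fact p.Prime]

/-- the line through two distinct points has at least `p + 1` points -/
theorem card_above_inf_ge (hlt : Nat.card (Sylow p G) < p ^ 2) (P Q : Sylow p G) (hPQ : P ≠ Q) :
    p + 1 ≤ (above p ((P : Subgroup G) ⊓ Q)).card := by
  set D : Subgroup G := (P : Subgroup G) ⊓ Q with hD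
  have hDP : D ≤ P := inf_le_left
  have hDQ : D ≤ Q := inf_le_right
  have hmul := card_inf_mul hlt P Q hPQ
  have hPD := le_normalizer_of_card_mul P D hDP hmul
  have h1 := card_above_modEq P D hDP hPD
  have h2 : 1 < (above p D).card := by
    rw [Finset.one_lt_card]
    exact ⟨P, mem_above.mpr hDP, Q, mem_above.mpr hDQ, hPQ⟩
  have hp1 : 1 < p := hp.out.one_lt
  by_contra hcon
  push Not at hcon
  have hlt' : (above p D).card < p + 1 := hcon
  -- card ≡ 1 mod p, 1 < card ≤ p
  have hmod : (above p D).card % p = 1 % p := h1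
  rw [Nat.mod_eq_of_lt hp1] at hmod
  rcases Nat.lt_or_ge (above p D).card p with hlp | hge
  · rw [Nat.mod_eq_of_lt hlp] at hmod
    omega
  · have : (above p D).card = p := by omega
    rw [this, Nat.mod_self] at hmod
    omega

/-- **Main lemma**: in a simple group with `1 < n_p < p²`, distinct Sylow `p`-subgroups meet
trivially. -/
theorem inf_eq_bot_of_card_lt_sq [IsSimpleGroup G] (h1 : Nat.card (Sylow p G) ≠ 1)
    (hlt : Nat.card (Sylow p G) < p ^ 2) (P₀ Q₀ : Sylow p G) (hPQ₀ : P₀ ≠ Q₀) :
    (P₀ : Subgroup G) ⊓ Q₀ = ⊥ := by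
  by_contra hne₀
  let _ : Fintype (Sylow p G) := Fintype.ofFinite _
  have hppos : 0 < p := hp.out.pos
  -- all intersections have the same order
  have hcard : ∀ P Q : Sylow p G, P ≠ Q →
      Nat.card ((P : Subgroup G) ⊓ Q : Subgroup G) =
        Nat.card ((P₀ : Subgroup G) ⊓ Q₀ : Subgroup G) := by
    intro P Q hPQ
    have h1 := card_inf_mul hlt P Q hPQ
    have h2 := card_inf_mul hlt P₀ Q₀ hPQ₀
    rw [card_sylow_eq P P₀, ← h2] at h1
    exact Nat.eq_of_mul_eq_mul_right hppos h1
  -- two points of a line determine it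
  have hline : ∀ (P Q R R' : Sylow p G), P ≠ Q → R ≠ R' →
      (P : Subgroup G) ⊓ Q ≤ R → (P : Subgroup G) ⊓ Q ≤ R' →
      (R : Subgroup G) ⊓ R' = (P : Subgroup G) ⊓ Q := by
    intro P Q R R' hPQ hRR hR hR'
    symm
    apply Subgroup.eq_of_le_of_card_ge (le_inf hR hR')
    rw [hcard R R' hRR, hcard P Q hPQ]
  set D₀ : Subgroup G := (P₀ : Subgroup G) ⊓ Q₀ with hD₀
  set L := above p D₀ with hL
  have hLcard : p + 1 ≤ L.card := card_above_inf_ge hlt P₀ Q₀ hPQ₀
  -- a point off the line
  obtain ⟨x, hx⟩ : ∃ x : Sylow p G, ¬ D₀ ≤ x := by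
    by_contra hcon
    push Not at hcon
    exact hne₀ (eq_bot_of_forall_le h1 D₀ hcon)
  have hxy : ∀ y ∈ L, x ≠ y := by
    intro y hy hxy
    apply hx
    rw [hxy]
    exact mem_above.mp hy
  -- the lines through `x` and the points of `L`
  let M : Sylow p G → Finset (Sylow p G) := fun y => (above p ((x : Subgroup G) ⊓ y)).erase x
  have hMcard : ∀ y ∈ L, p ≤ (M y).card := by
    intro y hy
    have h := card_above_inf_ge hlt x y (hxy y hy)
    have hxmem : x ∈ above p ((x : Subgroup G) ⊓ y) := mem_above.mpr inf_le_left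
    show p ≤ ((above p ((x : Subgroup G) ⊓ y)).erase x).card
    rw [Finset.card_erase_of_mem hxmem]
    omega
  have hdisj : (L : Set (Sylow p G)).PairwiseDisjoint M := by
    intro y hy y' hy' hyy'
    rw [Function.onFun, Finset.disjoint_left]
    intro z hz hz'
    have hy := mem_above.mp (Finset.mem_coe.mp hy)
    have hy' := mem_above.mp (Finset.mem_coe.mp hy')
    have hzx : z ≠ x := (Finset.mem_erase.mp hz).1
    have hz1 : (x : Subgroup G) ⊓ y ≤ z := mem_above.mp (Finset.mem_erase.mp hz).2
    have hz2 : (x : Subgroup G) ⊓ y' ≤ z := mem_above.mp (Finset.mem_erase.mp hz').2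
    have hxy1 : x ≠ y := fun h => hx (h ▸ hy)
    have hxy2 : x ≠ y' := fun h => hx (h ▸ hy')
    -- x ⊓ z = x ⊓ y = x ⊓ y'
    have e1 : (x : Subgroup G) ⊓ z = (x : Subgroup G) ⊓ y :=
      hline x y x z hxy1 (Ne.symm hzx) inf_le_left hz1
    have e2 : (x : Subgroup G) ⊓ z = (x : Subgroup G) ⊓ y' :=
      hline x y' x z hxy2 (Ne.symm hzx) inf_le_left hz2
    have e3 : (x : Subgroup G) ⊓ y = (x : Subgroup G) ⊓ y' := e1.symm.trans e2
    -- y ⊓ y' = x ⊓ y
    have e4 : (y : Subgroup G) ⊓ y' = (x : Subgroup G) ⊓ y :=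
      hline x y y y' hxy1 hyy' inf_le_right (e3 ▸ inf_le_right)
    have e5 : (y : Subgroup G) ⊓ y' = D₀ := hline P₀ Q₀ y y' hPQ₀ hyy' hy hy'
    apply hx
    rw [← e5, e4]
    exact inf_le_left
  have hsub : L.biUnion M ⊆ Finset.univ.erase x := by
    intro z hz
    obtain ⟨y, -, hzy⟩ := Finset.mem_biUnion.mp hz
    exact Finset.mem_erase.mpr ⟨(Finset.mem_erase.mp hzy).1, Finset.mem_univ z⟩
  have hcount : (p + 1) * p ≤ (L.biUnion M).card := by
    rw [Finset.card_biUnion hdisj]
    calc (p + 1) * p ≤ L.card * p := Nat.mul_le_mul_right p hLcard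
      _ = ∑ _y ∈ L, p := by rw [Finset.sum_const, smul_eq_mul]
      _ ≤ ∑ y ∈ L, (M y).card := Finset.sum_le_sum hMcard
  have hle := Finset.card_le_card hsub
  rw [Finset.card_erase_of_mem (Finset.mem_univ x), Finset.card_univ,
    ← Nat.card_eq_fintype_card] at hle
  have h3 : (p + 1) * p = p ^ 2 + p := by ring
  have h4 := le_trans hcount hle
  rw [h3] at h4
  omega

end Cfsg.Agent.Helper12.SylLines
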