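import Mathlib
import Cfsg.Agent.Helper70.Syl2
import Cfsg.Agent.Helper12.SylLines

/-!
# Groups with 21 Sylow 5-subgroups, part a: fixed points and parity (helper12)
-/

set_option autoImplicit false
set_option linter.unusedSectionVars false
set_option linter.style.haveILetI false

open scoped Classical Pointwise

namespace Cfsg.Agent.Helper12.Syl21

open Cfsg.Agent.Helper70.Syl Cfsg.Agent.Helper70.PCount

section general
variable {G : Type*} [Group G] [Finite G] {p : ℕ} [hp : Fact p.Prime]

/-- the Sylow subgroups normalized by `c` -/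
noncomputable def fixS (p : ℕ) [Fact p.Prime] (c : G) : Finset (Sylow p G) :=
  haveI : Fintype (Sylow p G) := Fintype.ofFinite _
  Finset.univ.filter (fun R : Sylow p G => c • R = R)

theorem mem_fixS {c : G} {R : Sylow p G} : R ∈ fixS p c ↔ c • R = R := by
  simp [fixS]

theorem fixS_invariant (P : Sylow p G) (c : G) (hc : c ∈ Subgroup.centralizer (P : Set G)) :
    ∀ g ∈ P, ∀ R ∈ fixS p c, g • R ∈ fixS p c := by
  intro g hg R hR
  rw [mem_fixS] at *
  have hcomm : g * c = c * g := hc g hg
  rw [← mul_smul, ← hcomm, mul_smul, hR]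

theorem self_mem_fixS (P : Sylow p G) (c : G) (hc : c ∈ Subgroup.normalizer (P : Set G)) :
    P ∈ fixS p c := by
  rw [mem_fixS, Sylow.smul_eq_iff_mem_normalizer]
  exact hc

theorem card_fixS_modEq (P : Sylow p G) (c : G) (hc : c ∈ Subgroup.centralizer (P : Set G)) :
    (fixS p c).card ≡ 1 [MOD p] := by
  have h1 := card_modEq_of_invariant P (fixS p c) (fixS_invariant P c hc)
  rwa [if_pos (self_mem_fixS P c (Subgroup.centralizer_le_normalizer _ hc))] at h1

theorem card_fixS_le (c : G) : (fixS p c).card ≤ Nat.card (Sylow p G) := by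
  letI : Fintype (Sylow p G) := Fintype.ofFinite _
  rw [Nat.card_eq_fintype_card]
  exact Finset.card_le_univ _

theorem eq_one_of_card_fixS [IsSimpleGroup G] (h1 : Nat.card (Sylow p G) ≠ 1) (c : G)
    (h : (fixS p c).card = Nat.card (Sylow p G)) : c = 1 := by
  apply eq_one_of_forall_smul_eq (p := p) h1
  intro R
  letI : Fintype (Sylow p G) := Fintype.ofFinite _
  rw [← mem_fixS]
  have : fixS p c = Finset.univ := by
    rw [← Finset.card_eq_iff_eq_univ, h, Nat.card_eq_fintype_card]
  rw [this]
  exact Finset.mem_univ R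

theorem smul_pow_eq' (c : G) (R : Sylow p G) (h : c • R = R) (k : ℕ) : c ^ k • R = R := by
  induction k with
  | zero => simp
  | succ k ih => rw [pow_succ, mul_smul, h, ih]

theorem fixS_subset_fixS_pow (c : G) (k : ℕ) : fixS p c ⊆ fixS p (c ^ k) := by
  intro R hR
  rw [mem_fixS] at *
  exact smul_pow_eq' c R hR k

/-- every element of a nonabelian simple group acts as an even permutation -/
theorem sign_toPerm_eq_one' [IsSimpleGroup G] (hG : 2 < Nat.card G) {Ω : Type*} [Fintype Ω]
    [MulAction G Ω] (c : G) :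
    Equiv.Perm.sign (MulAction.toPermHom G Ω c) = 1 := by
  let ψ : G →* ℤˣ := (Equiv.Perm.sign).comp (MulAction.toPermHom G Ω)
  rcases (MonoidHom.normal_ker ψ).eq_bot_or_eq_top with h | h
  · exfalso
    have hinj : Function.Injective ψ := (MonoidHom.ker_eq_bot_iff ψ).mp h
    have := Nat.card_le_card_of_injective ψ hinj
    rw [Nat.card_eq_fintype_card (α := ℤˣ), Fintype.card_units_int] at this
    omega
  · have : c ∈ ψ.ker := by rw [h]; exact Subgroup.mem_top c
    exact MonoidHom.mem_ker.mp this

/-- an even involution moves a multiple of four points -/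
theorem four_dvd_support_of_involution {Ω : Type*} [Fintype Ω] (σ : Equiv.Perm Ω)
    (h2 : orderOf σ = 2) (hs : Equiv.Perm.sign σ = 1) : 4 ∣ σ.support.card := by
  have hprime : (orderOf σ).Prime := by rw [h2]; exact Nat.prime_two
  obtain ⟨n, hn⟩ := Equiv.Perm.cycleType_prime_order hprime
  rw [h2] at hn
  have hsum := Equiv.Perm.sum_cycleType σ
  rw [hn, Multiset.sum_replicate, smul_eq_mul] at hsum
  rw [Equiv.Perm.sign_of_cycleType', hn, Multiset.map_replicate, Multiset.prod_replicate] at hs
  have hs' : ((-1 : ℤˣ)) ^ (n + 1) = 1 := by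
    simpa using hs
  have heven : Even (n + 1) := by
    by_contra hodd
    rw [Nat.not_even_iff_odd] at hodd
    rw [Odd.neg_one_pow hodd] at hs'
    exact absurd hs' (by decide)
  obtain ⟨k, hk⟩ := heven
  rw [← hsum, hk]
  exact ⟨k, by ring⟩

/-- parity of the number of fixed Sylow subgroups of an involution -/
theorem four_dvd_of_involution [IsSimpleGroup G] (h1 : Nat.card (Sylow p G) ≠ 1)
    (hG : 2 < Nat.card G) (c : G) (hc2 : c ^ 2 = 1) (hc1 : c ≠ 1) :
    4 ∣ Nat.card (Sylow p G) - (fixS p c).card := by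
  letI : Fintype (Sylow p G) := Fintype.ofFinite _
  set σ : Equiv.Perm (Sylow p G) := MulAction.toPermHom G (Sylow p G) c with hσ
  have hσ2 : σ ^ 2 = 1 := by
    rw [hσ, ← map_pow, hc2, map_one]
  have hσ1 : σ ≠ 1 := by
    intro h
    apply hc1
    apply eq_one_of_forall_smul_eq (p := p) h1
    intro R
    have := congrArg (fun τ : Equiv.Perm (Sylow p G) => τ R) h
    simpa [hσ] using this
  have hσord : orderOf σ = 2 := orderOf_eq_prime hσ2 hσ1
  have hsupp : σ.support = Finset.univ \ fixS p c := by
    ext R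
    rw [Equiv.Perm.mem_support, Finset.mem_sdiff, mem_fixS]
    simp [hσ]
  have hsign := sign_toPerm_eq_one' hG (Ω := Sylow p G) c
  have h4 := four_dvd_support_of_involution σ hσord hsign
  rw [hsupp, Finset.card_sdiff_of_subset (Finset.subset_univ _), Finset.card_univ,
    ← Nat.card_eq_fintype_card] at h4
  exact h4

/-- Sylow subgroups of order `p`: a nontrivial element of `P` normalizes no other Sylow subgroup -/
theorem eq_of_smul_eq_of_mem (hcard : ∀ R : Sylow p G, Nat.card (R : Subgroup G) = p)
    (P R : Sylow p G) (x : G) (hx : x ∈ P) (hx1 : x ≠ 1) (h : x • R = R) : R = P := by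
  rw [Sylow.smul_eq_iff_mem_normalizer] at h
  have hxR : x ∈ (P : Subgroup G) ⊓ R := by
    rw [← P.isPGroup'.inf_normalizer_sylow R]
    exact ⟨hx, h⟩
  -- P ⊓ R is a nontrivial subgroup of P of order dividing p
  have hdvd : Nat.card ((P : Subgroup G) ⊓ R : Subgroup G) ∣ p := by
    have := Subgroup.card_dvd_of_le (inf_le_left : (P : Subgroup G) ⊓ R ≤ P)
    rwa [hcard P] at this
  have hne1 : Nat.card ((P : Subgroup G) ⊓ R : Subgroup G) ≠ 1 := by
    intro h1
    have := Subgroup.card_eq_one.mp h1
    rw [this] at hxR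
    exact hx1 (Subgroup.mem_bot.mp hxR)
  have hp' : Nat.card ((P : Subgroup G) ⊓ R : Subgroup G) = p :=
    ((Nat.dvd_prime hp.out).mp hdvd).resolve_left hne1
  have hPle : (P : Subgroup G) ≤ R := by
    have : (P : Subgroup G) ⊓ R = P :=
      Subgroup.eq_of_le_of_card_ge inf_le_left (by rw [hp', hcard P])
    rw [← this]
    exact inf_le_right
  exact Sylow.ext (P.is_maximal' R.isPGroup' hPle)

end general

end Cfsg.Agent.Helper12.Syl21
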