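import Mathlib
import Cfsg.Agent.Helper12.Syl21a
import Cfsg.Agent.Helper17.SylowKit
import Cfsg.Agent.Helper21.AbelianSylow
import Cfsg.Agent.Helper70.Syl5

/-!
# Groups with 21 Sylow 5-subgroups, part b: the centralizer of a Sylow subgroup of order 5
-/

set_option autoImplicit false
set_option linter.unusedSectionVars false
set_option linter.style.haveILetI false

open scoped Classical Pointwise

namespace Cfsg.Agent.Helper12.Syl21

open Cfsg.Agent.Helper70.Syl Cfsg.Agent.Helper70.PCount

section twentyone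
variable {G : Type*} [Group G] [Finite G] [IsSimpleGroup G] [hp : Fact (Nat.Prime 5)]

theorem card_ge (h21 : Nat.card (Sylow 5 G) = 21) : 21 ≤ Nat.card G := by
  obtain ⟨P⟩ : Nonempty (Sylow 5 G) := inferInstance
  rw [← h21, P.card_eq_index_normalizer]
  exact Nat.le_of_dvd Nat.card_pos (Subgroup.index_dvd_card _)

theorem no_index_two (h21 : Nat.card (Sylow 5 G) = 21) : ∀ H : Subgroup G, H.index ≠ 2 := by
  intro H hH
  have hn : H.Normal := Subgroup.normal_of_index_eq_two hH
  rcases hn.eq_bot_or_eq_top with h | h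
  · rw [h, Subgroup.index_bot] at hH
    have := card_ge h21
    omega
  · rw [h, Subgroup.index_top] at hH
    omega

theorem card_normalizer_mul (h21 : Nat.card (Sylow 5 G) = 21) (P : Sylow 5 G) :
    Nat.card (Subgroup.normalizer ((P : Subgroup G) : Set G)) * 21 = Nat.card G := by
  have h1 := Subgroup.card_mul_index (Subgroup.normalizer ((P : Subgroup G) : Set G))
  have h2 : (Subgroup.normalizer ((P : Subgroup G) : Set G)).index = 21 := by
    rw [← h21]; exact (P.card_eq_index_normalizer).symm
  rwa [h2] at h1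

/-- an involution centralizing a Sylow 5-subgroup normalizes no other one -/
theorem fixS_involution (h21 : Nat.card (Sylow 5 G) = 21) (R : Sylow 5 G) (t : G)
    (ht : t ∈ Subgroup.centralizer ((R : Subgroup G) : Set G)) (ht2 : t ^ 2 = 1) (ht1 : t ≠ 1) :
    fixS 5 t = {R} := by
  have hn1 : Nat.card (Sylow 5 G) ≠ 1 := by rw [h21]; norm_num
  have hG : 2 < Nat.card G := by have := card_ge h21; omega
  have h1 := card_fixS_modEq R t ht
  have h2 := four_dvd_of_involution (p := 5) hn1 hG t ht2 ht1
  have h3 := card_fixS_le (p := 5) t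
  have h4 : (fixS 5 t).card ≠ 21 := by
    intro h
    exact ht1 (eq_one_of_card_fixS hn1 t (by rw [h, h21]))
  rw [h21] at h2 h3
  have hcard : (fixS 5 t).card = 1 := by
    unfold Nat.ModEq at h1
    omega
  obtain ⟨R', hR'⟩ := Finset.card_eq_one.mp hcard
  have hmem : R ∈ fixS 5 t := self_mem_fixS R t (Subgroup.centralizer_le_normalizer _ ht)
  rw [hR', Finset.mem_singleton] at hmem
  rw [hR', hmem]

/-- a nontrivial `2`-element centralizing a Sylow 5-subgroup normalizes no other one -/
theorem fixS_two_element (h21 : Nat.card (Sylow 5 G) = 21) (R : Sylow 5 G) (c : G)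
    (hc : c ∈ Subgroup.centralizer ((R : Subgroup G) : Set G)) (hc1 : c ≠ 1) (s : ℕ)
    (hs : orderOf c = 2 ^ s) : fixS 5 c = {R} := by
  have hs0 : s ≠ 0 := by
    rintro rfl
    rw [pow_zero, orderOf_eq_one_iff] at hs
    exact hc1 hs
  obtain ⟨r, rfl⟩ : ∃ r, s = r + 1 := ⟨s - 1, by omega⟩
  set t := c ^ (2 ^ r) with ht
  have ht2 : t ^ 2 = 1 := by
    rw [ht, ← pow_mul, ← pow_succ, ← hs, pow_orderOf_eq_one]
  have ht1 : t ≠ 1 := by
    intro h
    have hdvd := orderOf_dvd_of_pow_eq_one h
    rw [hs] at hdvd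
    have := Nat.le_of_dvd (pow_pos (by norm_num) r) hdvd
    have : 2 ^ r < 2 ^ (r + 1) := Nat.pow_lt_pow_right (by norm_num) (by omega)
    omega
  have htC : t ∈ Subgroup.centralizer ((R : Subgroup G) : Set G) := pow_mem hc _
  have hsub : fixS 5 c ⊆ {R} := by
    rw [← fixS_involution h21 R t htC ht2 ht1]
    exact fixS_subset_fixS_pow c _
  have hmem : R ∈ fixS 5 c := self_mem_fixS R c (Subgroup.centralizer_le_normalizer _ hc)
  exact Finset.Subset.antisymm hsub (Finset.singleton_subset_iff.mpr hmem)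

/-- the normalizer normalizes the centralizer -/
theorem conj_mem_centralizer (H : Subgroup G) (n c : G)
    (hn : n ∈ Subgroup.normalizer (H : Set G)) (hc : c ∈ Subgroup.centralizer (H : Set G)) :
    n * c * n⁻¹ ∈ Subgroup.centralizer (H : Set G) := by
  intro x hx
  have hx' : n⁻¹ * x * n ∈ H := by
    have := (Subgroup.mem_normalizer_iff.mp (inv_mem hn) x).mp hx
    simpa using this
  have h1 := hc _ hx'
  calc x * (n * c * n⁻¹) = n * ((n⁻¹ * x * n) * c) * n⁻¹ := by group
    _ = n * (c * (n⁻¹ * x * n)) * n⁻¹ := by rw [h1]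
    _ = n * c * n⁻¹ * x := by group

/-- `[N : C]` is `2` or `4` -/
theorem relIndex_eq (h21 : Nat.card (Sylow 5 G) = 21)
    (hcard : ∀ R : Sylow 5 G, Nat.card (R : Subgroup G) = 5) (P : Sylow 5 G) :
    (Subgroup.centralizer ((P : Subgroup G) : Set G)).relIndex
      (Subgroup.normalizer ((P : Subgroup G) : Set G)) = 2 ∨
    (Subgroup.centralizer ((P : Subgroup G) : Set G)).relIndex
      (Subgroup.normalizer ((P : Subgroup G) : Set G)) = 4 := by
  have h1 := (Cfsg.Agent.Helper17.relIndex_dvd_of_card_sylow_prime P (hcard P)).1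
  have h2 : ¬ (Subgroup.normalizer ((P : Subgroup G) : Set G) ≤
      Subgroup.centralizer ((P : Subgroup G) : Set G)) := by
    apply Cfsg.Agent.Helper17.not_normalizer_le_centralizer_of_simple P
    · rw [hcard P]; norm_num
    · rw [hcard P]; have := card_ge h21; omega
  have h3 : (Subgroup.centralizer ((P : Subgroup G) : Set G)).relIndex
      (Subgroup.normalizer ((P : Subgroup G) : Set G)) ≠ 1 := by
    intro h
    exact h2 (Subgroup.relIndex_eq_one.mp h)
  have h4 : (Subgroup.centralizer ((P : Subgroup G) : Set G)).relIndex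
      (Subgroup.normalizer ((P : Subgroup G) : Set G)) ∣ 4 := h1
  have h5 := Nat.le_of_dvd (by norm_num) h4
  interval_cases h : (Subgroup.centralizer ((P : Subgroup G) : Set G)).relIndex
      (Subgroup.normalizer ((P : Subgroup G) : Set G)) <;> simp_all

/-- Case (I): the centralizer of a Sylow 5-subgroup has odd order. -/
theorem caseI (h21 : Nat.card (Sylow 5 G) = 21)
    (hcard : ∀ R : Sylow 5 G, Nat.card (R : Subgroup G) = 5) (P : Sylow 5 G)
    (hodd : ¬ 2 ∣ Nat.card (Subgroup.centralizer ((P : Subgroup G) : Set G))) : False := by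
  set C := Subgroup.centralizer ((P : Subgroup G) : Set G) with hC
  set N := Subgroup.normalizer ((P : Subgroup G) : Set G) with hN
  have hCN : C ≤ N := Subgroup.centralizer_le_normalizer _
  obtain ⟨j, hj0, hj⟩ : ∃ j : ℕ, 0 < j ∧ C.relIndex N = 2 ^ j := by
    rcases relIndex_eq h21 hcard P with h | h
    · exact ⟨1, by norm_num, by rw [← hC, ← hN] at h; rw [h]; norm_num⟩
    · exact ⟨2, by norm_num, by rw [← hC, ← hN] at h; rw [h]; norm_num⟩
  have hNcard : Nat.card N = 2 ^ j * Nat.card C := by
    have := Cfsg.Agent.Helper17.card_centralizer_mul_relIndex (P : Subgroup G)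
    rw [← hC, ← hN, hj] at this
    rw [← this, mul_comm]
  have hGcard : Nat.card G = 2 ^ j * (Nat.card C * 21) := by
    have := card_normalizer_mul h21 P
    rw [← hN, hNcard] at this
    rw [← this]; ring
  have hodd' : ¬ 2 ∣ Nat.card C * 21 := by
    intro h
    rcases (Nat.Prime.dvd_mul Nat.prime_two).mp h with h | h
    · exact hodd h
    · omega
  haveI : Fact (Nat.Prime 2) := ⟨Nat.prime_two⟩
  obtain ⟨T₀⟩ : Nonempty (Sylow 2 N) := inferInstance
  have hT₀card : Nat.card (T₀ : Subgroup N) = 2 ^ j := by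
    rw [T₀.card_eq_multiplicity, hNcard, factorization_two_pow_mul j _ hodd]
  let φ := (P : Subgroup G).normalizerMonoidHom
  let ψ : (T₀ : Subgroup N) →* MulAut (P : Subgroup G) := φ.comp (T₀ : Subgroup N).subtype
  have hψ : Function.Injective ψ := by
    rw [← MonoidHom.ker_eq_bot_iff, Subgroup.eq_bot_iff_forall]
    intro x hx
    rw [MonoidHom.mem_ker, MonoidHom.comp_apply] at hx
    have hx' : ((T₀ : Subgroup N).subtype x) ∈ φ.ker := hx
    rw [Subgroup.normalizerMonoidHom_ker] at hx'
    have hcop : (T₀ : Subgroup N) ⊓ C.subgroupOf N = ⊥ := by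
      apply Disjoint.eq_bot
      apply Subgroup.disjoint_of_coprime_natCard
      rw [hT₀card, Nat.card_congr (Subgroup.subgroupOfEquivOfLe hCN).toEquiv]
      apply Nat.Coprime.pow_left j
      rw [Nat.coprime_two_left]
      exact Nat.odd_iff.mpr (by omega)
    have : (x : N) ∈ (T₀ : Subgroup N) ⊓ C.subgroupOf N := ⟨x.2, hx'⟩
    rw [hcop, Subgroup.mem_bot] at this
    exact Subtype.ext this
  haveI : IsCyclic (MulAut (P : Subgroup G)) := isCyclic_mulAut_of_prime_card hp.out (hcard P)
  haveI hT₀cyc : IsCyclic (T₀ : Subgroup N) := isCyclic_of_injective ψ hψ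
  set T : Subgroup G := (T₀ : Subgroup N).map N.subtype with hT
  have hTcard : Nat.card T = 2 ^ j := by rw [hT, Subgroup.card_subtype, hT₀card]
  have hTcyc : IsCyclic T := by
    let e := Subgroup.equivMapOfInjective (T₀ : Subgroup N) N.subtype N.subtype_injective
    exact isCyclic_of_surjective e.toMonoidHom e.surjective
  have hfac : (Nat.card G).factorization 2 = j := by
    rw [hGcard, factorization_two_pow_mul j _ hodd']
  let T' : Sylow 2 G := Sylow.ofCard T (by rw [hTcard, hfac])
  have hmin : (Nat.card G).minFac = 2 := by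
    rw [Nat.minFac_eq_two_iff, hGcard]
    exact Dvd.dvd.mul_right (dvd_pow_self 2 hj0.ne') _
  have hT'cyc : IsCyclic T' := hTcyc
  have hcomp := IsCyclic.isComplement' hmin hT'cyc
  have hT'card : Nat.card (T' : Subgroup G) = 2 ^ j := hTcard
  refine false_of_isComplement' _ _ (MonoidHom.normal_ker _) hcomp ?_ ?_
  · rw [hT'card]
    exact (Nat.one_lt_pow hj0.ne' (by norm_num)).ne'
  · rw [hT'card, hGcard]
    have h1 : 0 < 2 ^ j := pow_pos (by norm_num) j
    have h2 : 0 < Nat.card C := Nat.card_pos
    nlinarith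

/-- a `2`-subgroup containing a nontrivial `2`-element of `C(P)` lies in `N(P)` -/
theorem le_normalizer_of_mem (h21 : Nat.card (Sylow 5 G) = 21) (P : Sylow 5 G) (t : G)
    (ht : t ∈ Subgroup.centralizer ((P : Subgroup G) : Set G)) (ht1 : t ≠ 1) (s : ℕ)
    (hs : orderOf t = 2 ^ s) (T : Subgroup G) (hT : IsPGroup 2 T) (htT : t ∈ T) :
    T ≤ Subgroup.normalizer ((P : Subgroup G) : Set G) := by
  haveI : Fact (Nat.Prime 2) := ⟨Nat.prime_two⟩
  have hfix := fixS_two_element h21 P t ht ht1 s hs
  have hne : (MulAction.fixedPoints T (Sylow 5 G)).Nonempty := by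
    apply hT.nonempty_fixed_point_of_prime_not_dvd_card
    rw [h21]; norm_num
  obtain ⟨R, hR⟩ := hne
  have hRt : t • R = R := hR ⟨t, htT⟩
  have hRP : R = P := by
    have : R ∈ fixS 5 t := mem_fixS.mpr hRt
    rw [hfix, Finset.mem_singleton] at this
    exact this
  intro g hg
  apply Sylow.smul_eq_iff_mem_normalizer.mp
  rw [← hRP]
  exact hR ⟨g, hg⟩

/-- Case (II): the centralizer of a Sylow 5-subgroup has order `2 * odd`. -/
theorem caseII (h21 : Nat.card (Sylow 5 G) = 21)
    (hcard : ∀ R : Sylow 5 G, Nat.card (R : Subgroup G) = 5) (P : Sylow 5 G)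
    (hv : (Nat.card (Subgroup.centralizer ((P : Subgroup G) : Set G))).factorization 2 = 1) :
    False := by
  set C := Subgroup.centralizer ((P : Subgroup G) : Set G) with hC
  set N := Subgroup.normalizer ((P : Subgroup G) : Set G) with hN
  have hCN : C ≤ N := Subgroup.centralizer_le_normalizer _
  haveI : Fact (Nat.Prime 2) := ⟨Nat.prime_two⟩
  have h2C : 2 ∣ Nat.card C := by
    apply Nat.dvd_of_factorization_pos
    rw [hv]; norm_num
  obtain ⟨t₀, ht₀⟩ := exists_prime_orderOf_dvd_card' (G := C) 2 h2C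
  set t : G := (t₀ : G) with ht
  have htC : t ∈ C := t₀.2
  have hord : orderOf t = 2 := by rw [ht, Subgroup.orderOf_coe]; exact ht₀
  have ht2 : t ^ 2 = 1 := by rw [← hord]; exact pow_orderOf_eq_one t
  have ht1 : t ≠ 1 := by
    intro h
    rw [h, orderOf_one] at hord
    omega
  have hfix : fixS 5 t = {P} := fixS_involution h21 P t htC ht2 ht1
  -- a Sylow 2-subgroup containing t
  have hZ : IsPGroup 2 (Subgroup.zpowers t) := by
    apply IsPGroup.of_card (n := 1)
    rw [Nat.card_zpowers, hord, pow_one]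
  obtain ⟨T, hT⟩ := hZ.exists_le_sylow
  have htT : t ∈ (T : Subgroup G) := hT (Subgroup.mem_zpowers t)
  have hTN : (T : Subgroup G) ≤ N :=
    le_normalizer_of_mem h21 P t htC ht1 1 (by rw [hord, pow_one]) T T.isPGroup' htT
  -- D = T ⊓ C = {1, t}
  have hD : ∀ d ∈ (T : Subgroup G) ⊓ C, d = 1 ∨ d = t := by
    set D : Subgroup G := (T : Subgroup G) ⊓ C with hDdef
    have hDp : IsPGroup 2 D := T.isPGroup'.to_le inf_le_left
    obtain ⟨k, hk⟩ := IsPGroup.iff_card.mp hDp
    have hdvd : 2 ^ k ∣ Nat.card C := by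
      rw [← hk]; exact Subgroup.card_dvd_of_le inf_le_right
    have hk1 : k ≤ 1 := by
      rw [← hv]
      exact (Nat.Prime.pow_dvd_iff_le_factorization Nat.prime_two Nat.card_pos.ne').mp hdvd
    have hZD : Subgroup.zpowers t ≤ D := by
      rw [Subgroup.zpowers_le]
      exact ⟨htT, htC⟩
    have hZcard : Nat.card (Subgroup.zpowers t) = 2 := by rw [Nat.card_zpowers, hord]
    have hDcard : Nat.card D ≤ 2 := by
      rw [hk]
      calc 2 ^ k ≤ 2 ^ 1 := Nat.pow_le_pow_right (by norm_num) hk1
        _ = 2 := by norm_num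
    have hEq : Subgroup.zpowers t = D :=
      Subgroup.eq_of_le_of_card_ge hZD (by rw [hZcard]; exact hDcard)
    intro d hd
    rw [← hEq] at hd
    obtain ⟨i, rfl⟩ := Subgroup.mem_zpowers_iff.mp hd
    rcases Int.emod_two_eq_zero_or_one i with h | h
    · left
      have : i = 2 * (i / 2) := by omega
      rw [this, zpow_mul, zpow_ofNat, ht2, one_zpow]
    · right
      have : i = 2 * (i / 2) + 1 := by omega
      rw [this, zpow_add, zpow_mul, zpow_ofNat, ht2, one_zpow, one_mul, zpow_one]
  -- conjugates of t under N ∩ N(T) stay equal to t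
  have hconj : ∀ n : G, n ∈ N → n * t * n⁻¹ ∈ (T : Subgroup G) → n * t * n⁻¹ = t := by
    intro n hn hnT
    have hmem : n * t * n⁻¹ ∈ (T : Subgroup G) ⊓ C :=
      ⟨hnT, conj_mem_centralizer (P : Subgroup G) n t hn htC⟩
    rcases hD _ hmem with h | h
    · exfalso
      apply ht1
      have : t = n⁻¹ * (n * t * n⁻¹) * n := by group
      rw [this, h]; group
    · exact h
  -- T is abelian
  have hTcomm : IsMulCommutative (T : Subgroup G) := by
    let φ := (P : Subgroup G).normalizerMonoidHom
    let f : (T : Subgroup G) →* MulAut (P : Subgroup G) := φ.comp (Subgroup.inclusion hTN)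
    haveI : IsCyclic (MulAut (P : Subgroup G)) := isCyclic_mulAut_of_prime_card hp.out (hcard P)
    have hker : f.ker ≤ Subgroup.center (T : Subgroup G) := by
      intro x hx
      rw [MonoidHom.mem_ker, MonoidHom.comp_apply] at hx
      have hx' : (Subgroup.inclusion hTN x) ∈ φ.ker := hx
      rw [Subgroup.normalizerMonoidHom_ker, Subgroup.mem_subgroupOf] at hx'
      have hxC : (x : G) ∈ C := hx'
      rw [Subgroup.mem_center_iff]
      intro a
      apply Subtype.ext
      show (a : G) * (x : G) = (x : G) * (a : G)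
      rcases hD (x : G) ⟨x.2, hxC⟩ with h | h
      · rw [h]; simp
      · rw [h]
        have := hconj (a : G) (hTN a.2) (mul_mem (mul_mem a.2 htT) (inv_mem a.2))
        calc (a : G) * t = ((a : G) * t * (a : G)⁻¹) * a := by group
          _ = t * a := by rw [this]
    exact f.isMulCommutative_of_isCyclic_of_ker_le_center hker
  -- t is fixed by the normalizer of T
  have hfixN : ∀ n ∈ Subgroup.normalizer (((T : Subgroup G)) : Set G), n⁻¹ * t * n = t := by
    intro n hn
    have hn' : n⁻¹ ∈ Subgroup.normalizer (((T : Subgroup G)) : Set G) := inv_mem hn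
    have huT : n⁻¹ * t * n ∈ (T : Subgroup G) := by
      have := (Subgroup.mem_normalizer_iff.mp hn' t).mp htT
      simpa using this
    have huN : n⁻¹ * t * n ∈ N := hTN huT
    -- n fixes P
    have hnP : n • P = P := by
      have h1 : (n⁻¹ * t * n) • P = P := Sylow.smul_eq_iff_mem_normalizer.mpr huN
      have h2 : t • (n • P) = n • P := by
        rw [mul_smul, mul_smul] at h1
        have := congrArg (fun R => n • R) h1
        simpa using this
      have h3 : n • P ∈ fixS 5 t := mem_fixS.mpr h2
      rw [hfix, Finset.mem_singleton] at h3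
      exact h3
    have hnN : n⁻¹ ∈ N := inv_mem (Sylow.smul_eq_iff_mem_normalizer.mp hnP)
    have := hconj n⁻¹ hnN (by simpa using huT)
    simpa using this
  have := Cfsg.Agent.Helper21.eq_one_of_normalizer_fixed (no_index_two h21) T t htT hfixN
  exact ht1 this

end twentyone

end Cfsg.Agent.Helper12.Syl21
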