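import Mathlib
import Cfsg.Agent.Helper12.Syl21b

/-!
# Groups with 21 Sylow 5-subgroups, part c: `2`-subgroups of the centralizer act freely
-/

set_option autoImplicit false
set_option linter.unusedSectionVars false
set_option linter.style.haveILetI false

open scoped Classical Pointwise

namespace Cfsg.Agent.Helper12.Syl21

open Cfsg.Agent.Helper70.Syl Cfsg.Agent.Helper70.PCount

section twentyone
variable {G : Type*} [Group G] [Finite G] [IsSimpleGroup G] [hp : Fact (Nat.Prime 5)]

/-- a `2`-element of `C(P)` fixing another Sylow subgroup is trivial -/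
theorem eq_one_of_two_element (h21 : Nat.card (Sylow 5 G) = 21) (P R : Sylow 5 G) (hRP : R ≠ P)
    (u : G) (hu : u ∈ Subgroup.centralizer ((P : Subgroup G) : Set G)) (s : ℕ)
    (hs : u ^ 2 ^ s = 1) (hfix : u • R = R) : u = 1 := by
  by_contra hu1
  obtain ⟨k, -, hk⟩ := (Nat.dvd_prime_pow Nat.prime_two).mp (orderOf_dvd_of_pow_eq_one hs)
  have := fixS_two_element h21 P u hu hu1 k hk
  have hmem : R ∈ fixS 5 u := mem_fixS.mpr hfix
  rw [this, Finset.mem_singleton] at hmem
  exact hRP hmem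

theorem card_ne (h21 : Nat.card (Sylow 5 G) = 21) (P : Sylow 5 G) :
    Nat.card {R : Sylow 5 G // R ≠ P} = 20 := by
  letI : Fintype (Sylow 5 G) := Fintype.ofFinite _
  rw [Nat.card_eq_fintype_card, Fintype.card_subtype, Finset.filter_ne',
    Finset.card_erase_of_mem (Finset.mem_univ P), Finset.card_univ, ← Nat.card_eq_fintype_card, h21]

/-- `P × S` acts freely on the other Sylow subgroups, for a `2`-subgroup `S` of `C(P)` -/
theorem injective_smul (h21 : Nat.card (Sylow 5 G) = 21)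
    (hcard : ∀ R : Sylow 5 G, Nat.card (R : Subgroup G) = 5) (P R : Sylow 5 G) (hRP : R ≠ P)
    (S : Subgroup G) (hS : IsPGroup 2 S)
    (hSC : S ≤ Subgroup.centralizer ((P : Subgroup G) : Set G)) :
    Function.Injective (fun xs : (↥(P : Subgroup G)) × (↥S) => ((xs.1 : G) * (xs.2 : G)) • R) := by
  rintro ⟨x, s⟩ ⟨x', s'⟩ h
  simp only at h
  obtain ⟨k, hk⟩ := IsPGroup.iff_card.mp hS
  -- y = x⁻¹ x', u = s⁻¹ s'
  set y : G := (x : G)⁻¹ * x' with hy
  set u : G := (s : G)⁻¹ * s' with hu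
  have hyP : y ∈ (P : Subgroup G) := mul_mem (inv_mem x.2) x'.2
  have huS : u ∈ S := mul_mem (inv_mem s.2) s'.2
  have huC : u ∈ Subgroup.centralizer ((P : Subgroup G) : Set G) := hSC huS
  have hcomm : y * u = u * y := huC y hyP
  have hsx : (s : G)⁻¹ * (x : G)⁻¹ = (x : G)⁻¹ * (s : G)⁻¹ := by
    have := hSC s.2 (x : G) x.2
    -- x * s = s * x
    calc (s : G)⁻¹ * (x : G)⁻¹ = ((x : G) * s)⁻¹ := by group
      _ = ((s : G) * x)⁻¹ := by rw [this]
      _ = _ := by group
  have hfix : (y * u) • R = R := by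
    have h1 : (y * u) = ((x : G) * s)⁻¹ * ((x' : G) * s') := by
      rw [hy, hu]
      have hsx' : (s : G)⁻¹ * x' = x' * (s : G)⁻¹ := by
        have := hSC (inv_mem s.2) (x' : G) x'.2
        exact this.symm
      calc (x : G)⁻¹ * x' * ((s : G)⁻¹ * s') = (x : G)⁻¹ * (x' * (s : G)⁻¹) * s' := by group
        _ = (x : G)⁻¹ * ((s : G)⁻¹ * x') * s' := by rw [hsx']
        _ = ((s : G)⁻¹ * (x : G)⁻¹) * x' * s' := by rw [hsx]; group
        _ = _ := by group
    rw [h1, mul_smul, ← h, inv_smul_smul]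
  have huk : u ^ 2 ^ k = 1 := by
    have : (⟨u, huS⟩ : S) ^ Nat.card S = 1 := pow_card_eq_one'
    rw [hk] at this
    exact congrArg Subtype.val this
  -- y ^ (2^k) fixes R
  have hyk : (y ^ 2 ^ k) • R = R := by
    have : (y * u) ^ 2 ^ k = y ^ 2 ^ k := by
      rw [(Commute.mul_pow hcomm (2 ^ k)), huk, mul_one]
    rw [← this]
    exact smul_pow_eq' _ R hfix _
  have hy5 : y ^ 5 = 1 := by
    have : (⟨y, hyP⟩ : (P : Subgroup G)) ^ Nat.card (P : Subgroup G) = 1 := pow_card_eq_one'
    rw [hcard P] at this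
    exact congrArg Subtype.val this
  have hyk1 : y ^ 2 ^ k = 1 := by
    by_contra hne
    exact hRP (eq_of_smul_eq_of_mem hcard P R (y ^ 2 ^ k) (pow_mem hyP _) hne hyk)
  have hy1 : y = 1 := by
    have hd1 := orderOf_dvd_of_pow_eq_one hy5
    have hd2 := orderOf_dvd_of_pow_eq_one hyk1
    have hcop : Nat.Coprime 5 (2 ^ k) := Nat.Coprime.pow_right k (by norm_num)
    have := Nat.dvd_gcd hd1 hd2
    rw [hcop.gcd_eq_one, Nat.dvd_one] at this
    exact orderOf_eq_one_iff.mp this
  have hu1 : u = 1 := by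
    rw [hy1, one_mul] at hfix
    exact eq_one_of_two_element h21 P R hRP u huC k huk hfix
  have hxx : (x : G) = x' := by
    have : (x : G)⁻¹ * x' = 1 := hy1
    exact inv_mul_eq_one.mp this
  have hss : (s : G) = s' := by
    have : (s : G)⁻¹ * s' = 1 := hu1
    exact inv_mul_eq_one.mp this
  exact Prod.ext (Subtype.ext hxx) (Subtype.ext hss)

theorem smul_ne (P R : Sylow 5 G) (hRP : R ≠ P) (n : G)
    (hn : n ∈ Subgroup.normalizer ((P : Subgroup G) : Set G)) : n • R ≠ P := by
  intro h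
  apply hRP
  have h1 : n • P = P := Sylow.smul_eq_iff_mem_normalizer.mpr hn
  have : n • R = n • P := by rw [h, h1]
  exact smul_left_cancel n this

/-- a `2`-subgroup of `C(P)` has order at most `4` -/
theorem card_le_four (h21 : Nat.card (Sylow 5 G) = 21)
    (hcard : ∀ R : Sylow 5 G, Nat.card (R : Subgroup G) = 5) (P : Sylow 5 G)
    (S : Subgroup G) (hS : IsPGroup 2 S)
    (hSC : S ≤ Subgroup.centralizer ((P : Subgroup G) : Set G)) : Nat.card S ≤ 4 := by
  have hn1 : Nontrivial (Sylow 5 G) := Finite.one_lt_card_iff_nontrivial.mp (by rw [h21]; norm_num)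
  obtain ⟨R, hRP⟩ := exists_ne P
  have hinj := injective_smul h21 hcard P R hRP S hS hSC
  let f : (↥(P : Subgroup G)) × (↥S) → {R' : Sylow 5 G // R' ≠ P} := fun xs =>
    ⟨((xs.1 : G) * (xs.2 : G)) • R, smul_ne P R hRP _
      (mul_mem (Subgroup.le_normalizer xs.1.2) (Subgroup.centralizer_le_normalizer _ (hSC xs.2.2)))⟩
  have hf : Function.Injective f := by
    intro a b hab
    apply hinj
    exact congrArg Subtype.val hab
  have := Nat.card_le_card_of_injective f hf
  rw [Nat.card_prod, hcard P, card_ne h21 P] at this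
  omega

/-- if `C(P)` contains a subgroup of order `4`, it is transitive on the other Sylow subgroups -/
theorem exists_smul_eq_of_card_four (h21 : Nat.card (Sylow 5 G) = 21)
    (hcard : ∀ R : Sylow 5 G, Nat.card (R : Subgroup G) = 5) (P : Sylow 5 G)
    (S : Subgroup G) (hS4 : Nat.card S = 4)
    (hSC : S ≤ Subgroup.centralizer ((P : Subgroup G) : Set G))
    (R R' : Sylow 5 G) (hRP : R ≠ P) (hR'P : R' ≠ P) :
    ∃ c ∈ Subgroup.centralizer ((P : Subgroup G) : Set G), c • R = R' := by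
  haveI : Fact (Nat.Prime 2) := ⟨Nat.prime_two⟩
  have hS : IsPGroup 2 S := IsPGroup.of_card (n := 2) (by rw [hS4]; norm_num)
  have hinj := injective_smul h21 hcard P R hRP S hS hSC
  let f : (↥(P : Subgroup G)) × (↥S) → {R' : Sylow 5 G // R' ≠ P} := fun xs =>
    ⟨((xs.1 : G) * (xs.2 : G)) • R, smul_ne P R hRP _
      (mul_mem (Subgroup.le_normalizer xs.1.2) (Subgroup.centralizer_le_normalizer _ (hSC xs.2.2)))⟩
  have hf : Function.Injective f := by
    intro a b hab
    apply hinj
    exact congrArg Subtype.val hab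
  have hcardeq : Nat.card ((↥(P : Subgroup G)) × (↥S)) = Nat.card {R' : Sylow 5 G // R' ≠ P} := by
    rw [Nat.card_prod, hcard P, hS4, card_ne h21 P]
  have hbij : Function.Bijective f :=
    (Nat.bijective_iff_injective_and_card f).mpr ⟨hf, hcardeq⟩
  obtain ⟨⟨x, s⟩, hxs⟩ := hbij.2 ⟨R', hR'P⟩
  refine ⟨(x : G) * (s : G), ?_, congrArg Subtype.val hxs⟩
  apply mul_mem _ (hSC s.2)
  -- P is abelian, so P ≤ C(P)
  haveI : Fact (Nat.card (P : Subgroup G)).Prime := ⟨by rw [hcard P]; exact hp.out⟩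
  haveI hcyc : IsCyclic (P : Subgroup G) := isCyclic_of_prime_card (p := Nat.card (P : Subgroup G)) rfl
  intro a ha
  have := hcyc.isMulCommutative.is_comm.comm ⟨a, ha⟩ x
  exact congrArg Subtype.val this

end twentyone

end Cfsg.Agent.Helper12.Syl21
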