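import Mathlib
import Cfsg.Agent.Helper12.Syl21c

/-!
# Groups with 21 Sylow 5-subgroups, part d: involutions inverting a Sylow subgroup
-/

set_option autoImplicit false
set_option linter.unusedSectionVars false
set_option linter.style.haveILetI false

open scoped Classical Pointwise

namespace Cfsg.Agent.Helper12.Syl21

open Cfsg.Agent.Helper70.Syl Cfsg.Agent.Helper70.PCount

section dihedral

variable {H : Type*} [Group H]

theorem mul_pow_eq_of_mul_eq {a w : H} (ha : a * w = w⁻¹ * a) (k : ℕ) :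
    a * w ^ k = (w ^ k)⁻¹ * a := by
  induction k with
  | zero => simp
  | succ k ih =>
    calc a * w ^ (k + 1) = a * (w * w ^ k) := by rw [pow_succ']
      _ = (a * w) * w ^ k := by rw [mul_assoc]
      _ = w⁻¹ * (a * w ^ k) := by rw [ha, mul_assoc]
      _ = w⁻¹ * ((w ^ k)⁻¹ * a) := by rw [ih]
      _ = (w ^ k * w)⁻¹ * a := by rw [mul_inv_rev, mul_assoc]
      _ = (w ^ (k + 1))⁻¹ * a := by rw [← pow_succ]

/-- two involutions whose product has finite order are conjugate by a power of the product, or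
there is an involution in the group they generate commuting with both -/
theorem involutions_conj_or_central (j j' : H) (hj : j ^ 2 = 1) (hj' : j' ^ 2 = 1)
    (hfin : IsOfFinOrder (j * j')) :
    (∃ k : ℕ, (j * j') ^ k * j' * ((j * j') ^ k)⁻¹ = j) ∨
    (∃ k : ℕ, ((j * j') ^ k) ^ 2 = 1 ∧ (j * j') ^ k ≠ 1 ∧
      (j * j') ^ k * j = j * (j * j') ^ k ∧ (j * j') ^ k * j' = j' * (j * j') ^ k) := by
  set w := j * j' with hw
  have hjinv : j⁻¹ = j := by
    rw [inv_eq_iff_mul_eq_one, ← pow_two, hj]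
  have hj'inv : j'⁻¹ = j' := by
    rw [inv_eq_iff_mul_eq_one, ← pow_two, hj']
  have hwinv : w⁻¹ = j' * j := by rw [hw, mul_inv_rev, hjinv, hj'inv]
  -- j w j⁻¹ = w⁻¹ and j' w j'⁻¹ = w⁻¹
  have hjw : j * w = w⁻¹ * j := by
    rw [hwinv, hw]
    have : j * j = 1 := by rw [← pow_two, hj]
    calc j * (j * j') = (j * j) * j' := by group
      _ = j' := by rw [this, one_mul]
      _ = j' * (j * j) := by rw [this, mul_one]
      _ = j' * j * j := by group
  have hj'w : j' * w = w⁻¹ * j' := by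
    rw [hwinv, hw, mul_assoc]
  have hgen := fun a : H => mul_pow_eq_of_mul_eq (a := a) (w := w)
  have hjwk : ∀ k : ℕ, j * w ^ k = (w ^ k)⁻¹ * j := hgen j hjw
  have hj'wk : ∀ k : ℕ, j' * w ^ k = (w ^ k)⁻¹ * j' := hgen j' hj'w
  set m := orderOf w with hm
  have hmpos : 0 < m := hfin.orderOf_pos
  rcases Nat.even_or_odd m with ⟨k, hk⟩ | ⟨k, hk⟩
  · -- even order: w ^ k is a central involution
    right
    refine ⟨k, ?_, ?_, ?_, ?_⟩
    · rw [← pow_mul, show k * 2 = m by omega, hm, pow_orderOf_eq_one]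
    · intro h
      have := orderOf_dvd_of_pow_eq_one h
      have := Nat.le_of_dvd (by omega) this
      omega
    · have hz2 : (w ^ k) ^ 2 = 1 := by
        rw [← pow_mul, show k * 2 = m by omega, hm, pow_orderOf_eq_one]
      have hzinv : (w ^ k)⁻¹ = w ^ k := by
        rw [inv_eq_iff_mul_eq_one, ← pow_two, hz2]
      rw [hjwk k, hzinv]
    · have hz2 : (w ^ k) ^ 2 = 1 := by
        rw [← pow_mul, show k * 2 = m by omega, hm, pow_orderOf_eq_one]
      have hzinv : (w ^ k)⁻¹ = w ^ k := by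
        rw [inv_eq_iff_mul_eq_one, ← pow_two, hz2]
      rw [hj'wk k, hzinv]
  · -- odd order: conjugate by w ^ (k + 1)
    left
    refine ⟨k + 1, ?_⟩
    have hwm : w ^ (2 * k + 1) = 1 := by rw [← hk, hm, pow_orderOf_eq_one]
    -- w^(k+1) j' w^-(k+1) = w^(k+1) w^(k+1) j' = w^(2k+2) j' = w j' = j
    have h1 : j' * (w ^ (k + 1))⁻¹ = w ^ (k + 1) * j' := by
      have := hj'wk (k + 1)
      -- j' w^(k+1) = (w^(k+1))⁻¹ j'  ⇒  j' (w^(k+1))⁻¹ = w^(k+1) j'
      calc j' * (w ^ (k + 1))⁻¹ = (w ^ (k + 1)) * ((w ^ (k + 1))⁻¹ * j') * (w ^ (k + 1))⁻¹ := by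
            group
        _ = (w ^ (k + 1)) * (j' * w ^ (k + 1)) * (w ^ (k + 1))⁻¹ := by rw [this]
        _ = _ := by group
    calc w ^ (k + 1) * j' * (w ^ (k + 1))⁻¹ = w ^ (k + 1) * (j' * (w ^ (k + 1))⁻¹) := by group
      _ = w ^ (k + 1) * (w ^ (k + 1) * j') := by rw [h1]
      _ = w ^ (2 * k + 1) * w * j' := by
          rw [← mul_assoc, ← pow_add, ← pow_succ]
          congr 2
          omega
      _ = w * j' := by rw [hwm, one_mul]
      _ = j := by
          rw [hw, mul_assoc, ← pow_two, hj', mul_one]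

end dihedral

section twentyone
variable {G : Type*} [Group G] [Finite G] [IsSimpleGroup G] [hp : Fact (Nat.Prime 5)]

/-- an involution of `N(P)` outside `C(P)` inverts `P` -/
theorem inverts (hcard : ∀ R : Sylow 5 G, Nat.card (R : Subgroup G) = 5) (P : Sylow 5 G) (j : G)
    (hjN : j ∈ Subgroup.normalizer ((P : Subgroup G) : Set G)) (hj2 : j ^ 2 = 1)
    (hjC : j ∉ Subgroup.centralizer ((P : Subgroup G) : Set G)) :
    ∀ x ∈ (P : Subgroup G), j * x * j⁻¹ = x⁻¹ := by
  haveI : Fact (Nat.card (P : Subgroup G)).Prime := ⟨by rw [hcard P]; exact hp.out⟩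
  haveI hcyc : IsCyclic (P : Subgroup G) :=
    isCyclic_of_prime_card (p := Nat.card (P : Subgroup G)) rfl
  obtain ⟨g₀, hg₀⟩ := IsCyclic.exists_generator (α := (P : Subgroup G))
  set g : G := (g₀ : G) with hg
  have hgP : g ∈ (P : Subgroup G) := g₀.2
  have hgen : ∀ x ∈ (P : Subgroup G), ∃ i : ℤ, g ^ i = x := by
    intro x hx
    obtain ⟨i, hi⟩ := Subgroup.mem_zpowers_iff.mp (hg₀ ⟨x, hx⟩)
    exact ⟨i, by rw [hg, ← Subgroup.coe_zpow, hi]⟩
  have hord : orderOf g = 5 := by
    rw [hg, Subgroup.orderOf_coe, orderOf_eq_card_of_forall_mem_zpowers hg₀, hcard P]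
  have hg5 : g ^ 5 = 1 := by rw [← hord, pow_orderOf_eq_one]
  -- j g j⁻¹ = g ^ c
  have hconj : j * g * j⁻¹ ∈ (P : Subgroup G) := (Subgroup.mem_normalizer_iff.mp hjN g).mp hgP
  obtain ⟨i, hi⟩ := hgen _ hconj
  obtain ⟨c, hc5, hc⟩ : ∃ c : ℕ, c < 5 ∧ j * g * j⁻¹ = g ^ c := by
    refine ⟨(i % 5).toNat, by omega, ?_⟩
    rw [← hi, ← zpow_natCast, Int.toNat_of_nonneg (by omega)]
    have : (5 : ℤ) = (orderOf g : ℤ) := by rw [hord]; rfl
    rw [this, zpow_mod_orderOf]
  have hjinv : j⁻¹ = j := by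
    rw [inv_eq_iff_mul_eq_one, ← pow_two, hj2]
  -- conjugating twice
  have h2 : g ^ (c * c) = g ^ 1 := by
    have h1 : j * (j * g * j⁻¹) * j⁻¹ = g := by
      have : j * j = 1 := by rw [← pow_two, hj2]
      calc j * (j * g * j⁻¹) * j⁻¹ = (j * j) * g * (j * j)⁻¹ := by group
        _ = g := by rw [this]; simp
    rw [hc] at h1
    have h3 : j * g ^ c * j⁻¹ = (j * g * j⁻¹) ^ c := by rw [conj_pow]
    rw [h3, hc, ← pow_mul] at h1
    rw [h1, pow_one]
  have hmod : c * c ≡ 1 [MOD 5] := by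
    rw [← hord]
    exact pow_eq_pow_iff_modEq.mp h2
  have hc14 : c = 1 ∨ c = 4 := by
    unfold Nat.ModEq at hmod
    interval_cases c <;> simp_all
  rcases hc14 with rfl | rfl
  · -- j centralizes g, hence P
    exfalso
    apply hjC
    intro x hx
    obtain ⟨i, rfl⟩ := hgen x hx
    have hcomm : j * g = g * j := by
      rw [pow_one] at hc
      calc j * g = (j * g * j⁻¹) * j := by group
        _ = g * j := by rw [hc]
    exact ((Commute.zpow_right (hcomm : Commute j g) i)).symm.eq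
  · intro x hx
    obtain ⟨i, rfl⟩ := hgen x hx
    have hginv : g ^ 4 = g⁻¹ := by
      rw [eq_inv_iff_mul_eq_one, ← pow_succ, hg5]
    rw [hginv] at hc
    have : j * g ^ i * j⁻¹ = (j * g * j⁻¹) ^ i := by rw [conj_zpow]
    rw [this, hc, inv_zpow]

/-- an involution inverting `P` and fixing another Sylow subgroup fixes exactly five of them -/
theorem card_fixS_eq_five (h21 : Nat.card (Sylow 5 G) = 21)
    (hcard : ∀ R : Sylow 5 G, Nat.card (R : Subgroup G) = 5) (P R : Sylow 5 G) (hRP : R ≠ P)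
    (j : G) (hj2 : j ^ 2 = 1) (hj1 : j ≠ 1)
    (hinv : ∀ x ∈ (P : Subgroup G), j * x * j⁻¹ = x⁻¹) (hjP : j • P = P) (hjR : j • R = R) :
    (fixS 5 j).card = 5 := by
  letI : Fintype (Sylow 5 G) := Fintype.ofFinite _
  letI : Fintype (P : Subgroup G) := Fintype.ofFinite _
  have hn1 : Nat.card (Sylow 5 G) ≠ 1 := by rw [h21]; norm_num
  have hG : 2 < Nat.card G := by have := card_ge h21; omega
  have h4 := four_dvd_of_involution (p := 5) hn1 hG j hj2 hj1
  rw [h21] at h4
  have hPmem : P ∈ fixS 5 j := mem_fixS.mpr hjP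
  have hRmem : R ∈ fixS 5 j := mem_fixS.mpr hjR
  have h2 : 2 ≤ (fixS 5 j).card := by
    have : 1 < (fixS 5 j).card := Finset.one_lt_card.mpr ⟨R, hRmem, P, hPmem, hRP⟩
    omega
  -- upper bound
  set F' := (fixS 5 j).erase P with hF'
  let O : Sylow 5 G → Finset (Sylow 5 G) := fun R' =>
    (Finset.univ : Finset (P : Subgroup G)).image (fun x : (P : Subgroup G) => (x : G) • R')
  have hOcard : ∀ R' ∈ F', (O R').card = 5 := by
    intro R' hR'
    have hR'P : R' ≠ P := (Finset.mem_erase.mp hR').1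
    rw [Finset.card_image_of_injective, Finset.card_univ, ← Nat.card_eq_fintype_card, hcard P]
    intro x y hxy
    simp only at hxy
    have h1 : ((x : G)⁻¹ * y) • R' = R' := by
      rw [mul_smul, ← hxy, inv_smul_smul]
    have h3 : (x : G)⁻¹ * y = 1 := by
      by_contra hne
      exact hR'P (eq_of_smul_eq_of_mem hcard P R' _ (mul_mem (inv_mem x.2) y.2) hne h1)
    exact Subtype.ext (inv_mul_eq_one.mp h3)
  have hdisj : (F' : Set (Sylow 5 G)).PairwiseDisjoint O := by
    intro R' hR' R'' hR'' hne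
    rw [Function.onFun, Finset.disjoint_left]
    intro Q hQ hQ'
    obtain ⟨x, -, rfl⟩ := Finset.mem_image.mp hQ
    obtain ⟨y, -, hy⟩ := Finset.mem_image.mp hQ'
    apply hne
    have hR'P : R' ≠ P := (Finset.mem_erase.mp (Finset.mem_coe.mp hR')).1
    have hjR' : j • R' = R' := mem_fixS.mp (Finset.mem_erase.mp (Finset.mem_coe.mp hR')).2
    have hjR'' : j • R'' = R'' := mem_fixS.mp (Finset.mem_erase.mp (Finset.mem_coe.mp hR'')).2
    -- R'' = z • R' with z = y⁻¹ x
    set z : G := (y : G)⁻¹ * x with hz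
    have hzP : z ∈ (P : Subgroup G) := mul_mem (inv_mem y.2) x.2
    have hzR : R'' = z • R' := by
      rw [hz, mul_smul, ← hy, inv_smul_smul]
    -- j z R' = z⁻¹ R'
    have h1 : j • z • R' = z⁻¹ • R' := by
      have : j * z = z⁻¹ * j := by
        calc j * z = (j * z * j⁻¹) * j := by group
          _ = z⁻¹ * j := by rw [hinv z hzP]
      rw [← mul_smul, this, mul_smul, hjR']
    have h3 : z⁻¹ • R' = z • R' := by
      rw [← h1, ← hzR, hjR'']
    have h5 : (z ^ 2) • R' = R' := by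
      rw [pow_two, mul_smul]
      have := congrArg (fun Q => z • Q) h3
      simp only [smul_inv_smul] at this
      exact this.symm
    have hz2 : z ^ 2 = 1 := by
      by_contra hne2
      exact hR'P (eq_of_smul_eq_of_mem hcard P R' _ (pow_mem hzP 2) hne2 h5)
    have hz5 : z ^ 5 = 1 := by
      have : (⟨z, hzP⟩ : (P : Subgroup G)) ^ Nat.card (P : Subgroup G) = 1 := pow_card_eq_one'
      rw [hcard P] at this
      exact congrArg Subtype.val this
    have hz1 : z = 1 := by
      calc z = z ^ 5 * ((z ^ 2) ^ 2)⁻¹ := by group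
        _ = 1 := by rw [hz5, hz2]; simp
    rw [hzR, hz1, one_smul]
  have hsub : F'.biUnion O ⊆ Finset.univ.erase P := by
    intro Q hQ
    obtain ⟨R', hR', hQR'⟩ := Finset.mem_biUnion.mp hQ
    obtain ⟨x, -, rfl⟩ := Finset.mem_image.mp hQR'
    have hR'P : R' ≠ P := (Finset.mem_erase.mp hR').1
    exact Finset.mem_erase.mpr ⟨smul_ne P R' hR'P _ (Subgroup.le_normalizer x.2), Finset.mem_univ _⟩
  have hcount : 5 * F'.card ≤ 20 := by
    have h1 := Finset.card_le_card hsub
    rw [Finset.card_biUnion hdisj, Finset.sum_congr rfl hOcard, Finset.sum_const, smul_eq_mul,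
      Finset.card_erase_of_mem (Finset.mem_univ P), Finset.card_univ, ← Nat.card_eq_fintype_card,
      h21] at h1
    omega
  have hF'card : F'.card = (fixS 5 j).card - 1 := Finset.card_erase_of_mem hPmem
  have h3 := card_fixS_le (p := 5) j
  rw [h21] at h3
  omega

end twentyone

end Cfsg.Agent.Helper12.Syl21
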