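import Mathlib
import Cfsg.Agent.Helper12.Syl21d

/-!
# Groups with 21 Sylow 5-subgroups, part e: the case `4 ∣ |C(P)|`
-/

set_option autoImplicit false
set_option linter.unusedSectionVars false
set_option linter.style.haveILetI false

open scoped Classical Pointwise

namespace Cfsg.Agent.Helper12.Syl21

open Cfsg.Agent.Helper70.Syl Cfsg.Agent.Helper70.PCount

section twentyone
variable {G : Type*} [Group G] [Finite G] [IsSimpleGroup G] [hp : Fact (Nat.Prime 5)]

/-- if `C(P)` is transitive on the other Sylow subgroups and `4 ∣ |C(P)|`, some involution of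
`N(P)` fixes a given `R ≠ P` -/
theorem exists_involution (h21 : Nat.card (Sylow 5 G) = 21)
    (hcard : ∀ R : Sylow 5 G, Nat.card (R : Subgroup G) = 5) (P : Sylow 5 G)
    (htrans : ∀ R R' : Sylow 5 G, R ≠ P → R' ≠ P →
      ∃ c ∈ Subgroup.centralizer ((P : Subgroup G) : Set G), c • R = R')
    (h4 : 4 ∣ Nat.card (Subgroup.centralizer ((P : Subgroup G) : Set G)))
    (R : Sylow 5 G) (hRP : R ≠ P) :
    ∃ j ∈ Subgroup.normalizer ((P : Subgroup G) : Set G), j ^ 2 = 1 ∧ j ≠ 1 ∧ j • R = R := by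
  set C := Subgroup.centralizer ((P : Subgroup G) : Set G) with hC
  set N := Subgroup.normalizer ((P : Subgroup G) : Set G) with hN
  have hCN : C ≤ N := Subgroup.centralizer_le_normalizer _
  -- orbit of R under N
  have horb : MulAction.orbit N R = {R' | R' ≠ P} := by
    ext R'
    constructor
    · rintro ⟨n, rfl⟩
      exact smul_ne P R hRP _ n.2
    · intro hR'
      obtain ⟨c, hc, hcR⟩ := htrans R R' hRP hR'
      exact ⟨⟨c, hCN hc⟩, hcR⟩
  have hidx : (MulAction.stabilizer N R).index = 20 := by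
    rw [MulAction.index_stabilizer, horb, ← card_ne h21 P]
    exact (Nat.card_coe_set_eq _).symm
  have hNcard : Nat.card (MulAction.stabilizer N R) * 20 = Nat.card N := by
    rw [← hidx]; exact Subgroup.card_mul_index _
  have h8 : 8 ∣ Nat.card N := by
    have := Cfsg.Agent.Helper17.card_centralizer_mul_relIndex (P : Subgroup G)
    rw [← hC, ← hN] at this
    obtain ⟨c, hc⟩ := h4
    rcases relIndex_eq h21 hcard P with h | h
    · rw [← hC, ← hN] at h
      rw [h, hc] at this
      exact ⟨c, by omega⟩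
    · rw [← hC, ← hN] at h
      rw [h, hc] at this
      exact ⟨2 * c, by omega⟩
  have h2 : 2 ∣ Nat.card (MulAction.stabilizer N R) := by
    omega
  haveI : Fact (Nat.Prime 2) := ⟨Nat.prime_two⟩
  obtain ⟨x, hx⟩ := exists_prime_orderOf_dvd_card' 2 h2
  have hx2 : x ^ 2 = 1 := by rw [← hx]; exact pow_orderOf_eq_one x
  refine ⟨((x : N) : G), (x : N).2, ?_, ?_, ?_⟩
  · have := congrArg (fun y : MulAction.stabilizer N R => ((y : N) : G)) hx2
    simpa using this
  · intro h
    have hx1 : x = 1 := by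
      apply Subtype.ext
      apply Subtype.ext
      simpa using h
    rw [hx1, orderOf_one] at hx
    omega
  · exact x.2

/-- Witt's argument: the centralizer of the involution `j` is transitive on the Sylow subgroups
fixed by `j` -/
theorem exists_commuting_smul (h21 : Nat.card (Sylow 5 G) = 21)
    (hcard : ∀ R : Sylow 5 G, Nat.card (R : Subgroup G) = 5) (P : Sylow 5 G)
    (htrans : ∀ R R' : Sylow 5 G, R ≠ P → R' ≠ P →
      ∃ c ∈ Subgroup.centralizer ((P : Subgroup G) : Set G), c • R = R')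
    (j : G) (hjN : j ∈ Subgroup.normalizer ((P : Subgroup G) : Set G)) (hj2 : j ^ 2 = 1)
    (hj1 : j ≠ 1) (R' : Sylow 5 G) (hR' : j • R' = R') :
    ∃ g : G, g * j = j * g ∧ g • P = R' := by
  by_cases hR'P : R' = P
  · exact ⟨1, by simp, by rw [one_smul, hR'P]⟩
  set C := Subgroup.centralizer ((P : Subgroup G) : Set G) with hC
  set N := Subgroup.normalizer ((P : Subgroup G) : Set G) with hN
  have hCN : C ≤ N := Subgroup.centralizer_le_normalizer _
  have hjP : j • P = P := Sylow.smul_eq_iff_mem_normalizer.mpr hjN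
  obtain ⟨a, ha⟩ := MulAction.exists_smul_eq G P R'
  have ha' : a⁻¹ • P ≠ P := by
    intro h
    apply hR'P
    rw [← ha]
    nth_rewrite 1 [← h]
    rw [smul_inv_smul]
  obtain ⟨b, hb, hbR⟩ := htrans R' (a⁻¹ • P) hR'P ha'
  have hbP : b • P = P := Sylow.smul_eq_iff_mem_normalizer.mpr (hCN hb)
  obtain ⟨g₀, hg₀⟩ : ∃ g₀ : G, g₀ = a * b := ⟨_, rfl⟩
  have hg₀P : g₀ • P = R' := by rw [hg₀, mul_smul, hbP, ha]
  have hg₀R : g₀ • R' = P := by rw [hg₀, mul_smul, hbR, smul_inv_smul]
  have hg₀iP : g₀⁻¹ • P = R' := by rw [← hg₀R, inv_smul_smul]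
  have hg₀iR : g₀⁻¹ • R' = P := by rw [← hg₀P, inv_smul_smul]
  obtain ⟨j', hj'⟩ : ∃ j' : G, j' = g₀ * j * g₀⁻¹ := ⟨_, rfl⟩
  have hj'2 : j' ^ 2 = 1 := by rw [hj', conj_pow, hj2]; group
  have hj'1 : j' ≠ 1 := by
    intro h
    apply hj1
    rw [hj'] at h
    exact conj_eq_one_iff.mp h
  have hj'P : j' • P = P := by rw [hj', mul_smul, mul_smul, hg₀iP, hR', hg₀R]
  have hj'R : j' • R' = R' := by rw [hj', mul_smul, mul_smul, hg₀iR, hjP, hg₀P]
  have hjC : j ∉ C := fun h =>
    hj1 (eq_one_of_two_element h21 P R' hR'P j h 1 (by simpa using hj2) hR')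
  have hj'C : j' ∉ C := fun h =>
    hj'1 (eq_one_of_two_element h21 P R' hR'P j' h 1 (by simpa using hj'2) hj'R)
  have hj'N : j' ∈ N := Sylow.smul_eq_iff_mem_normalizer.mp hj'P
  have hinv := inverts hcard P j hjN hj2 hjC
  have hinv' := inverts hcard P j' hj'N hj'2 hj'C
  have hwC : j * j' ∈ C := by
    rw [hC, Subgroup.mem_centralizer_iff]
    intro x hx
    have h1 : j' * x * j'⁻¹ = x⁻¹ := hinv' x hx
    have h2 : j * x⁻¹ * j⁻¹ = x⁻¹⁻¹ := hinv x⁻¹ (inv_mem hx)
    have h3 : (j * j') * x * (j * j')⁻¹ = x := by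
      calc (j * j') * x * (j * j')⁻¹ = j * (j' * x * j'⁻¹) * j⁻¹ := by group
        _ = x := by rw [h1, h2, inv_inv]
    calc x * (j * j') = ((j * j') * x * (j * j')⁻¹) * (j * j') := by rw [h3]
      _ = (j * j') * x := by group
  have hwR : (j * j') • R' = R' := by rw [mul_smul, hj'R, hR']
  rcases involutions_conj_or_central j j' hj2 hj'2 (isOfFinOrder_of_finite _) with
    ⟨k, hk⟩ | ⟨k, hz2, hz1, -, -⟩
  · refine ⟨(j * j') ^ k * g₀, ?_, ?_⟩
    · have h1 : (j * j') ^ k * g₀ * j * ((j * j') ^ k * g₀)⁻¹ = j := by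
        calc (j * j') ^ k * g₀ * j * ((j * j') ^ k * g₀)⁻¹
            = (j * j') ^ k * (g₀ * j * g₀⁻¹) * ((j * j') ^ k)⁻¹ := by group
          _ = j := by rw [← hj', hk]
      calc (j * j') ^ k * g₀ * j
          = ((j * j') ^ k * g₀ * j * ((j * j') ^ k * g₀)⁻¹) * ((j * j') ^ k * g₀) := by group
        _ = j * ((j * j') ^ k * g₀) := by rw [h1]
    · rw [mul_smul, hg₀P]
      exact smul_pow_eq' _ _ hwR k
  · exfalso
    apply hz1
    exact eq_one_of_two_element h21 P R' hR'P _ (pow_mem hwC k) 1 (by simpa using hz2)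
      (smul_pow_eq' _ _ hwR k)

/-- Case (III): `4` exactly divides the order of the centralizer of a Sylow 5-subgroup. -/
theorem caseIII (h21 : Nat.card (Sylow 5 G) = 21)
    (hcard : ∀ R : Sylow 5 G, Nat.card (R : Subgroup G) = 5) (P : Sylow 5 G)
    (hv : (Nat.card (Subgroup.centralizer ((P : Subgroup G) : Set G))).factorization 2 = 2) :
    False := by
  set C := Subgroup.centralizer ((P : Subgroup G) : Set G) with hC
  set N := Subgroup.normalizer ((P : Subgroup G) : Set G) with hN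
  haveI : Fact (Nat.Prime 2) := ⟨Nat.prime_two⟩
  have h4' : 2 ^ 2 ∣ Nat.card C := by
    have := Nat.ordProj_dvd (Nat.card C) 2
    rwa [hv] at this
  have h4 : 4 ∣ Nat.card C := by simpa using h4'
  obtain ⟨K, hK⟩ := Sylow.exists_subgroup_card_pow_prime (G := C) 2 (n := 2) h4'
  obtain ⟨S, hS⟩ : ∃ S : Subgroup G, S = K.map C.subtype := ⟨_, rfl⟩
  have hS4 : Nat.card S = 4 := by rw [hS, Subgroup.card_subtype, hK]; norm_num
  have hSC : S ≤ C := by rw [hS]; exact Subgroup.map_subtype_le K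
  have htrans : ∀ R R' : Sylow 5 G, R ≠ P → R' ≠ P → ∃ c ∈ C, c • R = R' :=
    fun R R' hRP hR'P => exists_smul_eq_of_card_four h21 hcard P S hS4 hSC R R' hRP hR'P
  obtain ⟨R, hRP⟩ : ∃ R : Sylow 5 G, R ≠ P := by
    by_contra hcon
    push Not at hcon
    have hsub : Subsingleton (Sylow 5 G) := ⟨fun a b => by rw [hcon a, hcon b]⟩
    have := Finite.card_le_one_iff_subsingleton.mpr hsub
    omega
  obtain ⟨j, hjN, hj2, hj1, hjR⟩ := exists_involution h21 hcard P htrans h4 R hRP
  have hjC : j ∉ C := fun h =>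
    hj1 (eq_one_of_two_element h21 P R hRP j h 1 (by simpa using hj2) hjR)
  have hinv := inverts hcard P j hjN hj2 hjC
  have hjP : j • P = P := Sylow.smul_eq_iff_mem_normalizer.mpr hjN
  have h5 := card_fixS_eq_five h21 hcard P R hRP j hj2 hj1 hinv hjP hjR
  -- the centralizer of `j`
  set Z := Subgroup.centralizer ({j} : Set G) with hZ
  have horb : MulAction.orbit Z P = (fixS 5 j : Set (Sylow 5 G)) := by
    ext R'
    constructor
    · rintro ⟨g, rfl⟩
      rw [Finset.mem_coe, mem_fixS]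
      have hgj : j * (g : G) = (g : G) * j := (Subgroup.mem_centralizer_singleton_iff.mp g.2).symm
      show j • (g : G) • P = (g : G) • P
      rw [← mul_smul, hgj, mul_smul, hjP]
    · intro hR'
      obtain ⟨g, hg, hgP⟩ := exists_commuting_smul h21 hcard P htrans j hjN hj2 hj1 R'
        (mem_fixS.mp (Finset.mem_coe.mp hR'))
      exact ⟨⟨g, Subgroup.mem_centralizer_singleton_iff.mpr hg⟩, hgP⟩
  have hidx : (MulAction.stabilizer Z P).index = 5 := by
    rw [MulAction.index_stabilizer, horb, Set.ncard_coe_finset, h5]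
  have h5Z : 5 ∣ Nat.card Z := by
    rw [← hidx]; exact Subgroup.index_dvd_card _
  obtain ⟨r, hr⟩ := exists_prime_orderOf_dvd_card' 5 h5Z
  have hrj : j * (r : G) = (r : G) * j := (Subgroup.mem_centralizer_singleton_iff.mp r.2).symm
  have hrord : orderOf (r : G) = 5 := by rw [Subgroup.orderOf_coe, hr]
  have hzp : IsPGroup 5 (Subgroup.zpowers (r : G)) :=
    IsPGroup.of_card (n := 1) (by rw [Nat.card_zpowers, hrord]; norm_num)
  obtain ⟨R₁, hR₁⟩ := hzp.exists_le_sylow
  have heq : Subgroup.zpowers (r : G) = (R₁ : Subgroup G) :=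
    Subgroup.eq_of_le_of_card_ge hR₁ (by rw [hcard R₁, Nat.card_zpowers, hrord])
  have hjC₁ : j ∈ Subgroup.centralizer ((R₁ : Subgroup G) : Set G) := by
    rw [Subgroup.mem_centralizer_iff]
    intro x hx
    rw [SetLike.mem_coe, ← heq] at hx
    obtain ⟨i, rfl⟩ := Subgroup.mem_zpowers_iff.mp hx
    exact (Commute.zpow_right (hrj : Commute j (r : G)) i).eq.symm
  have := fixS_involution h21 R₁ j hjC₁ hj2 hj1
  rw [this, Finset.card_singleton] at h5
  omega

end twentyone

end Cfsg.Agent.Helper12.Syl21
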