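import Mathlib
import Cfsg.Agent.Helper43.SylDefs
import Cfsg.Prelude.Def_Classical

/-!
# The Euclidean plane `x² + y²` over a field of odd characteristic (piece (W-C) of #5040)

* `E2_mul_self_of_det`: an isometry of determinant `-1` is an involution.
* `E2_sylow_closure`: a Sylow 2-subgroup of `O(E2)` is generated by its elements of
  determinant `-1`.
-/

set_option autoImplicit false

open Cfsg Cfsg.Agent.Helper43.Syl

namespace Cfsg.Agent.Helper12.SylWC

open Matrix

variable {F : Type*} [Field F]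

/-- membership in the isometry group of the Euclidean plane -/
theorem mem_iso_iff (g : GL (Fin 2) F) :
    g ∈ Cfsg.isometryGroup F ⇑(E2 F) ↔
      ∀ u, E2 F ((g : Matrix (Fin 2) (Fin 2) F) *ᵥ u) = E2 F u := by
  constructor
  · intro h u
    exact h u u
  · intro h u _
    exact h u

/-- the three orthogonality relations of the columns of an isometry -/
theorem entries_of_mem (h2 : (2 : F) ≠ 0) (M : Matrix (Fin 2) (Fin 2) F)
    (hM : ∀ u, E2 F (M *ᵥ u) = E2 F u) :
    M 0 0 * M 0 0 + M 1 0 * M 1 0 = 1 ∧ M 0 1 * M 0 1 + M 1 1 * M 1 1 = 1 ∧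
      M 0 0 * M 0 1 + M 1 0 * M 1 1 = 0 := by
  have h1 := hM ![1, 0]
  have h3 := hM ![0, 1]
  have h4 := hM ![1, 1]
  simp only [E2_apply, Matrix.mulVec, dotProduct, Fin.sum_univ_two, Matrix.cons_val_zero,
    Matrix.cons_val_one, mul_one, mul_zero, add_zero, zero_add] at h1 h3 h4
  refine ⟨h1, h3, ?_⟩
  have : (2 : F) * (M 0 0 * M 0 1 + M 1 0 * M 1 1) = 0 := by
    linear_combination h4 - h1 - h3
  rcases mul_eq_zero.1 this with h | h
  · exact absurd h h2
  · exact h

/-- the determinant of an isometry squares to one -/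
theorem det_sq_of_mem (h2 : (2 : F) ≠ 0) (M : Matrix (Fin 2) (Fin 2) F)
    (hM : ∀ u, E2 F (M *ᵥ u) = E2 F u) : M.det * M.det = 1 := by
  obtain ⟨h1, h3, h4⟩ := entries_of_mem h2 M hM
  rw [Matrix.det_fin_two]
  linear_combination (M 0 1 * M 0 1 + M 1 1 * M 1 1) * h1 + h3
    - (M 0 0 * M 0 1 + M 1 0 * M 1 1) * h4

theorem det_eq_of_mem (h2 : (2 : F) ≠ 0) (M : Matrix (Fin 2) (Fin 2) F)
    (hM : ∀ u, E2 F (M *ᵥ u) = E2 F u) : M.det = 1 ∨ M.det = -1 := by
  have h := det_sq_of_mem h2 M hM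
  have : (M.det - 1) * (M.det + 1) = 0 := by linear_combination h
  rcases mul_eq_zero.1 this with h | h
  · left; linear_combination h
  · right; linear_combination h

/-- matrix form: an isometry of determinant `-1` squares to one -/
theorem mul_self_of_det (h2 : (2 : F) ≠ 0) (M : Matrix (Fin 2) (Fin 2) F)
    (hM : ∀ u, E2 F (M *ᵥ u) = E2 F u) (hdet : M.det = -1) : M * M = 1 := by
  obtain ⟨h1, h3, h4⟩ := entries_of_mem h2 M hM
  rw [Matrix.det_fin_two] at hdet
  have hd : M 1 1 = - M 0 0 := by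
    linear_combination -(M 1 1) * h1 + (M 0 0) * hdet + (M 1 0) * h4
  have hb : M 0 1 = M 1 0 := by
    linear_combination (M 0 0) * h4 - (M 1 0) * hdet - (M 0 1) * h1
  ext i j
  fin_cases i <;> fin_cases j <;>
    simp only [Matrix.mul_apply, Fin.sum_univ_two, Fin.zero_eta, Fin.mk_one, Matrix.one_apply_eq,
      ne_eq, zero_ne_one, one_ne_zero, not_false_eq_true, Matrix.one_apply_ne]
  · linear_combination h1 + (M 1 0) * hb
  · rw [hd]; ring
  · rw [hd]; ring
  · linear_combination h3 - (M 0 1) * hb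

theorem E2_mul_self_of_det [Fintype F] (h2 : (2 : F) ≠ 0) (g : Cfsg.isometryGroup F ⇑(E2 F))
    (hdet : ((g : GL (Fin 2) F) : Matrix (Fin 2) (Fin 2) F).det = -1) : g * g = 1 := by
  have hM := (mem_iso_iff (g : GL (Fin 2) F)).1 g.2
  apply Subtype.ext
  apply Units.ext
  exact mul_self_of_det h2 _ hM hdet

/-! ### The closure statement -/

theorem two_ne_zero_of_odd [Fintype F] (hF : Odd (Fintype.card F)) : (2 : F) ≠ 0 := by
  intro h2
  have hchar : ringChar F = 2 := by
    have hdvd : ringChar F ∣ 2 := (ringChar.spec F 2).1 (by exact_mod_cast h2)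
    have hp : (ringChar F).Prime := CharP.char_is_prime F (ringChar F)
    rcases (Nat.dvd_prime Nat.prime_two).1 hdvd with h | h
    · exact absurd h hp.ne_one
    · exact h
  have := FiniteField.even_card_of_char_two hchar
  rcases hF with ⟨k, hk⟩
  omega

/-- the determinant homomorphism on the isometry group -/
noncomputable def detH : Cfsg.isometryGroup F ⇑(E2 F) →* Fˣ :=
  (Matrix.GeneralLinearGroup.det).comp (Subgroup.subtype _)

theorem detH_val (g : Cfsg.isometryGroup F ⇑(E2 F)) :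
    ((detH g : Fˣ) : F) = ((g : GL (Fin 2) F) : Matrix (Fin 2) (Fin 2) F).det := rfl

theorem detH_eq_one_iff (g : Cfsg.isometryGroup F ⇑(E2 F)) :
    detH g = 1 ↔ ((g : GL (Fin 2) F) : Matrix (Fin 2) (Fin 2) F).det = 1 := by
  rw [Units.ext_iff, detH_val, Units.val_one]

theorem detH_eq_neg_one_iff (g : Cfsg.isometryGroup F ⇑(E2 F)) :
    detH g = -1 ↔ ((g : GL (Fin 2) F) : Matrix (Fin 2) (Fin 2) F).det = -1 := by
  rw [Units.ext_iff, detH_val, Units.val_neg, Units.val_one]

theorem detH_cases (h2 : (2 : F) ≠ 0) (g : Cfsg.isometryGroup F ⇑(E2 F)) :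
    detH g = 1 ∨ detH g = -1 := by
  rw [detH_eq_one_iff, detH_eq_neg_one_iff]
  exact det_eq_of_mem h2 _ ((mem_iso_iff (g : GL (Fin 2) F)).1 g.2)

/-- the reflection `diag(1, -1)` -/
def sMat : Matrix (Fin 2) (Fin 2) F := !![1, 0; 0, -1]

theorem sMat_mul_self : (sMat : Matrix (Fin 2) (Fin 2) F) * sMat = 1 := by
  ext i j
  fin_cases i <;> fin_cases j <;> simp [sMat, Matrix.mul_apply, Fin.sum_univ_two]

/-- the reflection as an element of `GL₂` -/
def sGL : GL (Fin 2) F := ⟨sMat, sMat, sMat_mul_self, sMat_mul_self⟩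

theorem sGL_mem : (sGL : GL (Fin 2) F) ∈ Cfsg.isometryGroup F ⇑(E2 F) := by
  rw [mem_iso_iff]
  intro u
  show E2 F (sMat *ᵥ u) = E2 F u
  simp only [E2_apply, sMat, Matrix.mulVec, dotProduct, Fin.sum_univ_two, Matrix.of_apply,
    Matrix.cons_val_zero, Matrix.cons_val_one, Matrix.cons_val', Matrix.cons_val_fin_one]
  ring

/-- the reflection as an element of the isometry group -/
def sIso : Cfsg.isometryGroup F ⇑(E2 F) := ⟨sGL, sGL_mem⟩

theorem detH_sIso : detH (sIso : Cfsg.isometryGroup F ⇑(E2 F)) = -1 := by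
  rw [detH_eq_neg_one_iff]
  show (sMat : Matrix (Fin 2) (Fin 2) F).det = -1
  rw [Matrix.det_fin_two]
  simp [sMat]

/-- abstract form: a Sylow 2-subgroup is generated by its elements outside the kernel of a
homomorphism onto a group of order two -/
theorem sylow_closure_of_hom {G A : Type*} [Group G] [Finite G] [Group A] (φ : G →* A) (a : A)
    (ha : a ≠ 1) (ha2 : a * a = 1) (hφ : ∀ g, φ g = 1 ∨ φ g = a) (s : G) (hs : φ s = a)
    (D : Sylow 2 G) :
    Subgroup.closure {d : G | d ∈ (D : Subgroup G) ∧ φ d = a} = (D : Subgroup G) := by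
  classical
  have : Fact (Nat.Prime 2) := ⟨Nat.prime_two⟩
  -- the kernel has even index
  have hidx : 2 ∣ φ.ker.index := by
    rw [Subgroup.index_ker]
    let x : φ.range := ⟨a, s, hs⟩
    have hx1 : x ≠ 1 := by
      intro h
      apply ha
      exact congrArg Subtype.val h
    have hx2 : x ^ 2 = 1 := by
      apply Subtype.ext
      show a ^ 2 = 1
      rw [pow_two, ha2]
    have ho : orderOf x = 2 := orderOf_eq_prime hx2 hx1
    have := orderOf_dvd_natCard x
    rwa [ho] at this
  -- `D` is not contained in the kernel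
  have hnot : ¬ ((D : Subgroup G) ≤ φ.ker) := by
    intro hle
    have hcardD : Nat.card (D : Subgroup G) = 2 ^ (Nat.card G).factorization 2 :=
      D.card_eq_multiplicity
    have h1 : Nat.card (D : Subgroup G) ∣ Nat.card φ.ker := Subgroup.card_dvd_of_le hle
    have h3 : φ.ker.index * Nat.card φ.ker = Nat.card G := φ.ker.index_mul_card
    obtain ⟨t, ht⟩ := hidx
    obtain ⟨r, hr⟩ := h1
    have hdvd : 2 ^ ((Nat.card G).factorization 2 + 1) ∣ Nat.card G := by
      refine ⟨t * r, ?_⟩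
      rw [pow_succ, ← hcardD, ← h3, ht, hr]
      ring
    have hpos : Nat.card G ≠ 0 := Nat.card_pos.ne'
    have := (Nat.Prime.pow_dvd_iff_le_factorization Nat.prime_two hpos).1 hdvd
    omega
  obtain ⟨d0, hd0D, hd0K⟩ := SetLike.not_le_iff_exists.1 hnot
  have hd0 : φ d0 = a := by
    rcases hφ d0 with h | h
    · exact absurd ((MonoidHom.mem_ker).2 h) hd0K
    · exact h
  apply le_antisymm
  · rw [Subgroup.closure_le]
    rintro d ⟨hdD, -⟩
    exact hdD
  · intro d hdD
    rcases hφ d with h | h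
    · have h1 : d0 ∈ Subgroup.closure {d : G | d ∈ (D : Subgroup G) ∧ φ d = a} :=
        Subgroup.subset_closure ⟨hd0D, hd0⟩
      have hainv : a⁻¹ = a := inv_eq_of_mul_eq_one_left ha2
      have h3 : d0⁻¹ * d ∈ Subgroup.closure {d : G | d ∈ (D : Subgroup G) ∧ φ d = a} := by
        refine Subgroup.subset_closure ⟨Subgroup.mul_mem _ (Subgroup.inv_mem _ hd0D) hdD, ?_⟩
        rw [map_mul, map_inv, hd0, h, mul_one, hainv]
      have : d = d0 * (d0⁻¹ * d) := by group
      rw [this]
      exact Subgroup.mul_mem _ h1 h3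
    · exact Subgroup.subset_closure ⟨hdD, h⟩

theorem E2_sylow_closure [Fintype F] (hF : Odd (Fintype.card F))
    (D : Sylow 2 (Cfsg.isometryGroup F ⇑(E2 F))) :
    Subgroup.closure {d : Cfsg.isometryGroup F ⇑(E2 F) |
        d ∈ (D : Subgroup (Cfsg.isometryGroup F ⇑(E2 F))) ∧
          ((d : GL (Fin 2) F) : Matrix (Fin 2) (Fin 2) F).det = -1} =
      (D : Subgroup (Cfsg.isometryGroup F ⇑(E2 F))) := by
  have h2 : (2 : F) ≠ 0 := two_ne_zero_of_odd hF
  have hne : (-1 : Fˣ) ≠ 1 := by
    intro h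
    have h' : ((-1 : Fˣ) : F) = ((1 : Fˣ) : F) := by rw [h]
    rw [Units.val_neg, Units.val_one] at h'
    apply h2
    linear_combination -h'
  have key := sylow_closure_of_hom (detH : Cfsg.isometryGroup F ⇑(E2 F) →* Fˣ) (-1) hne
    (by simp) (detH_cases h2) sIso detH_sIso D
  convert key using 4 with d
  rw [detH_eq_neg_one_iff]

end Cfsg.Agent.Helper12.SylWC
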