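import Cfsg.Agent.Helper6.Mult4
import Cfsg.Agent.Helper6.Mult1

/-! (P2) piece for helper96's S2112: the kernel of a stem extension of a group with cyclic Sylow
`p`-subgroups has order prime to `p`. -/

set_option autoImplicit false

namespace Cfsg.Agent.Helper12.Sz8

universe u v

/-- order of the kernel of a surjection -/
theorem card_ker_mul_card {Γ : Type u} {G : Type v} [Group Γ] [Group G] [Finite Γ] (σ : Γ →* G)
    (hs : Function.Surjective σ) : Nat.card σ.ker * Nat.card G = Nat.card Γ := by
  have h1 := Subgroup.card_mul_index σ.ker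
  rw [Subgroup.index_ker, MonoidHom.range_eq_top.mpr hs] at h1
  rw [← h1]
  congr 1
  exact (Nat.card_congr (Equiv.Set.univ G)).symm

/-- the inductive form of `stem_ker_not_dvd_of_cyclic_sylow` -/
theorem stem_ker_not_dvd_aux {G : Type v} [Group G] [Finite G] (p : ℕ) [Fact p.Prime]
    (hcyc : ∀ P : Sylow p G, IsCyclic P) :
    ∀ n : ℕ, ∀ (Γ : Type u) [Group Γ] [Finite Γ] (σ : Γ →* G), Cfsg.IsStemExtension σ →
      Nat.card σ.ker = n → ¬ p ∣ n := by
  intro n
  induction n using Nat.strong_induction_on with
  | _ n ih =>
    intro Γ _ _ σ hσ hn hpn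
    have hp : p.Prime := Fact.out
    obtain ⟨m, hm⟩ := hpn
    have hnpos : 0 < n := by rw [← hn]; exact Nat.card_pos
    by_cases hm1 : m = 1
    · subst hm1
      rw [mul_one] at hm
      exact Cfsg.Agent.Helper6.stem_ker_card_ne_of_cyclic_sylow σ hσ p hcyc (hn.trans hm)
    · have hm0 : m ≠ 0 := by
        rintro rfl
        rw [mul_zero] at hm
        omega
      have hm2 : 2 ≤ m := by omega
      -- a prime divisor `q` of `m`
      have hq : (Nat.minFac m).Prime := Nat.minFac_prime hm1
      have hqm : Nat.minFac m ∣ m := Nat.minFac_dvd m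
      set q := Nat.minFac m with hqdef
      have : Fact q.Prime := ⟨hq⟩
      have hqn : q ∣ Nat.card σ.ker := by
        rw [hn, hm]; exact Dvd.dvd.mul_left hqm p
      obtain ⟨z, hz⟩ := exists_prime_orderOf_dvd_card' (G := σ.ker) q hqn
      -- the central subgroup generated by `z`
      let S : Subgroup Γ := Subgroup.zpowers (z : Γ)
      have hSker : S ≤ σ.ker := by
        rw [Subgroup.zpowers_le]; exact z.2
      have hScen : S ≤ Subgroup.center Γ := hSker.trans hσ.2.1
      have : S.Normal := by
        constructor
        intro s hs g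
        have := Subgroup.mem_center_iff.mp (hScen hs) g
        rw [this, mul_assoc, mul_inv_cancel, mul_one]
        exact hs
      have hScard : Nat.card S = q := by
        rw [Nat.card_zpowers, Subgroup.orderOf_coe]; exact hz
      have hstem := Cfsg.Agent.Helper6.isStemExtension_quotient σ hσ S hSker
      -- order of the new kernel
      have hk1 := card_ker_mul_card σ hσ.1
      have hk2 := card_ker_mul_card (QuotientGroup.lift S σ hSker) hstem.1
      have hk3 := Subgroup.card_mul_index S
      rw [Subgroup.index_eq_card] at hk3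
      have hGpos : 0 < Nat.card G := Nat.card_pos
      have hk4 : Nat.card (QuotientGroup.lift S σ hSker).ker * q = n := by
        have : Nat.card (QuotientGroup.lift S σ hSker).ker * q * Nat.card G
            = n * Nat.card G := by
          rw [← hn, hk1, ← hk3, ← hk2, hScard]; ring
        exact Nat.eq_of_mul_eq_mul_right hGpos this
      have hq2 : 2 ≤ q := hq.two_le
      have hlt : Nat.card (QuotientGroup.lift S σ hSker).ker < n := by
        have hkpos : 0 < Nat.card (QuotientGroup.lift S σ hSker).ker := Nat.card_pos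
        nlinarith
      -- `p` still divides it
      have hpdvd : p ∣ Nat.card (QuotientGroup.lift S σ hSker).ker := by
        obtain ⟨m', hm'⟩ := hqm
        have h5 : Nat.card (QuotientGroup.lift S σ hSker).ker * q = (p * m') * q := by
          rw [hk4, hm, hm']; ring
        have h6 := Nat.eq_of_mul_eq_mul_right hq.pos h5
        rw [h6]; exact Dvd.intro _ rfl
      exact ih _ hlt (Γ ⧸ S) (QuotientGroup.lift S σ hSker) hstem rfl hpdvd

theorem stem_ker_not_dvd_of_cyclic_sylow {Γ : Type*} {G : Type*} [Group Γ] [Group G] [Finite Γ]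
    [Finite G] (σ : Γ →* G) (hσ : Cfsg.IsStemExtension σ) (p : ℕ) [Fact p.Prime]
    (hcyc : ∀ P : Sylow p G, IsCyclic P) : ¬ p ∣ Nat.card σ.ker :=
  stem_ker_not_dvd_aux p hcyc _ Γ σ hσ rfl

theorem sylow_cyclic_of_card {G : Type*} [Group G] [Finite G] (p n : ℕ) [Fact p.Prime]
    (hn : Nat.card G = p * n) (hpn : ¬ p ∣ n) (P : Sylow p G) : IsCyclic P := by
  have hp : p.Prime := Fact.out
  have hcard : Nat.card P = p := by
    rw [Sylow.card_eq_multiplicity, hn]
    have hn0 : n ≠ 0 := by
      rintro rfl
      rw [mul_zero] at hn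
      have : 0 < Nat.card G := Nat.card_pos
      omega
    rw [Nat.factorization_mul hp.ne_zero hn0, Finsupp.add_apply, hp.factorization_self,
      Nat.factorization_eq_zero_of_not_dvd hpn, add_zero, pow_one]
  exact isCyclic_of_prime_card hcard

end Cfsg.Agent.Helper12.Sz8
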