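import Cfsg.Agent.Helper96.Sz8.Pres
import Cfsg.Agent.Helper28.CosetCox
import Cfsg.Agent.Helper6.Sz32
import Cfsg.Agent.Helper86.PG63.Defs

/-! (T1) piece for helper96's S2112: the presented group `PE` maps onto `Sz(8)` with the central
generators `a, b, c, d` in the kernel. -/

set_option autoImplicit false
set_option maxRecDepth 100000
set_option linter.unusedSimpArgs false

namespace Cfsg.Agent.Helper12.Sz8

open Cfsg Cfsg.Agent.Helper86.PG63 Cfsg.Agent.Helper6 Cfsg.Agent.Helper96.Sz8

/-- explicit matrix -/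
def Hm : M4 :=
  !![F8.mk true true false, F8.mk false false false, F8.mk false false false, F8.mk false false false; F8.mk false false false, F8.mk false false true, F8.mk false false false, F8.mk false false false; F8.mk false false false, F8.mk false false false, F8.mk true true true, F8.mk false false false; F8.mk false false false, F8.mk false false false, F8.mk false false false, F8.mk false true true]

/-- explicit matrix -/
def Xm : M4 :=
  !![F8.mk false false false, F8.mk false false false, F8.mk false false false, F8.mk true true false; F8.mk false false false, F8.mk false false false, F8.mk false false true, F8.mk false false true; F8.mk false false false, F8.mk true true true, F8.mk true true true, F8.mk false false false; F8.mk false true true, F8.mk false true true, F8.mk false true true, F8.mk false true true]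

/-- explicit matrix -/
def Um : M4 :=
  !![F8.mk true false false, F8.mk true true false, F8.mk true true false, F8.mk false false true; F8.mk false false false, F8.mk true false false, F8.mk true true true, F8.mk true false false; F8.mk false false false, F8.mk false false false, F8.mk true false false, F8.mk true true false; F8.mk false false false, F8.mk false false false, F8.mk false false false, F8.mk true false false]

/-- explicit matrix -/
def Him : M4 :=
  !![F8.mk false true true, F8.mk false false false, F8.mk false false false, F8.mk false false false; F8.mk false false false, F8.mk true true true, F8.mk false false false, F8.mk false false false; F8.mk false false false, F8.mk false false false, F8.mk false false true, F8.mk false false false; F8.mk false false false, F8.mk false false false, F8.mk false false false, F8.mk true true false]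

/-- explicit matrix -/
def Xim : M4 :=
  !![F8.mk false true true, F8.mk false false false, F8.mk false false true, F8.mk true true false; F8.mk false true true, F8.mk true true true, F8.mk false false true, F8.mk false false false; F8.mk false true true, F8.mk true true true, F8.mk false false false, F8.mk false false false; F8.mk false true true, F8.mk false false false, F8.mk false false false, F8.mk false false false]

/-- explicit matrix -/
def Uim : M4 :=
  !![F8.mk true false false, F8.mk true true false, F8.mk true false false, F8.mk false false true; F8.mk false false false, F8.mk true false false, F8.mk true true true, F8.mk true true false; F8.mk false false false, F8.mk false false false, F8.mk true false false, F8.mk true true false; F8.mk false false false, F8.mk false false false, F8.mk false false false, F8.mk true false false]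


theorem Hm_inv : Hm * Him = 1 := by decide +kernel
theorem Xm_inv : Xm * Xim = 1 := by decide +kernel
theorem Um_inv : Um * Uim = 1 := by decide +kernel

theorem mr1 : Hm * Hm * Hm * Hm * Hm * Hm * Hm = 1 := by decide +kernel

theorem mr2 : Xm * Xm * Xm * Xm * Xm = 1 := by decide +kernel

theorem mr3 : Hm * Xm * Uim * Hm * Xim = 1 := by decide +kernel

theorem mr4 : Him * Xm * Xm * Hm * Xim * Uim * Xm * Um * Xm * Him * Xim * Xim * Hm * Xim * Xim = 1 := by decide +kernel

theorem mr5 : Hm * Xim * Um * Hm * Xim * Uim * Xm * Um * Xm * Him * Uim * Xm * Him * Xim * Xim = 1 := by decide +kernel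

theorem mr6 : Uim * Hm * Hm * Hm * Uim * Him * Um * Him * Uim * Hm * Um * Him * Him = 1 := by decide +kernel

theorem mr7 : Hm * Hm * Hm * Um * Him * Him * Uim * Him * Uim = 1 := by decide +kernel

theorem mr11 : Hm * Um * Him * Um * Um * Hm * Uim * Him * Uim * Uim = 1 := by decide +kernel

theorem mr15 : Hm * Um * Um * Him * Um * Hm * Uim * Uim * Him * Uim = 1 := by decide +kernel

theorem mr19 : Hm * Hm * Xim * Um * Hm * Um * Xm * Hm * Xm * Xm = 1 := by decide +kernel


/-- the underlying matrix of an element of `Sz(8)` -/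
def cm (g : ↥(Cfsg.Sz F8 1)) : M4 := ((g : SL4) : M4)

theorem cm_mul (g g' : ↥(Cfsg.Sz F8 1)) : cm (g * g') = cm g * cm g' := by
  unfold cm
  rw [Subgroup.coe_mul, Matrix.SpecialLinearGroup.coe_mul]

theorem cm_one : cm 1 = 1 := by
  unfold cm
  rw [Subgroup.coe_one, Matrix.SpecialLinearGroup.coe_one]

theorem cm_injective : Function.Injective cm := by
  intro g g' h
  apply Subtype.ext
  apply Subtype.ext
  exact h

theorem cm_inv (g : ↥(Cfsg.Sz F8 1)) (A B : M4) (hA : cm g = A) (hAB : A * B = 1) :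
    cm g⁻¹ = B := by
  have h1 : cm g⁻¹ * A = 1 := by rw [← hA, ← cm_mul, inv_mul_cancel, cm_one]
  calc cm g⁻¹ = cm g⁻¹ * (A * B) := by rw [hAB, mul_one]
    _ = (cm g⁻¹ * A) * B := by rw [mul_assoc]
    _ = B := by rw [h1, one_mul]

/-- the image of `h` -/
noncomputable def gh : ↥(Cfsg.Sz F8 1) := ⟨szD F8 1 αu, szD_mem F8.card_eq' _⟩

/-- the element `T U(1,0)` -/
noncomputable def gtu : ↥(Cfsg.Sz F8 1) :=
  ⟨szT F8 * szU F8 1 1 0, (Cfsg.Sz F8 1).mul_mem (szT_mem F8.card_eq') (szU_mem F8.card_eq' _ _)⟩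

/-- the image of `x` -/
noncomputable def gx : ↥(Cfsg.Sz F8 1) := gh * gtu

/-- the image of `u` -/
noncomputable def gu : ↥(Cfsg.Sz F8 1) := ⟨szU F8 1 (1 + F8.α) 1, szU_mem F8.card_eq' _ _⟩

theorem cm_gh : cm gh = Hm := by
  show dMat (2 ^ 1) ((αu : F8ˣ) : F8) = Hm
  decide +kernel

theorem cm_gx : cm gx = Xm := by
  show dMat (2 ^ 1) ((αu : F8ˣ) : F8) *
    (tMat F8 * uMat (1 : F8) 0 ((1 : F8) ^ (2 ^ (1 + 1))) (ovF F8 1 1 0)) = Xm
  decide +kernel

theorem cm_gu : cm gu = Um := by
  show uMat (1 + F8.α) 1 ((1 + F8.α) ^ (2 ^ (1 + 1))) (ovF F8 1 (1 + F8.α) 1) = Um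
  decide +kernel

theorem cm_ghi : cm gh⁻¹ = Him := cm_inv gh Hm Him cm_gh Hm_inv
theorem cm_gxi : cm gx⁻¹ = Xim := cm_inv gx Xm Xim cm_gx Xm_inv
theorem cm_gui : cm gu⁻¹ = Uim := cm_inv gu Um Uim cm_gu Um_inv

theorem gr1 : gh * gh * gh * gh * gh * gh * gh = 1 := by
  apply cm_injective
  simp only [cm_mul, cm_one, cm_gh, cm_gx, cm_gu, cm_ghi, cm_gxi, cm_gui]
  exact mr1

theorem gr2 : gx * gx * gx * gx * gx = 1 := by
  apply cm_injective
  simp only [cm_mul, cm_one, cm_gh, cm_gx, cm_gu, cm_ghi, cm_gxi, cm_gui]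
  exact mr2

theorem gr3 : gh * gx * gu⁻¹ * gh * gx⁻¹ = 1 := by
  apply cm_injective
  simp only [cm_mul, cm_one, cm_gh, cm_gx, cm_gu, cm_ghi, cm_gxi, cm_gui]
  exact mr3

theorem gr4 : gh⁻¹ * gx * gx * gh * gx⁻¹ * gu⁻¹ * gx * gu * gx * gh⁻¹ * gx⁻¹ * gx⁻¹ * gh * gx⁻¹ * gx⁻¹ = 1 := by
  apply cm_injective
  simp only [cm_mul, cm_one, cm_gh, cm_gx, cm_gu, cm_ghi, cm_gxi, cm_gui]
  exact mr4

theorem gr5 : gh * gx⁻¹ * gu * gh * gx⁻¹ * gu⁻¹ * gx * gu * gx * gh⁻¹ * gu⁻¹ * gx * gh⁻¹ * gx⁻¹ * gx⁻¹ = 1 := by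
  apply cm_injective
  simp only [cm_mul, cm_one, cm_gh, cm_gx, cm_gu, cm_ghi, cm_gxi, cm_gui]
  exact mr5

theorem gr6 : gu⁻¹ * gh * gh * gh * gu⁻¹ * gh⁻¹ * gu * gh⁻¹ * gu⁻¹ * gh * gu * gh⁻¹ * gh⁻¹ = 1 := by
  apply cm_injective
  simp only [cm_mul, cm_one, cm_gh, cm_gx, cm_gu, cm_ghi, cm_gxi, cm_gui]
  exact mr6

theorem gr7 : gh * gh * gh * gu * gh⁻¹ * gh⁻¹ * gu⁻¹ * gh⁻¹ * gu⁻¹ = 1 := by
  apply cm_injective
  simp only [cm_mul, cm_one, cm_gh, cm_gx, cm_gu, cm_ghi, cm_gxi, cm_gui]
  exact mr7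

theorem gr11 : gh * gu * gh⁻¹ * gu * gu * gh * gu⁻¹ * gh⁻¹ * gu⁻¹ * gu⁻¹ = 1 := by
  apply cm_injective
  simp only [cm_mul, cm_one, cm_gh, cm_gx, cm_gu, cm_ghi, cm_gxi, cm_gui]
  exact mr11

theorem gr15 : gh * gu * gu * gh⁻¹ * gu * gh * gu⁻¹ * gu⁻¹ * gh⁻¹ * gu⁻¹ = 1 := by
  apply cm_injective
  simp only [cm_mul, cm_one, cm_gh, cm_gx, cm_gu, cm_ghi, cm_gxi, cm_gui]
  exact mr15

theorem gr19 : gh * gh * gx⁻¹ * gu * gh * gu * gx * gh * gx * gx = 1 := by
  apply cm_injective
  simp only [cm_mul, cm_one, cm_gh, cm_gx, cm_gu, cm_ghi, cm_gxi, cm_gui]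
  exact mr19


/-- the images of the generators -/
noncomputable def gmap : PE.Gen → ↥(Cfsg.Sz F8 1)
  | .h => gh
  | .x => gx
  | .u => gu
  | _ => 1

theorem lift_gmap_h : FreeGroup.lift gmap PE.h = gh := by
  unfold PE.h; rw [FreeGroup.lift_apply_of]; rfl
theorem lift_gmap_x : FreeGroup.lift gmap PE.x = gx := by
  unfold PE.x; rw [FreeGroup.lift_apply_of]; rfl
theorem lift_gmap_u : FreeGroup.lift gmap PE.u = gu := by
  unfold PE.u; rw [FreeGroup.lift_apply_of]; rfl
theorem lift_gmap_a : FreeGroup.lift gmap PE.a = 1 := by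
  unfold PE.a; rw [FreeGroup.lift_apply_of]; rfl
theorem lift_gmap_b : FreeGroup.lift gmap PE.b = 1 := by
  unfold PE.b; rw [FreeGroup.lift_apply_of]; rfl
theorem lift_gmap_c : FreeGroup.lift gmap PE.c = 1 := by
  unfold PE.c; rw [FreeGroup.lift_apply_of]; rfl
theorem lift_gmap_d : FreeGroup.lift gmap PE.d = 1 := by
  unfold PE.d; rw [FreeGroup.lift_apply_of]; rfl

theorem gmap_rels : ∀ r ∈ Cfsg.Agent.Helper28.coxRels PE.edges PE.extra,
    FreeGroup.lift gmap r = 1 := by
  intro r hr
  rcases hr with hr | hr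
  · obtain ⟨y, hy, -⟩ := hr
    simp [PE.edges, Cfsg.Spor.coxNodes] at hy
  · have hr' : r ∈ PE.extra := hr
    unfold PE.extra at hr'
    simp only [List.mem_cons, List.not_mem_nil, or_false] at hr'
    rcases hr' with rfl | rfl | rfl | rfl | rfl | rfl | rfl | rfl | rfl | rfl | rfl | rfl | rfl |
      rfl | rfl | rfl | rfl | rfl | rfl | rfl | rfl | rfl | rfl | rfl | rfl | rfl | rfl | rfl <;>
    simp only [map_mul, map_inv, lift_gmap_h, lift_gmap_x, lift_gmap_u, lift_gmap_a, lift_gmap_b,
      lift_gmap_c, lift_gmap_d, inv_one, mul_one, one_mul, mul_inv_cancel]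
    · exact gr1
    · exact gr2
    · exact gr3
    · exact gr4
    · exact gr5
    · exact gr6
    · exact gr7
    · exact gr11
    · exact gr15
    · exact gr19

theorem forall_mem_zpowers_αu : ∀ x : F8ˣ, x ∈ Subgroup.zpowers αu := by
  have hpow : αu ^ 7 = 1 := by
    apply Units.ext
    rw [Units.val_pow_eq_pow_val]
    exact F8.α_pow_seven
  have hne : αu ≠ 1 := by
    intro e
    have := congrArg Units.val e
    revert this
    show F8.α = 1 → False
    decide
  have : Fact (Nat.Prime 7) := ⟨by norm_num⟩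
  have hord : orderOf αu = 7 := orderOf_eq_prime hpow hne
  have hcard : Nat.card F8ˣ = 7 := by
    rw [Nat.card_eq_fintype_card, Fintype.card_units, F8.card_eq]
  have htop : Subgroup.zpowers αu = ⊤ := by
    apply Subgroup.eq_top_of_card_eq
    rw [Nat.card_zpowers, hord, hcard]
  intro x
  rw [htop]; trivial

theorem exists_tau : ∃ τ : PresentedGroup (Cfsg.Agent.Helper28.coxRels
      Cfsg.Agent.Helper96.Sz8.PE.edges Cfsg.Agent.Helper96.Sz8.PE.extra) →*
        Cfsg.Sz Cfsg.Agent.Helper86.PG63.F8 1,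
    Function.Surjective τ ∧ τ (PresentedGroup.of Cfsg.Agent.Helper96.Sz8.PE.Gen.a) = 1 ∧
      τ (PresentedGroup.of Cfsg.Agent.Helper96.Sz8.PE.Gen.b) = 1 ∧
      τ (PresentedGroup.of Cfsg.Agent.Helper96.Sz8.PE.Gen.c) = 1 ∧
      τ (PresentedGroup.of Cfsg.Agent.Helper96.Sz8.PE.Gen.d) = 1 := by
  refine ⟨PresentedGroup.toGroup gmap_rels, ?_, ?_, ?_, ?_, ?_⟩
  · -- surjectivity
    set τ := PresentedGroup.toGroup gmap_rels with hτ
    have hh : τ (PresentedGroup.of PE.Gen.h) = gh := by
      rw [hτ, PresentedGroup.toGroup.of]; rfl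
    have hx : τ (PresentedGroup.of PE.Gen.x) = gx := by
      rw [hτ, PresentedGroup.toGroup.of]; rfl
    let N' : Subgroup SL4 := τ.range.map (Cfsg.Sz F8 1).subtype
    have hd : szD F8 1 αu ∈ N' := ⟨gh, ⟨_, hh⟩, rfl⟩
    have hy : szT F8 * szU F8 1 1 0 ∈ N' := by
      refine ⟨gh⁻¹ * gx, ?_, ?_⟩
      · exact τ.range.mul_mem (τ.range.inv_mem ⟨_, hh⟩) ⟨_, hx⟩
      · show ((gh⁻¹ * gx : ↥(Cfsg.Sz F8 1)) : SL4) = szT F8 * szU F8 1 1 0
        unfold gx
        rw [inv_mul_cancel_left]
        rfl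
    have hle := sz_le_of_two_gens (le_refl 1) F8.card_eq' N' αu forall_mem_zpowers_αu hd hy
    intro g
    obtain ⟨y, ⟨z, hz⟩, hy'⟩ := hle g.2
    refine ⟨z, ?_⟩
    rw [hz]
    exact Subtype.ext hy'
  · rw [PresentedGroup.toGroup.of]; rfl
  · rw [PresentedGroup.toGroup.of]; rfl
  · rw [PresentedGroup.toGroup.of]; rfl
  · rw [PresentedGroup.toGroup.of]; rfl

end Cfsg.Agent.Helper12.Sz8
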