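import Mathlib
import Cfsg.Agent.Helper89.TT59Defs

/-!
# Pieces (IM) + (QL) of S5559 (helper89's plan, board #8609)
-/

set_option autoImplicit false

namespace Cfsg.Agent.Helper12.TT59

open Cfsg.Agent.Helper89.TT59

/-- (IM) the image of a class of 3-transpositions -/
theorem class_map {K K' : Type*} [Group K] [Group K'] {D : Set K}
    (hD : Cfsg.IsThreeTranspositionClass D) (φ : K →* K') (hφ : Function.Surjective φ)
    (hne : ∀ a ∈ D, φ a ≠ 1) : Cfsg.IsThreeTranspositionClass (φ '' D) := by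
  obtain ⟨⟨hord, hprod⟩, ⟨d, hdD, hDconj⟩, hgen⟩ := hD
  refine ⟨⟨?_, ?_⟩, ⟨φ d, ⟨d, hdD, rfl⟩, ?_⟩, ?_⟩
  · rintro _ ⟨a, ha, rfl⟩
    have : Fact (Nat.Prime 2) := ⟨Nat.prime_two⟩
    rw [orderOf_eq_prime_iff]
    refine ⟨?_, hne a ha⟩
    rw [← map_pow, ← hord a ha, pow_orderOf_eq_one, map_one]
  · rintro _ ⟨a, ha, rfl⟩ _ ⟨b, hb, rfl⟩
    rcases hprod a ha b hb with h | h
    · left; rw [← map_mul, ← map_pow, h, map_one]
    · right; rw [← map_mul, ← map_pow, h, map_one]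
  · ext x
    constructor
    · rintro ⟨a, ha, rfl⟩
      rw [hDconj] at ha
      have ha' : IsConj d a := ha
      obtain ⟨c, hc⟩ := isConj_iff.mp ha'
      show IsConj (φ d) (φ a)
      exact isConj_iff.mpr ⟨φ c, by rw [← map_inv, ← map_mul, ← map_mul, hc]⟩
    · intro hx
      have hx' : IsConj (φ d) x := hx
      obtain ⟨c', hc'⟩ := isConj_iff.mp hx'
      obtain ⟨c, rfl⟩ := hφ c'
      refine ⟨c * d * c⁻¹, ?_, ?_⟩
      · rw [hDconj]
        show IsConj d (c * d * c⁻¹)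
        exact isConj_iff.mpr ⟨c, rfl⟩
      · rw [map_mul, map_mul, map_inv, hc']
  · rw [← MonoidHom.map_closure, hgen, ← MonoidHom.range_eq_map]
    exact MonoidHom.range_eq_top.mpr hφ

/-- powers of inverted elements are inverted -/
theorem pow_mem_Inv {K : Type*} [Group K] {P : Subgroup K} {d : K} (hd : d * d = 1) {s : K}
    (hs : s ∈ Inv P d) (k : ℕ) : s ^ k ∈ Inv P d := by
  refine ⟨P.pow_mem hs.1 k, ?_⟩
  have hdinv : d⁻¹ = d := inv_eq_of_mul_eq_one_right hd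
  have h1 : d * s ^ k * d = (d * s * d) ^ k := by
    have : d * s ^ k * d = d * s ^ k * d⁻¹ := by rw [hdinv]
    rw [this, ← conj_pow, hdinv]
  rw [h1, hs.2, inv_pow]

/-- (QL) inverted elements of a quotient lift to inverted elements -/
theorem exists_Inv_lift {K K' : Type*} [Group K] [Group K'] [Finite K] (φ : K →* K')
    (hφ : Function.Surjective φ) {P : Subgroup K} [P.Normal] (hP3 : IsPGroup 3 P) {d : K}
    (hd : d * d = 1) (s' : K') (hs' : s' ∈ Inv (P.map φ) (φ d)) :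
    ∃ s ∈ Inv P d, φ s = s' := by
  obtain ⟨⟨p, hp, rfl⟩, hinv⟩ := hs'
  have hdinv : d⁻¹ = d := inv_eq_of_mul_eq_one_right hd
  have hφd : φ d * φ d = 1 := by rw [← map_mul, hd, map_one]
  -- `s0 := p * (d p⁻¹ d)` is inverted and maps to `(φ p) ^ 2`
  have hs0 : p * (d * p⁻¹ * d) ∈ Inv P d := by
    refine ⟨P.mul_mem hp ?_, ?_⟩
    · have := ‹P.Normal›.conj_mem p⁻¹ (P.inv_mem hp) d
      rwa [hdinv] at this
    · have e1 : d * (p * (d * p⁻¹ * d)) * d = (d * p * d) * p⁻¹ * (d * d) := by group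
      have e2 : (p * (d * p⁻¹ * d))⁻¹ = d⁻¹ * p * d⁻¹ * p⁻¹ := by group
      rw [e1, e2, hd, hdinv, mul_one]
  have hφs0 : φ (p * (d * p⁻¹ * d)) = φ p ^ 2 := by
    have h1 : φ d * (φ p)⁻¹ * φ d = φ p := by
      have hφdinv : (φ d)⁻¹ = φ d := inv_eq_of_mul_eq_one_right hφd
      calc φ d * (φ p)⁻¹ * φ d = (φ d)⁻¹ * (φ p)⁻¹ * (φ d)⁻¹ := by rw [hφdinv]
        _ = (φ d * φ p * φ d)⁻¹ := by group
        _ = φ p := by rw [hinv, inv_inv]
    rw [map_mul, map_mul, map_mul, map_inv, h1, pow_two]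
  -- the order of `φ p` is odd
  have hodd : ¬ 2 ∣ orderOf (φ p) := by
    obtain ⟨k, hk⟩ := (hP3.map φ) ⟨φ p, p, hp, rfl⟩
    have hk' : (φ p) ^ 3 ^ k = 1 := by
      have := congrArg Subtype.val hk
      simpa using this
    have hdvd : orderOf (φ p) ∣ 3 ^ k := orderOf_dvd_of_pow_eq_one hk'
    intro h2
    have : 2 ∣ 3 ^ k := h2.trans hdvd
    have := Nat.prime_two.dvd_of_dvd_pow this
    omega
  set n := orderOf (φ p) with hn
  refine ⟨(p * (d * p⁻¹ * d)) ^ ((n + 1) / 2), pow_mem_Inv hd hs0 _, ?_⟩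
  rw [map_pow, hφs0, ← pow_mul]
  have h2 : 2 * ((n + 1) / 2) = n + 1 := by omega
  rw [h2, pow_succ, hn, pow_orderOf_eq_one, one_mul]

end Cfsg.Agent.Helper12.TT59
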