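import Mathlib
import Cfsg.Agent.Helper89.TT59Defs
import Cfsg.Agent.Helper89.TT59M1

/-!
# Pieces (M2) + (M3) of S5559 (helper89's plan, board #8609)
-/

set_option autoImplicit false

namespace Cfsg.Agent.Helper12.TT59

open Cfsg.Agent.Helper89.TT59

theorem inv_mem_Inv {K : Type*} [Group K] {P : Subgroup K} {d : K} (hd : d * d = 1) {s : K}
    (hs : s ∈ Inv P d) : s⁻¹ ∈ Inv P d := by
  have hdinv : d⁻¹ = d := inv_eq_of_mul_eq_one_right hd
  refine ⟨P.inv_mem hs.1, ?_⟩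
  calc d * s⁻¹ * d = d⁻¹ * s⁻¹ * d⁻¹ := by rw [hdinv]
    _ = (d * s * d)⁻¹ := by group
    _ = s⁻¹⁻¹ := by rw [hs.2]

theorem mul_mem_Inv {K : Type*} [Group K] {P : Subgroup K} {d : K} (hd : d * d = 1) {s t : K}
    (hs : s ∈ Inv P d) (ht : t ∈ Inv P d) (hst : s * t = t * s) : s * t ∈ Inv P d := by
  refine ⟨P.mul_mem hs.1 ht.1, ?_⟩
  calc d * (s * t) * d = d * s * (d * d) * t * d := by rw [hd, mul_one, mul_assoc d s t]
    _ = (d * s * d) * (d * t * d) := by group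
    _ = s⁻¹ * t⁻¹ := by rw [hs.2, ht.2]
    _ = (t * s)⁻¹ := by rw [mul_inv_rev]
    _ = (s * t)⁻¹ := by rw [hst]

/-- (M2) no `3 × 3` is inverted -/
theorem no_inverted_rank_two {K : Type*} [Group K] [Finite K] {W : Type*} [Group W]
    (hWc : ∀ a b : W, a * b = b * a) (hW2 : ∀ w : W, w * w = 1) (ρ : K →* MulAut W)
    {P : Subgroup K} {d : K} (hS : Setup P d)
    (hstar : ∀ s ∈ Inv P d, s ≠ 1 → ∀ w : W, ρ s w = w → ρ d w = w) (hd : ρ d ≠ 1) :
    ∀ s ∈ Inv P d, ∀ t ∈ Inv P d, s * t = t * s → s = 1 ∨ t ∈ Subgroup.zpowers s := by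
  intro s hs t ht hst
  by_contra hcon
  push Not at hcon
  obtain ⟨hs1, htz⟩ := hcon
  apply hd
  have hsinv : s⁻¹ ∈ Inv P d := inv_mem_Inv hS.dd hs
  have hst_mem : s * t ∈ Inv P d := mul_mem_Inv hS.dd hs ht hst
  have hsit_comm : s⁻¹ * t = t * s⁻¹ := by
    calc s⁻¹ * t = s⁻¹ * (t * s) * s⁻¹ := by group
      _ = s⁻¹ * (s * t) * s⁻¹ := by rw [hst]
      _ = t * s⁻¹ := by group
  have hsit : s⁻¹ * t ∈ Inv P d := mul_mem_Inv hS.dd hsinv ht hsit_comm
  have ht1 : t ≠ 1 := by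
    rintro rfl
    exact htz (Subgroup.one_mem _)
  have hst1 : s * t ≠ 1 := by
    intro h
    apply htz
    have : t = s⁻¹ := (inv_eq_of_mul_eq_one_right h).symm
    rw [this]
    exact Subgroup.inv_mem _ (Subgroup.mem_zpowers s)
  have hsit1 : s⁻¹ * t ≠ 1 := by
    intro h
    apply htz
    have : t = s := by
      have := inv_eq_of_mul_eq_one_right h
      rw [inv_inv] at this
      exact this.symm
    rw [this]
    exact Subgroup.mem_zpowers s
  ext w
  obtain ⟨w1, w2, w3, w4, h1, h2, h3, h4, rfl⟩ :=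
    gen_of_commuting_cubes hWc hW2 (ρ s) (ρ t) (by rw [← map_mul, ← map_mul, hst])
      (by rw [← map_pow, hS.pow_three hs, map_one]) (by rw [← map_pow, hS.pow_three ht, map_one]) w
  simp only [map_mul, MulAut.one_apply]
  rw [hstar s hs hs1 w1 h1, hstar t ht ht1 w2 h2,
    hstar (s * t) hst_mem hst1 w3 (by rw [map_mul]; exact h3),
    hstar (s⁻¹ * t) hsit hsit1 w4 (by rw [map_mul, map_inv]; exact h4)]

/-- (M3) the kernel of the action is centralised by `d` -/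
theorem ker_le_fixed {K : Type*} [Group K] [Finite K] {W : Type*} [Group W]
    (ρ : K →* MulAut W) {P : Subgroup K} {d : K} (hS : Setup P d)
    (hstar : ∀ s ∈ Inv P d, s ≠ 1 → ∀ w : W, ρ s w = w → ρ d w = w) (hd : ρ d ≠ 1) :
    ∀ x ∈ ρ.ker, x ∈ P ∧ d * x * d = x := by
  intro x hx
  have hρx : ρ x = 1 := hx
  have hdinv : d⁻¹ = d := inv_eq_of_mul_eq_one_right hS.dd
  have hxP : x ∈ P := by
    rcases hS.top x with h | h
    · exact h
    · exfalso
      apply hd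
      have h1 : ρ (d * x) = ρ d := by rw [map_mul, hρx, mul_one]
      obtain ⟨k, hk⟩ := hS.p3 ⟨d * x, h⟩
      have hk' : (d * x) ^ 3 ^ k = 1 := by
        have := congrArg Subtype.val hk
        simpa using this
      have h3 : (ρ d) ^ 3 ^ k = 1 := by rw [← h1, ← map_pow, hk', map_one]
      have h2 : (ρ d) ^ 2 = 1 := by rw [← map_pow, pow_two, hS.dd, map_one]
      have hc : Nat.Coprime (3 ^ k) 2 := Nat.Coprime.pow_left k (by norm_num)
      have hdvd : orderOf (ρ d) ∣ Nat.gcd (3 ^ k) 2 :=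
        Nat.dvd_gcd (orderOf_dvd_of_pow_eq_one h3) (orderOf_dvd_of_pow_eq_one h2)
      rw [hc.gcd_eq_one, Nat.dvd_one] at hdvd
      exact orderOf_eq_one_iff.mp hdvd
  refine ⟨hxP, ?_⟩
  by_contra hne
  apply hd
  have hdxd : d * x * d ∈ P := by
    have := hS.normal.conj_mem x hxP d
    rwa [hdinv] at this
  have hs : x⁻¹ * (d * x * d) ∈ Inv P d := by
    refine ⟨P.mul_mem (P.inv_mem hxP) hdxd, ?_⟩
    calc d * (x⁻¹ * (d * x * d)) * d = d * x⁻¹ * d * x * (d * d) := by group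
      _ = d⁻¹ * x⁻¹ * d⁻¹ * x := by rw [hS.dd, mul_one, hdinv]
      _ = (x⁻¹ * (d * x * d))⁻¹ := by group
  have hs1 : x⁻¹ * (d * x * d) ≠ 1 := by
    intro h
    apply hne
    have := inv_eq_of_mul_eq_one_right h
    rw [inv_inv] at this
    exact this.symm
  have hρs : ρ (x⁻¹ * (d * x * d)) = 1 := by
    rw [map_mul, map_inv, map_mul, map_mul, hρx, inv_one, one_mul, mul_one, ← map_mul, hS.dd,
      map_one]
  ext w
  rw [MulAut.one_apply]
  apply hstar _ hs hs1 w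
  rw [hρs, MulAut.one_apply]

end Cfsg.Agent.Helper12.TT59
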