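import Mathlib
import Cfsg.Agent.Helper89.TT59Defs
import Cfsg.Agent.Helper12.TT59IM
import Cfsg.Agent.Helper12.TT59M23

/-!
# Piece (KS) of S5559 (helper89's plan, board #8609): a class of 3-transpositions of
`K = O_{3,2}(K)` gives a `Setup`
-/

set_option autoImplicit false

namespace Cfsg.Agent.Helper12.TT59

open Cfsg.Agent.Helper89.TT59

/-- an element of a 3-group which squares to one is trivial -/
theorem eq_one_of_sq_of_three {K : Type*} [Group K] {P : Subgroup K} (hP3 : IsPGroup 3 P) {x : K}
    (hx : x ∈ P) (h2 : x ^ 2 = 1) : x = 1 := by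
  obtain ⟨j, hj⟩ := hP3 ⟨x, hx⟩
  have hj' : x ^ 3 ^ j = 1 := by
    have := congrArg Subtype.val hj
    simpa using this
  have hc : Nat.Coprime (3 ^ j) 2 := Nat.Coprime.pow_left j (by norm_num)
  have hdvd : orderOf x ∣ Nat.gcd (3 ^ j) 2 :=
    Nat.dvd_gcd (orderOf_dvd_of_pow_eq_one hj') (orderOf_dvd_of_pow_eq_one h2)
  rw [hc.gcd_eq_one, Nat.dvd_one] at hdvd
  exact orderOf_eq_one_iff.mp hdvd

/-- the order of an element of a 3-group is odd -/
theorem odd_order_of_three {K : Type*} [Group K] {P : Subgroup K} (hP3 : IsPGroup 3 P) {x : K}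
    (hx : x ∈ P) : ¬ 2 ∣ orderOf x := by
  obtain ⟨j, hj⟩ := hP3 ⟨x, hx⟩
  have hj' : x ^ 3 ^ j = 1 := by
    have := congrArg Subtype.val hj
    simpa using this
  have hdvd : orderOf x ∣ 3 ^ j := orderOf_dvd_of_pow_eq_one hj'
  intro h2
  have : 2 ∣ 3 ^ j := h2.trans hdvd
  have := Nat.prime_two.dvd_of_dvd_pow this
  omega

/-- in a group with a normal subgroup of 2-power index, elements of order dividing 3 lie in it -/
theorem mem_of_cube_of_index {K : Type*} [Group K] [Finite K] (P : Subgroup K) [P.Normal]
    (hidx : ∃ k : ℕ, P.index = 2 ^ k) {x : K} (hx : x ^ 3 = 1) : x ∈ P := by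
  obtain ⟨k, hk⟩ := hidx
  rw [← QuotientGroup.eq_one_iff]
  have h3 : ((x : K ⧸ P)) ^ 3 = 1 := by
    rw [← QuotientGroup.mk_pow, hx, QuotientGroup.mk_one]
  have h2 : ((x : K ⧸ P)) ^ 2 ^ k = 1 := by
    rw [← hk, Subgroup.index_eq_card]
    exact pow_card_eq_one'
  have hc : Nat.Coprime 3 (2 ^ k) := Nat.Coprime.pow_right k (by norm_num)
  have hdvd : orderOf (x : K ⧸ P) ∣ Nat.gcd 3 (2 ^ k) :=
    Nat.dvd_gcd (orderOf_dvd_of_pow_eq_one h3) (orderOf_dvd_of_pow_eq_one h2)
  rw [hc.gcd_eq_one, Nat.dvd_one] at hdvd
  exact orderOf_eq_one_iff.mp hdvd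

/-- (KS) a class of 3-transpositions of `K = O_{3,2}(K)` gives a `Setup` -/
theorem setup_of_class {K : Type*} [Group K] [Finite K] {D : Set K}
    (hD : Cfsg.IsThreeTranspositionClass D)
    (P : Subgroup K) [P.Normal] (hP3 : IsPGroup 3 P) (hidx : ∃ k : ℕ, P.index = 2 ^ k)
    {d : K} (hd : d ∈ D) :
    Setup P d ∧ D = {e | ∃ s ∈ Inv P d, e = d * s} := by
  have hPn : P.Normal := inferInstance
  obtain ⟨⟨hord, hprod⟩, ⟨d0, hd0D, hDconj⟩, hgen⟩ := hD
  have hsq : ∀ e ∈ D, e * e = 1 := by
    intro e he
    have := pow_orderOf_eq_one e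
    rwa [hord e he, pow_two] at this
  have hdd : d * d = 1 := hsq d hd
  have hdinv : d⁻¹ = d := inv_eq_of_mul_eq_one_right hdd
  have hd1 : d ≠ 1 := by
    intro h
    have := hord d hd
    rw [h, orderOf_one] at this
    omega
  have hdP : d ∉ P := by
    intro h
    exact hd1 (eq_one_of_sq_of_three hP3 h (by rw [pow_two, hdd]))
  -- conjugates of members of `D` are in `D`
  have hconjD : ∀ e ∈ D, ∀ c : K, c * e * c⁻¹ ∈ D := by
    intro e he c
    rw [hDconj] at he ⊢
    have he' : IsConj d0 e := he
    show IsConj d0 (c * e * c⁻¹)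
    exact he'.trans (isConj_iff.mpr ⟨c, rfl⟩)
  have hconj_d : ∀ e ∈ D, ∃ c : K, c * d * c⁻¹ = e := by
    intro e he
    rw [hDconj] at he hd
    have he' : IsConj d0 e := he
    have hd' : IsConj d0 d := hd
    exact isConj_iff.mp (hd'.symm.trans he')
  -- the image of `d` in the quotient commutes with the images of `D`
  have hcommD : ∀ e ∈ D, ((d : K ⧸ P)) * (e : K ⧸ P) = (e : K ⧸ P) * (d : K ⧸ P) := by
    intro e he
    have h2 : (((d * e : K) : K ⧸ P)) ^ 2 = 1 := by
      rcases hprod d hd e he with h | h
      · rw [← QuotientGroup.mk_pow, h, QuotientGroup.mk_one]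
      · have := mem_of_cube_of_index P hidx h
        rw [(QuotientGroup.eq_one_iff _).mpr this, one_pow]
    have hd2 : ((d : K ⧸ P)) * (d : K ⧸ P) = 1 := by
      rw [← QuotientGroup.mk_mul, hdd, QuotientGroup.mk_one]
    have he2 : ((e : K ⧸ P)) * (e : K ⧸ P) = 1 := by
      rw [← QuotientGroup.mk_mul, hsq e he, QuotientGroup.mk_one]
    rw [QuotientGroup.mk_mul, pow_two] at h2
    have hdi : ((d : K ⧸ P))⁻¹ = (d : K ⧸ P) := inv_eq_of_mul_eq_one_right hd2
    have hei : ((e : K ⧸ P))⁻¹ = (e : K ⧸ P) := inv_eq_of_mul_eq_one_right he2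
    have h3 : ((d : K ⧸ P)) * (e : K ⧸ P) = (((d : K ⧸ P)) * (e : K ⧸ P))⁻¹ :=
      (inv_eq_of_mul_eq_one_right h2).symm
    rw [mul_inv_rev, hdi, hei] at h3
    exact h3
  -- hence with everything
  have hcentral : ∀ k : K, ((k : K ⧸ P)) * (d : K ⧸ P) = (d : K ⧸ P) * (k : K ⧸ P) := by
    have hle : Subgroup.closure D ≤
        (Subgroup.centralizer {((d : K) : K ⧸ P)}).comap (QuotientGroup.mk' P) := by
      apply (Subgroup.closure_le _).mpr
      intro e he
      show ((e : K) : K ⧸ P) ∈ Subgroup.centralizer {((d : K) : K ⧸ P)}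
      rw [Subgroup.mem_centralizer_singleton_iff]
      exact (hcommD e he).symm
    intro k
    have hk : k ∈ Subgroup.closure D := by rw [hgen]; exact Subgroup.mem_top k
    have := hle hk
    have h' : ((k : K) : K ⧸ P) ∈ Subgroup.centralizer {((d : K) : K ⧸ P)} := this
    rw [Subgroup.mem_centralizer_singleton_iff] at h'
    exact h'
  -- `d * e ∈ P` for `e ∈ D`
  have hdeP : ∀ e ∈ D, d * e ∈ P := by
    intro e he
    obtain ⟨c, rfl⟩ := hconj_d e he
    rw [← QuotientGroup.eq_one_iff]
    rw [QuotientGroup.mk_mul, QuotientGroup.mk_mul, QuotientGroup.mk_mul, QuotientGroup.mk_inv,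
      hcentral c, mul_inv_cancel_right, ← QuotientGroup.mk_mul, hdd, QuotientGroup.mk_one]
  -- `top`
  have htop : ∀ k : K, k ∈ P ∨ d * k ∈ P := by
    intro k
    have hk : k ∈ Subgroup.closure D := by rw [hgen]; exact Subgroup.mem_top k
    induction hk using Subgroup.closure_induction with
    | mem e he => exact Or.inr (hdeP e he)
    | one => exact Or.inl P.one_mem
    | mul x y _ _ hx hy =>
      rcases hx with hx | hx <;> rcases hy with hy | hy
      · exact Or.inl (P.mul_mem hx hy)
      · right
        have h1 : d * x * d⁻¹ ∈ P := hPn.conj_mem x hx d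
        have : d * (x * y) = (d * x * d⁻¹) * (d * y) := by group
        rw [this]; exact P.mul_mem h1 hy
      · right
        have : d * (x * y) = (d * x) * y := by group
        rw [this]; exact P.mul_mem hx hy
      · left
        have h1 : d * (d * x) * d⁻¹ ∈ P := hPn.conj_mem _ hx d
        have : x * y = (d * (d * x) * d⁻¹) * (d * y) := by
          calc x * y = (d * d) * x * ((d * d) * y) := by rw [hdd, one_mul, one_mul]
            _ = (d * (d * x) * d) * (d * y) := by group
            _ = (d * (d * x) * d⁻¹) * (d * y) := by rw [hdinv]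
        rw [this]; exact P.mul_mem h1 hy
    | inv x _ hx =>
      rcases hx with hx | hx
      · exact Or.inl (P.inv_mem hx)
      · right
        have h1 : d * (d * x)⁻¹ * d⁻¹ ∈ P := hPn.conj_mem _ (P.inv_mem hx) d
        have : d * x⁻¹ = d * (d * x)⁻¹ * d⁻¹ := by
          calc d * x⁻¹ = d * x⁻¹ * (d⁻¹ * d⁻¹⁻¹) := by group
            _ = d * (d * x)⁻¹ * d⁻¹⁻¹ := by group
            _ = d * (d * x)⁻¹ * d⁻¹ := by rw [hdinv, hdinv]
        rw [this]; exact h1
  -- `D = d * I`
  have hDI : D = {e | ∃ s ∈ Inv P d, e = d * s} := by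
    ext e
    constructor
    · intro he
      refine ⟨d * e, ⟨hdeP e he, ?_⟩, ?_⟩
      · have hei : e⁻¹ = e := inv_eq_of_mul_eq_one_right (hsq e he)
        calc d * (d * e) * d = (d * d) * e * d := by group
          _ = e * d := by rw [hdd, one_mul]
          _ = e⁻¹ * d⁻¹ := by rw [hei, hdinv]
          _ = (d * e)⁻¹ := by rw [mul_inv_rev]
      · calc e = (d * d) * e := by rw [hdd, one_mul]
          _ = d * (d * e) := by group
    · rintro ⟨s, hs, rfl⟩
      have hodd := odd_order_of_three hP3 hs.1
      set n := orderOf s with hn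
      have hx : s ^ ((n + 1) / 2) ∈ Inv P d := pow_mem_Inv hdd hs _
      have hxx : s ^ ((n + 1) / 2) * s ^ ((n + 1) / 2) = s := by
        rw [← pow_add]
        have h2 : (n + 1) / 2 + (n + 1) / 2 = n + 1 := by omega
        rw [h2, pow_succ, hn, pow_orderOf_eq_one, one_mul]
      have hxi := inv_mem_Inv hdd hx
      have h1 : d * (s ^ ((n + 1) / 2))⁻¹ * d = s ^ ((n + 1) / 2) := by
        rw [hxi.2, inv_inv]
      have h2 : d * s = (s ^ ((n + 1) / 2))⁻¹ * d * (s ^ ((n + 1) / 2))⁻¹⁻¹ := by
        calc d * s = d * (s ^ ((n + 1) / 2) * s ^ ((n + 1) / 2)) := by rw [hxx]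
          _ = d * ((d * (s ^ ((n + 1) / 2))⁻¹ * d) * s ^ ((n + 1) / 2)) := by rw [h1]
          _ = (d * d) * (s ^ ((n + 1) / 2))⁻¹ * d * s ^ ((n + 1) / 2) := by group
          _ = (s ^ ((n + 1) / 2))⁻¹ * d * (s ^ ((n + 1) / 2))⁻¹⁻¹ := by
            rw [hdd, one_mul, inv_inv]
      show d * s ∈ D
      rw [h2]
      exact hconjD d hd _
  -- `cube`
  have hcube : ∀ s ∈ Inv P d, ∀ t ∈ Inv P d, (s⁻¹ * t) ^ 3 = 1 := by
    intro s hs t ht
    have hsD : d * s ∈ D := by rw [hDI]; exact ⟨s, hs, rfl⟩
    have htD : d * t ∈ D := by rw [hDI]; exact ⟨t, ht, rfl⟩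
    have hmul : (d * s) * (d * t) = s⁻¹ * t := by
      calc (d * s) * (d * t) = (d * s * d) * t := by group
        _ = s⁻¹ * t := by rw [hs.2]
    rcases hprod _ hsD _ htD with h | h
    · rw [hmul] at h
      have hmem : s⁻¹ * t ∈ P := P.mul_mem (P.inv_mem hs.1) ht.1
      rw [eq_one_of_sq_of_three hP3 hmem h, one_pow]
    · rwa [hmul] at h
  -- `gen`
  have hgenP : Subgroup.closure (Inv P d) = P := by
    apply le_antisymm
    · apply (Subgroup.closure_le _).mpr
      intro s hs
      exact hs.1
    · -- `d` normalises `P0 := closure I`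
      have hnorm : ∀ p ∈ Subgroup.closure (Inv P d), d * p * d ∈ Subgroup.closure (Inv P d) := by
        intro p hp
        induction hp using Subgroup.closure_induction with
        | mem s hs =>
          rw [hs.2]
          exact Subgroup.inv_mem _ (Subgroup.subset_closure hs)
        | one =>
          rw [mul_one, hdd]
          exact Subgroup.one_mem _
        | mul x y _ _ hx hy =>
          have : d * (x * y) * d = (d * x * d) * (d * y * d) := by
            calc d * (x * y) * d = d * x * (d * d) * y * d := by rw [hdd, mul_one]; group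
              _ = (d * x * d) * (d * y * d) := by group
          rw [this]
          exact Subgroup.mul_mem _ hx hy
        | inv x _ hx =>
          have : d * x⁻¹ * d = (d * x * d)⁻¹ := by
            calc d * x⁻¹ * d = d⁻¹ * x⁻¹ * d⁻¹ := by rw [hdinv]
              _ = (d * x * d)⁻¹ := by group
          rw [this]
          exact Subgroup.inv_mem _ hx
      have hall : ∀ k : K, k ∈ Subgroup.closure (Inv P d) ∨ d * k ∈ Subgroup.closure (Inv P d) := by
        intro k
        have hk : k ∈ Subgroup.closure D := by rw [hgen]; exact Subgroup.mem_top k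
        induction hk using Subgroup.closure_induction with
        | mem e he =>
          right
          rw [hDI] at he
          obtain ⟨s, hs, rfl⟩ := he
          have : d * (d * s) = s := by
            calc d * (d * s) = (d * d) * s := by group
              _ = s := by rw [hdd, one_mul]
          rw [this]
          exact Subgroup.subset_closure hs
        | one => exact Or.inl (Subgroup.one_mem _)
        | mul x y _ _ hx hy =>
          rcases hx with hx | hx <;> rcases hy with hy | hy
          · exact Or.inl (Subgroup.mul_mem _ hx hy)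
          · right
            have : d * (x * y) = (d * x * d) * (d * y) := by
              calc d * (x * y) = d * x * (d * d) * y := by rw [hdd, mul_one]; group
                _ = (d * x * d) * (d * y) := by group
            rw [this]; exact Subgroup.mul_mem _ (hnorm x hx) hy
          · right
            have : d * (x * y) = (d * x) * y := by group
            rw [this]; exact Subgroup.mul_mem _ hx hy
          · left
            have : x * y = (d * (d * x) * d) * (d * y) := by
              calc x * y = (d * d) * x * ((d * d) * y) := by rw [hdd, one_mul, one_mul]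
                _ = (d * (d * x) * d) * (d * y) := by group
            rw [this]; exact Subgroup.mul_mem _ (hnorm _ hx) hy
        | inv x _ hx =>
          rcases hx with hx | hx
          · exact Or.inl (Subgroup.inv_mem _ hx)
          · right
            have : d * x⁻¹ = d * (d * x)⁻¹ * d := by
              calc d * x⁻¹ = d * x⁻¹ * (d⁻¹ * d) := by group
                _ = d * (d * x)⁻¹ * d := by group
            rw [this]; exact hnorm _ (Subgroup.inv_mem _ hx)
      intro p hp
      rcases hall p with h | h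
      · exact h
      · exfalso
        apply hdP
        have h1 : d * p ∈ P := by
          have hle : Subgroup.closure (Inv P d) ≤ P := by
            apply (Subgroup.closure_le _).mpr
            intro s hs
            exact hs.1
          exact hle h
        have : d = (d * p) * p⁻¹ := by group
        rw [this]; exact P.mul_mem h1 (P.inv_mem hp)
  exact ⟨⟨hPn, hP3, hdd, hdP, htop, hgenP, hcube⟩, hDI⟩

end Cfsg.Agent.Helper12.TT59
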