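import Mathlib
import Cfsg.Agent.Helper89.TT59Defs
import Cfsg.Agent.Helper89.TT59M1
import Cfsg.Agent.Helper12.TT59M23

/-!
# Piece (M4) of S5559 (helper89's plan, board #8609)
-/

set_option autoImplicit false

namespace Cfsg.Agent.Helper12.TT59

open Cfsg.Agent.Helper89.TT59

/-- the fixed points of `ρ a` -/
def fixSub {K : Type*} [Group K] {W : Type*} [Group W] (ρ : K →* MulAut W) (a : K) :
    Subgroup W where
  carrier := {w | ρ a w = w}
  mul_mem' := by
    intro x y hx hy
    show ρ a (x * y) = x * y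
    rw [map_mul, (hx : ρ a x = x), (hy : ρ a y = y)]
  one_mem' := map_one _
  inv_mem' := by
    intro x hx
    show ρ a x⁻¹ = x⁻¹
    rw [map_inv, (hx : ρ a x = x)]

theorem mem_fixSub {K : Type*} [Group K] {W : Type*} [Group W] (ρ : K →* MulAut W) (a : K)
    (w : W) : w ∈ fixSub ρ a ↔ ρ a w = w := Iff.rfl

/-- a central element `u` of `P` not fixed by `d` forces `P` to be cyclic, generated by an inverted
element -/
theorem central_fixed_or_cyclic {K : Type*} [Group K] {P : Subgroup K} {d : K} (hS : Setup P d)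
    (hcomm : ∀ s ∈ Inv P d, ∀ t ∈ Inv P d, s * t = t * s → s = 1 ∨ t ∈ Subgroup.zpowers s)
    (u : K) (hu : u ∈ P) (huc : ∀ x ∈ P, x * u = u * x) :
    d * u * d = u ∨ ∃ v ∈ Inv P d, v ≠ 1 ∧ P ≤ Subgroup.zpowers v := by
  have hdinv : d⁻¹ = d := inv_eq_of_mul_eq_one_right hS.dd
  by_cases hfix : d * u * d = u
  · exact Or.inl hfix
  · right
    have hdud : d * u⁻¹ * d ∈ P := by
      have := hS.normal.conj_mem u⁻¹ (P.inv_mem hu) d
      rwa [hdinv] at this
    have hvI : u * (d * u⁻¹ * d) ∈ Inv P d := by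
      refine ⟨P.mul_mem hu hdud, ?_⟩
      calc d * (u * (d * u⁻¹ * d)) * d = d * u * d * u⁻¹ * (d * d) := by group
        _ = d⁻¹ * u * d⁻¹ * u⁻¹ := by rw [hS.dd, mul_one, hdinv]
        _ = (u * (d * u⁻¹ * d))⁻¹ := by group
    have hv1 : u * (d * u⁻¹ * d) ≠ 1 := by
      intro h
      apply hfix
      have h1 : d * u⁻¹ * d = u⁻¹ := (inv_eq_of_mul_eq_one_right h).symm
      calc d * u * d = d⁻¹ * u⁻¹⁻¹ * d⁻¹ := by rw [hdinv, inv_inv]
        _ = (d * u⁻¹ * d)⁻¹ := by group
        _ = u := by rw [h1, inv_inv]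
    -- `v` is central in `P`
    have hvc : ∀ x ∈ P, x * (u * (d * u⁻¹ * d)) = (u * (d * u⁻¹ * d)) * x := by
      intro x hx
      have hdxd : d * x * d ∈ P := by
        have := hS.normal.conj_mem x hx d
        rwa [hdinv] at this
      have h1 := huc _ hdxd
      have h2 : x * (d * u⁻¹ * d) = (d * u⁻¹ * d) * x := by
        have h3 : (d * x * d) * u⁻¹ = u⁻¹ * (d * x * d) := by
          calc (d * x * d) * u⁻¹ = u⁻¹ * (u * (d * x * d)) * u⁻¹ := by group
            _ = u⁻¹ * ((d * x * d) * u) * u⁻¹ := by rw [h1]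
            _ = u⁻¹ * (d * x * d) := by group
        calc x * (d * u⁻¹ * d) = (d * d) * x * (d * u⁻¹ * d) := by rw [hS.dd, one_mul]
          _ = d * ((d * x * d) * u⁻¹) * d := by group
          _ = d * (u⁻¹ * (d * x * d)) * d := by rw [h3]
          _ = (d * u⁻¹ * d) * x * (d * d) := by group
          _ = (d * u⁻¹ * d) * x := by rw [hS.dd, mul_one]
      calc x * (u * (d * u⁻¹ * d)) = (x * u) * (d * u⁻¹ * d) := by group
        _ = (u * x) * (d * u⁻¹ * d) := by rw [huc x hx]
        _ = u * (x * (d * u⁻¹ * d)) := by group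
        _ = u * ((d * u⁻¹ * d) * x) := by rw [h2]
        _ = (u * (d * u⁻¹ * d)) * x := by group
    refine ⟨_, hvI, hv1, ?_⟩
    rw [← hS.gen]
    apply (Subgroup.closure_le _).mpr
    intro t ht
    rcases hcomm _ hvI t ht (hvc t ht.1).symm with h | h
    · exact absurd h hv1
    · exact h

/-- (M4) a faithful module whose proper submodules are centralised by `P` forces `Ω₁(Z(P))` to
have order at most 3 -/
theorem center_rank_one {K : Type*} [Group K] [Finite K] {W : Type*} [Group W]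
    (hWc : ∀ a b : W, a * b = b * a) (hW2 : ∀ w : W, w * w = 1) (ρ : K →* MulAut W)
    (hρ : Function.Injective ρ) {P : Subgroup K} {d : K} (hS : Setup P d)
    (hstar : ∀ s ∈ Inv P d, s ≠ 1 → ∀ w : W, ρ s w = w → ρ d w = w)
    (hmin : ∀ W' : Subgroup W, (∀ k : K, ∀ w ∈ W', ρ k w ∈ W') → W' ≠ ⊤ →
      ∀ x ∈ P, ∀ w ∈ W', ρ x w = w) :
    ∀ z ∈ P, ∀ z' ∈ P, (∀ x ∈ P, x * z = z * x) → (∀ x ∈ P, x * z' = z' * x) →
      z ^ 3 = 1 → z' ^ 3 = 1 → z = 1 ∨ z' ∈ Subgroup.zpowers z := by
  intro z hz z' hz' hzc hz'c hz3 hz'3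
  by_contra hcon
  push Not at hcon
  obtain ⟨hz1, hz'z⟩ := hcon
  have hdinv : d⁻¹ = d := inv_eq_of_mul_eq_one_right hS.dd
  have hd1 : d ≠ 1 := by
    rintro rfl
    exact hS.dP P.one_mem
  have hd : ρ d ≠ 1 := by
    intro h
    apply hd1
    apply hρ
    rw [h, map_one]
  have hcomm := no_inverted_rank_two hWc hW2 ρ hS hstar hd
  -- the cyclic case is impossible
  have hnc : ¬ ∃ v ∈ Inv P d, v ≠ 1 ∧ P ≤ Subgroup.zpowers v := by
    rintro ⟨v, hv, hv1, hPv⟩
    apply hz'z
    have : Fact (Nat.Prime 3) := ⟨Nat.prime_three⟩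
    have hov : orderOf v = 3 := orderOf_eq_prime_iff.mpr ⟨hS.pow_three hv, hv1⟩
    have hoz : orderOf z = 3 := orderOf_eq_prime_iff.mpr ⟨hz3, hz1⟩
    have hle : Subgroup.zpowers z ≤ Subgroup.zpowers v := Subgroup.zpowers_le.mpr (hPv hz)
    have hcard : Nat.card (Subgroup.zpowers v) ≤ Nat.card (Subgroup.zpowers z) := by
      rw [Nat.card_zpowers, Nat.card_zpowers, hov, hoz]
    have heq : Subgroup.zpowers z = Subgroup.zpowers v := Subgroup.eq_of_le_of_card_ge hle hcard
    rw [heq]
    exact hPv hz'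
  have hzd : d * z * d = z := (central_fixed_or_cyclic hS hcomm z hz hzc).resolve_right hnc
  have hz'd : d * z' * d = z' := (central_fixed_or_cyclic hS hcomm z' hz' hz'c).resolve_right hnc
  -- elements of `P` central in `P` and fixed by `d` are central in `K`
  have hcentral : ∀ a ∈ P, (∀ x ∈ P, x * a = a * x) → d * a * d = a → ∀ k : K, k * a = a * k := by
    intro a ha hac had k
    have hda : d * a = a * d := by
      calc d * a = (d * a * d) * d⁻¹ := by group
        _ = a * d := by rw [had, hdinv]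
    rcases hS.top k with hk | hk
    · exact hac k hk
    · calc k * a = d⁻¹ * ((d * k) * a) := by group
        _ = d⁻¹ * (a * (d * k)) := by rw [hac _ hk]
        _ = d * a * (d * k) := by rw [hdinv, mul_assoc]
        _ = a * d * (d * k) := by rw [hda]
        _ = a * ((d * d) * k) := by group
        _ = a * k := by rw [hS.dd, one_mul]
  -- the fixed points of a nontrivial central element of `K` in `P` are centralised by `P`
  have hfix : ∀ a ∈ P, a ≠ 1 → (∀ k : K, k * a = a * k) →
      ∀ x ∈ P, ∀ w : W, ρ a w = w → ρ x w = w := by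
    intro a ha ha1 hak x hx w hw
    refine hmin (fixSub ρ a) ?_ ?_ x hx w hw
    · intro k w hw
      rw [mem_fixSub] at hw ⊢
      calc ρ a (ρ k w) = (ρ a * ρ k) w := rfl
        _ = ρ (a * k) w := by rw [map_mul]
        _ = ρ (k * a) w := by rw [hak k]
        _ = (ρ k * ρ a) w := by rw [map_mul]
        _ = ρ k (ρ a w) := rfl
        _ = ρ k w := by rw [hw]
    · intro htop
      apply ha1
      apply hρ
      rw [map_one]
      ext w
      have : w ∈ fixSub ρ a := by rw [htop]; exact Subgroup.mem_top w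
      rw [MulAut.one_apply]
      exact this
  -- the four elements
  have hzz' : z * z' = z' * z := (hzc z' hz').symm
  have hz'1 : z' ≠ 1 := by
    rintro rfl
    exact hz'z (Subgroup.one_mem _)
  have hzz'1 : z * z' ≠ 1 := by
    intro h
    apply hz'z
    have : z' = z⁻¹ := (inv_eq_of_mul_eq_one_right h).symm
    rw [this]
    exact Subgroup.inv_mem _ (Subgroup.mem_zpowers z)
  have hziz'1 : z⁻¹ * z' ≠ 1 := by
    intro h
    apply hz'z
    have : z' = z := by
      have := inv_eq_of_mul_eq_one_right h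
      rw [inv_inv] at this
      exact this.symm
    rw [this]
    exact Subgroup.mem_zpowers z
  have hzK := hcentral z hz hzc hzd
  have hz'K := hcentral z' hz' hz'c hz'd
  have hzz'K : ∀ k : K, k * (z * z') = (z * z') * k := by
    intro k
    calc k * (z * z') = (k * z) * z' := by group
      _ = (z * k) * z' := by rw [hzK k]
      _ = z * (k * z') := by group
      _ = z * (z' * k) := by rw [hz'K k]
      _ = (z * z') * k := by group
  have hziK : ∀ k : K, k * z⁻¹ = z⁻¹ * k := by
    intro k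
    calc k * z⁻¹ = z⁻¹ * (z * k) * z⁻¹ := by group
      _ = z⁻¹ * (k * z) * z⁻¹ := by rw [hzK k]
      _ = z⁻¹ * k := by group
  have hziz'K : ∀ k : K, k * (z⁻¹ * z') = (z⁻¹ * z') * k := by
    intro k
    calc k * (z⁻¹ * z') = (k * z⁻¹) * z' := by group
      _ = (z⁻¹ * k) * z' := by rw [hziK k]
      _ = z⁻¹ * (k * z') := by group
      _ = z⁻¹ * (z' * k) := by rw [hz'K k]
      _ = (z⁻¹ * z') * k := by group
  -- `P` acts trivially on `W`
  have htriv : ∀ x ∈ P, ρ x = 1 := by
    intro x hx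
    ext w
    obtain ⟨w1, w2, w3, w4, h1, h2, h3, h4, rfl⟩ :=
      gen_of_commuting_cubes hWc hW2 (ρ z) (ρ z') (by rw [← map_mul, ← map_mul, hzz'])
        (by rw [← map_pow, hz3, map_one]) (by rw [← map_pow, hz'3, map_one]) w
    simp only [map_mul, MulAut.one_apply]
    rw [hfix z hz hz1 hzK x hx w1 h1, hfix z' hz' hz'1 hz'K x hx w2 h2,
      hfix (z * z') (P.mul_mem hz hz') hzz'1 hzz'K x hx w3 (by rw [map_mul]; exact h3),
      hfix (z⁻¹ * z') (P.mul_mem (P.inv_mem hz) hz') hziz'1 hziz'K x hx w4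
        (by rw [map_mul, map_inv]; exact h4)]
  apply hz1
  apply hρ
  rw [htriv z hz, map_one]

end Cfsg.Agent.Helper12.TT59
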