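import Mathlib

/-!
# Piece (PC) of S5979 (helper44's plan, board #7763)
-/

set_option autoImplicit false

namespace Cfsg.Agent.Helper12.Tens

open Matrix Polynomial
open scoped Kronecker

universe u

variable {F : Type u} [Field F] {n a b : ℕ}

/-- (PC) -/
theorem irreducible_mul_pow_ne_pow (f g : F[X]) (hf : Irreducible f) (hdeg : 2 ≤ f.natDegree)
    (m a : ℕ) (ha : 2 ≤ a) : f * (X - C 1) ^ m ≠ g ^ a := by
  intro h
  have hp : Prime f := hf.prime
  have hfg : f ∣ g := hp.dvd_of_dvd_pow (Dvd.intro _ h)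
  obtain ⟨k, rfl⟩ := hfg
  obtain ⟨a', rfl⟩ : ∃ a', a = a' + 2 := ⟨a - 2, by omega⟩
  have h2 : (X - C 1 : F[X]) ^ m = f * (f ^ a' * k ^ (a' + 2)) := by
    apply mul_left_cancel₀ hf.ne_zero
    rw [h]; ring
  have h3 : f ∣ (X - C 1 : F[X]) ^ m := Dvd.intro _ h2.symm
  have h4 : f ∣ (X - C 1 : F[X]) := hp.dvd_of_dvd_pow h3
  have h5 := Polynomial.natDegree_le_of_dvd h4 (X_sub_C_ne_zero 1)
  rw [natDegree_X_sub_C] at h5
  omega

end Cfsg.Agent.Helper12.Tens
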