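import Mathlib

/-!
# Piece (T1) of S5979 (helper44's plan, board #7763): `rank (1 ⊗ₖ M) = a * rank M`
-/

set_option autoImplicit false

namespace Cfsg.Agent.Helper12.Tens

open Matrix Polynomial
open scoped Kronecker

universe u

variable {F : Type u} [Field F] {n a b : ℕ}

theorem rank_one_kronecker_diagonal (D : Fin b → F) :
    ((1 : Matrix (Fin a) (Fin a) F) ⊗ₖ (diagonal D)).rank = a * (diagonal D).rank := by
  classical
  rw [← Matrix.diagonal_one, Matrix.diagonal_kronecker_diagonal, Matrix.rank_diagonal,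
    Matrix.rank_diagonal]
  have e : {p : Fin a × Fin b // (1 : F) * D p.2 ≠ 0} ≃ Fin a × {j : Fin b // D j ≠ 0} :=
    { toFun := fun p => (p.1.1, ⟨p.1.2, by have := p.2; rwa [one_mul] at this⟩)
      invFun := fun p => ⟨(p.1, p.2.1), by rw [one_mul]; exact p.2.2⟩
      left_inv := fun p => by rfl
      right_inv := fun p => by rfl }
  rw [Fintype.card_congr e, Fintype.card_prod, Fintype.card_fin]

/-- (T1) -/
theorem rank_one_kronecker (M : Matrix (Fin b) (Fin b) F) :
    ((1 : Matrix (Fin a) (Fin a) F) ⊗ₖ M).rank = a * M.rank := by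
  classical
  obtain ⟨L, L', D, h⟩ := Matrix.Pivot.exists_list_transvec_mul_diagonal_mul_list_transvec M
  have hP : IsUnit ((L.map Matrix.TransvectionStruct.toMatrix).prod).det := by
    rw [Matrix.TransvectionStruct.det_toMatrix_prod]; exact isUnit_one
  have hQ : IsUnit ((L'.map Matrix.TransvectionStruct.toMatrix).prod).det := by
    rw [Matrix.TransvectionStruct.det_toMatrix_prod]; exact isUnit_one
  have hM : M.rank = (diagonal D).rank := by
    rw [h, Matrix.rank_mul_eq_left_of_isUnit_det _ _ hQ,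
      Matrix.rank_mul_eq_right_of_isUnit_det _ _ hP]
  have hk : (1 : Matrix (Fin a) (Fin a) F) ⊗ₖ M =
      ((1 : Matrix (Fin a) (Fin a) F) ⊗ₖ (L.map Matrix.TransvectionStruct.toMatrix).prod) *
        ((1 : Matrix (Fin a) (Fin a) F) ⊗ₖ (diagonal D)) *
        ((1 : Matrix (Fin a) (Fin a) F) ⊗ₖ (L'.map Matrix.TransvectionStruct.toMatrix).prod) := by
    rw [← Matrix.mul_kronecker_mul, ← Matrix.mul_kronecker_mul, one_mul, one_mul, ← h]
  have hP' : IsUnit ((1 : Matrix (Fin a) (Fin a) F) ⊗ₖ
      (L.map Matrix.TransvectionStruct.toMatrix).prod).det := by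
    rw [Matrix.det_kronecker, Matrix.det_one, one_pow, one_mul,
      Matrix.TransvectionStruct.det_toMatrix_prod, one_pow]
    exact isUnit_one
  have hQ' : IsUnit ((1 : Matrix (Fin a) (Fin a) F) ⊗ₖ
      (L'.map Matrix.TransvectionStruct.toMatrix).prod).det := by
    rw [Matrix.det_kronecker, Matrix.det_one, one_pow, one_mul,
      Matrix.TransvectionStruct.det_toMatrix_prod, one_pow]
    exact isUnit_one
  rw [hk, Matrix.rank_mul_eq_left_of_isUnit_det _ _ hQ',
    Matrix.rank_mul_eq_right_of_isUnit_det _ _ hP', rank_one_kronecker_diagonal, hM]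

end Cfsg.Agent.Helper12.Tens
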