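import Mathlib

/-!
# Piece (T2) of S5979 (helper44's plan, board #7763): `charpoly (1 ⊗ₖ M) = charpoly M ^ a`
-/

set_option autoImplicit false

namespace Cfsg.Agent.Helper12.Tens

open Matrix Polynomial
open scoped Kronecker

universe u

variable {F : Type u} [Field F] {n a b : ℕ}

theorem charmatrix_one_kronecker (M : Matrix (Fin b) (Fin b) F) :
    ((1 : Matrix (Fin a) (Fin a) F) ⊗ₖ M).charmatrix =
      (1 : Matrix (Fin a) (Fin a) F[X]) ⊗ₖ M.charmatrix := by
  ext ⟨i, j⟩ ⟨i', j'⟩
  simp only [Matrix.charmatrix_apply, Matrix.kroneckerMap_apply, Matrix.one_apply,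
    Matrix.diagonal_apply, Prod.mk.injEq]
  by_cases hi : i = i' <;> by_cases hj : j = j' <;> simp [hi, hj]

/-- (T2) -/
theorem charpoly_one_kronecker (M : Matrix (Fin b) (Fin b) F) :
    ((1 : Matrix (Fin a) (Fin a) F) ⊗ₖ M).charpoly = M.charpoly ^ a := by
  unfold Matrix.charpoly
  rw [charmatrix_one_kronecker, Matrix.det_kronecker, Matrix.det_one, one_pow, one_mul,
    Fintype.card_fin]

end Cfsg.Agent.Helper12.Tens
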