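import Mathlib
import Cfsg.Agent.Helper99.SpStructB
import Cfsg.Agent.Helper43.SpOrthA

/-!
# Pieces (AR1), (AR2) of S5980 (helper45's plan, board #8070)
-/

set_option autoImplicit false
open scoped MatrixGroups

namespace Cfsg.Agent.Helper12.Tsp

open Matrix Polynomial Cfsg.Geo
open Cfsg.Agent.Helper99.SpStruct

universe u

variable {F : Type u} [Field F] {a b d : ℕ}

/-- the order of `q` modulo `r` divides `k` as soon as `r ∣ q ^ k - 1` -/
theorem tsp_orderOf_dvd_of_dvd_pow_sub_one {q r k : ℕ} (hq : 1 ≤ q)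
    (h : r ∣ q ^ k - 1) : orderOf (q : ZMod r) ∣ k := by
  apply orderOf_dvd_of_pow_eq_one
  have h1 : 1 ≤ q ^ k := Nat.one_le_pow _ _ hq
  have h2 : ((q ^ k - 1 : ℕ) : ZMod r) = 0 := (ZMod.natCast_eq_zero_iff _ _).mpr h
  rw [Nat.cast_sub h1, Nat.cast_pow, Nat.cast_one, sub_eq_zero] at h2
  exact h2

/-- (AR2) a prime `r ≠ p` dividing `|GL_a(q)|` has `i ≤ a` -/
theorem orderOf_le_of_dvd_card_gl [Fintype F] {r : ℕ} (hr : r.Prime)
    (hrq : ¬ r ∣ Fintype.card F) (hdvd : r ∣ Nat.card (GL (Fin a) F)) :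
    orderOf ((Fintype.card F : ℕ) : ZMod r) ≤ a := by
  classical
  have hq : 1 ≤ Fintype.card F := Fintype.card_pos
  rw [Matrix.card_GL_field] at hdvd
  obtain ⟨i, -, hi⟩ := (Prime.dvd_finsetProd_iff hr.prime _).mp hdvd
  have hia : (i : ℕ) < a := i.2
  have hfac : Fintype.card F ^ a - Fintype.card F ^ (i : ℕ) =
      Fintype.card F ^ (i : ℕ) * (Fintype.card F ^ (a - i) - 1) := by
    rw [Nat.mul_sub, mul_one, ← pow_add, Nat.add_sub_cancel' hia.le]
  rw [hfac] at hi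
  have h2 : r ∣ Fintype.card F ^ (a - i) - 1 := by
    rcases (Nat.Prime.dvd_mul hr).mp hi with h | h
    · exact absurd (hr.dvd_of_dvd_pow h) hrq
    · exact h
  have h3 := tsp_orderOf_dvd_of_dvd_pow_sub_one hq h2
  have h4 := Nat.le_of_dvd (by omega) h3
  omega

/-- (AR1) a prime `r ≠ p` dividing `|Sp_{2d}(q)|` has block size at most `2d` -/
theorem blockSize_le_of_dvd_card_sp [Fintype F] {r : ℕ} (hr : r.Prime)
    (hrq : ¬ r ∣ Fintype.card F) (hdvd : r ∣ Nat.card ↥(Cfsg.spGL d F)) :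
    blockSize (orderOf ((Fintype.card F : ℕ) : ZMod r)) ≤ 2 * d := by
  have hq : 1 ≤ Fintype.card F := Fintype.card_pos
  rw [Cfsg.Agent.Helper43.SpOrth.card_spGL] at hdvd
  have h2 : r ∣ ∏ i ∈ Finset.range d, (Fintype.card F ^ (2 * (i + 1)) - 1) := by
    rcases (Nat.Prime.dvd_mul hr).mp hdvd with h | h
    · exact absurd (hr.dvd_of_dvd_pow h) hrq
    · exact h
  obtain ⟨i, hi, hri⟩ := (Prime.dvd_finsetProd_iff hr.prime _).mp h2
  rw [Finset.mem_range] at hi
  have h3 := tsp_orderOf_dvd_of_dvd_pow_sub_one hq hri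
  unfold blockSize
  split_ifs with he
  · have := Nat.le_of_dvd (by omega) h3
    omega
  · rw [Nat.not_even_iff_odd] at he
    have hc : Nat.Coprime (orderOf ((Fintype.card F : ℕ) : ZMod r)) 2 := by
      rw [Nat.coprime_two_right]
      exact he
    have h4 : orderOf ((Fintype.card F : ℕ) : ZMod r) ∣ i + 1 :=
      hc.dvd_of_dvd_mul_left h3
    have := Nat.le_of_dvd (by omega) h4
    omega

end Cfsg.Agent.Helper12.Tsp
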