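import Mathlib
import Cfsg.Prelude.Def_GeometricClasses

/-!
# Piece (J2) of S5980 (helper45's plan, board #8070)
-/

set_option autoImplicit false
open scoped MatrixGroups

namespace Cfsg.Agent.Helper12.Tsp

open Matrix Polynomial Cfsg.Geo

universe u

variable {F : Type u} [Field F] {a b d : ℕ}

/-- an alternating form on `F²` is a multiple of the determinant -/
theorem tsp_form_two {f₁ : (Fin 2 → F) → (Fin 2 → F) → F} (hf₁ : Cfsg.Geo.IsSymplecticForm f₁)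
    (u v : Fin 2 → F) :
    f₁ u v = (u 0 * v 1 - u 1 * v 0) * f₁ ![1, 0] ![0, 1] := by
  have hu : u = u 0 • ![1, 0] + u 1 • ![0, 1] := by
    ext i; fin_cases i <;> simp
  have hv : v = v 0 • ![1, 0] + v 1 • ![0, 1] := by
    ext i; fin_cases i <;> simp
  have h10 : f₁ ![0, 1] ![1, 0] = - f₁ ![1, 0] ![0, 1] := hf₁.skew _ _
  conv_lhs => rw [hu, hv]
  rw [hf₁.bilinear.add_left, hf₁.bilinear.smul_left, hf₁.bilinear.smul_left,
    hf₁.bilinear.add_right, hf₁.bilinear.add_right, hf₁.bilinear.smul_right,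
    hf₁.bilinear.smul_right, hf₁.bilinear.smul_right, hf₁.bilinear.smul_right,
    hf₁.alternating, hf₁.alternating, h10]
  ring

/-- (J2) the rotation `!![0, 1; -1, 0]` preserves every alternating form on `F²` -/
theorem rot_preserves {f₁ : (Fin 2 → F) → (Fin 2 → F) → F} (hf₁ : Cfsg.Geo.IsSymplecticForm f₁) :
    ∃ A : GL (Fin 2) F, (A : Matrix (Fin 2) (Fin 2) F) * (A : Matrix (Fin 2) (Fin 2) F) = -1 ∧
      ∀ u v : Fin 2 → F, f₁ ((A : Matrix (Fin 2) (Fin 2) F) *ᵥ u)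
        ((A : Matrix (Fin 2) (Fin 2) F) *ᵥ v) = f₁ u v := by
  have hmul : (!![0, 1; -1, 0] : Matrix (Fin 2) (Fin 2) F) * !![0, -1; 1, 0] = 1 := by
    ext i j; fin_cases i <;> fin_cases j <;> simp [Matrix.mul_apply, Fin.sum_univ_two]
  have hmul' : (!![0, -1; 1, 0] : Matrix (Fin 2) (Fin 2) F) * !![0, 1; -1, 0] = 1 := by
    ext i j; fin_cases i <;> fin_cases j <;> simp [Matrix.mul_apply, Fin.sum_univ_two]
  refine ⟨⟨!![0, 1; -1, 0], !![0, -1; 1, 0], hmul, hmul'⟩, ?_, ?_⟩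
  · show (!![0, 1; -1, 0] : Matrix (Fin 2) (Fin 2) F) * !![0, 1; -1, 0] = -1
    ext i j; fin_cases i <;> fin_cases j <;> simp [Matrix.mul_apply, Fin.sum_univ_two]
  · intro u v
    show f₁ ((!![0, 1; -1, 0] : Matrix (Fin 2) (Fin 2) F) *ᵥ u)
      ((!![0, 1; -1, 0] : Matrix (Fin 2) (Fin 2) F) *ᵥ v) = f₁ u v
    rw [tsp_form_two hf₁, tsp_form_two hf₁ u v]
    congr 1
    simp [Matrix.mulVec, dotProduct, Fin.sum_univ_two]
    ring

end Cfsg.Agent.Helper12.Tsp
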