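import Mathlib

/-!
# Piece (KC) of S5980 (helper45's plan, board #8070): `charpoly (M ⊗ₖ 1) = charpoly M ^ b`
-/

set_option autoImplicit false

namespace Cfsg.Agent.Helper12.Tsp

open Matrix Polynomial
open scoped Kronecker

universe u

variable {F : Type u} [Field F] {a b d : ℕ}

theorem charmatrix_kronecker_one (M : Matrix (Fin a) (Fin a) F) :
    (M ⊗ₖ (1 : Matrix (Fin b) (Fin b) F)).charmatrix =
      M.charmatrix ⊗ₖ (1 : Matrix (Fin b) (Fin b) F[X]) := by
  ext ⟨i, j⟩ ⟨i', j'⟩
  simp only [Matrix.charmatrix_apply, Matrix.kroneckerMap_apply, Matrix.one_apply,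
    Matrix.diagonal_apply, Prod.mk.injEq]
  by_cases hi : i = i' <;> by_cases hj : j = j' <;> simp [hi, hj]

/-- (KC) mirror of (T2) `charpoly_one_kronecker` -/
theorem charpoly_kronecker_one (M : Matrix (Fin a) (Fin a) F) :
    (M ⊗ₖ (1 : Matrix (Fin b) (Fin b) F)).charpoly = M.charpoly ^ b := by
  unfold Matrix.charpoly
  rw [charmatrix_kronecker_one, Matrix.det_kronecker, Matrix.det_one, one_pow, mul_one,
    Fintype.card_fin]

end Cfsg.Agent.Helper12.Tsp
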