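import Mathlib
import Cfsg.Agent.Helper44.TensT

/-!
# Piece (KTop) of S5980 (helper45's plan, board #8070): mirror of helper44's (T)
-/

set_option autoImplicit false

namespace Cfsg.Agent.Helper12.Tsp

open Matrix Polynomial
open scoped Kronecker

universe u

variable {F : Type u} [Field F] {a b d : ℕ}

theorem kronecker_swap_sub (A : Matrix (Fin a) (Fin a) F) (B : Matrix (Fin b) (Fin b) F) (c : F) :
    B ⊗ₖ A - c • (1 : Matrix (Fin b × Fin a) (Fin b × Fin a) F) =
      Matrix.reindex (Equiv.prodComm (Fin a) (Fin b)) (Equiv.prodComm (Fin a) (Fin b))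
        (A ⊗ₖ B - c • (1 : Matrix (Fin a × Fin b) (Fin a × Fin b) F)) := by
  ext ⟨j, i⟩ ⟨j', i'⟩
  simp only [Matrix.sub_apply, Matrix.kroneckerMap_apply, Matrix.smul_apply, Matrix.one_apply,
    Matrix.reindex_apply, Matrix.submatrix_apply, Equiv.prodComm_symm, Equiv.prodComm_apply,
    Prod.swap_prod_mk, Prod.mk.injEq, smul_eq_mul]
  by_cases hi : i = i' <;> by_cases hj : j = j' <;> simp [hi, hj, mul_comm]

/-- (KTop) mirror of helper44's (T) `scalar_of_rank_kron_lt` -/
theorem scalar_right_of_rank_kron_lt (A : GL (Fin a) F) (B : GL (Fin b) F) (c : F)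
    (h : ((A : Matrix (Fin a) (Fin a) F) ⊗ₖ (B : Matrix (Fin b) (Fin b) F)
      - c • (1 : Matrix (Fin a × Fin b) (Fin a × Fin b) F)).rank < a) :
    ∃ β : F, (B : Matrix (Fin b) (Fin b) F) = β • (1 : Matrix (Fin b) (Fin b) F) := by
  apply Cfsg.Agent.Helper44.Tens.scalar_of_rank_kron_lt B A c
  rw [kronecker_swap_sub, Matrix.rank_reindex]
  exact h

end Cfsg.Agent.Helper12.Tsp
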