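import Mathlib

/-!
# Twisted two-transitive actions and an incidence count (helper12)

For a finite group `G` acting doubly transitively on `Ω` and an automorphism `α` of `G`, we study the
orbits of `α (G_o)` on `Ω`.  Tools: Burnside's lemma, a sum-of-squares (Cauchy–Schwarz) argument and
a double count in the incidence structure `{(h • o, α h • ω)}`.
-/

set_option autoImplicit false

namespace Cfsg.Agent.Helper12.TwistDesign

open MulAction

section Count

variable {G : Type*} [Group G] {Ω : Type*} [Fintype Ω] [DecidableEq Ω] [MulAction G Ω]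

/-- Number of fixed points. -/
def fixN (Ω : Type*) [Fintype Ω] [DecidableEq Ω] [MulAction G Ω] (g : G) : ℕ :=
  (Finset.univ.filter fun x : Ω => g • x = x).card

theorem fixN_eq_sum (g : G) : fixN Ω g = ∑ x : Ω, if g • x = x then 1 else 0 := by
  unfold fixN
  rw [Finset.card_filter]

theorem fixN_conj (t g : G) : fixN Ω (t * g * t⁻¹) = fixN Ω g := by
  unfold fixN
  refine Finset.card_equiv (MulAction.toPerm t⁻¹) fun x => ?_
  simp only [Finset.mem_filter, Finset.mem_univ, true_and, MulAction.toPerm_apply]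
  rw [mul_smul, mul_smul, smul_eq_iff_eq_inv_smul]

theorem fixN_eq_natCard (g : G) : fixN Ω g = Nat.card (fixedBy Ω g) := by
  rw [Nat.card_eq_fintype_card]
  exact (Fintype.card_of_subtype _ (fun x => by simp [mem_fixedBy])).symm

variable [Fintype G]

open Classical in
/-- Burnside's lemma for a subgroup, in terms of `fixN`. -/
theorem sum_fixN_subgroup (M : Subgroup G) :
    ∑ m : M, fixN Ω (m : G) = Nat.card (orbitRel.Quotient M Ω) * Nat.card M := by
  classical
  have h := MulAction.sum_card_fixedBy_eq_card_orbits_mul_card_group M Ω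
  simp only [← Nat.card_eq_fintype_card] at h
  rw [← h]
  refine Finset.sum_congr rfl fun m _ => ?_
  rw [fixN_eq_natCard]
  rfl

open Classical in
/-- The basic count: `∑ fix(g) fix(β g) = |G| · #orbits of β(G_o)`. -/
theorem sum_fixN_mul_fixN [IsPretransitive G Ω] (β : G ≃* G) (o : Ω) :
    ∑ g : G, fixN Ω g * fixN Ω (β g) =
      Nat.card G * Nat.card (orbitRel.Quotient ((stabilizer G o).map β.toMonoidHom) Ω) := by
  classical
  have h1 : ∑ g : G, fixN Ω g * fixN Ω (β g) =
      ∑ x : Ω, ∑ g : G, if g • x = x then fixN Ω (β g) else 0 := by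
    rw [Finset.sum_comm]
    refine Finset.sum_congr rfl fun g _ => ?_
    rw [fixN_eq_sum, Finset.sum_mul]
    refine Finset.sum_congr rfl fun x _ => ?_
    split_ifs <;> simp
  have h2 : ∀ x : Ω, (∑ g : G, if g • x = x then fixN Ω (β g) else 0) =
      ∑ g : G, if g • o = o then fixN Ω (β g) else 0 := by
    intro x
    obtain ⟨t, rfl⟩ := exists_smul_eq G o x
    rw [← Equiv.sum_comp (MulAut.conj t).toEquiv]
    refine Finset.sum_congr rfl fun g _ => ?_
    have hiff : (t * g * t⁻¹) • t • o = t • o ↔ g • o = o := by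
      rw [← mul_smul, inv_mul_cancel_right, mul_smul]
      exact smul_left_cancel_iff t
    have hfix : fixN Ω (β (t * g * t⁻¹)) = fixN Ω (β g) := by
      rw [map_mul, map_mul, map_inv, fixN_conj]
    simp only [MulEquiv.toEquiv_eq_coe, EquivLike.coe_coe, MulAut.conj_apply, hiff, hfix]
  have h3 : (∑ g : G, if g • o = o then fixN Ω (β g) else 0) =
      ∑ m : ((stabilizer G o).map β.toMonoidHom), fixN Ω (m : G) := by
    rw [← Finset.sum_filter]
    rw [Finset.sum_subtype (Finset.univ.filter fun g : G => g • o = o)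
      (p := fun g => g ∈ stabilizer G o) (fun g => by simp [mem_stabilizer_iff])]
    let e := (stabilizer G o).equivMapOfInjective β.toMonoidHom β.injective
    rw [← Equiv.sum_comp e.toEquiv]
    refine Finset.sum_congr rfl fun h _ => ?_
    rfl
  rw [h1, Finset.sum_congr rfl (fun x _ => h2 x), Finset.sum_const, h3, sum_fixN_subgroup]
  have hcard : Nat.card ((stabilizer G o).map β.toMonoidHom) = Nat.card (stabilizer G o) :=
    (Nat.card_congr ((stabilizer G o).equivMapOfInjective β.toMonoidHom β.injective).toEquiv).symm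
  have hidx : Nat.card (stabilizer G o) * Fintype.card Ω = Nat.card G := by
    rw [← Nat.card_eq_fintype_card, ← MulAction.index_stabilizer_of_transitive G o]
    exact (stabilizer G o).card_mul_index
  rw [hcard, Finset.card_univ, smul_eq_mul, ← hidx]
  ring

end Count

section OrbitQuot

variable {M : Type*} [Group M] {Ω : Type*} [MulAction M Ω]

theorem mk_eq_mk_iff (x y : Ω) :
    (Quotient.mk'' x : orbitRel.Quotient M Ω) = Quotient.mk'' y ↔ x ∈ orbit M y := by
  rw [Quotient.eq'']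
  exact orbitRel_apply

theorem exists_not_mem_orbit_of_card_two (h : Nat.card (orbitRel.Quotient M Ω) = 2) (x : Ω) :
    ∃ y, y ∉ orbit M x := by
  obtain ⟨q₁, q₂, hne, -⟩ := Nat.card_eq_two_iff.mp h
  by_contra hall
  push Not at hall
  apply hne
  induction q₁ using Quotient.inductionOn' with
  | h a =>
    induction q₂ using Quotient.inductionOn' with
    | h b =>
      rw [(mk_eq_mk_iff a x).mpr (hall a), (mk_eq_mk_iff b x).mpr (hall b)]

theorem mem_orbit_of_card_two (h : Nat.card (orbitRel.Quotient M Ω) = 2) {x y y' : Ω}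
    (hy : y ∉ orbit M x) (hy' : y' ∉ orbit M x) : y' ∈ orbit M y := by
  obtain ⟨q₁, q₂, hne, huniv⟩ := Nat.card_eq_two_iff.mp h
  have hmem : ∀ q : orbitRel.Quotient M Ω, q = q₁ ∨ q = q₂ := by
    intro q
    have : q ∈ ({q₁, q₂} : Set _) := by rw [huniv]; exact Set.mem_univ q
    simpa using this
  have hx : (Quotient.mk'' y : orbitRel.Quotient M Ω) ≠ Quotient.mk'' x := fun e =>
    hy ((mk_eq_mk_iff y x).mp e)
  have hx' : (Quotient.mk'' y' : orbitRel.Quotient M Ω) ≠ Quotient.mk'' x := fun e =>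
    hy' ((mk_eq_mk_iff y' x).mp e)
  rw [← mk_eq_mk_iff]
  rcases hmem (Quotient.mk'' x) with e | e <;> rcases hmem (Quotient.mk'' y) with e1 | e1 <;>
    rcases hmem (Quotient.mk'' y') with e2 | e2 <;> simp_all

end OrbitQuot

section TwoTrans

variable {G : Type*} [Group G] [Fintype G] {Ω : Type*} [Fintype Ω] [DecidableEq Ω] [MulAction G Ω]

omit [Fintype G] in
theorem card_orbits_stabilizer (h2 : IsMultiplyPretransitive G Ω 2) (hn : 2 ≤ Fintype.card Ω)
    (o : Ω) : Nat.card (orbitRel.Quotient (stabilizer G o) Ω) = 2 := by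
  have h2' : ∀ a b c d : Ω, a ≠ b → c ≠ d → ∃ g : G, g • a = c ∧ g • b = d :=
    fun a b c d hab hcd => is_two_pretransitive_iff.mp h2 hab hcd
  obtain ⟨x, hx⟩ : ∃ x : Ω, x ≠ o := by
    have : Nontrivial Ω := Fintype.one_lt_card_iff_nontrivial.mp hn
    exact exists_ne o
  rw [Nat.card_eq_two_iff]
  refine ⟨Quotient.mk'' o, Quotient.mk'' x, ?_, ?_⟩
  · intro e
    have := (mk_eq_mk_iff (M := stabilizer G o) o x).mp e
    obtain ⟨g, hg⟩ := this
    apply hx
    have h1 : (g : G) • x = o := hg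
    have h3 : (g : G) • o = o := mem_stabilizer_iff.mp g.2
    exact smul_left_cancel (g : G) (h1.trans h3.symm)
  · rw [Set.eq_univ_iff_forall]
    intro q
    induction q using Quotient.inductionOn' with
    | h y =>
      by_cases hy : y = o
      · left; rw [hy]
      · right
        rw [Set.mem_singleton_iff, mk_eq_mk_iff]
        obtain ⟨g, hg1, hg2⟩ := h2' o x o y (Ne.symm hx) (Ne.symm hy)
        exact ⟨⟨g, mem_stabilizer_iff.mpr hg1⟩, hg2⟩

omit [Fintype G] [Fintype Ω] [DecidableEq Ω] in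
theorem card_orbits_congr {M M' : Subgroup G} (h : M = M') :
    Nat.card (orbitRel.Quotient M Ω) = Nat.card (orbitRel.Quotient M' Ω) := by
  subst h; rfl

theorem sum_fixN_sq (h2 : IsMultiplyPretransitive G Ω 2) (hn : 2 ≤ Fintype.card Ω) :
    ∑ g : G, fixN Ω g * fixN Ω g = Nat.card G * 2 := by
  have : IsPretransitive G Ω := isPretransitive_of_is_two_pretransitive
  obtain ⟨o⟩ : Nonempty Ω := Fintype.card_pos_iff.mp (by omega)
  have h := sum_fixN_mul_fixN (Ω := Ω) (MulEquiv.refl G) o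
  have hmap : (stabilizer G o).map (MulEquiv.refl G).toMonoidHom = stabilizer G o := by
    ext g; simp
  rw [card_orbits_congr hmap, card_orbits_stabilizer h2 hn o] at h
  exact h

/-- If `α (G_o)` is not transitive, then `α` preserves the number of fixed points and `α (G_o)`
has exactly two orbits. -/
theorem fixN_comp_eq (h2 : IsMultiplyPretransitive G Ω 2) (hn : 2 ≤ Fintype.card Ω)
    (α : G ≃* G) (o : Ω)
    (hK : Nat.card (orbitRel.Quotient ((stabilizer G o).map α.toMonoidHom) Ω) ≠ 1) :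
    (∀ g, fixN Ω (α g) = fixN Ω g) ∧
      Nat.card (orbitRel.Quotient ((stabilizer G o).map α.toMonoidHom) Ω) = 2 := by
  have : IsPretransitive G Ω := isPretransitive_of_is_two_pretransitive
  set c := Nat.card (orbitRel.Quotient ((stabilizer G o).map α.toMonoidHom) Ω) with hc
  have hcpos : 0 < c := by
    have : Nonempty (orbitRel.Quotient ((stabilizer G o).map α.toMonoidHom) Ω) :=
      ⟨Quotient.mk'' o⟩
    exact Nat.card_pos
  have hGpos : (0 : ℤ) < Nat.card G := by exact_mod_cast Nat.card_pos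
  have e1 : ∑ g : G, (fixN Ω g : ℤ) * fixN Ω g = Nat.card G * 2 := by
    exact_mod_cast sum_fixN_sq (Ω := Ω) h2 hn
  have e2 : ∑ g : G, (fixN Ω (α g) : ℤ) * fixN Ω (α g) = Nat.card G * 2 := by
    rw [← e1]
    exact Equiv.sum_comp α.toEquiv (fun g => (fixN Ω g : ℤ) * fixN Ω g)
  have e3 : ∑ g : G, (fixN Ω g : ℤ) * fixN Ω (α g) = Nat.card G * c := by
    exact_mod_cast sum_fixN_mul_fixN (Ω := Ω) α o
  have key : ∑ g : G, ((fixN Ω g : ℤ) - fixN Ω (α g)) ^ 2 =
      Nat.card G * 2 + Nat.card G * 2 - 2 * (Nat.card G * c) := by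
    have key0 : ∑ g : G, ((fixN Ω g : ℤ) - fixN Ω (α g)) ^ 2 =
        (∑ g : G, (fixN Ω g : ℤ) * fixN Ω g) + (∑ g : G, (fixN Ω (α g) : ℤ) * fixN Ω (α g))
          - 2 * ∑ g : G, (fixN Ω g : ℤ) * fixN Ω (α g) := by
      rw [Finset.mul_sum, ← Finset.sum_add_distrib, ← Finset.sum_sub_distrib]
      refine Finset.sum_congr rfl fun g _ => ?_
      ring
    rw [key0, e1, e2, e3]
  have hnonneg : (0 : ℤ) ≤ ∑ g : G, ((fixN Ω g : ℤ) - fixN Ω (α g)) ^ 2 :=
    Finset.sum_nonneg fun g _ => sq_nonneg _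
  have hc2 : c = 2 := by
    have hle : (c : ℤ) ≤ 2 := by
      by_contra hlt
      push Not at hlt
      have : (Nat.card G : ℤ) * 3 ≤ Nat.card G * c := by
        apply mul_le_mul_of_nonneg_left _ hGpos.le
        exact_mod_cast hlt
      nlinarith
    have hle' : c ≤ 2 := by exact_mod_cast hle
    omega
  refine ⟨fun g => ?_, hc2⟩
  have hzero : ∑ g : G, ((fixN Ω g : ℤ) - fixN Ω (α g)) ^ 2 = 0 := by
    rw [key, hc2]; push_cast; ring
  have := (Finset.sum_eq_zero_iff_of_nonneg (fun g _ => sq_nonneg _)).mp hzero g (Finset.mem_univ g)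
  have h0 : (fixN Ω g : ℤ) - fixN Ω (α g) = 0 := by
    exact pow_eq_zero_iff (two_ne_zero) |>.mp this
  have : (fixN Ω g : ℤ) = fixN Ω (α g) := sub_eq_zero.mp h0
  exact_mod_cast this.symm

/-- If `β` preserves the number of fixed points, `β (G_o)` has exactly two orbits. -/
theorem card_orbits_of_fixN_eq (h2 : IsMultiplyPretransitive G Ω 2) (hn : 2 ≤ Fintype.card Ω)
    (β : G ≃* G) (o : Ω) (hβ : ∀ g, fixN Ω (β g) = fixN Ω g) :
    Nat.card (orbitRel.Quotient ((stabilizer G o).map β.toMonoidHom) Ω) = 2 := by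
  have : IsPretransitive G Ω := isPretransitive_of_is_two_pretransitive
  have h := sum_fixN_mul_fixN (Ω := Ω) β o
  rw [Finset.sum_congr rfl (fun g _ => by rw [hβ g]), sum_fixN_sq h2 hn] at h
  exact (Nat.eq_of_mul_eq_mul_left Nat.card_pos h).symm

/-- The combinatorial core: if `K = α (G_o)` has exactly two orbits, one of them of length coprime
to `|Ω|`, and `L = α K` is intransitive, then `L` fixes a point. -/
theorem exists_fixed_point
    (h2 : IsMultiplyPretransitive G Ω 2) (α : G ≃* G) (o ω : Ω)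
    (K : Subgroup G) (hK : K = (stabilizer G o).map α.toMonoidHom)
    (L : Subgroup G) (hL : L = K.map α.toMonoidHom)
    (hcK : Nat.card (orbitRel.Quotient K Ω) = 2)
    (hcL : Nat.card (orbitRel.Quotient L Ω) = 2)
    (hcop : (Nat.card (orbit K ω)).Coprime (Fintype.card Ω)) :
    ∃ z₀ : Ω, ∀ l ∈ L, l • z₀ = z₀ := by
  classical
  have : IsPretransitive G Ω := isPretransitive_of_is_two_pretransitive
  have h2' : ∀ a b c d : Ω, a ≠ b → c ≠ d → ∃ g : G, g • a = c ∧ g • b = d :=
    fun a b c d hab hcd => is_two_pretransitive_iff.mp h2 hab hcd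
  set n := Fintype.card Ω with hn
  have memK : ∀ g, g ∈ K ↔ ∃ h, h • o = o ∧ α h = g := by
    intro g; subst hK; simp [Subgroup.mem_map, mem_stabilizer_iff]
  have memL : ∀ h ∈ K, α h ∈ L := by
    intro h hh; subst hL; exact Subgroup.mem_map_of_mem _ hh
  -- the incidence relation
  let I : Ω → Ω → Prop := fun y z => ∃ h : G, h • o = y ∧ α h • ω = z
  have I_smul : ∀ (g : G) (y z : Ω), I y z → I (g • y) (α g • z) := by
    rintro g y z ⟨h, rfl, rfl⟩
    exact ⟨g * h, mul_smul _ _ _, by rw [map_mul, mul_smul]⟩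
  have I_smul_iff : ∀ (g : G) (y z : Ω), I (g • y) (α g • z) ↔ I y z := by
    intro g y z
    refine ⟨fun h => ?_, I_smul g y z⟩
    have := I_smul g⁻¹ _ _ h
    simpa [map_inv] using this
  let B : Ω → Finset Ω := fun y => Finset.univ.filter (I y)
  let R : Ω → Finset Ω := fun z => Finset.univ.filter (fun y => I y z)
  have memB : ∀ y z, z ∈ B y ↔ I y z := fun y z => by simp [B]
  have memR : ∀ y z, y ∈ R z ↔ I y z := fun y z => by simp [R]
  let O : Finset Ω := Finset.univ.filter (fun z => z ∈ orbit K ω)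
  have memO : ∀ z, z ∈ O ↔ z ∈ orbit K ω := fun z => by simp [O]
  set k := Nat.card (orbit K ω) with hk
  have hOcard : O.card = k := by
    rw [hk, Nat.card_eq_fintype_card]
    exact (Fintype.card_of_subtype O memO).symm
  have hBo : B o = O := by
    ext z
    rw [memB, memO]
    constructor
    · rintro ⟨h, hh, rfl⟩
      exact ⟨⟨α h, (memK _).mpr ⟨h, hh, rfl⟩⟩, rfl⟩
    · rintro ⟨⟨m, hm⟩, rfl⟩
      obtain ⟨h, hh, rfl⟩ := (memK m).mp hm
      exact ⟨h, hh, rfl⟩
  have hBimage : ∀ (g : G) (y : Ω), B (g • y) = (B y).image (fun z => α g • z) := by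
    intro g y
    ext z
    rw [memB, Finset.mem_image]
    constructor
    · intro hz
      refine ⟨(α g)⁻¹ • z, ?_, by simp⟩
      rw [memB]
      apply (I_smul_iff g y ((α g)⁻¹ • z)).mp
      simpa using hz
    · rintro ⟨w, hw, rfl⟩
      exact I_smul g y w ((memB _ _).mp hw)
  have hBcard : ∀ y, (B y).card = k := by
    intro y
    obtain ⟨g, rfl⟩ := exists_smul_eq G o y
    rw [hBimage, Finset.card_image_of_injective _ (MulAction.injective (α g)), hBo, hOcard]
  have hRimage : ∀ (g : G) (z : Ω), R (α g • z) = (R z).image (fun y => g • y) := by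
    intro g z
    ext y
    rw [memR, Finset.mem_image]
    constructor
    · intro hy
      refine ⟨g⁻¹ • y, ?_, by simp⟩
      rw [memR]
      apply (I_smul_iff g (g⁻¹ • y) z).mp
      simpa using hy
    · rintro ⟨w, hw, rfl⟩
      exact I_smul g w z ((memR _ _).mp hw)
  have hRcard_eq : ∀ z z', (R z').card = (R z).card := by
    intro z z'
    obtain ⟨g', rfl⟩ := exists_smul_eq G z z'
    obtain ⟨g, rfl⟩ : ∃ g, α g = g' := ⟨α.symm g', by simp⟩
    rw [hRimage, Finset.card_image_of_injective _ (MulAction.injective g)]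
  have hnpos : 0 < n := Fintype.card_pos_iff.mpr ⟨o⟩
  have hRcard : ∀ z, (R z).card = k := by
    intro z
    have hsumRB : ∑ z' : Ω, (R z').card = ∑ y : Ω, (B y).card := by
      simp only [R, B, Finset.card_filter]
      exact Finset.sum_comm
    have h1 : ∑ z' : Ω, (R z').card = n * (R z).card := by
      rw [Finset.sum_congr rfl (fun z' _ => hRcard_eq z z'), Finset.sum_const, Finset.card_univ,
        smul_eq_mul]
    have h3 : ∑ y : Ω, (B y).card = n * k := by
      rw [Finset.sum_congr rfl (fun y _ => hBcard y), Finset.sum_const, Finset.card_univ,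
        smul_eq_mul]
    exact Nat.eq_of_mul_eq_mul_left hnpos (by rw [← h1, hsumRB, h3])
  -- the counting function attached to an `L`-invariant set
  let f : Finset Ω → Ω → ℕ := fun S y => ((B y).filter (fun z => z ∈ S)).card
  have f_inv : ∀ (S : Finset Ω), (∀ l ∈ L, ∀ z, z ∈ S ↔ l • z ∈ S) → ∀ m ∈ K, ∀ y,
      f S (m • y) = f S y := by
    intro S hS m hm y
    have himg : (B (m • y)).filter (fun z => z ∈ S) =
        ((B y).filter (fun z => z ∈ S)).image (fun z => α m • z) := by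
      ext z
      simp only [Finset.mem_filter, Finset.mem_image, hBimage]
      constructor
      · rintro ⟨⟨w, hw, rfl⟩, hzS⟩
        exact ⟨w, ⟨hw, (hS _ (memL m hm) w).mpr hzS⟩, rfl⟩
      · rintro ⟨w, ⟨hw, hwS⟩, rfl⟩
        exact ⟨⟨w, hw, rfl⟩, (hS _ (memL m hm) w).mp hwS⟩
    show ((B (m • y)).filter (fun z => z ∈ S)).card = ((B y).filter (fun z => z ∈ S)).card
    rw [himg, Finset.card_image_of_injective _ (MulAction.injective (α m))]
  have f_sum : ∀ S : Finset Ω, ∑ y : Ω, f S y = k * S.card := by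
    intro S
    have e1 : ∀ y, f S y = ∑ z : Ω, if (I y z ∧ z ∈ S) then 1 else 0 := by
      intro y
      show ((B y).filter (fun z => z ∈ S)).card = _
      rw [Finset.filter_filter, Finset.card_filter]
    rw [Finset.sum_congr rfl (fun y _ => e1 y), Finset.sum_comm]
    have e2 : ∀ z, (∑ y : Ω, if (I y z ∧ z ∈ S) then 1 else 0) = if z ∈ S then k else 0 := by
      intro z
      by_cases hz : z ∈ S
      · simp only [hz, and_true, if_true]
        rw [← Finset.card_filter]
        exact hRcard z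
      · simp [hz]
    rw [Finset.sum_congr rfl (fun z _ => e2 z), ← Finset.sum_filter, Finset.sum_const, smul_eq_mul,
      mul_comm]
    congr 2
    ext z; simp
  -- a point outside `O`
  obtain ⟨y₀, hy₀⟩ := exists_not_mem_orbit_of_card_two hcK ω
  have hωO : ω ∈ O := (memO ω).mpr (mem_orbit_self ω)
  have hkpos : 0 < k := by rw [← hOcard]; exact Finset.card_pos.mpr ⟨ω, hωO⟩
  have hy₀O : y₀ ∉ O := fun h => hy₀ ((memO y₀).mp h)
  have hkn : k < n := by
    rw [← hOcard, hn, ← Finset.card_univ]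
    exact Finset.card_lt_card (Finset.ssubset_univ_iff.mpr fun h => hy₀O (h ▸ Finset.mem_univ y₀))
  -- the main divisibility
  have f_split : ∀ (S : Finset Ω), (∀ l ∈ L, ∀ z, z ∈ S ↔ l • z ∈ S) →
      k * f S ω + (n - k) * f S y₀ = k * S.card := by
    intro S hS
    rw [← f_sum S, ← Finset.sum_add_sum_compl O (fun y => f S y)]
    congr 1
    · rw [Finset.sum_congr rfl (g := fun _ => f S ω), Finset.sum_const, hOcard, smul_eq_mul]
      intro y hy
      obtain ⟨⟨m, hm⟩, rfl⟩ := (memO y).mp hy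
      exact f_inv S hS m hm ω
    · rw [Finset.sum_congr rfl (g := fun _ => f S y₀), Finset.sum_const, Finset.card_compl, hOcard,
        smul_eq_mul]
      intro y hy
      have hy' : y ∉ orbit K ω := fun h => (Finset.mem_compl.mp hy) ((memO y).mpr h)
      obtain ⟨⟨m, hm⟩, rfl⟩ := mem_orbit_of_card_two hcK hy₀ hy'
      exact f_inv S hS m hm y₀
  have f_le : ∀ S y, f S y ≤ k := by
    intro S y
    rw [← hBcard y]
    exact Finset.card_filter_le _ _
  have hcop' : Nat.Coprime k (n - k) := by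
    have : Nat.Coprime k n := hcop
    rwa [Nat.coprime_sub_self_right hkn.le]
  have f_zero_or : ∀ (S : Finset Ω), (∀ l ∈ L, ∀ z, z ∈ S ↔ l • z ∈ S) →
      f S y₀ = 0 ∨ f S y₀ = k := by
    intro S hS
    have hdvd : k ∣ (n - k) * f S y₀ := by
      have := f_split S hS
      exact (Nat.dvd_add_right (Dvd.intro _ rfl)).mp (this ▸ Dvd.intro _ rfl)
    have hdvd' : k ∣ f S y₀ := hcop'.dvd_of_dvd_mul_left hdvd
    obtain ⟨q, hq⟩ := hdvd'
    have hle := f_le S y₀
    rcases Nat.eq_zero_or_pos q with rfl | hqpos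
    · left; simpa using hq
    · right
      have : q = 1 := by
        by_contra hne
        have : 2 ≤ q := by omega
        nlinarith
      rw [hq, this, mul_one]
  -- two distinct `L`-orbits
  obtain ⟨z₁, -⟩ : ∃ z₁ : Ω, True := ⟨o, trivial⟩
  obtain ⟨z₂, hz₂⟩ := exists_not_mem_orbit_of_card_two hcL z₁
  let S₁ : Finset Ω := Finset.univ.filter (fun z => z ∈ orbit L z₁)
  let S₂ : Finset Ω := Finset.univ.filter (fun z => z ∈ orbit L z₂)
  have memS₁ : ∀ z, z ∈ S₁ ↔ z ∈ orbit L z₁ := fun z => by simp [S₁]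
  have memS₂ : ∀ z, z ∈ S₂ ↔ z ∈ orbit L z₂ := fun z => by simp [S₂]
  have orbit_inv : ∀ (z₀ : Ω) (l : G) (hl : l ∈ L) (z : Ω),
      z ∈ orbit L z₀ ↔ l • z ∈ orbit L z₀ := by
    intro z₀ l hl z
    have : l • z = (⟨l, hl⟩ : L) • z := rfl
    rw [this, ← orbit_eq_iff, ← orbit_eq_iff, orbit_smul]
  have hS₁ : ∀ l ∈ L, ∀ z, z ∈ S₁ ↔ l • z ∈ S₁ := fun l hl z => by
    rw [memS₁, memS₁]; exact orbit_inv z₁ l hl z
  have hS₂ : ∀ l ∈ L, ∀ z, z ∈ S₂ ↔ l • z ∈ S₂ := fun l hl z => by
    rw [memS₂, memS₂]; exact orbit_inv z₂ l hl z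
  have hdisj : Disjoint S₁ S₂ := by
    rw [Finset.disjoint_left]
    intro z h1 h2
    rw [memS₁] at h1
    rw [memS₂] at h2
    apply hz₂
    -- z₂ ∈ orbit z = orbit z₁
    have e1 : orbit L z = orbit L z₁ := orbit_eq_iff.mpr h1
    have e2 : orbit L z = orbit L z₂ := orbit_eq_iff.mpr h2
    rw [← e1, e2]
    exact mem_orbit_self z₂
  have hsum_le : f S₁ y₀ + f S₂ y₀ ≤ k := by
    rw [← hBcard y₀]
    show ((B y₀).filter (fun z => z ∈ S₁)).card + ((B y₀).filter (fun z => z ∈ S₂)).card ≤ _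
    rw [← Finset.card_union_of_disjoint]
    · apply Finset.card_le_card
      intro z hz
      rcases Finset.mem_union.mp hz with h | h <;> exact (Finset.mem_filter.mp h).1
    · rw [Finset.disjoint_left]
      intro z h1 h2
      exact (Finset.disjoint_left.mp hdisj) (Finset.mem_filter.mp h1).2 (Finset.mem_filter.mp h2).2
  -- an `L`-orbit `S₀` (of `z₀`) with `f S₀ y₀ = 0`
  obtain ⟨z₀, S₀, memS₀, hS₀, hf0⟩ : ∃ (z₀ : Ω) (S₀ : Finset Ω), (∀ z, z ∈ S₀ ↔ z ∈ orbit L z₀) ∧
      (∀ l ∈ L, ∀ z, z ∈ S₀ ↔ l • z ∈ S₀) ∧ f S₀ y₀ = 0 := by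
    rcases f_zero_or S₁ hS₁ with h | h
    · exact ⟨z₁, S₁, memS₁, hS₁, h⟩
    · rcases f_zero_or S₂ hS₂ with h' | h'
      · exact ⟨z₂, S₂, memS₂, hS₂, h'⟩
      · omega
  -- for `z ∈ S₀`, the blocks through `z` are exactly those indexed by `O`
  have hRS₀ : ∀ z ∈ S₀, R z = O := by
    intro z hz
    apply Finset.eq_of_subset_of_card_le
    · intro y hy
      by_contra hyO
      have hy' : y ∉ orbit K ω := fun h => hyO ((memO y).mpr h)
      obtain ⟨⟨m, hm⟩, rfl⟩ := mem_orbit_of_card_two hcK hy₀ hy'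
      have : f S₀ ((⟨m, hm⟩ : K) • y₀) = 0 := by
        have := f_inv S₀ hS₀ m hm y₀
        rw [← hf0, ← this]; rfl
      have hmem : z ∈ (B ((⟨m, hm⟩ : K) • y₀)).filter (fun z => z ∈ S₀) :=
        Finset.mem_filter.mpr ⟨(memB _ _).mpr ((memR _ _).mp hy), hz⟩
      have hpos : 0 < f S₀ ((⟨m, hm⟩ : K) • y₀) := Finset.card_pos.mpr ⟨z, hmem⟩
      omega
    · rw [hOcard, hRcard]
  -- `S₀` is a singleton
  have hsub : ∀ z ∈ S₀, z = z₀ := by
    intro z hz
    by_contra hne
    have hz₀ : z₀ ∈ S₀ := (memS₀ z₀).mpr (mem_orbit_self z₀)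
    have hIeq : ∀ y, I y z ↔ I y z₀ := by
      intro y
      rw [← memR, ← memR, hRS₀ z hz, hRS₀ z₀ hz₀]
    -- transport by 2-transitivity
    have hall : ∀ w w' : Ω, w ≠ w' → ∀ y, I y w → I y w' := by
      intro w w' hww y hyw
      obtain ⟨g', hg1, hg2⟩ := h2' z z₀ w w' hne hww
      obtain ⟨g, rfl⟩ : ∃ g, α g = g' := ⟨α.symm g', by simp⟩
      have h1 : I (g⁻¹ • y) z := by
        apply (I_smul_iff g (g⁻¹ • y) z).mp
        rw [smul_inv_smul, hg1]; exact hyw
      have h3 : I (g⁻¹ • y) z₀ := (hIeq _).mp h1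
      have h4 := I_smul g _ _ h3
      rwa [smul_inv_smul, hg2] at h4
    -- hence `B y₀` is everything
    obtain ⟨w, hw⟩ : (B y₀).Nonempty := Finset.card_pos.mp (by rw [hBcard]; exact hkpos)
    have hBuniv : B y₀ = Finset.univ := by
      ext w'
      simp only [Finset.mem_univ, iff_true]
      by_cases hww : w = w'
      · rw [← hww]; exact hw
      · exact (memB _ _).mpr (hall w w' hww y₀ ((memB _ _).mp hw))
    have : k = n := by rw [← hBcard y₀, hBuniv, Finset.card_univ]
    omega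
  refine ⟨z₀, fun l hl => ?_⟩
  apply hsub
  exact (hS₀ l hl z₀).mp ((memS₀ z₀).mpr (mem_orbit_self z₀))

end TwoTrans

section Assemble

/-- Under the coprimality hypothesis, `α² (G_o)` fixes a point. -/
theorem exists_fixed_point_of_coprime {G : Type*} [Group G] [Finite G] {Ω : Type*} [Fintype Ω]
    [MulAction G Ω] (h2 : IsMultiplyPretransitive G Ω 2) (hn : 2 ≤ Fintype.card Ω)
    (α : G ≃* G) (o ω : Ω)
    (hcop : (Nat.card (orbit ((stabilizer G o).map α.toMonoidHom) ω)).Coprime (Fintype.card Ω)) :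
    ∃ z₀ : Ω, ∀ g ∈ stabilizer G o, α (α g) • z₀ = z₀ := by
  classical
  let _ : Fintype G := Fintype.ofFinite G
  set K := (stabilizer G o).map α.toMonoidHom with hK
  have hne1 : Nat.card (orbitRel.Quotient K Ω) ≠ 1 := by
    intro h1
    have hsub : Subsingleton (orbitRel.Quotient K Ω) := (Nat.card_eq_one_iff_unique.mp h1).1
    have huniv : orbit K ω = Set.univ := by
      rw [Set.eq_univ_iff_forall]
      intro y
      rw [← mk_eq_mk_iff]
      exact Subsingleton.elim _ _
    rw [huniv, Nat.card_coe_set_eq, Set.ncard_univ, Nat.card_eq_fintype_card,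
      Nat.coprime_self] at hcop
    omega
  obtain ⟨hfix, hcK⟩ := fixN_comp_eq h2 hn α o hne1
  set L := K.map α.toMonoidHom with hL
  have hLeq : (stabilizer G o).map (α.trans α).toMonoidHom = L := by
    rw [hL, hK, Subgroup.map_map]
    rfl
  have hcL : Nat.card (orbitRel.Quotient L Ω) = 2 := by
    rw [← card_orbits_congr hLeq]
    apply card_orbits_of_fixN_eq h2 hn (α.trans α) o
    intro g
    show fixN Ω (α (α g)) = fixN Ω g
    rw [hfix, hfix]
  obtain ⟨z₀, hz₀⟩ := exists_fixed_point h2 α o ω K hK L hL hcK hcL hcop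
  refine ⟨z₀, fun g hg => hz₀ _ ?_⟩
  rw [hL]
  exact Subgroup.mem_map_of_mem _ (Subgroup.mem_map_of_mem _ hg)

variable {Ω : Type*} [Fintype Ω]

/-- If `β (G_o)` fixes `z₀`, then `β` is induced by a permutation. -/
theorem exists_perm_of_fixed (G : Subgroup (Equiv.Perm Ω)) [IsPretransitive G Ω] (β : G ≃* G)
    (o z₀ : Ω) (hz : ∀ g ∈ stabilizer G o, β g • z₀ = z₀) :
    ∃ σ : Equiv.Perm Ω, ∀ g : G, ((β g : G) : Equiv.Perm Ω) = σ * (g : Equiv.Perm Ω) * σ⁻¹ := by
  classical
  choose t ht using fun x : Ω => exists_smul_eq G o x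
  let s : Ω → Ω := fun x => β (t x) • z₀
  have hs : ∀ (g : G) (x : Ω), g • o = x → s x = β g • z₀ := by
    intro g x hgx
    have hmem : (t x)⁻¹ * g ∈ stabilizer G o := by
      rw [mem_stabilizer_iff, mul_smul, hgx]
      exact inv_smul_eq_iff.mpr (ht x).symm
    have := hz _ hmem
    rw [map_mul, map_inv, mul_smul, inv_smul_eq_iff] at this
    exact this.symm
  have hequiv : ∀ (g : G) (x : Ω), s (g • x) = β g • s x := by
    intro g x
    rw [hs (g * t x) (g • x) (by rw [mul_smul, ht x]), map_mul, mul_smul]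
  have hsurj : Function.Surjective s := by
    intro z
    obtain ⟨g', hg'⟩ := exists_smul_eq G z₀ z
    refine ⟨β.symm g' • o, ?_⟩
    rw [hs (β.symm g') _ rfl, MulEquiv.apply_symm_apply, hg']
  have hbij : Function.Bijective s := ⟨Finite.injective_iff_surjective.mpr hsurj, hsurj⟩
  refine ⟨Equiv.ofBijective s hbij, fun g => ?_⟩
  ext x
  simp only [Equiv.Perm.coe_mul, Function.comp_apply]
  have h1 : ∀ y, (Equiv.ofBijective s hbij) y = s y := fun y => rfl
  rw [h1]
  have h3 : ((g : Equiv.Perm Ω)) ((Equiv.ofBijective s hbij)⁻¹ x) =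
      g • ((Equiv.ofBijective s hbij)⁻¹ x) := rfl
  rw [h3, hequiv]
  have h4 : s ((Equiv.ofBijective s hbij)⁻¹ x) = x := by
    rw [← h1]; exact Equiv.apply_symm_apply _ x
  rw [h4]
  rfl

omit [Fintype Ω] in
/-- If `α²` is induced by a permutation and `α` has odd order, `α` is induced by a permutation. -/
theorem exists_perm_of_odd (G : Subgroup (Equiv.Perm Ω)) (α : MulAut G) (hα : Odd (orderOf α))
    (σ₂ : Equiv.Perm Ω)
    (h : ∀ g : G, ((α (α g) : G) : Equiv.Perm Ω) = σ₂ * (g : Equiv.Perm Ω) * σ₂⁻¹) :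
    ∃ σ : Equiv.Perm Ω, ∀ g : G, ((α g : G) : Equiv.Perm Ω) = σ * (g : Equiv.Perm Ω) * σ⁻¹ := by
  have hpow : ∀ (j : ℕ) (g : G), ((((α * α) ^ j) g : G) : Equiv.Perm Ω) =
      σ₂ ^ j * (g : Equiv.Perm Ω) * (σ₂ ^ j)⁻¹ := by
    intro j
    induction j with
    | zero => intro g; simp
    | succ j ih =>
      intro g
      rw [pow_succ, MulAut.mul_apply, ih, MulAut.mul_apply, h, pow_succ]
      group
  obtain ⟨m, hm⟩ := hα
  have hα' : (α * α) ^ (m + 1) = α := by
    rw [← pow_two, ← pow_mul]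
    have : 2 * (m + 1) = orderOf α + 1 := by omega
    rw [this, pow_succ, pow_orderOf_eq_one, one_mul]
  refine ⟨σ₂ ^ (m + 1), fun g => ?_⟩
  rw [← hpow (m + 1) g, hα']

omit [Fintype Ω] in
/-- A permutation inducing an automorphism of `G` normalizes `G`. -/
theorem mem_normalizer_of_induces (G : Subgroup (Equiv.Perm Ω)) (α : MulAut G)
    (σ : Equiv.Perm Ω)
    (h : ∀ g : G, ((α g : G) : Equiv.Perm Ω) = σ * (g : Equiv.Perm Ω) * σ⁻¹) :
    σ ∈ Subgroup.normalizer (G : Set (Equiv.Perm Ω)) := by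
  rw [Subgroup.mem_normalizer_iff]
  intro x
  constructor
  · intro hx
    rw [← h ⟨x, hx⟩]
    exact (α ⟨x, hx⟩).2
  · intro hx
    have h1 := h (α.symm ⟨_, hx⟩)
    rw [MulEquiv.apply_symm_apply] at h1
    have h2 : x = ((α.symm ⟨_, hx⟩ : G) : Equiv.Perm Ω) := by
      have : σ * x * σ⁻¹ = σ * ((α.symm ⟨_, hx⟩ : G) : Equiv.Perm Ω) * σ⁻¹ := h1
      exact mul_left_cancel (mul_right_cancel this)
    rw [h2]
    exact (α.symm ⟨_, hx⟩).2

/-- The orbit lengths of `α (G_o)` once `α` is induced by a permutation. -/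
theorem card_orbit_of_induces (G : Subgroup (Equiv.Perm Ω))
    (h2 : IsMultiplyPretransitive G Ω 2) (o : Ω) (α : MulAut G) (σ : Equiv.Perm Ω)
    (h : ∀ g : G, ((α g : G) : Equiv.Perm Ω) = σ * (g : Equiv.Perm Ω) * σ⁻¹) (ω : Ω) :
    Nat.card (orbit ((stabilizer G o).map α.toMonoidHom) ω) = 1 ∨
      Nat.card (orbit ((stabilizer G o).map α.toMonoidHom) ω) = Fintype.card Ω - 1 := by
  classical
  have h2' : ∀ a b c d : Ω, a ≠ b → c ≠ d → ∃ g : G, g • a = c ∧ g • b = d :=
    fun a b c d hab hcd => is_two_pretransitive_iff.mp h2 hab hcd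
  set K := (stabilizer G o).map α.toMonoidHom with hK
  have hact : ∀ (g : G) (x : Ω), (α g) • x = σ (g • (σ⁻¹ x)) := by
    intro g x
    show ((α g : G) : Equiv.Perm Ω) x = _
    rw [h g]
    rfl
  have hfixp : ∀ m ∈ K, m • (σ o) = σ o := by
    intro m hm
    obtain ⟨g, hg, rfl⟩ := Subgroup.mem_map.mp hm
    show (α g) • (σ o) = σ o
    have hinv : σ⁻¹ (σ o) = o := by simp
    rw [hact, hinv, mem_stabilizer_iff.mp hg]
  by_cases hω : ω = σ o
  · left
    have : orbit K ω = {ω} := by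
      ext y
      simp only [mem_orbit_iff, Set.mem_singleton_iff]
      constructor
      · rintro ⟨⟨m, hm⟩, rfl⟩
        rw [hω]; exact hfixp m hm
      · rintro rfl
        exact ⟨1, one_smul _ _⟩
    rw [this]
    simp
  · right
    have : orbit K ω = ({σ o} : Set Ω)ᶜ := by
      ext y
      simp only [mem_orbit_iff, Set.mem_compl_iff, Set.mem_singleton_iff]
      constructor
      · rintro ⟨⟨m, hm⟩, rfl⟩ heq
        have h3 : m • ω = m • (σ o) := by
          rw [hfixp m hm]; exact heq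
        exact hω (smul_left_cancel m h3)
      · intro hy
        have h4 : o ≠ σ⁻¹ ω := by
          intro e; apply hω; rw [e]; simp
        have h5 : o ≠ σ⁻¹ y := by
          intro e; apply hy; rw [e]; simp
        obtain ⟨g, hg1, hg2⟩ := h2' o (σ⁻¹ ω) o (σ⁻¹ y) h4 h5
        refine ⟨⟨α g, Subgroup.mem_map_of_mem _ (mem_stabilizer_iff.mpr hg1)⟩, ?_⟩
        show (α g) • ω = y
        rw [hact, hg2]
        simp
    rw [this, Nat.card_coe_set_eq, Set.ncard_compl, Set.ncard_singleton, Nat.card_eq_fintype_card]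

/-- Main theorem: a doubly transitive group, an automorphism of odd order, and an orbit of the
image of a point stabilizer of length coprime to the degree. -/
theorem main (G : Subgroup (Equiv.Perm Ω)) (h2 : IsMultiplyPretransitive G Ω 2) (o : Ω)
    (α : MulAut G) (hα : Odd (orderOf α)) (ω : Ω)
    (hk : (Nat.card (orbit ((stabilizer G o).map α.toMonoidHom) ω)).Coprime (Fintype.card Ω)) :
    ∃ σ : Equiv.Perm Ω, σ ∈ Subgroup.normalizer (G : Set (Equiv.Perm Ω)) ∧
      ∀ g : G, ((α g : G) : Equiv.Perm Ω) = σ * (g : Equiv.Perm Ω) * σ⁻¹ := by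
  classical
  have : IsPretransitive G Ω := isPretransitive_of_is_two_pretransitive
  suffices hmain : ∃ σ : Equiv.Perm Ω,
      ∀ g : G, ((α g : G) : Equiv.Perm Ω) = σ * (g : Equiv.Perm Ω) * σ⁻¹ by
    obtain ⟨σ, hσ⟩ := hmain
    exact ⟨σ, mem_normalizer_of_induces G α σ hσ, hσ⟩
  by_cases hn : 2 ≤ Fintype.card Ω
  · obtain ⟨z₀, hz₀⟩ := exists_fixed_point_of_coprime h2 hn α o ω hk
    obtain ⟨σ₂, hσ₂⟩ := exists_perm_of_fixed G (α.trans α) o z₀ hz₀
    exact exists_perm_of_odd G α hα σ₂ hσ₂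
  · have hsub : Subsingleton Ω := Fintype.card_le_one_iff_subsingleton.mp (by omega)
    refine ⟨1, fun g => ?_⟩
    have : Subsingleton (Equiv.Perm Ω) := inferInstance
    exact Subsingleton.elim _ _

end Assemble

end Cfsg.Agent.Helper12.TwistDesign
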