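import Cfsg.Agent.Helper66.PD2BL

/-!
# (B3) for S4707: the norm equation of the Brauer–Leonard data for `m = 2`
-/

set_option autoImplicit false
set_option linter.unusedSectionVars false
set_option linter.unusedVariables false
set_option linter.style.haveILetI false

namespace Cfsg.Agent.Helper12.TwoP

open Cfsg Cfsg.Agent.Helper66.PD2 Cfsg.Agent.Helper66.BL
open scoped ComplexConjugate

/-- A finite sum of squares of nonzero integers over a finset containing `x₀` with `a x₀ = 1`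
which equals `2` forces the finset to be a pair `{x₀, x₁}` with `a x₁ = ± 1`. -/
theorem pair_of_sum_sq_eq_two {ι : Type*} [DecidableEq ι] (s : Finset ι) (a : ι → ℤ) (x₀ : ι)
    (h₀ : x₀ ∈ s) (ha₀ : a x₀ = 1) (hne : ∀ x ∈ s, a x ≠ 0) (hsum : ∑ x ∈ s, a x ^ 2 = 2) :
    ∃ x₁, x₁ ≠ x₀ ∧ s = {x₀, x₁} ∧ (a x₁ = 1 ∨ a x₁ = -1) := by
  have hsq : ∀ x ∈ s, 1 ≤ a x ^ 2 := by
    intro x hx
    have : 0 < a x ^ 2 := by
      have := hne x hx
      positivity
    omega
  -- the sum over `s.erase x₀` is `1`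
  have h1 : ∑ x ∈ s.erase x₀, a x ^ 2 = 1 := by
    have := Finset.add_sum_erase s (fun x => a x ^ 2) h₀
    simp only [ha₀] at this
    linarith
  -- `s.erase x₀` is nonempty
  have hne' : (s.erase x₀).Nonempty := by
    by_contra hemp
    rw [Finset.not_nonempty_iff_eq_empty] at hemp
    rw [hemp, Finset.sum_empty] at h1
    omega
  obtain ⟨x₁, hx₁⟩ := hne'
  have hx₁s : x₁ ∈ s := Finset.mem_of_mem_erase hx₁
  have hx₁0 : x₁ ≠ x₀ := Finset.ne_of_mem_erase hx₁
  have h2 : a x₁ ^ 2 + ∑ x ∈ (s.erase x₀).erase x₁, a x ^ 2 = 1 := by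
    rw [Finset.add_sum_erase (s.erase x₀) (fun x => a x ^ 2) hx₁, h1]
  have h3 : ∀ x ∈ (s.erase x₀).erase x₁, 1 ≤ a x ^ 2 := fun x hx =>
    hsq x (Finset.mem_of_mem_erase (Finset.mem_of_mem_erase hx))
  have h4 : ((s.erase x₀).erase x₁) = ∅ := by
    by_contra hemp
    obtain ⟨y, hy⟩ := Finset.nonempty_iff_ne_empty.mpr hemp
    have h5 : a y ^ 2 ≤ ∑ x ∈ (s.erase x₀).erase x₁, a x ^ 2 :=
      Finset.single_le_sum (f := fun x => a x ^ 2) (fun x _ => sq_nonneg (a x)) hy
    have := h3 y hy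
    have := hsq x₁ hx₁s
    omega
  have h6 : a x₁ ^ 2 = 1 := by
    rw [h4, Finset.sum_empty] at h2
    linarith
  refine ⟨x₁, hx₁0, ?_, ?_⟩
  · ext x
    rw [Finset.mem_insert, Finset.mem_singleton]
    constructor
    · intro hx
      by_cases hx0 : x = x₀
      · exact Or.inl hx0
      · by_cases hx1 : x = x₁
        · exact Or.inr hx1
        · exfalso
          have : x ∈ (s.erase x₀).erase x₁ :=
            Finset.mem_erase.mpr ⟨hx1, Finset.mem_erase.mpr ⟨hx0, hx⟩⟩
          rw [h4] at this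
          exact absurd this (Finset.notMem_empty x)
    · rintro (rfl | rfl)
      · exact h₀
      · exact hx₁s
  · have : (a x₁ - 1) * (a x₁ + 1) = 0 := by ring_nf; linarith
    rcases mul_eq_zero.mp this with h | h
    · left; linarith
    · right; linarith

/-- A finite sum of squares of nonzero integers over a finset containing `x₀`
which equals `1` forces the finset to be `{x₀}`. -/
theorem singleton_of_sum_sq_eq_one {ι : Type*} [DecidableEq ι] (s : Finset ι) (a : ι → ℤ) (x₀ : ι)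
    (h₀ : x₀ ∈ s) (hne : ∀ x ∈ s, a x ≠ 0) (hsum : ∑ x ∈ s, a x ^ 2 = 1) :
    s = {x₀} := by
  have hsq : ∀ x ∈ s, 1 ≤ a x ^ 2 := by
    intro x hx
    have : 0 < a x ^ 2 := by
      have := hne x hx
      positivity
    omega
  ext x
  rw [Finset.mem_singleton]
  constructor
  · intro hx
    by_contra hx0
    have hpair : ({x, x₀} : Finset ι) ⊆ s := by
      intro y hy
      rw [Finset.mem_insert, Finset.mem_singleton] at hy
      rcases hy with rfl | rfl
      · exact hx
      · exact h₀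
    have h2 : (2 : ℤ) ≤ ∑ y ∈ s, a y ^ 2 := by
      calc (2 : ℤ) ≤ ∑ y ∈ ({x, x₀} : Finset ι), a y ^ 2 := by
            rw [Finset.sum_pair hx0]
            have := hsq x hx
            have := hsq x₀ h₀
            linarith
        _ ≤ ∑ y ∈ s, a y ^ 2 :=
            Finset.sum_le_sum_of_subset_of_nonneg hpair (fun y _ _ => sq_nonneg _)
    omega
  · rintro rfl
    exact h₀

/-- (B3) -/
theorem norm_cases {G : Type*} [Group G] [Finite G] {p : ℕ} [Fact p.Prime] {M : Ideal AlgInt}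
    {P : Sylow p G} {X Y : Set (IrrCharacter G)} {a : IrrCharacter G → ℤ} {d δ : ℤ}
    {ζ : ((P : Subgroup G) →* ℂˣ) → IrrCharacter G}
    (D : BLData M P 2 X Y a d δ ζ) (hP : Nat.card (P : Subgroup G) = p) (hp5 : 5 ≤ p) :
    ∃ χ1 : IrrCharacter G, χ1 ≠ Helper79.principalIrr G ∧ X = {Helper79.principalIrr G, χ1} ∧
      (a χ1 = 1 ∨ a χ1 = -1) ∧ (d = 0 ∨ (d = δ ∧ p = 5)) := by
  classical
  haveI : Finite (IrrCharacter G) := Helper79.irr_finite'
  have hcardY : Nat.card Y * 2 = p - 1 := by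
    have h := D.cardY
    have : Nat.card (P : Subgroup G) = Nat.card P := rfl
    rw [← this, hP] at h
    exact h
  have hY2 : 2 ≤ Nat.card Y := by omega
  have hX : X.Finite := Set.toFinite X
  have hnorm : (d - δ) ^ 2 + ((Nat.card Y : ℤ) - 1) * d ^ 2 +
      ∑ χ ∈ hX.toFinset, a χ ^ 2 = 3 := by
    have h := D.norm
    rw [finsum_mem_eq_finite_toFinset_sum _ hX] at h
    push_cast at h
    linarith
  have h1X : Helper79.principalIrr G ∈ hX.toFinset := (Set.Finite.mem_toFinset hX).mpr D.one_mem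
  have hne : ∀ χ ∈ hX.toFinset, a χ ≠ 0 := fun χ hχ =>
    D.a_ne χ ((Set.Finite.mem_toFinset hX).mp hχ)
  have hsum1 : (1 : ℤ) ≤ ∑ χ ∈ hX.toFinset, a χ ^ 2 := by
    calc (1 : ℤ) = a (Helper79.principalIrr G) ^ 2 := by rw [D.a_one]; norm_num
      _ ≤ ∑ χ ∈ hX.toFinset, a χ ^ 2 :=
        Finset.single_le_sum (f := fun χ => a χ ^ 2) (fun χ _ => sq_nonneg (a χ)) h1X
  have hYt : (1 : ℤ) ≤ (Nat.card Y : ℤ) - 1 := by
    have : (2 : ℤ) ≤ (Nat.card Y : ℤ) := by exact_mod_cast hY2
    linarith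
  -- conclusion from `Σ_X a² = 2`
  have hfin : ∑ χ ∈ hX.toFinset, a χ ^ 2 = 2 → ∃ χ1 : IrrCharacter G,
      χ1 ≠ Helper79.principalIrr G ∧ X = {Helper79.principalIrr G, χ1} ∧
        (a χ1 = 1 ∨ a χ1 = -1) := by
    intro hs
    obtain ⟨χ1, hχ1, hseq, ha1⟩ :=
      pair_of_sum_sq_eq_two hX.toFinset a (Helper79.principalIrr G) h1X D.a_one hne hs
    refine ⟨χ1, hχ1, ?_, ha1⟩
    ext χ
    rw [← Set.Finite.mem_toFinset hX, hseq]
    simp
  by_cases hd0 : d = 0
  · -- `d = 0`
    have hδ1 : (d - δ) ^ 2 = 1 := by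
      rw [hd0]
      rcases D.sign with h | h <;> rw [h] <;> norm_num
    have hs : ∑ χ ∈ hX.toFinset, a χ ^ 2 = 2 := by
      rw [hδ1, hd0] at hnorm
      have : ((Nat.card Y : ℤ) - 1) * 0 ^ 2 = 0 := by ring
      rw [this] at hnorm
      linarith
    obtain ⟨χ1, h1, h2, h3⟩ := hfin hs
    exact ⟨χ1, h1, h2, h3, Or.inl hd0⟩
  · -- `d ≠ 0`
    have hd2 : 1 ≤ d ^ 2 := by
      have : 0 < d ^ 2 := by positivity
      omega
    have hmul : ((Nat.card Y : ℤ) - 1) * 1 ≤ ((Nat.card Y : ℤ) - 1) * d ^ 2 :=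
      mul_le_mul_of_nonneg_left hd2 (by linarith)
    have hmul1 : 1 * d ^ 2 ≤ ((Nat.card Y : ℤ) - 1) * d ^ 2 :=
      mul_le_mul_of_nonneg_right hYt (sq_nonneg d)
    have hdδ : d = δ := by
      have hle : d ^ 2 ≤ 2 := by nlinarith [sq_nonneg (d - δ)]
      have hd1 : d = 1 ∨ d = -1 := by
        have h1 : d ≤ 1 := by nlinarith
        have h2 : -1 ≤ d := by nlinarith
        have : d = -1 ∨ d = 0 ∨ d = 1 := by omega
        rcases this with h | h | h
        · exact Or.inr h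
        · exact absurd h hd0
        · exact Or.inl h
      rcases D.sign with hδ | hδ <;> rcases hd1 with hd | hd
      · rw [hd, hδ]
      · exfalso
        rw [hd, hδ] at hnorm
        nlinarith
      · exfalso
        rw [hd, hδ] at hnorm
        nlinarith
      · rw [hd, hδ]
    have hd21 : d ^ 2 = 1 := by
      rw [hdδ]
      rcases D.sign with h | h <;> rw [h] <;> norm_num
    have hnorm' : ((Nat.card Y : ℤ) - 1) + ∑ χ ∈ hX.toFinset, a χ ^ 2 = 3 := by
      rw [hdδ, sub_self] at hnorm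
      rw [hdδ] at hd21
      rw [hd21] at hnorm
      linarith
    -- `t = 2` or `t = 3`
    have hYle : Nat.card Y ≤ 3 := by
      have : (Nat.card Y : ℤ) ≤ 3 := by linarith
      exact_mod_cast this
    have hcases : Nat.card Y = 2 ∨ Nat.card Y = 3 :=
      (show ∀ t : ℕ, 2 ≤ t → t ≤ 3 → t = 2 ∨ t = 3 from by omega) _ hY2 hYle
    rcases hcases with ht | ht
    · -- `p = 5`
      have hp : p = 5 :=
        (show ∀ t q : ℕ, t * 2 = q - 1 → 5 ≤ q → t = 2 → q = 5 from by omega) _ _ hcardY hp5 ht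
      have hs : ∑ χ ∈ hX.toFinset, a χ ^ 2 = 2 := by
        rw [ht] at hnorm'
        push_cast at hnorm'
        linarith
      obtain ⟨χ1, h1, h2, h3⟩ := hfin hs
      exact ⟨χ1, h1, h2, h3, Or.inr ⟨hdδ, hp⟩⟩
    · -- `p = 7` : impossible
      exfalso
      have hs : ∑ χ ∈ hX.toFinset, a χ ^ 2 = 1 := by
        rw [ht] at hnorm'
        push_cast at hnorm'
        linarith
      have hXs := singleton_of_sum_sq_eq_one hX.toFinset a (Helper79.principalIrr G) h1X hne hs
      have hXeq : X = {Helper79.principalIrr G} := by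
        ext χ
        rw [← Set.Finite.mem_toFinset hX, hXs]
        simp
      obtain ⟨η, hη⟩ : ∃ η, η ∈ Y := by
        have : Nonempty Y := by
          rw [← Finite.card_pos_iff, ht]; norm_num
        obtain ⟨η⟩ := this
        exact ⟨η.1, η.2⟩
      have h1reg : ¬ p ∣ orderOf (1 : G) := by
        rw [orderOf_one]; exact (Fact.out : p.Prime).not_dvd_one
      have h := D.reg_rel η hη 1 h1reg
      rw [hXeq, finsum_mem_singleton, D.a_one, ht, hdδ,
        ← Helper74.charDegree_cast (Helper74.irr_isCharacter η)] at h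
      have h1 : (Helper79.principalIrr G : G → ℂ) 1 = 1 := rfl
      rw [h1] at h
      have h3 : (((3 * δ - δ) * (charDegree (η : G → ℂ) : ℤ) + 1 : ℤ) : ℂ) = ((0 : ℤ) : ℂ) := by
        push_cast
        rw [← h]
        push_cast
        ring
      have h4 : (3 * δ - δ) * (charDegree (η : G → ℂ) : ℤ) + 1 = 0 := by exact_mod_cast h3
      have h5 : 2 * (δ * (charDegree (η : G → ℂ) : ℤ)) = -1 := by linarith
      exact (show ∀ z : ℤ, 2 * z = -1 → False from by omega) _ h5

end Cfsg.Agent.Helper12.TwoP
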