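import Cfsg.Agent.Helper61.TwoPDefs
import Cfsg.Agent.Helper74.TwoPC
import Cfsg.Agent.Helper74.FSCount
import Cfsg.Agent.Helper81.FSIrr
import Cfsg.Agent.Helper79.Linear

/-!
# (I) for S4707: `Λ² χ₁ = ∑ η`
-/

set_option autoImplicit false
set_option linter.unusedSectionVars false
set_option linter.unusedVariables false
set_option linter.style.haveILetI false

namespace Cfsg.Agent.Helper12.TwoP

open Cfsg MulAction Cfsg.Agent.Helper66.PD2 Cfsg.Agent.Helper61.TwoP
open scoped ComplexConjugate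

/-- If an odd prime divides the order of `g`, it divides the order of `g * g`. -/
theorem dvd_orderOf_mul_self {G : Type*} [Group G] {p : ℕ} (hpp : p.Prime) (hp2 : p ≠ 2) (g : G)
    (hg : p ∣ orderOf g) : p ∣ orderOf (g * g) := by
  have h1 : orderOf g ∣ 2 * orderOf (g * g) := by
    apply orderOf_dvd_of_pow_eq_one
    rw [pow_mul, pow_two, pow_orderOf_eq_one]
  have h2 : p ∣ 2 * orderOf (g * g) := hg.trans h1
  rcases (Nat.Prime.dvd_mul hpp).mp h2 with h | h
  · exfalso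
    exact hp2 ((Nat.prime_dvd_prime_iff_eq hpp Nat.prime_two).mp h)
  · exact h

variable {G : Type*} [Group G] [Fintype G] {α : Type*} [Fintype α] [DecidableEq α] [MulAction G α]
  {p : ℕ} [Fact p.Prime] {P : Sylow p G} {χ1 θ : IrrCharacter G} {Y : Set (IrrCharacter G)}

set_option maxHeartbeats 800000 in
/-- (I) `Λ² χ₁ = ∑ η`. -/
theorem extSq_eq (S : Setup G α p P) (B : CaseB G α p χ1 θ Y)
    (hν : Helper81.fsInd (χ1 : G → ℂ) = 1)
    (hΛ : IsCharacter G (fun g => ((χ1 : G → ℂ) g ^ 2 - (χ1 : G → ℂ) (g * g)) / 2)) (g : G) :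
    ((χ1 : G → ℂ) g ^ 2 - (χ1 : G → ℂ) (g * g)) / 2 = ∑ᶠ η ∈ Y, (η : G → ℂ) g := by
  classical
  haveI : Finite (IrrCharacter G) := Helper79.irr_finite'
  haveI : Fintype (IrrCharacter G) := Fintype.ofFinite _
  have hp5 := S.hp5
  have hpp : p.Prime := Fact.out
  have hG : (Nat.card G : ℂ) ≠ 0 := by exact_mod_cast Nat.card_pos.ne'
  set Λ : G → ℂ := fun g => ((χ1 : G → ℂ) g ^ 2 - (χ1 : G → ℂ) (g * g)) / 2 with hΛdef
  -- `Λ = 1` on `p`-singular elements
  have hsing : ∀ g : G, p ∣ orderOf g → Λ g = 1 := by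
    intro g hg
    have hg2 : p ∣ orderOf (g * g) := dvd_orderOf_mul_self hpp (by omega) g hg
    simp only [hΛdef]
    rw [B.std.chi_sing g hg, B.std.chi_sing (g * g) hg2]
    push_cast
    norm_num
  -- `⟨Λ, 1⟩ = 0`
  have hreal := Helper81.real_of_fsInd_eq_one χ1.2 hν
  have hconj : ∀ g : G, conj ((χ1 : G → ℂ) g) = (χ1 : G → ℂ) g := fun g =>
    Complex.conj_eq_iff_im.mpr (hreal g)
  have h11 : classInner (χ1 : G → ℂ) (χ1 : G → ℂ) = 1 := Helper74.irr_inner_self χ1
  have hΛ1 : classInner Λ (fun _ => (1 : ℂ)) = 0 := by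
    have e1 : classInner Λ (fun _ => (1 : ℂ)) =
        (classInner (χ1 : G → ℂ) (χ1 : G → ℂ) - Helper81.fsInd (χ1 : G → ℂ)) / 2 := by
      unfold classInner Helper81.fsInd
      simp only [map_one, mul_one, hconj, hΛdef]
      rw [← mul_sub, ← Finset.sum_sub_distrib, mul_div_assoc, Finset.sum_div]
      congr 1
      refine Finset.sum_congr rfl (fun x _ => ?_)
      ring
    rw [e1, h11, hν]
    norm_num
  -- helper74's (C)
  obtain ⟨heq, hrel⟩ := Cfsg.Agent.Helper74.TwoP.inner_rel B.std Λ 1 hsing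
  -- multiplicities
  choose c hc using fun ψ : IrrCharacter G => Helper74.isCharacter_inner_irr_nat hΛ ψ
  -- a member of `Y`
  have hcardY := B.std.cardY
  obtain ⟨η0, hη0⟩ : ∃ η, η ∈ Y := by
    have : Nonempty Y := by
      rw [← Finite.card_pos_iff]; omega
    obtain ⟨η⟩ := this
    exact ⟨η.1, η.2⟩
  have hcY : ∀ η ∈ Y, c η = c η0 := by
    intro η hη
    have := heq η hη η0 hη0
    rw [hc, hc] at this
    exact_mod_cast this
  have hm : c η0 = c χ1 + 1 := by
    have h := hrel η0 hη0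
    rw [hΛ1, hc, hc] at h
    have h' : ((c η0 : ℕ) : ℂ) = ((c χ1 + 1 : ℕ) : ℂ) := by
      push_cast at h ⊢
      linear_combination h
    exact_mod_cast h'
  -- degrees
  have hdeg : ∀ ψ : IrrCharacter G, (ψ : G → ℂ) 1 = (charDegree (ψ : G → ℂ) : ℂ) := fun ψ =>
    (Helper74.charDegree_cast (Helper74.irr_isCharacter ψ)).symm
  have hdegχ : charDegree (χ1 : G → ℂ) = p - 1 := by
    have h := hdeg χ1
    rw [B.deg_chi] at h
    have : ((charDegree (χ1 : G → ℂ) : ℕ) : ℂ) = ((p - 1 : ℕ) : ℂ) := by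
      rw [← h, Nat.cast_sub (by omega)]
      simp
    exact_mod_cast this
  have hdegY : ∀ η ∈ Y, charDegree (η : G → ℂ) = p - 2 := by
    intro η hη
    have h := hdeg η
    rw [B.deg_Y η hη] at h
    have : ((charDegree (η : G → ℂ) : ℕ) : ℂ) = ((p - 2 : ℕ) : ℂ) := by
      rw [← h, Nat.cast_sub (by omega)]
      simp
    exact_mod_cast this
  -- decomposition
  have hdecomp := Helper74.isCharacter_eq_sum_irr hΛ
  have hval : ∀ x : G, Λ x = ∑ ψ : IrrCharacter G, (c ψ : ℂ) * (ψ : G → ℂ) x := by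
    intro x
    have h := congrFun hdecomp x
    rw [Finset.sum_apply] at h
    rw [h]
    refine Finset.sum_congr rfl (fun ψ _ => ?_)
    rw [Pi.smul_apply, smul_eq_mul, hc]
  -- degree count in `ℕ`
  have hsumdeg : 2 * ∑ ψ : IrrCharacter G, c ψ * charDegree (ψ : G → ℂ) = (p - 1) * (p - 2) := by
    have h := hval 1
    have hΛ1' : Λ 1 = (((p - 1) * (p - 2) : ℕ) : ℂ) / 2 := by
      simp only [hΛdef]
      rw [one_mul, B.deg_chi]
      push_cast [Nat.cast_sub (show 1 ≤ p by omega), Nat.cast_sub (show 2 ≤ p by omega)]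
      ring
    rw [hΛ1'] at h
    have h2 : (((p - 1) * (p - 2) : ℕ) : ℂ) =
        ((2 * ∑ ψ : IrrCharacter G, c ψ * charDegree (ψ : G → ℂ) : ℕ) : ℂ) := by
      push_cast
      have h3 : ∑ ψ : IrrCharacter G, (c ψ : ℂ) * (ψ : G → ℂ) 1 =
          ∑ ψ : IrrCharacter G, (c ψ : ℂ) * (charDegree (ψ : G → ℂ) : ℂ) :=
        Finset.sum_congr rfl (fun ψ _ => by rw [hdeg ψ])
      rw [← h3, ← h]
      push_cast
      ring
    exact_mod_cast h2.symm
  -- the finset of `Y`
  have hY : Y.Finite := Set.toFinite Y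
  have hYcard : hY.toFinset.card = Nat.card Y := by
    rw [Nat.card_coe_set_eq, Set.ncard_eq_toFinset_card Y hY]
  have hχY : χ1 ∉ hY.toFinset := fun h => B.std.chi_nmem ((Set.Finite.mem_toFinset hY).mp h)
  have hsumY : ∑ ψ ∈ hY.toFinset, c ψ * charDegree (ψ : G → ℂ) =
      Nat.card Y * (c η0 * (p - 2)) := by
    rw [← hYcard, ← smul_eq_mul, ← Finset.sum_const]
    refine Finset.sum_congr rfl (fun ψ hψ => ?_)
    have hψY := (Set.Finite.mem_toFinset hY).mp hψ
    rw [hcY ψ hψY, hdegY ψ hψY]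
  have hsumT : ∑ ψ ∈ insert χ1 hY.toFinset, c ψ * charDegree (ψ : G → ℂ) =
      c χ1 * (p - 1) + Nat.card Y * (c η0 * (p - 2)) := by
    rw [Finset.sum_insert hχY, hsumY, hdegχ]
  have hsplit := Finset.sum_sdiff (f := fun ψ : IrrCharacter G => c ψ * charDegree (ψ : G → ℂ))
    (Finset.subset_univ (insert χ1 hY.toFinset))
  rw [hsumT] at hsplit
  -- arithmetic
  obtain ⟨q, hq⟩ : ∃ q, p = q + 5 := ⟨p - 5, by omega⟩
  have hYq : Nat.card Y * 2 = q + 4 := by omega
  have hn1 : c χ1 = 0 := by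
    by_contra hne
    have h1 : 1 ≤ c χ1 := Nat.one_le_iff_ne_zero.mpr hne
    have hle : 2 * (c χ1 * (p - 1) + Nat.card Y * (c η0 * (p - 2))) ≤ (p - 1) * (p - 2) := by
      rw [← hsumdeg, ← hsplit]
      omega
    have e1 : p - 1 = q + 4 := by omega
    have e2 : p - 2 = q + 3 := by omega
    rw [e1, e2, hm] at hle
    have : 2 * (Nat.card Y * ((c χ1 + 1) * (q + 3))) = (q + 4) * ((c χ1 + 1) * (q + 3)) := by
      rw [← hYq]; ring
    have hA : (q + 4) * (q + 3) ≤ (q + 4) * ((c χ1 + 1) * (q + 3)) :=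
      Nat.mul_le_mul_left _ (Nat.le_mul_of_pos_left _ (by omega))
    have hB : 1 * (q + 4) ≤ c χ1 * (q + 4) := Nat.mul_le_mul_right _ h1
    rw [mul_add, this] at hle
    omega
  have hm1 : c η0 = 1 := by rw [hm, hn1]
  have hrest : ∑ ψ ∈ Finset.univ \ insert χ1 hY.toFinset, c ψ * charDegree (ψ : G → ℂ) = 0 := by
    have e1 : p - 1 = q + 4 := by omega
    have e2 : p - 2 = q + 3 := by omega
    rw [hn1, hm1, e1, e2] at hsplit
    rw [e1, e2] at hsumdeg
    have : 2 * (Nat.card Y * (1 * (q + 3))) = (q + 4) * (q + 3) := by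
      rw [← hYq]; ring
    omega
  have hc0 : ∀ ψ : IrrCharacter G, ψ ∉ hY.toFinset → c ψ = 0 := by
    intro ψ hψ
    by_cases hψχ : ψ = χ1
    · rw [hψχ, hn1]
    · have hmem : ψ ∈ Finset.univ \ insert χ1 hY.toFinset := by
        rw [Finset.mem_sdiff, Finset.mem_insert]
        refine ⟨Finset.mem_univ _, ?_⟩
        rintro (h | h)
        · exact hψχ h
        · exact hψ h
      have h0 := (Finset.sum_eq_zero_iff.mp hrest) ψ hmem
      have hpos := Helper79.irr_charDegree_pos ψ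
      rcases Nat.mul_eq_zero.mp h0 with h | h
      · exact h
      · omega
  -- conclusion
  show Λ g = _
  rw [hval g, finsum_mem_eq_finite_toFinset_sum _ hY]
  rw [← Finset.sum_subset (Finset.subset_univ hY.toFinset)
    (fun ψ _ hψ => by rw [hc0 ψ hψ, Nat.cast_zero, zero_mul])]
  refine Finset.sum_congr rfl (fun ψ hψ => ?_)
  rw [hcY ψ ((Set.Finite.mem_toFinset hY).mp hψ), hm1, Nat.cast_one, one_mul]

end Cfsg.Agent.Helper12.TwoP
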