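import Cfsg.Agent.Helper61.TwoPDefs
import Cfsg.Agent.Helper89.TwoPD
import Cfsg.Agent.Helper74.CharBasic

/-!
# (L) for S4707: the order of a Sylow `2`-subgroup divides `p - 1`
-/

set_option autoImplicit false
set_option linter.unusedSectionVars false
set_option linter.unusedVariables false

namespace Cfsg.Agent.Helper12.TwoP

open Cfsg MulAction Cfsg.Agent.Helper66.PD2 Cfsg.Agent.Helper61.TwoP
open scoped ComplexConjugate

/-- In a finite group without elements of order `4`, every nonidentity element of `2`-power order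
is an involution. -/
theorem orderOf_eq_two_of_no_four {G : Type*} [Group G] (hno4 : ∀ g : G, orderOf g ≠ 4)
    (x : G) (k : ℕ) (hk : orderOf x = 2 ^ k) (hx : x ≠ 1) : orderOf x = 2 := by
  rcases k with _ | _ | k
  · exfalso
    rw [pow_zero, orderOf_eq_one_iff] at hk
    exact hx hk
  · rw [hk]; norm_num
  · exfalso
    have hdvd : 2 ^ k ∣ orderOf x := by
      rw [hk]
      exact pow_dvd_pow 2 (by omega)
    have h := orderOf_pow_of_dvd (x := x) (n := 2 ^ k) (by positivity) hdvd
    rw [hk] at h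
    have h4 : (2 : ℕ) ^ (k + 1 + 1) / 2 ^ k = 4 := by
      have : (2 : ℕ) ^ (k + 1 + 1) = 4 * 2 ^ k := by ring
      rw [this, Nat.mul_div_cancel _ (by positivity)]
    rw [h4] at h
    exact hno4 _ h

variable {G : Type*} [Group G] [Fintype G] {α : Type*} [Fintype α] [DecidableEq α] [MulAction G α]
  {p : ℕ} [Fact p.Prime] {P : Sylow p G} {χ1 θ : IrrCharacter G} {Y : Set (IrrCharacter G)}

/-- (L) the order of a Sylow `2`-subgroup divides `p - 1`. -/
theorem card_sylow_two_dvd (B : CaseB G α p χ1 θ Y) (hno4 : ∀ g : G, orderOf g ≠ 4)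
    (hinv : ∀ s : G, orderOf s = 2 → (χ1 : G → ℂ) s = 0 ∧ ∀ η ∈ Y, (η : G → ℂ) s = -1)
    (Q : Sylow 2 G) : Nat.card Q ∣ p - 1 := by
  classical
  have hp1 : 1 ≤ p := (Fact.out : p.Prime).one_lt.le
  haveI : Fintype (Q : Subgroup G) := Fintype.ofFinite _
  obtain ⟨m, hm⟩ := Cfsg.Agent.Helper89.TwoP.exists_nat_sum_subgroup (Q : Subgroup G)
    (Helper74.irr_isCharacter χ1)
  have hsum : ∑ x : (Q : Subgroup G), (χ1 : G → ℂ) (x : G) = ((p - 1 : ℕ) : ℂ) := by
    rw [Finset.sum_eq_single (1 : (Q : Subgroup G))]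
    · rw [Subgroup.coe_one, B.deg_chi, Nat.cast_sub hp1]
      simp
    · intro x _ hx
      have hx1 : (x : G) ≠ 1 := fun h => hx (Subtype.ext h)
      obtain ⟨k, hk⟩ := (IsPGroup.iff_orderOf.mp Q.isPGroup') x
      rw [← Subgroup.orderOf_coe] at hk
      exact (hinv (x : G) (orderOf_eq_two_of_no_four hno4 (x : G) k hk hx1)).1
    · intro h
      exact absurd (Finset.mem_univ _) h
  rw [hsum] at hm
  have h2 : p - 1 = m * Nat.card (Q : Subgroup G) := by exact_mod_cast hm
  exact Dvd.intro_left m h2.symm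

end Cfsg.Agent.Helper12.TwoP
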