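import Cfsg.Agent.Helper61.TwoPDefs
import Cfsg.Agent.Helper74.DefectZero

/-!
# (M) for S4707: `χ₁` has `2`-defect zero
-/

set_option autoImplicit false
set_option linter.unusedSectionVars false
set_option linter.unusedVariables false

namespace Cfsg.Agent.Helper12.TwoP

open Cfsg MulAction Cfsg.Agent.Helper66.PD2 Cfsg.Agent.Helper61.TwoP
open scoped ComplexConjugate

variable {G : Type*} [Group G] [Fintype G] {α : Type*} [Fintype α] [DecidableEq α] [MulAction G α]
  {p : ℕ} [Fact p.Prime] {P : Sylow p G} {χ1 θ : IrrCharacter G} {Y : Set (IrrCharacter G)}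

/-- The degree of `χ₁` as a natural number. -/
theorem charDegree_chi (hp5 : 5 ≤ p) (B : CaseB G α p χ1 θ Y) :
    charDegree (χ1 : G → ℂ) = p - 1 := by
  have h := Helper74.charDegree_cast (Helper74.irr_isCharacter χ1)
  rw [B.deg_chi] at h
  have : ((charDegree (χ1 : G → ℂ) : ℕ) : ℂ) = ((p - 1 : ℕ) : ℂ) := by
    rw [h, Nat.cast_sub (by omega)]
    simp
  exact_mod_cast this

/-- (M) `χ₁` has `2`-defect zero. -/
theorem chi_vanish_even (hp5 : 5 ≤ p) (B : CaseB G α p χ1 θ Y)
    (hsyl : ∀ Q : Sylow 2 G, Nat.card Q ∣ p - 1) (g : G) (hg : 2 ∣ orderOf g) :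
    (χ1 : G → ℂ) g = 0 := by
  have Q : Sylow 2 G := default
  have hQ : Nat.card Q = 2 ^ (Nat.card G).factorization 2 := Sylow.card_eq_multiplicity Q
  refine Helper74.irr_eq_zero_of_defect_zero χ1 Nat.prime_two ?_ g hg
  rw [← hQ, charDegree_chi hp5 B]
  exact hsyl Q

end Cfsg.Agent.Helper12.TwoP
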