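import Cfsg.Agent.Helper61.TwoPDefs
import Cfsg.Agent.Helper12.PermCharBasics
import Cfsg.Agent.Helper79.Linear

/-!
# (U1) for S4707: the rank is three
-/

set_option autoImplicit false
set_option linter.unusedSectionVars false
set_option linter.unusedVariables false

namespace Cfsg.Agent.Helper12.TwoP

open Cfsg MulAction Cfsg.Agent.Helper66.PD2 Cfsg.Agent.Helper61.TwoP
open scoped ComplexConjugate

variable {G : Type*} [Group G] [Fintype G] {α : Type*} [Fintype α] [DecidableEq α] [MulAction G α]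
  {p : ℕ} [Fact p.Prime] {P : Sylow p G} {χ1 θ : IrrCharacter G} {Y : Set (IrrCharacter G)}

/-- (U1) rank three. -/
theorem rank_three (S : Setup G α p P) (B : CaseB G α p χ1 θ Y) (a : α) :
    Nat.card (orbitRel.Quotient (stabilizer G a) α) = 3 := by
  classical
  haveI : IsPretransitive G α := S.prim.toIsPretransitive
  have hp5 := S.hp5
  have hp5c : (5 : ℝ) ≤ (p : ℝ) := by exact_mod_cast hp5
  have h1 := Cfsg.Agent.Helper12.PermCharBasics.classInner_permChar_self (G := G) (Ω := α) a
  have hπ : Cfsg.Agent.Helper12.PermCharBasics.permChar G α =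
      ((Helper79.principalIrr G : G → ℂ) + (χ1 : G → ℂ)) + (θ : G → ℂ) := by
    funext g
    have := B.perm g
    show ((Nat.card (fixedBy α g) : ℕ) : ℂ) = _
    unfold fx at this
    rw [this]
    rfl
  have h1χ : Helper79.principalIrr G ≠ χ1 := fun h => B.std.chi_ne h.symm
  have hne_of_deg : ∀ ψ φ : IrrCharacter G, (ψ : G → ℂ) 1 ≠ (φ : G → ℂ) 1 → ψ ≠ φ := by
    intro ψ φ h hψφ
    exact h (by rw [hψφ])
  have h1θ : Helper79.principalIrr G ≠ θ := by
    apply hne_of_deg
    rw [B.deg_theta]
    show (1 : ℂ) ≠ (p : ℂ)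
    intro h
    have : (1 : ℝ) = (p : ℝ) := by exact_mod_cast h
    linarith
  have hχθ : χ1 ≠ θ := by
    apply hne_of_deg
    rw [B.deg_theta, B.deg_chi]
    intro h
    have : (p : ℂ) - 1 - p = 0 := by rw [h]; ring
    norm_num at this
  rw [hπ] at h1
  simp only [Helper74.classInner_add_left, Helper74.classInner_add_right,
    Helper74.irr_inner_self, Helper74.irr_inner_ne h1χ, Helper74.irr_inner_ne h1χ.symm,
    Helper74.irr_inner_ne h1θ, Helper74.irr_inner_ne h1θ.symm, Helper74.irr_inner_ne hχθ,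
    Helper74.irr_inner_ne hχθ.symm] at h1
  have h3 : (Nat.card (orbitRel.Quotient (stabilizer G a) α) : ℂ) = ((3 : ℕ) : ℂ) := by
    rw [← h1]; norm_num
  exact_mod_cast h3

end Cfsg.Agent.Helper12.TwoP
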