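import Mathlib
import Cfsg.Agent.Helper44.U4Defs
import Cfsg.Agent.S2671

/-!
# Piece (C3) of S6001 (helper44's plan, board #9295): classes of elements of order 3 in `GU_4(p)`,
from the class count S2671
-/

set_option autoImplicit false
open scoped MatrixGroups

namespace Cfsg.Agent.Helper12.U4

open Matrix Polynomial Cfsg.Agent.Helper99.P4 Cfsg.Geo Cfsg.Agent.Helper44.U4

variable {F : Type*} [Field F]

/-- conjugate elements of `GU` (as a subgroup of `GL`) give a conjugating element of `GU` -/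
theorem exists_conj_of_mk_eq {p : ℕ} (x y : GL (Fin 4) F) (hx : x ∈ Cfsg.GU 4 F p)
    (hy : y ∈ Cfsg.GU 4 F p)
    (h : ConjClasses.mk (⟨x, hx⟩ : ↥(Cfsg.GU 4 F p)) = ConjClasses.mk ⟨y, hy⟩) :
    ∃ u ∈ Cfsg.GU 4 F p, u⁻¹ * x * u = y := by
  obtain ⟨c, hc⟩ := isConj_iff.mp (ConjClasses.mk_eq_mk_iff_isConj.mp h)
  refine ⟨(c : GL (Fin 4) F)⁻¹, inv_mem c.2, ?_⟩
  have h' := congrArg (fun g : ↥(Cfsg.GU 4 F p) => (g : GL (Fin 4) F)) hc
  simp only [Subgroup.coe_mul, Subgroup.coe_inv] at h'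
  rw [inv_inv]
  exact h'

/-- conjugate elements of `GU` have the same trace -/
theorem trace_eq_of_mk_eq {p : ℕ} (x y : GL (Fin 4) F) (hx : x ∈ Cfsg.GU 4 F p)
    (hy : y ∈ Cfsg.GU 4 F p)
    (h : ConjClasses.mk (⟨x, hx⟩ : ↥(Cfsg.GU 4 F p)) = ConjClasses.mk ⟨y, hy⟩) :
    Matrix.trace (x : Matrix (Fin 4) (Fin 4) F) = Matrix.trace (y : Matrix (Fin 4) (Fin 4) F) := by
  obtain ⟨u, -, hu⟩ := exists_conj_of_mk_eq x y hx hy h
  rw [← hu, Units.val_mul, Units.val_mul, Matrix.trace_mul_cycle, ← Units.val_mul,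
    mul_inv_cancel, Units.val_one, Matrix.one_mul]

/-- (C3) `GU_4(p)`, `p ≡ 1 (mod 3)`, has exactly two classes of elements of order 3 (S2671) -/
theorem order_three_classes [Fintype F] {p : ℕ} [Fact p.Prime] [CharP F p]
    (hF : Fintype.card F = p ^ 2) (hp3 : p % 3 = 1) (ya yb : GL (Fin 4) F)
    (hya : ya ∈ Cfsg.GU 4 F p) (hyb : yb ∈ Cfsg.GU 4 F p) (hya3 : orderOf ya = 3)
    (hyb3 : orderOf yb = 3)
    (htr : Matrix.trace (ya : Matrix (Fin 4) (Fin 4) F) ≠ Matrix.trace (yb : Matrix (Fin 4) (Fin 4) F))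
    (x : GL (Fin 4) F) (hx : x ∈ Cfsg.GU 4 F p) (hx3 : orderOf x = 3) :
    ∃ u ∈ Cfsg.GU 4 F p, u⁻¹ * x * u = ya ∨ u⁻¹ * x * u = yb := by
  have hp1 : ((p : ℕ) : ZMod 3) = 1 := by
    rw [← ZMod.natCast_mod, hp3, Nat.cast_one]
  have hi : (1 : ℕ) = orderOf ((p : ℕ) : ZMod 3) := by rw [hp1, orderOf_one]
  have h3p : (3 : ℕ) ≠ p := by
    intro h
    rw [← h] at hp3
    norm_num at hp3
  have hcount := Cfsg.Agent.S2671.result (K := F) (p := p) (q := p) (n := 4) (r := 3) (i := 1)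
    (b := 1) (s := 2) hF Nat.prime_three (by norm_num) h3p hi (by norm_num)
    (by simp) (by norm_num)
  have hcount2 : Nat.card {C : ConjClasses ↥(Cfsg.GU 4 F p) //
      ∃ g : ↥(Cfsg.GU 4 F p), ConjClasses.mk g = C ∧ orderOf g = 3} = 2 := by
    rw [hcount]
    norm_num [Nat.choose]
  let T := {C : ConjClasses ↥(Cfsg.GU 4 F p) //
      ∃ g : ↥(Cfsg.GU 4 F p), ConjClasses.mk g = C ∧ orderOf g = 3}
  let cA : T := ⟨ConjClasses.mk ⟨ya, hya⟩, ⟨ya, hya⟩, rfl, by rw [Subgroup.orderOf_mk]; exact hya3⟩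
  let cB : T := ⟨ConjClasses.mk ⟨yb, hyb⟩, ⟨yb, hyb⟩, rfl, by rw [Subgroup.orderOf_mk]; exact hyb3⟩
  let cX : T := ⟨ConjClasses.mk ⟨x, hx⟩, ⟨x, hx⟩, rfl, by rw [Subgroup.orderOf_mk]; exact hx3⟩
  have hAB : cB ≠ cA := by
    intro h
    have h' := congrArg Subtype.val h
    exact htr (trace_eq_of_mk_eq yb ya hyb hya h').symm
  obtain ⟨c, -, hc⟩ := (Nat.card_eq_two_iff' cA).mp hcount2
  by_cases hXA : cX = cA
  · obtain ⟨u, hu, h⟩ := exists_conj_of_mk_eq x ya hx hya (congrArg Subtype.val hXA)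
    exact ⟨u, hu, Or.inl h⟩
  · have hXB : cX = cB := (hc cX hXA).trans (hc cB hAB).symm
    obtain ⟨u, hu, h⟩ := exists_conj_of_mk_eq x yb hx hyb (congrArg Subtype.val hXB)
    exact ⟨u, hu, Or.inr h⟩

end Cfsg.Agent.Helper12.U4
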