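import Mathlib
import Cfsg.Agent.Helper44.U4Defs
import Cfsg.Agent.S2671
import Cfsg.Agent.Helper12.U4C3

/-!
# Piece (C5) of S6001 (helper44's plan, board #9295): the class of elements of order 5 in `GU_4(p)`,
from the class count S2671
-/

set_option autoImplicit false
open scoped MatrixGroups

namespace Cfsg.Agent.Helper12.U4

open Matrix Polynomial Cfsg.Agent.Helper99.P4 Cfsg.Geo Cfsg.Agent.Helper44.U4

variable {F : Type*} [Field F]

/-- (C5) `GU_4(p)`, `p` of order 4 mod 5, has exactly one class of elements of order 5 (S2671) -/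
theorem order_five_class [Fintype F] {p : ℕ} [Fact p.Prime] [CharP F p]
    (hF : Fintype.card F = p ^ 2) (hord : orderOf (p : ZMod 5) = 4) (y : GL (Fin 4) F)
    (hy : y ∈ Cfsg.GU 4 F p) (hy5 : orderOf y = 5)
    (x : GL (Fin 4) F) (hx : x ∈ Cfsg.GU 4 F p) (hx5 : orderOf x = 5) :
    ∃ u ∈ Cfsg.GU 4 F p, u⁻¹ * x * u = y := by
  have h5p : (5 : ℕ) ≠ p := by
    intro h
    have h0 : ((p : ℕ) : ZMod 5) = 0 := by
      rw [← h]
      rfl
    have h1 := pow_orderOf_eq_one ((p : ℕ) : ZMod 5)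
    rw [hord, h0] at h1
    exact absurd h1 (by decide)
  have hcount := Cfsg.Agent.S2671.result (K := F) (p := p) (q := p) (n := 4) (r := 5) (i := 4)
    (b := 2) (s := 2) hF (by norm_num) (by norm_num) h5p hord.symm (by norm_num)
    (by norm_num) (by norm_num)
  have hcount1 : Nat.card {C : ConjClasses ↥(Cfsg.GU 4 F p) //
      ∃ g : ↥(Cfsg.GU 4 F p), ConjClasses.mk g = C ∧ orderOf g = 5} = 1 := by
    rw [hcount]
    norm_num [Nat.choose]
  let T := {C : ConjClasses ↥(Cfsg.GU 4 F p) //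
      ∃ g : ↥(Cfsg.GU 4 F p), ConjClasses.mk g = C ∧ orderOf g = 5}
  let cY : T := ⟨ConjClasses.mk ⟨y, hy⟩, ⟨y, hy⟩, rfl, by rw [Subgroup.orderOf_mk]; exact hy5⟩
  let cX : T := ⟨ConjClasses.mk ⟨x, hx⟩, ⟨x, hx⟩, rfl, by rw [Subgroup.orderOf_mk]; exact hx5⟩
  have hsub : Subsingleton T := (Nat.card_eq_one_iff_unique.mp hcount1).1
  have hXY : cX = cY := Subsingleton.elim _ _
  exact exists_conj_of_mk_eq x y hx hy (congrArg Subtype.val hXY)

end Cfsg.Agent.Helper12.U4
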