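import Mathlib
import Cfsg.Agent.Helper44.U4Defs
import Cfsg.Agent.S2587
import Cfsg.Agent.Helper43.SSConj

/-!
# Piece (GLU) of S6001 (helper44's plan, board #9295): same characteristic polynomial implies
`GU`-conjugate, for elements of order prime to the characteristic
-/

set_option autoImplicit false
open scoped MatrixGroups

namespace Cfsg.Agent.Helper12.U4

open Matrix Polynomial Cfsg.Agent.Helper99.P4 Cfsg.Geo Cfsg.Agent.Helper44.U4

variable {F : Type*} [Field F]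

/-- (GLU) same characteristic polynomial ⟹ `GU`-conjugate -/
theorem gu_conj_of_charpoly [Fintype F] {p : ℕ} [Fact p.Prime] [CharP F p]
    (hF : Fintype.card F = p ^ 2) (a b : GL (Fin 4) F) (ha : a ∈ Cfsg.GU 4 F p)
    (hb : b ∈ Cfsg.GU 4 F p) (k : ℕ) (hk : (k : F) ≠ 0) (hak : a ^ k = 1) (hbk : b ^ k = 1)
    (hcp : (a : Matrix (Fin 4) (Fin 4) F).charpoly = (b : Matrix (Fin 4) (Fin 4) F).charpoly) :
    ∃ u ∈ Cfsg.GU 4 F p, u⁻¹ * a * u = b := by
  have hGL : IsConj a b := Cfsg.Agent.Helper43.SS.isConj_GL_of_charpoly_eq a b k k hk hk hak hbk hcp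
  have hGU : IsConj (⟨a, ha⟩ : ↥(Cfsg.GU 4 F p)) ⟨b, hb⟩ :=
    (Cfsg.Agent.S2587.result hF ⟨a, ha⟩ ⟨b, hb⟩).mpr hGL
  obtain ⟨c, hc⟩ := isConj_iff.mp hGU
  refine ⟨(c : GL (Fin 4) F)⁻¹, inv_mem c.2, ?_⟩
  have h := congrArg (fun g : ↥(Cfsg.GU 4 F p) => (g : GL (Fin 4) F)) hc
  simp only [Subgroup.coe_mul, Subgroup.coe_inv] at h
  rw [inv_inv]
  exact h

end Cfsg.Agent.Helper12.U4
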