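import Mathlib
import Cfsg.Agent.Helper44.U4Defs
import Cfsg.Agent.Helper45.GUBasic
import Cfsg.Agent.Helper45.GUCard
import Cfsg.Agent.Helper38.GUCentDet

/-!
# Piece (SUC) of S6001 (helper44's plan, board #9295): `GU`-conjugate implies `SU`-conjugate
-/

set_option autoImplicit false
open scoped MatrixGroups

namespace Cfsg.Agent.Helper12.U4

open Matrix Polynomial Cfsg.Agent.Helper99.P4 Cfsg.Geo Cfsg.Agent.Helper44.U4

variable {F : Type*} [Field F]

/-- (SUC) `GU`-conjugate ⟹ `SU`-conjugate, for elements of order prime to `p` -/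
theorem su_conj_of_gu_conj [Fintype F] {p : ℕ} [Fact p.Prime] [CharP F p]
    (hF : Fintype.card F = p ^ 2) (a u : GL (Fin 4) F) (ha : a ∈ Cfsg.GU 4 F p)
    (hu : u ∈ Cfsg.GU 4 F p) (k : ℕ) (hk : k.Coprime p) (hak : a ^ k = 1) :
    ∃ g ∈ SU4 F p, g⁻¹ * a * g = u⁻¹ * a * u := by
  classical
  obtain ⟨bar, hbar⟩ := Cfsg.Agent.Helper45.GU.exists_bar hF
  have hne : bar ≠ RingHom.id F := Cfsg.Agent.Helper45.GU.bar_ne_id hF bar hbar
  have hinv : ∀ x, bar (bar x) = x := by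
    intro x
    rw [hbar, hbar, ← pow_mul, ← sq, ← hF, FiniteField.pow_card]
  have haU := (Cfsg.Agent.Helper45.GU.mem_GU_iff 4 bar hbar a).mp ha
  have huU := (Cfsg.Agent.Helper45.GU.mem_GU_iff 4 bar hbar u).mp hu
  have hdu := Cfsg.Agent.Helper45.GU.det_mul_bar_det bar _ huU
  have hdu0 : (u : Matrix (Fin 4) (Fin 4) F).det ≠ 0 := by
    intro h
    rw [h, zero_mul] at hdu
    exact zero_ne_one hdu
  have hδ : ((u : Matrix (Fin 4) (Fin 4) F).det)⁻¹ * bar ((u : Matrix (Fin 4) (Fin 4) F).det)⁻¹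
      = 1 := by
    rw [map_inv₀, ← mul_inv, hdu, inv_one]
  have hAk : (a : Matrix (Fin 4) (Fin 4) F) ^ k = 1 := by
    have := congrArg (fun g : GL (Fin 4) F => (g : Matrix (Fin 4) (Fin 4) F)) hak
    simpa using this
  obtain ⟨Y, hYU, hYA, hYdet⟩ := Cfsg.Agent.Helper38.exists_unitary_commute_det p (n := 4)
    (by norm_num) bar hne hinv (a : Matrix (Fin 4) (Fin 4) F) haU k hk hAk _ hδ
  have hYdet0 : Y.det ≠ 0 := by
    rw [hYdet]
    exact inv_ne_zero hdu0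
  let Yg : GL (Fin 4) F := Matrix.GeneralLinearGroup.mkOfDetNeZero Y hYdet0
  have hYg : (Yg : Matrix (Fin 4) (Fin 4) F) = Y := rfl
  have hYgU : Yg ∈ Cfsg.GU 4 F p := by
    rw [Cfsg.Agent.Helper45.GU.mem_GU_iff 4 bar hbar, hYg]
    exact hYU
  have hcomm : Yg * a = a * Yg := by
    apply Units.ext
    rw [Units.val_mul, Units.val_mul, hYg]
    exact hYA
  refine ⟨Yg * u, ⟨mul_mem hYgU hu, ?_⟩, ?_⟩
  · show (Yg * u) ∈ specialLinear (Fin 4) F
    rw [specialLinear, MonoidHom.mem_ker]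
    apply Units.ext
    rw [Matrix.GeneralLinearGroup.val_det_apply, Units.val_mul, Matrix.det_mul, hYg, hYdet,
      Units.val_one]
    exact inv_mul_cancel₀ hdu0
  · have : (Yg * u)⁻¹ * a * (Yg * u) = u⁻¹ * (Yg⁻¹ * (a * Yg)) * u := by group
    rw [this, ← hcomm, inv_mul_cancel_left]

end Cfsg.Agent.Helper12.U4
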