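import Mathlib
import Cfsg.Agent.Helper99.UNdDefs
import Cfsg.Agent.Helper13.UFrames
import Cfsg.Agent.Helper13.UGen1
import Cfsg.Agent.Helper37.USubR0
import Cfsg.Agent.Helper45.GUCard
import Cfsg.Agent.S0837
import Cfsg.Agent.S0751

/-!
# Piece (N1) of S5954 (helper99's plan, board #7815)

The number of nondegenerate `m`-subspaces of the `n`-dimensional unitary space is
`|GU_n| / (|GU_m| |GU_{n-m}|)`; a prime `r ≠ p` dividing it divides `q ^ j - (-1) ^ j` for some
`n - m < j ≤ n`.
-/

set_option autoImplicit false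

namespace Cfsg.Agent.Helper12.UNdN1

open Matrix Cfsg.Agent.S0837 Cfsg.Agent.Helper13 Cfsg.Agent.Helper37.Lang
  Cfsg.Agent.Helper37.USubR0

variable {F : Type*} [Field F] [Fintype F] {q n : ℕ}

theorem isHerm_hermForm (hF : Fintype.card F = q ^ 2) :
    IsHerm (frobEquiv q hF) (Cfsg.hermForm n F q) where
  add_left := hermForm_add_left
  add_right u v v' := hermForm_add_right hF u v v'
  smul_left := hermForm_smul_left
  smul_right c u v := by rw [hermForm_smul_right, frobEquiv_apply]
  herm u v := by rw [frobEquiv_apply, hermForm_conj hF]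

/-- sesquilinear expansion on an orthonormal family -/
theorem hB_sum_sum (hF : Fintype.card F = q ^ 2) {k : ℕ} (w : Fin k → Fin n → F)
    (hw : ∀ i j, Cfsg.hermForm n F q (w i) (w j) = if i = j then 1 else 0) (a b : Fin k → F) :
    hB hF n (∑ i, a i • w i) (∑ j, b j • w j) = ∑ i, (a i) ^ q * b i := by
  have hl : hB hF n (∑ i, a i • w i) = ∑ i, (a i) ^ q • hB hF n (w i) := by
    rw [map_sum]
    refine Finset.sum_congr rfl fun i _ => ?_
    rw [LinearMap.map_smulₛₗ, frobHom_apply]
  rw [hl, LinearMap.sum_apply]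
  refine Finset.sum_congr rfl fun i _ => ?_
  rw [LinearMap.smul_apply, map_sum, smul_eq_mul]
  congr 1
  rw [Finset.sum_eq_single i]
  · rw [map_smul, hB_apply, hw, if_pos rfl, smul_eq_mul, mul_one]
  · intro j _ hji
    rw [map_smul, hB_apply, hw, if_neg hji, smul_zero]
  · intro h; exact absurd (Finset.mem_univ i) h

theorem linearIndependent_of_orthonormal (hF : Fintype.card F = q ^ 2) {k : ℕ}
    (w : Fin k → Fin n → F)
    (hw : ∀ i j, Cfsg.hermForm n F q (w i) (w j) = if i = j then 1 else 0) :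
    LinearIndependent F w := by
  rw [Fintype.linearIndependent_iff]
  intro g hg i
  have h1 : hB hF n (w i) (∑ j, g j • w j) = g i := by
    rw [map_sum, Finset.sum_eq_single i]
    · rw [map_smul, hB_apply, hw, if_pos rfl, smul_eq_mul, mul_one]
    · intro j _ hji
      rw [map_smul, hB_apply, hw, if_neg hji, smul_zero]
    · intro h; exact absurd (Finset.mem_univ i) h
  rw [hg, map_zero] at h1
  exact h1.symm

/-- Witt: the unitary group is transitive on orthonormal frames -/
theorem exists_GU_map_orthonormal (hF : Fintype.card F = q ^ 2) {k : ℕ}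
    (e f : Fin k → (Fin n → F))
    (he : ∀ i j, Cfsg.hermForm n F q (e i) (e j) = if i = j then 1 else 0)
    (hf : ∀ i j, Cfsg.hermForm n F q (f i) (f j) = if i = j then 1 else 0) :
    ∃ g : Cfsg.GU n F q,
      ∀ i, ((g : GL (Fin n) F) : Matrix (Fin n) (Fin n) F) *ᵥ e i = f i := by
  have hle := linearIndependent_of_orthonormal hF e he
  have hlf := linearIndependent_of_orthonormal hF f hf
  set X := Submodule.span F (Set.range e) with hX
  set Y := Submodule.span F (Set.range f) with hY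
  set bX := Module.Basis.span hle with hbX
  set bY := Module.Basis.span hlf with hbY
  set φ : X ≃ₗ[F] Y := bX.equiv bY (Equiv.refl _) with hφdef
  have h1 : ∀ i, (bX i : Fin n → F) = e i := fun i => by rw [hbX, Module.Basis.span_apply]
  have h2 : ∀ i, (bY i : Fin n → F) = f i := fun i => by rw [hbY, Module.Basis.span_apply]
  have ex : ∀ x : X, (x : Fin n → F) = ∑ i, bX.repr x i • e i := by
    intro x
    conv_lhs => rw [← bX.sum_repr x]
    rw [Submodule.coe_sum]
    refine Finset.sum_congr rfl fun i _ => ?_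
    rw [Submodule.coe_smul, h1]
  have eφ : ∀ x : X, (φ x : Fin n → F) = ∑ i, bX.repr x i • f i := by
    intro x
    conv_lhs => rw [← bX.sum_repr x, map_sum]
    rw [Submodule.coe_sum]
    refine Finset.sum_congr rfl fun i _ => ?_
    rw [map_smul, Submodule.coe_smul, hφdef, Module.Basis.equiv_apply, Equiv.refl_apply, h2]
  have hφ : ∀ x x' : X, (hB hF n) (φ x : Fin n → F) (φ x' : Fin n → F) =
      (hB hF n) (x : Fin n → F) (x' : Fin n → F) := by
    intro x x'
    rw [ex x, ex x', eφ x, eφ x', hB_sum_sum hF e he, hB_sum_sum hF f hf]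
  obtain ⟨g, hg1, hg2⟩ := Cfsg.Agent.S0751.result (frobHom hF) (frobHom_ne_id hF)
    (frobHom_frobHom hF) (hB hF n) (hB_isSymm hF n) (hB_nondegenerate hF n) X Y φ hφ
  obtain ⟨G, hG⟩ := exists_GU_of_preserves' hF
    (LinearMap.toMatrix' (g : (Fin n → F) →ₗ[F] (Fin n → F))) (by
      intro u v
      have := hg1 v u
      rw [hB_apply, hB_apply] at this
      rw [LinearMap.toMatrix'_mulVec, LinearMap.toMatrix'_mulVec]
      exact this)
  refine ⟨G, ?_⟩
  intro i
  rw [hG, LinearMap.toMatrix'_mulVec]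
  have h3 := hg2 (bX i)
  rw [h1] at h3
  rw [LinearEquiv.coe_coe, h3, hφdef, Module.Basis.equiv_apply, Equiv.refl_apply, h2]


/-! ### the standard frame, spans of orthonormal frames -/

/-- the first `m` standard basis vectors -/
def stdFrame (F : Type*) [Field F] {n m : ℕ} (hmn : m ≤ n) : Fin m → Fin n → F :=
  fun i => Pi.single (Fin.castLE hmn i) 1

theorem stdFrame_orthonormal (hF : Fintype.card F = q ^ 2) {m : ℕ} (hmn : m ≤ n) (i j : Fin m) :
    Cfsg.hermForm n F q (stdFrame F hmn i) (stdFrame F hmn j) = if i = j then 1 else 0 := by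
  unfold stdFrame
  rw [hermForm_single_right hF, Pi.single_apply]
  by_cases h : i = j
  · subst h; simp
  · rw [if_neg h, if_neg]
    intro h'
    exact h (Fin.castLE_injective hmn h').symm

theorem hB_right_sum (hF : Fintype.card F = q ^ 2) {k : ℕ} (w : Fin k → Fin n → F)
    (hw : ∀ i j, Cfsg.hermForm n F q (w i) (w j) = if i = j then 1 else 0) (g : Fin k → F)
    (i : Fin k) : Cfsg.hermForm n F q (∑ j, g j • w j) (w i) = g i := by
  rw [← hB_apply hF, map_sum, Finset.sum_eq_single i]
  · rw [map_smul, hB_apply, hw, if_pos rfl, smul_eq_mul, mul_one]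
  · intro j _ hji
    rw [map_smul, hB_apply, hw, if_neg hji, smul_zero]
  · intro h; exact absurd (Finset.mem_univ i) h

/-- the span of an orthonormal frame is a nondegenerate subspace of the right dimension -/
theorem span_orthonormal (hF : Fintype.card F = q ^ 2) {k : ℕ} (w : Fin k → Fin n → F)
    (hw : ∀ i j, Cfsg.hermForm n F q (w i) (w j) = if i = j then 1 else 0) :
    Module.finrank F ↥(Submodule.span F (Set.range w)) = k ∧
      ∀ u ∈ Submodule.span F (Set.range w), u ≠ 0 →
        ∃ v ∈ Submodule.span F (Set.range w), Cfsg.hermForm n F q u v ≠ 0 := by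
  constructor
  · rw [finrank_span_eq_card (linearIndependent_of_orthonormal hF w hw), Fintype.card_fin]
  · intro u hu hu0
    obtain ⟨g, rfl⟩ := (Submodule.mem_span_range_iff_exists_fun F).mp hu
    have hex : ∃ i, g i ≠ 0 := by
      by_contra hcon
      push Not at hcon
      apply hu0
      apply Finset.sum_eq_zero
      intro i _
      rw [hcon i, zero_smul]
    obtain ⟨i, hi⟩ := hex
    refine ⟨w i, Submodule.subset_span ⟨i, rfl⟩, ?_⟩
    rw [hB_right_sum hF w hw]
    exact hi

/-- every nondegenerate subspace is the span of an orthonormal frame -/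
theorem exists_orthonormal_span (hF : Fintype.card F = q ^ 2) {m : ℕ}
    (W : Submodule F (Fin n → F)) (hfin : Module.finrank F ↥W = m)
    (hnd : ∀ u ∈ W, u ≠ 0 → ∃ v ∈ W, Cfsg.hermForm n F q u v ≠ 0) :
    ∃ u : Fin m → Fin n → F,
      (∀ i j, Cfsg.hermForm n F q (u i) (u j) = if i = j then 1 else 0) ∧
        Submodule.span F (Set.range u) = W := by
  obtain ⟨u, hu, huo⟩ := exists_orthonormal (V := Fin n → F) (σ := frobEquiv q hF)
    (fun x => by rw [frobEquiv_apply, frobEquiv_apply, frob_frob hF]) (frobEquiv_ne_one q hF)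
    (isHerm_hermForm hF) m W hfin hnd
  refine ⟨u, huo, ?_⟩
  have hle : Submodule.span F (Set.range u) ≤ W := by
    rw [Submodule.span_le]
    rintro _ ⟨i, rfl⟩
    exact hu i
  apply Submodule.eq_of_le_of_finrank_eq hle
  rw [(span_orthonormal hF u huo).1, hfin]

/-! ### the action on subspaces -/

/-- the action of `GU_n` on subspaces -/
@[reducible] noncomputable def subAction (F : Type*) [Field F] (q n : ℕ) :
    MulAction (Cfsg.GU n F q) (Submodule F (Fin n → F)) where
  smul g W := W.map (Matrix.toLin' ((g : GL (Fin n) F) : Matrix (Fin n) (Fin n) F))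
  one_smul W := by
    show W.map (Matrix.toLin' (((1 : Cfsg.GU n F q) : GL (Fin n) F) :
      Matrix (Fin n) (Fin n) F)) = W
    rw [Subgroup.coe_one, Units.val_one, Matrix.toLin'_one, Submodule.map_id]
  mul_smul g h W := by
    show W.map (Matrix.toLin' (((g * h : Cfsg.GU n F q) : GL (Fin n) F) :
      Matrix (Fin n) (Fin n) F)) =
      (W.map (Matrix.toLin' ((h : GL (Fin n) F) : Matrix (Fin n) (Fin n) F))).map
        (Matrix.toLin' ((g : GL (Fin n) F) : Matrix (Fin n) (Fin n) F))
    rw [Subgroup.coe_mul, Units.val_mul, Matrix.toLin'_mul, Submodule.map_comp]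

omit [Fintype F] in
theorem smul_span (g : Cfsg.GU n F q) {k : ℕ} (w : Fin k → Fin n → F) :
    (Submodule.span F (Set.range w)).map
        (Matrix.toLin' ((g : GL (Fin n) F) : Matrix (Fin n) (Fin n) F)) =
      Submodule.span F (Set.range fun i =>
        ((g : GL (Fin n) F) : Matrix (Fin n) (Fin n) F) *ᵥ w i) := by
  rw [Submodule.map_span, ← Set.range_comp]
  rfl


/-! ### counting -/

/-- the number of nondegenerate `m`-spaces times `|GU_m| |GU_{n-m}|` is `|GU_n|` -/
theorem card_nd_mul (hF : Fintype.card F = q ^ 2) {m : ℕ} (hmn : m ≤ n) :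
    Nat.card {W : Submodule F (Fin n → F) //
        Module.finrank F ↥W = m ∧ (∀ u ∈ W, u ≠ 0 → ∃ v ∈ W, Cfsg.hermForm n F q u v ≠ 0)} *
      (Nat.card (Cfsg.GU m F q) * Nat.card (Cfsg.GU (n - m) F q)) =
      Nat.card (Cfsg.GU n F q) := by
  let _ : MulAction (Cfsg.GU n F q) (Submodule F (Fin n → F)) := subAction F q n
  set e := stdFrame F hmn with he
  have heo := stdFrame_orthonormal (F := F) hF hmn
  set W0 : Submodule F (Fin n → F) := Submodule.span F (Set.range e) with hW0
  have hW0p := span_orthonormal hF e heo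
  have hsmul : ∀ (g : Cfsg.GU n F q) (W : Submodule F (Fin n → F)),
      g • W = W.map (Matrix.toLin' ((g : GL (Fin n) F) : Matrix (Fin n) (Fin n) F)) :=
    fun _ _ => rfl
  -- orbit-stabilizer
  have horb : Nat.card (MulAction.orbit (Cfsg.GU n F q) W0) *
      Nat.card (MulAction.stabilizer (Cfsg.GU n F q) W0) = Nat.card (Cfsg.GU n F q) := by
    rw [← Nat.card_prod]
    exact Nat.card_congr (MulAction.orbitProdStabilizerEquivGroup (Cfsg.GU n F q) W0)
  -- the orbit is the set of nondegenerate `m`-spaces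
  have horbit : ∀ W : Submodule F (Fin n → F),
      (Module.finrank F ↥W = m ∧ (∀ u ∈ W, u ≠ 0 → ∃ v ∈ W, Cfsg.hermForm n F q u v ≠ 0)) ↔
        W ∈ MulAction.orbit (Cfsg.GU n F q) W0 := by
    intro W
    constructor
    · rintro ⟨hfin, hnd⟩
      obtain ⟨u, huo, hspan⟩ := exists_orthonormal_span hF W hfin hnd
      obtain ⟨g, hg⟩ := exists_GU_map_orthonormal hF e u heo huo
      rw [MulAction.mem_orbit_iff]
      refine ⟨g, ?_⟩
      rw [hsmul, hW0, smul_span]
      rw [← hspan]
      congr 2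
      funext i
      exact hg i
    · intro hW
      rw [MulAction.mem_orbit_iff] at hW
      obtain ⟨g, rfl⟩ := hW
      rw [hsmul, hW0, smul_span]
      apply span_orthonormal hF
      intro i j
      rw [GU_preserves]
      exact heo i j
  have h1 : Nat.card {W : Submodule F (Fin n → F) //
        Module.finrank F ↥W = m ∧ (∀ u ∈ W, u ≠ 0 → ∃ v ∈ W, Cfsg.hermForm n F q u v ≠ 0)} =
      Nat.card (MulAction.orbit (Cfsg.GU n F q) W0) :=
    Nat.card_congr (Equiv.subtypeEquivRight horbit)
  -- the stabilizer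
  have hstab : MulAction.stabilizer (Cfsg.GU n F q) W0 =
      (Cfsg.stabilizing (Cfsg.glToMat (Fin n) F) (W0 : Set (Fin n → F))).subgroupOf
        (Cfsg.GU n F q) := by
    ext g
    rw [MulAction.mem_stabilizer_iff, Subgroup.mem_subgroupOf, hsmul]
    show _ ↔ ∀ v, v ∈ (W0 : Set (Fin n → F)) ↔
      ((g : GL (Fin n) F) : Matrix (Fin n) (Fin n) F) *ᵥ v ∈ (W0 : Set (Fin n → F))
    constructor
    · intro h v
      constructor
      · intro hv
        rw [← h]
        exact ⟨v, hv, rfl⟩
      · intro hv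
        rw [← h] at hv
        obtain ⟨w, hw, hwv⟩ := hv
        rw [Matrix.toLin'_apply] at hwv
        rw [← GU_mulVec_injective g hwv]
        exact hw
    · intro h
      apply le_antisymm
      · rintro _ ⟨w, hw, rfl⟩
        rw [Matrix.toLin'_apply]
        exact (h w).mp hw
      · intro x hx
        have hx' : ((g : GL (Fin n) F) : Matrix (Fin n) (Fin n) F) *ᵥ
            ((((g : GL (Fin n) F)⁻¹ : GL (Fin n) F) : Matrix (Fin n) (Fin n) F) *ᵥ x) = x := by
          rw [Matrix.mulVec_mulVec, ← Units.val_mul, mul_inv_cancel, Units.val_one,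
            Matrix.one_mulVec]
        refine ⟨(((g : GL (Fin n) F)⁻¹ : GL (Fin n) F) : Matrix (Fin n) (Fin n) F) *ᵥ x, ?_, ?_⟩
        · apply (h _).mpr
          rw [hx']
          exact hx
        · rw [Matrix.toLin'_apply, hx']
  have hnd0 : ∀ u ∈ W0, (∀ v ∈ W0, Cfsg.hermForm n F q u v = 0) → u = 0 := by
    intro u hu h0
    by_contra hne
    obtain ⟨v, hv, hvne⟩ := hW0p.2 u hu hne
    exact hvne (h0 v hv)
  obtain ⟨ψ⟩ := Cfsg.Agent.S0837.result hF n m hmn W0 hW0p.1 hnd0
  have h2 : Nat.card (MulAction.stabilizer (Cfsg.GU n F q) W0) =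
      Nat.card (Cfsg.GU m F q) * Nat.card (Cfsg.GU (n - m) F q) := by
    rw [hstab, Nat.card_congr ψ.toEquiv, Nat.card_prod]
  rw [h1, ← h2]
  exact horb

/-- the factors of `|GU_n|` -/
def cf (q i : ℕ) : ℕ := if Even i then q ^ (i + 1) + 1 else q ^ (i + 1) - 1

theorem cf_pos {q : ℕ} (hq : 2 ≤ q) (i : ℕ) : 0 < cf q i := by
  unfold cf
  split_ifs
  · positivity
  · have : 2 ≤ q ^ (i + 1) := by
      calc 2 ≤ q := hq
        _ = q ^ 1 := (pow_one q).symm
        _ ≤ q ^ (i + 1) := Nat.pow_le_pow_right (by omega) (by omega)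
    omega

theorem cf_cast {q : ℕ} (hq : 2 ≤ q) (i : ℕ) :
    ((cf q i : ℕ) : ℤ) = (q : ℤ) ^ (i + 1) - (-1) ^ (i + 1) := by
  unfold cf
  have h1 : 1 ≤ q ^ (i + 1) := Nat.one_le_pow _ _ (by omega)
  split_ifs with h
  · rw [pow_succ (-1 : ℤ), Even.neg_one_pow h]
    push_cast
    ring
  · rw [Nat.not_even_iff_odd] at h
    rw [pow_succ (-1 : ℤ), Odd.neg_one_pow h]
    push_cast [Nat.cast_sub h1]
    ring


theorem card_GU_cf (hF : Fintype.card F = q ^ 2) (k : ℕ) :
    Nat.card (Cfsg.GU k F q) = q ^ (k * (k - 1) / 2) * ∏ i ∈ Finset.range k, cf q i := by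
  rw [Cfsg.Agent.Helper45.GU.card_GU hF k]
  rfl

/-- (N1) -/
theorem exists_dvd_of_dvd_card (p : ℕ) [Fact p.Prime] [CharP F p] {q : ℕ}
    (hF : Fintype.card F = q ^ 2) {n m : ℕ} (hmn : m ≤ n) (r : ℕ) (hr : r.Prime) (hrp : r ≠ p)
    (h : r ∣ Nat.card {W : Submodule F (Fin n → F) //
      Module.finrank F ↥W = m ∧ (∀ u ∈ W, u ≠ 0 → ∃ v ∈ W, Cfsg.hermForm n F q u v ≠ 0)}) :
    ∃ j : ℕ, n - m < j ∧ j ≤ n ∧ (r : ℤ) ∣ (q : ℤ) ^ j - (-1) ^ j := by
  have hq := two_le_of_card_eq_sq hF
  -- `r` does not divide `q`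
  have hrq : ¬ r ∣ q := by
    intro hdvd
    obtain ⟨k, -, hk⟩ := FiniteField.card F p
    have h1 : r ∣ p ^ (k : ℕ) := by
      rw [← hk, hF]
      exact Dvd.dvd.mul_right hdvd _ |>.trans (by rw [sq])
    have h2 : r ∣ p := hr.dvd_of_dvd_pow h1
    exact hrp ((Nat.prime_dvd_prime_iff_eq hr (Fact.out : p.Prime)).mp h2)
  have hcount := card_nd_mul (F := F) (q := q) (n := n) hF hmn
  rw [card_GU_cf hF m, card_GU_cf hF (n - m), card_GU_cf hF n,
    ← Finset.prod_range_mul_prod_Ico _ (Nat.sub_le n m)] at hcount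
  have hpos : 0 < ∏ i ∈ Finset.range (n - m), cf q i :=
    Finset.prod_pos fun i _ => cf_pos hq i
  set N := Nat.card {W : Submodule F (Fin n → F) //
      Module.finrank F ↥W = m ∧ (∀ u ∈ W, u ≠ 0 → ∃ v ∈ W, Cfsg.hermForm n F q u v ≠ 0)} with hN
  have hcancel : N * (q ^ (m * (m - 1) / 2) * (∏ i ∈ Finset.range m, cf q i) *
      q ^ ((n - m) * (n - m - 1) / 2)) =
      q ^ (n * (n - 1) / 2) * ∏ i ∈ Finset.Ico (n - m) n, cf q i := by
    apply Nat.eq_of_mul_eq_mul_right hpos
    calc _ = N * ((q ^ (m * (m - 1) / 2) * ∏ i ∈ Finset.range m, cf q i) *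
          (q ^ ((n - m) * (n - m - 1) / 2) * ∏ i ∈ Finset.range (n - m), cf q i)) := by ring
      _ = _ := hcount
      _ = _ := by ring
  have hdvd : r ∣ q ^ (n * (n - 1) / 2) * ∏ i ∈ Finset.Ico (n - m) n, cf q i := by
    rw [← hcancel]
    exact Dvd.dvd.mul_right h _
  rcases (Nat.Prime.dvd_mul hr).mp hdvd with h1 | h1
  · exact absurd (hr.dvd_of_dvd_pow h1) hrq
  · obtain ⟨i, hi, hri⟩ := (Prime.dvd_finsetProd_iff hr.prime _).mp h1
    rw [Finset.mem_Ico] at hi
    refine ⟨i + 1, by omega, by omega, ?_⟩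
    rw [← cf_cast hq i]
    exact Int.natCast_dvd_natCast.mpr hri

end Cfsg.Agent.Helper12.UNdN1
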