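import Mathlib
import Cfsg.Agent.Helper38.VL.Defs
import Cfsg.Agent.Helper63.Frattini

/-!
# (S2) for helper38's S3777 (Vaughan-Lee): the breadth of a good element
-/

set_option autoImplicit false

namespace Cfsg.Agent.Helper12.VL

open Subgroup Cfsg.Agent.Helper38.VL

/-- `|⟨x⟩Φ : Φ| = p` for `x ∉ Φ` in a finite `p`-group -/
theorem relIndex_frattini_sup {G : Type*} [Group G] [Finite G] {p : ℕ} [Fact p.Prime]
    (hG : IsPGroup p G) {x : G} (hxΦ : x ∉ frattini G) :
    (frattini G).relIndex (zpowers x ⊔ frattini G) = p := by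
  have hker : (frattini G) = (⊥ : Subgroup (G ⧸ frattini G)).comap (QuotientGroup.mk' (frattini G)) := by
    rw [MonoidHom.comap_bot, QuotientGroup.ker_mk']
  conv_lhs => rw [hker]
  rw [← hker, hker, Subgroup.relIndex_comap, Subgroup.relIndex_bot_left, ← hker, Subgroup.map_sup,
    QuotientGroup.map_mk'_self, sup_bot_eq, MonoidHom.map_zpowers, Nat.card_zpowers]
  apply orderOf_eq_prime
  · rw [← map_pow, QuotientGroup.mk'_apply, QuotientGroup.eq_one_iff]
    exact Cfsg.Agent.Helper63.pow_prime_mem_frattini hG x
  · rw [QuotientGroup.mk'_apply, Ne, QuotientGroup.eq_one_iff]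
    exact hxΦ

/-- (S2) breadth of a good element. -/
theorem good_index_bound {G : Type*} [Group G] [Finite G] {p : ℕ} [Fact p.Prime]
    (hG : IsPGroup p G) {x : G} (hx : Good x) (hxΦ : x ∉ frattini G) :
    (frattini G).index * (Subgroup.centralizer ({x} : Set G)).relIndex (frattini G)
      ≤ p * (Subgroup.centralizer ({x} : Set G)).index := by
  have hΦL : frattini G ≤ zpowers x ⊔ frattini G := le_sup_right
  have h1 := Subgroup.relIndex_mul_index hΦL
  have h2 := Subgroup.relIndex_mul_index hx
  rw [relIndex_frattini_sup hG hxΦ] at h1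
  have h3 : (Subgroup.centralizer ({x} : Set G)).relIndex (frattini G) ≤
      (Subgroup.centralizer ({x} : Set G)).relIndex (zpowers x ⊔ frattini G) :=
    Subgroup.relIndex_le_of_le_right hΦL (Subgroup.index_ne_zero_of_finite)
  rw [← h1, ← h2]
  calc p * (zpowers x ⊔ frattini G).index * (Subgroup.centralizer ({x} : Set G)).relIndex (frattini G)
      ≤ p * (zpowers x ⊔ frattini G).index *
          (Subgroup.centralizer ({x} : Set G)).relIndex (zpowers x ⊔ frattini G) :=
        Nat.mul_le_mul_left _ h3
    _ = p * ((Subgroup.centralizer ({x} : Set G)).relIndex (zpowers x ⊔ frattini G) *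
          (zpowers x ⊔ frattini G).index) := by ring

end Cfsg.Agent.Helper12.VL
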