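import Mathlib
import Cfsg.Agent.Helper61.W2pDefs

/-!
# S0720 piece (B4): a constituent of degree `2p - 1` makes `G` doubly transitive
(helper12 for helper61, board #7019)
-/

set_option autoImplicit false

namespace Cfsg.Agent.Helper12.W2p

open Cfsg Cfsg.Agent.Helper61.W2p
open Cfsg.Agent.Helper12.PermCharBasics

/-- a transitive group of rank two is doubly transitive -/
theorem two_trans_of_rank_two {G : Type*} [Group G] [Fintype G] {Ω : Type*} [Fintype Ω]
    [MulAction G Ω]
    [MulAction.IsPretransitive G Ω] (a : Ω)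
    (h : Nat.card (MulAction.orbitRel.Quotient (MulAction.stabilizer G a) Ω) = 2) :
    MulAction.IsMultiplyPretransitive G Ω 2 := by
  classical
  have hfin : Finite (MulAction.orbitRel.Quotient (MulAction.stabilizer G a) Ω) :=
    Nat.finite_of_card_ne_zero (by rw [h]; norm_num)
  have : Fintype (MulAction.orbitRel.Quotient (MulAction.stabilizer G a) Ω) := Fintype.ofFinite _
  -- two points different from `a` lie in the same suborbit
  have key : ∀ b c : Ω, b ≠ a → c ≠ a → ∃ g : G, g • a = a ∧ g • b = c := by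
    intro b c hb hc
    have h1 := mk_ne_of_ne (G := G) a hb
    have h2 := mk_ne_of_ne (G := G) a hc
    have h3 : (Quotient.mk'' c : MulAction.orbitRel.Quotient (MulAction.stabilizer G a) Ω) =
        Quotient.mk'' b := by
      by_contra h3
      have hsub : ({Quotient.mk'' a, Quotient.mk'' b, Quotient.mk'' c} :
          Finset (MulAction.orbitRel.Quotient (MulAction.stabilizer G a) Ω)).card = 3 := by
        rw [Finset.card_eq_three]
        exact ⟨_, _, _, Ne.symm h1, Ne.symm h2, Ne.symm h3, rfl⟩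
      have hle := Finset.card_le_univ ({Quotient.mk'' a, Quotient.mk'' b, Quotient.mk'' c} :
          Finset (MulAction.orbitRel.Quotient (MulAction.stabilizer G a) Ω))
      rw [hsub, ← Nat.card_eq_fintype_card, h] at hle
      omega
    have h4 : c ∈ MulAction.orbit (MulAction.stabilizer G a) b := by
      rw [← MulAction.orbitRel.Quotient.orbit_mk, ← h3, MulAction.orbitRel.Quotient.orbit_mk]
      exact MulAction.mem_orbit_self c
    obtain ⟨g, hg⟩ := h4
    exact ⟨g.1, MulAction.mem_stabilizer_iff.mp g.2, hg⟩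
  rw [MulAction.is_two_pretransitive_iff]
  intro x y z w hxy hzw
  obtain ⟨g1, hg1⟩ := MulAction.exists_smul_eq G x a
  obtain ⟨g2, hg2⟩ := MulAction.exists_smul_eq G z a
  have hy : g1 • y ≠ a := by
    intro h'
    apply hxy
    rw [← hg1] at h'
    exact (smul_left_cancel g1 h').symm
  have hw : g2 • w ≠ a := by
    intro h'
    apply hzw
    rw [← hg2] at h'
    exact (smul_left_cancel g2 h').symm
  obtain ⟨g, hga, hgb⟩ := key (g1 • y) (g2 • w) hy hw
  refine ⟨g2⁻¹ * g * g1, ?_, ?_⟩
  · rw [mul_smul, mul_smul, hg1, hga, ← hg2, inv_smul_smul]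
  · rw [mul_smul, mul_smul, hgb, inv_smul_smul]

variable {G : Type*} [Group G] [Fintype G] {Ω : Type*} [Fintype Ω] [MulAction G Ω] {p : ℕ}

/-- (B4) a constituent of degree `2p - 1` makes `G` doubly transitive -/
theorem two_trans_of_degree (S : Setup G Ω p) (θ : G → ℂ) (hθ : IsIrrCharacter G θ)
    (hc : classInner (pc G Ω) θ ≠ 0) (hd : θ 1 = 2 * (p : ℂ) - 1) :
    MulAction.IsMultiplyPretransitive G Ω 2 := by
  classical
  have := Helper74.irrFintype G
  have : MulAction.IsPretransitive G Ω := S.hprim.toIsPretransitive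
  have hp2 : 2 ≤ p := S.hp.two_le
  have hp3 : 3 ≤ p := by have := S.hodd; omega
  have hne : Nonempty Ω := by
    rw [← Fintype.card_pos_iff, S.hcard]; omega
  obtain ⟨a⟩ := hne
  obtain ⟨t, ht⟩ : ∃ t : IrrCharacter G, t = Helper74.irrTriv G := ⟨_, rfl⟩
  obtain ⟨ψ, hψ⟩ : ∃ ψ : IrrCharacter G, ψ = ⟨θ, hθ⟩ := ⟨_, rfl⟩
  have hψθ : (ψ : G → ℂ) = θ := by rw [hψ]
  have hdeg : deg ψ = 2 * p - 1 := by
    have h1 := deg_spec ψ
    rw [hψθ, hd] at h1
    have h2 : ((deg ψ : ℕ) : ℂ) = ((2 * p - 1 : ℕ) : ℂ) := by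
      rw [← h1, Nat.cast_sub (by omega)]
      push_cast
      ring
    exact_mod_cast h2
  have hmult : mult Ω ψ ≠ 0 := by
    intro h
    apply hc
    have := mult_spec (Ω := Ω) ψ
    rw [h, Nat.cast_zero, hψθ] at this
    exact this
  have hψt : ψ ≠ t := by
    intro h
    rw [h, ht, deg_irrTriv] at hdeg
    omega
  have E1 := sum_mult_deg (G := G) (Ω := Ω)
  have E2 := sum_mult_sq (G := G) (Ω := Ω) a
  rw [← Finset.add_sum_erase Finset.univ _ (Finset.mem_univ t), ht, mult_irrTriv a, deg_irrTriv,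
    mul_one, ← ht] at E1
  rw [← Finset.add_sum_erase Finset.univ _ (Finset.mem_univ t), ht, mult_irrTriv a, one_pow,
    ← ht] at E2
  have hψmem : ψ ∈ Finset.univ.erase t := Finset.mem_erase.mpr ⟨hψt, Finset.mem_univ _⟩
  rw [← Finset.add_sum_erase (Finset.univ.erase t) _ hψmem, hdeg, S.hcard] at E1
  rw [← Finset.add_sum_erase (Finset.univ.erase t) _ hψmem] at E2
  -- the multiplicity of `ψ` is one and nothing else occurs
  have hm1 : mult Ω ψ = 1 := by
    by_contra hm
    have h2 : 2 ≤ mult Ω ψ := by omega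
    have h3 : 2 * (2 * p - 1) ≤ mult Ω ψ * (2 * p - 1) := Nat.mul_le_mul_right _ h2
    omega
  have hrest : ∑ χ ∈ (Finset.univ.erase t).erase ψ, mult Ω χ * deg χ = 0 := by
    rw [hm1] at E1
    omega
  have hrest0 : ∀ χ ∈ (Finset.univ.erase t).erase ψ, mult Ω χ = 0 := by
    intro χ hχ
    have := (Finset.sum_eq_zero_iff.mp hrest) χ hχ
    rcases Nat.mul_eq_zero.mp this with h | h
    · exact h
    · have := deg_pos χ
      omega
  have hrest2 : ∑ χ ∈ (Finset.univ.erase t).erase ψ, mult Ω χ ^ 2 = 0 := by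
    apply Finset.sum_eq_zero
    intro χ hχ
    rw [hrest0 χ hχ]
    norm_num
  rw [hm1, hrest2] at E2
  exact two_trans_of_rank_two a E2.symm

end Cfsg.Agent.Helper12.W2p
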