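import Mathlib
import Cfsg.Agent.Helper61.W2pDefs
import Cfsg.Agent.S0719

/-!
# S0720 piece (B6): the rank three case, via S0719
(helper12 for helper61, board #7019)
-/

set_option autoImplicit false

namespace Cfsg.Agent.Helper12.W2p

open Cfsg Cfsg.Agent.Helper61.W2p
open Cfsg.Agent.Helper12.PermCharBasics

variable {G : Type*} [Group G] [Fintype G] {Ω : Type*} [Fintype Ω] [MulAction G Ω] {p : ℕ}

/-- (B6) the rank three case, via S0719 -/
theorem rank3_case (S : Setup G Ω p) (θ χ : G → ℂ) (hθ : IsIrrCharacter G θ)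
    (hχ : IsIrrCharacter G χ) (hπ : pc G Ω = fun g => 1 + θ g + χ g) (hd : θ 1 = p) (a₀ : Ω) :
    Nat.card (MulAction.orbitRel.Quotient (MulAction.stabilizer G a₀) Ω) = 3 ∧
      ∃ a : ℕ, 0 < a ∧ p = 2 * a ^ 2 + 2 * a + 1 ∧ ∀ b : Ω, b ≠ a₀ →
        Nat.card (MulAction.orbit (MulAction.stabilizer G a₀) b) = a * (2 * a + 1) ∨
        Nat.card (MulAction.orbit (MulAction.stabilizer G a₀) b) = (a + 1) * (2 * a + 1) := by
  classical
  have : MulAction.IsPretransitive G Ω := S.hprim.toIsPretransitive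
  have hp2 : 2 ≤ p := S.hp.two_le
  have hp3 : 3 ≤ p := by have := S.hodd; omega
  -- the degree of `χ`
  have hχ1 : χ 1 = (p : ℂ) - 1 := by
    have h1 := congrFun hπ 1
    have h2 : pc G Ω 1 = (Fintype.card Ω : ℂ) := permChar_one
    rw [h2, S.hcard, hd] at h1
    push_cast at h1
    linear_combination -h1
  -- the three irreducible characters
  obtain ⟨t, ht⟩ : ∃ t : IrrCharacter G, t = Helper74.irrTriv G := ⟨_, rfl⟩
  obtain ⟨ψ₁, hψ₁⟩ : ∃ ψ : IrrCharacter G, ψ = ⟨θ, hθ⟩ := ⟨_, rfl⟩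
  obtain ⟨ψ₂, hψ₂⟩ : ∃ ψ : IrrCharacter G, ψ = ⟨χ, hχ⟩ := ⟨_, rfl⟩
  have e1 : (ψ₁ : G → ℂ) = θ := by rw [hψ₁]
  have e2 : (ψ₂ : G → ℂ) = χ := by rw [hψ₂]
  have et : ∀ g, (t : G → ℂ) g = 1 := by intro g; rw [ht]; rfl
  have hpC : ((p : ℕ) : ℂ) ≠ 1 := by
    intro h
    have : p = 1 := by exact_mod_cast h
    omega
  have hpC2 : ((p : ℕ) : ℂ) - 1 ≠ 1 := by
    intro h
    have h2 : ((p : ℕ) : ℂ) = ((2 : ℕ) : ℂ) := by push_cast; linear_combination h
    have : p = 2 := by exact_mod_cast h2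
    omega
  have n1 : t ≠ ψ₁ := by
    intro h
    have := congrFun (congrArg Subtype.val h) 1
    rw [et, e1, hd] at this
    exact hpC this.symm
  have n2 : t ≠ ψ₂ := by
    intro h
    have := congrFun (congrArg Subtype.val h) 1
    rw [et, e2, hχ1] at this
    exact hpC2 this.symm
  have n3 : ψ₁ ≠ ψ₂ := by
    intro h
    have := congrFun (congrArg Subtype.val h) 1
    rw [e1, e2, hd, hχ1] at this
    have h0 : (1 : ℂ) = 0 := by linear_combination this
    exact one_ne_zero h0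
  have hsum : pc G Ω = (t : G → ℂ) + (ψ₁ : G → ℂ) + (ψ₂ : G → ℂ) := by
    rw [hπ, e1, e2]
    funext g
    simp only [Pi.add_apply, et]
  -- `⟨π, π⟩ = 3`
  have hinner : classInner (pc G Ω) (pc G Ω) = 3 := by
    rw [hsum]
    simp only [Helper74.classInner_add_left, Helper74.classInner_add_right,
      Helper74.irr_orthonormal]
    simp only [if_true, if_neg n1, if_neg n2, if_neg n3, if_neg (Ne.symm n1),
      if_neg (Ne.symm n2), if_neg (Ne.symm n3)]
    norm_num
  have hrank : Nat.card (MulAction.orbitRel.Quotient (MulAction.stabilizer G a₀) Ω) = 3 := by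
    have h1 := classInner_permChar_self (G := G) (Ω := Ω) a₀
    have h2 : ((Nat.card (MulAction.orbitRel.Quotient (MulAction.stabilizer G a₀) Ω) : ℕ) : ℂ)
        = ((3 : ℕ) : ℂ) := by
      rw [← h1]
      exact_mod_cast hinner
    exact_mod_cast h2
  refine ⟨hrank, ?_⟩
  have hπ' : (fun g : G => (Nat.card (MulAction.fixedBy Ω g) : ℂ)) = fun g => 1 + χ g + θ g := by
    have h := hπ
    funext g
    have h3 : ((Nat.card (MulAction.fixedBy Ω g) : ℕ) : ℂ) = 1 + θ g + χ g := congrFun h g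
    rw [h3]
    ring
  exact Cfsg.Agent.S0719.result S.hprim S.hcard a₀ hrank χ θ hχ hθ hπ' hχ1 hd

end Cfsg.Agent.Helper12.W2p
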