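import Cfsg.Agent.Helper39.X648.Defs

/-!
# S3366 (helper39) piece (S4): `SL_2(3)` has no subgroup of index two
-/

set_option autoImplicit false

namespace Cfsg.Agent.Helper12.X648

open Cfsg.Agent.Helper39.X648

theorem sl_fcard : Fintype.card SL23 = 24 := by decide +kernel

theorem sl_card_pow6 : Fintype.card {g : SL23 // g ^ 6 = 1} = 18 := by decide +kernel

theorem sl_invol : ∀ g : SL23, g * g = 1 → g = 1 ∨ g = wSL := by decide +kernel

/-- an element of order four -/
def slI : SL23 := ⟨!![0, 1; 2, 0], by decide⟩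

theorem slI_sq : slI * slI = wSL := by decide +kernel

/-- (S4) -/
theorem sl_no_idx2 : ∀ N : Subgroup SL23, N.index = 2 → False := by
  intro N hN
  have hsq : ∀ g : SL23, g * g ∈ N := fun g => Subgroup.mul_self_mem_of_index_two hN g
  have hw : wSL ∈ N := by
    rw [← slI_sq]
    exact hsq slI
  -- every element with `g ^ 6 = 1` lies in `N`
  have h6 : ∀ g : SL23, g ^ 6 = 1 → g ∈ N := by
    intro g hg
    have h3 : g ^ 3 ∈ N := by
      have : g ^ 3 * g ^ 3 = 1 := by rw [← pow_add]; exact hg
      rcases sl_invol _ this with h | h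
      · rw [h]; exact N.one_mem
      · rw [h]; exact hw
    have h4 : g ^ 4 ∈ N := by
      have : g ^ 4 = (g * g) * (g * g) := by
        simp only [pow_succ, pow_zero, one_mul, mul_assoc]
      rw [this]
      exact N.mul_mem (hsq g) (hsq g)
    have : g = g ^ 4 * (g ^ 3)⁻¹ := by
      rw [pow_succ' g 3, mul_inv_cancel_right]
    rw [this]
    exact N.mul_mem h4 (N.inv_mem h3)
  -- counting
  have hcard : Nat.card N * 2 = 24 := by
    have := Subgroup.card_mul_index N
    rw [hN, Nat.card_eq_fintype_card (α := SL23), sl_fcard] at this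
    exact this
  have hle : Nat.card {g : SL23 // g ^ 6 = 1} ≤ Nat.card N := by
    apply Nat.card_le_card_of_injective (fun g => (⟨g.1, h6 g.1 g.2⟩ : N))
    intro g h hgh
    apply Subtype.ext
    exact congrArg (fun x : N => (x : SL23)) hgh
  rw [Nat.card_eq_fintype_card, sl_card_pow6] at hle
  omega

end Cfsg.Agent.Helper12.X648
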