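import Cfsg.Agent.Helper39.X648.Defs

/-!
# S3366 (helper39) piece (S5): the normal Sylow 2-subgroup of `SL_2(3)`
-/

set_option autoImplicit false

namespace Cfsg.Agent.Helper12.X648

open Cfsg.Agent.Helper39.X648

theorem sl_pow4_mul : ∀ g h : SL23, g ^ 4 = 1 → h ^ 4 = 1 → (g * h) ^ 4 = 1 := by decide +kernel

theorem sl_card_pow4 : Fintype.card {g : SL23 // g ^ 4 = 1} = 8 := by decide +kernel

/-- the elements with `g ^ 4 = 1` form a subgroup of `SL_2(3)` -/
def slQ8 : Subgroup SL23 where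
  carrier := {g | g ^ 4 = 1}
  one_mem' := one_pow 4
  mul_mem' {g h} hg hh := sl_pow4_mul g h hg hh
  inv_mem' {g} hg := by
    show g⁻¹ ^ 4 = 1
    rw [inv_pow, show g ^ 4 = 1 from hg, inv_one]

/-- (S5) -/
theorem sl_syl2 : ∃ M : Subgroup SL23, M.Normal ∧ Nat.card M = 8 := by
  refine ⟨slQ8, ⟨?_⟩, ?_⟩
  · intro g hg n
    show (n * g * n⁻¹) ^ 4 = 1
    rw [conj_pow, show g ^ 4 = 1 from hg, mul_one, mul_inv_cancel]
  · rw [← sl_card_pow4, ← Nat.card_eq_fintype_card]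
    exact Nat.card_congr (Equiv.refl _)

end Cfsg.Agent.Helper12.X648
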